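import Mathlib
import Groth.Prelude.Def_ModSite

set_option autoImplicit false
open CategoryTheory CategoryTheory.Limits Opposite
universe u

namespace Groth.Agent.Lib.helper23.ModSec

open ModSite

variable {C : Type u} [SmallCategory C] {J : GrothendieckTopology C}
  (O : Sheaf J CommRingCat.{u}) (U : C)

/-- The evaluation of a section of the restriction at the terminal object of `Over U`. -/
noncomputable def evalTop (F : Mod O) (s : ((restr O U).obj F).sections) : F.val.obj (op U) :=
  s.val (op (Over.mk (𝟙 U)))

/-- The section of the restriction defined by an element over `U`. -/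
noncomputable def secOf (F : Mod O) (x : F.val.obj (op U)) : ((restr O U).obj F).sections :=
  PresheafOfModules.sectionsMk (fun V => F.val.map (V.unop.hom).op x) (by
    intro X Y f
    have hw : f.unop.left ≫ X.unop.hom = Y.unop.hom := Over.w f.unop
    change F.val.presheaf.map (f.unop.left).op (F.val.presheaf.map (X.unop.hom).op x) =
      F.val.presheaf.map (Y.unop.hom).op x
    rw [← hw, op_comp, Functor.map_comp]
    rfl)


/-- Sections of the restriction are the elements over `U`. -/
noncomputable def sectionsEquiv (F : Mod O) :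
    ((restr O U).obj F).sections ≃ F.val.obj (op U) where
  toFun := evalTop O U F
  invFun := secOf O U F
  left_inv s := by
    apply PresheafOfModules.sections_ext
    intro V
    let a : V.unop ⟶ Over.mk (𝟙 U) := Over.homMk V.unop.hom
    have := PresheafOfModules.sections_property s a.op
    exact this
  right_inv x := by
    change F.val.map (𝟙 U).op x = x
    have h : F.val.map (𝟙 (op U)) x = x := by
      rw [PresheafOfModules.map_id]
      rfl
    exact h

/-- Morphisms out of the free module on `U` are sections over `U`. -/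
noncomputable def homEquiv (F : Mod O) : (freeOn O U ⟶ F) ≃ F.val.obj (op U) :=
  ((extZeroAdj O U).homEquiv _ F).trans
    ((SheafOfModules.unitHomEquiv _).trans (sectionsEquiv O U F))

lemma homEquiv_comp {F G : Mod O} (h : freeOn O U ⟶ F) (f : F ⟶ G) :
    homEquiv O U G (h ≫ f) = f.val.app (op U) (homEquiv O U F h) := by
  simp only [homEquiv, Equiv.trans_apply]
  rw [Adjunction.homEquiv_naturality_right, SheafOfModules.unitHomEquiv_comp_apply]
  rfl


section Gen
variable (G : Set C)
  (hG : ∀ X : C, ∃ (ι : Type u) (Y : ι → C) (f : ∀ i, Y i ⟶ X),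
    Sieve.ofArrows Y f ∈ J X ∧ ∀ i, Y i ∈ G)

lemma map_app_comm {F F' : Mod O} (f : F ⟶ F') {X Y : C} (g : Y ⟶ X) (x : F.val.obj (op X)) :
    F'.val.map g.op (f.val.app (op X) x) = f.val.app (op Y) (F.val.map g.op x) := by
  have := PresheafOfModules.naturality_apply f.val g.op x
  exact this.symm

include hG in
lemma eq_of_eq_on {F F' : Mod O} (f g : F ⟶ F')
    (h : ∀ X ∈ G, ∀ x : F.val.obj (op X), f.val.app (op X) x = g.val.app (op X) x) : f = g := by
  apply SheafOfModules.hom_ext
  apply PresheafOfModules.hom_ext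
  intro W
  ext x
  obtain ⟨ι, Y, k, hk, hY⟩ := hG W.unop
  have hsep := ((Presheaf.isSheaf_iff_isSheaf_forget J F'.val.presheaf
    (forget AddCommGrpCat)).1 F'.isSheaf).isSeparated
  refine hsep _ _ hk _ _ ?_
  rintro Z m ⟨Z', a, _, ⟨i⟩, rfl⟩
  change F'.val.map (a ≫ k i).op (f.val.app W x) = F'.val.map (a ≫ k i).op (g.val.app W x)
  have e1 := map_app_comm O f (a ≫ k i) x
  have e2 := map_app_comm O g (a ≫ k i) x
  rw [e1, e2]
  have e3 : F.val.map (a ≫ k i).op x = F.val.map a.op (F.val.map (k i).op x) := by
    rw [op_comp, PresheafOfModules.map_comp]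
    rfl
  rw [e3, ← map_app_comm O f a, ← map_app_comm O g a, h _ (hY i)]


include hG in
lemma isIso_of_bijective_on {F F' : Mod O} (f : F ⟶ F')
    (h : ∀ X ∈ G, Function.Bijective (fun x : F.val.obj (op X) => f.val.app (op X) x)) :
    IsIso f := by
  let φ := (SheafOfModules.toSheaf (ringSh O)).map f
  have hinj : Sheaf.IsLocallyInjective φ := by
    refine ⟨fun {W} x y hxy => ?_⟩
    obtain ⟨ι, YY, k, hk, hY⟩ := hG W.unop
    refine J.superset_covering ?_ hk
    rintro Z m ⟨Z', a, _, ⟨i⟩, rfl⟩
    change F.val.map (a ≫ k i).op x = F.val.map (a ≫ k i).op y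
    have e3 : ∀ z : F.val.obj W, F.val.map (a ≫ k i).op z = F.val.map a.op (F.val.map (k i).op z) := by
      intro z
      rw [op_comp, PresheafOfModules.map_comp]
      rfl
    rw [e3, e3]
    congr 1
    apply (h _ (hY i)).1
    change f.val.app (op (YY i)) (F.val.map (k i).op x) = f.val.app (op (YY i)) (F.val.map (k i).op y)
    rw [← map_app_comm O f (k i) x, ← map_app_comm O f (k i) y]
    congr 1
  have hsurj : Sheaf.IsLocallySurjective φ := by
    refine ⟨fun {W} s => ?_⟩
    obtain ⟨ι, YY, k, hk, hY⟩ := hG W
    refine J.superset_covering ?_ hk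
    rintro Z m ⟨Z', a, _, ⟨i⟩, rfl⟩
    obtain ⟨t, ht⟩ := (h _ (hY i)).2 (F'.val.map (k i).op s)
    refine ⟨F.val.map a.op t, ?_⟩
    change f.val.app (op Z) (F.val.map a.op t) = F'.val.map (a ≫ k i).op s
    rw [← map_app_comm O f a t]
    have e3 : F'.val.map (a ≫ k i).op s = F'.val.map a.op (F'.val.map (k i).op s) := by
      rw [op_comp, PresheafOfModules.map_comp]
      rfl
    rw [e3]
    congr 1
  have : IsIso φ := (Sheaf.isLocallyBijective_iff_isIso φ).1 ⟨hinj, hsurj⟩
  exact isIso_of_reflects_iso f (SheafOfModules.toSheaf (ringSh O))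

end Gen

end Groth.Agent.Lib.helper23.ModSec
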