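import Groth.Prelude.Def_ProCons
import Mathlib

/-! Preimages of locally constructible sets under morphisms of schemes. -/

set_option autoImplicit false
universe u

open CategoryTheory AlgebraicGeometry Topology

namespace Groth.Agent.Lib.helper23.ProConsLib

/-- preimage of a locally constructible set under a morphism of schemes -/
theorem isLocallyConstructible_preimage {X Y : Scheme.{u}} (f : X ⟶ Y) {s : Set Y}
    (hs : IsLocallyConstructible s) : IsLocallyConstructible (f ⁻¹' s) := by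
  intro x
  obtain ⟨U, hxU, hU, hc⟩ := hs (f x)
  let V : Y.Opens := ⟨U, hU⟩
  refine ⟨f ⁻¹' U, f.continuous.continuousAt.preimage_mem_nhds hxU, hU.preimage f.continuous, ?_⟩
  have h1 := (f ∣_ V).isConstructible_preimage
    (s := ((Subtype.val : ↥U → Y) ⁻¹' s : Set ↥U)) hc
  have h2 : ((f ∣_ V) ⁻¹' ((Subtype.val : ↥U → Y) ⁻¹' s) : Set ↥(f ⁻¹ᵁ V)) =
      ((Subtype.val : ↥(f ⁻¹' U) → X) ⁻¹' (f ⁻¹' s)) := by
    ext x'
    simp only [Set.mem_preimage]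
    rw [morphismRestrict_base_coe]
    rfl
  have h3 : IsConstructible ((Subtype.val : ↥(f ⁻¹' U) → X) ⁻¹' (f ⁻¹' s)) := by
    rw [← h2]
    exact h1
  exact h3

theorem restrict_apply {X Y : Scheme.{u}} (f : X ⟶ Y) (U : Set Y) (hU : IsOpen U)
    (x' : ↥(f ⁻¹' U)) :
    ((f ∣_ (⟨U, hU⟩ : Y.Opens)) x' : ↥U) = ⟨f x'.1, x'.2⟩ :=
  Subtype.ext (morphismRestrict_base_coe f ⟨U, hU⟩ x')

theorem isProConstructible_preimage {X Y : Scheme.{u}} (f : X ⟶ Y) (T : Set Y)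
    (hT : ProCons.IsProConstructible T) : ProCons.IsProConstructible (f ⁻¹' T) := by
  intro x
  obtain ⟨U, hU, hxU, S, hS, hTS⟩ := hT (f x)
  refine ⟨f ⁻¹' U, hU.preimage f.continuous, hxU,
    (fun T₀ : Set ↥U => ((f ∣_ (⟨U, hU⟩ : Y.Opens)) ⁻¹' T₀ : Set ↥(f ⁻¹' U))) '' S, ?_, ?_⟩
  · rintro _ ⟨T₀, hT₀, rfl⟩
    exact isLocallyConstructible_preimage (f ∣_ (⟨U, hU⟩ : Y.Opens)) (hS T₀ hT₀)
  · ext x'
    have h1 : (⟨f x'.1, x'.2⟩ : ↥U) ∈ (Subtype.val ⁻¹' T : Set ↥U) ↔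
        (⟨f x'.1, x'.2⟩ : ↥U) ∈ ⋂₀ S := by rw [hTS]
    simp only [Set.mem_preimage, Set.mem_sInter, Set.mem_image, forall_exists_index, and_imp,
      forall_apply_eq_imp_iff₂] at h1 ⊢
    rw [h1]
    refine forall₂_congr fun T₀ _ => ?_
    rw [restrict_apply]
    exact Iff.rfl

theorem isIndConstructible_preimage {X Y : Scheme.{u}} (f : X ⟶ Y) (T : Set Y)
    (hT : ProCons.IsIndConstructible T) : ProCons.IsIndConstructible (f ⁻¹' T) := by
  intro x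
  obtain ⟨U, hU, hxU, S, hS, hTS⟩ := hT (f x)
  refine ⟨f ⁻¹' U, hU.preimage f.continuous, hxU,
    (fun T₀ : Set ↥U => ((f ∣_ (⟨U, hU⟩ : Y.Opens)) ⁻¹' T₀ : Set ↥(f ⁻¹' U))) '' S, ?_, ?_⟩
  · rintro _ ⟨T₀, hT₀, rfl⟩
    exact isLocallyConstructible_preimage (f ∣_ (⟨U, hU⟩ : Y.Opens)) (hS T₀ hT₀)
  · ext x'
    have h1 : (⟨f x'.1, x'.2⟩ : ↥U) ∈ (Subtype.val ⁻¹' T : Set ↥U) ↔
        (⟨f x'.1, x'.2⟩ : ↥U) ∈ ⋃₀ S := by rw [hTS]
    simp only [Set.mem_preimage, Set.mem_sUnion, Set.mem_image, exists_exists_and_eq_and] at h1 ⊢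
    rw [h1]
    refine exists_congr fun T₀ => and_congr_right fun _ => ?_
    rw [restrict_apply]
    exact Iff.rfl

end Groth.Agent.Lib.helper23.ProConsLib
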