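import Groth.Prelude.Def_WeilCoh
import Mathlib

/-! Helper lemmas on `WeilCoh.TheoryOn`: characterisation of the push-forward and uniqueness through
Poincaré duality. -/

set_option autoImplicit false
universe u v w
open CategoryTheory AlgebraicGeometry

namespace Groth.Agent.Lib.helper23.WeilCohLib

variable {k : Type u} [Field k] {P : ObjectProperty (Over (Spec (CommRingCat.of k)))}
variable {K : Type v} [Field K] (T : WeilCoh.TheoryOn.{u, v, w} k P K)

/-- Characterisation of push-forward: `tr Y (f_* α * β) = tr X (α * f^* β)`. -/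
theorem push_spec {X Y : P.FullSubcategory} (f : X ⟶ Y) (i : ℤ) (α : ↥(T.gr X i))
    (β : T.H Y) (n : ℤ) (hn : n = 2 * (WeilCoh.dim X.obj.left : ℤ) - i) (hβ : β ∈ T.gr Y n) :
    T.tr Y ((T.push f i α : T.H Y) * β) = T.tr X ((α : T.H X) * T.pull f β) := by
  subst hn
  have := T.duality Y (i + 2 * (WeilCoh.dim Y.obj.left : ℤ) - 2 * (WeilCoh.dim X.obj.left : ℤ))
    (2 * (WeilCoh.dim X.obj.left : ℤ) - i) (by omega)
  have h := LinearMap.apply_symm_toPerfPair_self
    (WeilCoh.pairing K (T.gr Y (i + 2 * (WeilCoh.dim Y.obj.left : ℤ) - 2 * (WeilCoh.dim X.obj.left : ℤ)))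
      (T.gr Y (2 * (WeilCoh.dim X.obj.left : ℤ) - i)) (T.tr Y)) (T.pushFunctional f i α)
  have h2 := LinearMap.congr_fun h ⟨β, hβ⟩
  exact h2

/-- Uniqueness through Poincaré duality. -/
theorem ext_of_tr (Y : P.FullSubcategory) (m n : ℤ)
    (hmn : m + n = 2 * (WeilCoh.dim Y.obj.left : ℤ)) (x y : T.H Y)
    (hx : x ∈ T.gr Y m) (hy : y ∈ T.gr Y m)
    (h : ∀ β ∈ T.gr Y n, T.tr Y (x * β) = T.tr Y (y * β)) : x = y := by
  have := T.duality Y m n hmn
  have hinj := (WeilCoh.pairing K (T.gr Y m) (T.gr Y n) (T.tr Y)).toPerfPair.injective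
  have : (⟨x, hx⟩ : ↥(T.gr Y m)) = ⟨y, hy⟩ := by
    apply hinj
    ext β
    simpa [WeilCoh.pairing] using h β.1 β.2
  exact congrArg Subtype.val this

theorem mem_of_eq {X : P.FullSubcategory} {m n : ℤ} (h : m = n) {x : T.H X} (hx : x ∈ T.gr X m) :
    x ∈ T.gr X n := h ▸ hx

theorem eq_zero_of_mem (X : P.FullSubcategory) (n : ℤ) (x : T.H X) (hx : x ∈ T.gr X n)
    (hn : n < 0 ∨ 2 * (WeilCoh.dim X.obj.left : ℤ) < n) : x = 0 := by
  have := T.vanish X n hn
  rw [this] at hx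
  simpa using hx

end Groth.Agent.Lib.helper23.WeilCohLib
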