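import Mathlib

/-! Faithfully flat families and descent of base change. -/

set_option autoImplicit false

open TensorProduct

universe u v

namespace Groth.Agent.Lib.helper23.AffAlg

section FamilyA

variable {S : Type u} [CommRing S] {ι : Type v} [Fintype ι] {O : ι → Type u}
  [∀ i, AddCommGroup (O i)] [∀ i, Module S (O i)]
  {P : Type u} [AddCommGroup P] [Module S P]
  (π : ∀ i, P →ₗ[S] O i) (inc : ∀ i, O i →ₗ[S] P)

/-- the decomposition of a tensor along a finite family of retractions -/
lemma sum_rTensor (hsum : ∀ p, ∑ i, inc i (π i p) = p) {V : Type u} [AddCommGroup V] [Module S V]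
    (z : P ⊗[S] V) : ∑ i, (inc i).rTensor V ((π i).rTensor V z) = z := by
  induction z using TensorProduct.induction_on with
  | zero => simp
  | tmul p v =>
      simp only [LinearMap.rTensor_tmul]
      rw [← TensorProduct.sum_tmul, hsum]
  | add a b ha hb =>
      simp only [map_add, Finset.sum_add_distrib, ha, hb]

variable [Module.FaithfullyFlat S P]

/-- a linear map which becomes bijective after tensoring with each member of a family making up
a faithfully flat module is bijective -/
theorem bijective_of_family (hsum : ∀ p, ∑ i, inc i (π i p) = p)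
    {V W : Type u} [AddCommGroup V] [AddCommGroup W] [Module S V] [Module S W] (θ : V →ₗ[S] W)
    (h : ∀ i, Function.Bijective (θ.lTensor (O i))) : Function.Bijective θ := by
  rw [← Module.FaithfullyFlat.lTensor_bijective_iff_bijective S P]
  have hcomm : ∀ i (z : P ⊗[S] V),
      (π i).rTensor W (θ.lTensor P z) = θ.lTensor (O i) ((π i).rTensor V z) := by
    intro i z
    have := LinearMap.rTensor_comp_lTensor (f := π i) (g := θ)
    have h2 := LinearMap.lTensor_comp_rTensor (f := π i) (g := θ)
    exact (LinearMap.congr_fun this z).trans (LinearMap.congr_fun h2 z).symm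
  have hcomm' : ∀ i (y : O i ⊗[S] V),
      (inc i).rTensor W (θ.lTensor (O i) y) = θ.lTensor P ((inc i).rTensor V y) := by
    intro i y
    have := LinearMap.rTensor_comp_lTensor (f := inc i) (g := θ)
    have h2 := LinearMap.lTensor_comp_rTensor (f := inc i) (g := θ)
    exact (LinearMap.congr_fun this y).trans (LinearMap.congr_fun h2 y).symm
  constructor
  · rw [injective_iff_map_eq_zero]
    intro z hz
    rw [← sum_rTensor π inc hsum z]
    apply Finset.sum_eq_zero
    intro i _
    have h1 : θ.lTensor (O i) ((π i).rTensor V z) = 0 := by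
      rw [← hcomm, hz, map_zero]
    have h2 : (π i).rTensor V z = 0 := (h i).1 (h1.trans (map_zero _).symm)
    rw [h2, map_zero]
  · intro w
    choose y hy using fun i => (h i).2 ((π i).rTensor W w)
    refine ⟨∑ i, (inc i).rTensor V (y i), ?_⟩
    rw [map_sum]
    conv_rhs => rw [← sum_rTensor π inc hsum w]
    apply Finset.sum_congr rfl
    intro i _
    rw [← hcomm', hy]

/-- a module which vanishes after tensoring with each member of the family vanishes -/
theorem subsingleton_of_family (hsum : ∀ p, ∑ i, inc i (π i p) = p)
    {V : Type u} [AddCommGroup V] [Module S V]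
    (h : ∀ i, Subsingleton (O i ⊗[S] V)) : Subsingleton V := by
  have : Subsingleton (P ⊗[S] V) := by
    constructor
    intro a b
    rw [← sum_rTensor π inc hsum a, ← sum_rTensor π inc hsum b]
    apply Finset.sum_congr rfl
    intro i _
    rw [Subsingleton.elim ((π i).rTensor V a) ((π i).rTensor V b)]
  exact Module.FaithfullyFlat.lTensor_reflects_triviality S P V

omit [Module.FaithfullyFlat S P] in
variable [Module.FaithfullyFlat S P] in
/-- a linear map which becomes injective after tensoring with each member of the family is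
injective -/
theorem injective_of_family (hsum : ∀ p, ∑ i, inc i (π i p) = p)
    {V W : Type u} [AddCommGroup V] [AddCommGroup W] [Module S V] [Module S W] (θ : V →ₗ[S] W)
    (h : ∀ i, Function.Injective (θ.lTensor (O i))) : Function.Injective θ := by
  rw [← Module.FaithfullyFlat.lTensor_injective_iff_injective S P]
  have hcomm : ∀ i (z : P ⊗[S] V),
      (π i).rTensor W (θ.lTensor P z) = θ.lTensor (O i) ((π i).rTensor V z) := by
    intro i z
    have := LinearMap.rTensor_comp_lTensor (f := π i) (g := θ)
    have h2 := LinearMap.lTensor_comp_rTensor (f := π i) (g := θ)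
    exact (LinearMap.congr_fun this z).trans (LinearMap.congr_fun h2 z).symm
  rw [injective_iff_map_eq_zero]
  intro z hz
  rw [← sum_rTensor π inc hsum z]
  apply Finset.sum_eq_zero
  intro i _
  have h1 : θ.lTensor (O i) ((π i).rTensor V z) = 0 := by
    rw [← hcomm, hz, map_zero]
  have h2 : (π i).rTensor V z = 0 := (h i) (h1.trans (map_zero _).symm)
  rw [h2, map_zero]

end FamilyA

section FamilyProps

variable {S : Type u} [CommRing S] {ι : Type v} [Fintype ι] {O : ι → Type u}
  [∀ i, CommRing (O i)] [∀ i, Algebra S (O i)]
  {P : Type u} [AddCommGroup P] [Module S P] [Module.FaithfullyFlat S P]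
  (π : ∀ i, P →ₗ[S] O i) (inc : ∀ i, O i →ₗ[S] P)
  {V₀ : Type u} [AddCommGroup V₀] [Module S V₀]
  {W : ι → Type u} [∀ i, AddCommGroup (W i)] [∀ i, Module S (W i)] [∀ i, Module (O i) (W i)]
  [∀ i, IsScalarTower S (O i) (W i)]
  {e : ∀ i, V₀ →ₗ[S] W i} (he : ∀ i, IsBaseChange (O i) (e i))

omit [Fintype ι] [Module.FaithfullyFlat S P] in
/-- the identification of the base change of a tensor product -/
noncomputable def psi (i : ι) (V : Type u) [AddCommGroup V] [Module S V] :
    O i ⊗[S] (V₀ ⊗[S] V) ≃ₗ[S] W i ⊗[S] V :=
  (TensorProduct.assoc S (O i) V₀ V).symm ≪≫ₗ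
    LinearEquiv.rTensor V ((he i).equiv.restrictScalars S)

omit [Fintype ι] [Module.FaithfullyFlat S P] in
lemma psi_tmul (i : ι) (V : Type u) [AddCommGroup V] [Module S V] (a : O i) (v₀ : V₀) (v : V) :
    psi he i V (a ⊗ₜ[S] (v₀ ⊗ₜ[S] v)) = (a • e i v₀) ⊗ₜ[S] v := rfl

omit [Fintype ι] [Module.FaithfullyFlat S P] in
lemma psi_natural (i : ι) {V V' : Type u} [AddCommGroup V] [Module S V] [AddCommGroup V']
    [Module S V'] (j : V →ₗ[S] V') (z : O i ⊗[S] (V₀ ⊗[S] V)) :
    psi he i V' ((j.lTensor V₀).lTensor (O i) z) = j.lTensor (W i) (psi he i V z) := by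
  induction z using TensorProduct.induction_on with
  | zero => rw [map_zero, map_zero, map_zero, map_zero]
  | tmul a y =>
      induction y using TensorProduct.induction_on with
      | zero => rw [TensorProduct.tmul_zero, map_zero, map_zero, map_zero, map_zero]
      | tmul v₀ v => rfl
      | add y y' hy hy' =>
          rw [TensorProduct.tmul_add, map_add, map_add, map_add, map_add, hy, hy']
  | add z z' hz hz' => rw [map_add, map_add, map_add, map_add, hz, hz']

include he in
/-- flatness descends along the family -/
theorem flat_of_family (hsum : ∀ p, ∑ i, inc i (π i p) = p)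
    (hO : ∀ i, Module.Flat S (O i)) (hW : ∀ i, Module.Flat (O i) (W i)) : Module.Flat S V₀ := by
  rw [Module.Flat.iff_lTensor_preserves_injective_linearMap'.{u, u, u}]
  intro N N' _ _ _ _ j hj
  apply injective_of_family π inc hsum
  intro i
  haveI := hO i
  haveI := hW i
  haveI : Module.Flat S (W i) := Module.Flat.trans S (O i) (W i)
  have h1 : Function.Injective (j.lTensor (W i)) :=
    Module.Flat.lTensor_preserves_injective_linearMap j hj
  intro z z' hz
  apply (psi he i N).injective
  apply h1
  rw [← psi_natural, ← psi_natural, hz]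

include he in
/-- faithful flatness descends along the family -/
theorem faithfullyFlat_of_family (hsum : ∀ p, ∑ i, inc i (π i p) = p)
    (hO : ∀ i, Module.Flat S (O i)) (hW : ∀ i, Module.FaithfullyFlat (O i) (W i)) :
    Module.FaithfullyFlat S V₀ := by
  rw [Module.FaithfullyFlat.iff_flat_and_lTensor_reflects_triviality]
  refine ⟨flat_of_family π inc he hsum hO (fun i => (hW i).toFlat), fun V _ _ hV => ?_⟩
  apply subsingleton_of_family π inc hsum
  intro i
  haveI := hW i
  have h1 : Subsingleton (O i ⊗[S] (V₀ ⊗[S] V)) := by
    constructor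
    intro a b
    have h0 : ∀ z : O i ⊗[S] (V₀ ⊗[S] V), z = 0 := by
      intro z
      induction z using TensorProduct.induction_on with
      | zero => rfl
      | tmul x m => rw [Subsingleton.elim m 0, TensorProduct.tmul_zero]
      | add z z' hz hz' => rw [hz, hz', add_zero]
    rw [h0 a, h0 b]
  have h2 : Subsingleton (W i ⊗[S] V) := (psi he i V).symm.toEquiv.subsingleton
  have h3 : Subsingleton (W i ⊗[O i] (O i ⊗[S] V)) :=
    (TensorProduct.AlgebraTensorModule.cancelBaseChange S (O i) (O i) (W i) V).toEquiv.subsingleton
  exact Module.FaithfullyFlat.lTensor_reflects_triviality (O i) (W i) (O i ⊗[S] V)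

include he in
open Classical in
/-- finiteness descends along the family -/
theorem finite_of_family (hsum : ∀ p, ∑ i, inc i (π i p) = p)
    (hW : ∀ i, Module.Finite (O i) (W i)) : Module.Finite S V₀ := by
  have h1 : ∀ i, ∃ F : Finset V₀, Submodule.span (O i) ((e i) '' (F : Set V₀)) = ⊤ := by
    intro i
    have hspan : Submodule.span (O i) (Set.range (e i)) = ⊤ := by
      rw [eq_top_iff]
      intro w _
      exact (he i).inductionOn w _ (zero_mem _) (fun m => Submodule.subset_span ⟨m, rfl⟩)
        (fun s n hn => Submodule.smul_mem _ s hn) (fun a b ha hb => Submodule.add_mem _ ha hb)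
    have hfg : (Submodule.span (O i) (Set.range (e i))).FG := by
      rw [hspan]
      exact (hW i).fg_top
    obtain ⟨s', hs', hs''⟩ := (Submodule.fg_span_iff_fg_span_finset_subset _).1 hfg
    have hex : ∀ w : (s' : Set (W i)), ∃ v, e i v = w.1 := fun w => hs' w.2
    choose pre hpre using hex
    refine ⟨s'.attach.image (fun w => pre ⟨w.1, w.2⟩), ?_⟩
    rw [eq_top_iff, ← hspan, hs'']
    apply Submodule.span_mono
    intro w hw
    refine ⟨pre ⟨w, hw⟩, ?_, hpre ⟨w, hw⟩⟩
    rw [Finset.coe_image]
    exact ⟨⟨w, hw⟩, Finset.mem_coe.2 (Finset.mem_attach _ _), rfl⟩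
  choose Fi hFi using h1
  let F : Finset V₀ := Finset.univ.biUnion Fi
  let N : Submodule S V₀ := Submodule.span S (F : Set V₀)
  suffices hN : N = ⊤ from ⟨⟨F, hN⟩⟩
  have hQ : Subsingleton (V₀ ⧸ N) := by
    apply subsingleton_of_family π inc hsum
    intro i
    constructor
    intro a b
    suffices h0 : ∀ z : O i ⊗[S] (V₀ ⧸ N), z = 0 by rw [h0 a, h0 b]
    intro z
    obtain ⟨y, rfl⟩ := LinearMap.lTensor_surjective (O i) (Submodule.mkQ_surjective N) z
    have key : ∀ w : W i, N.mkQ.baseChange (O i) ((he i).equiv.symm w) = 0 := by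
      intro w
      have hw : w ∈ Submodule.span (O i) ((e i) '' (Fi i : Set V₀)) := by
        rw [hFi i]
        trivial
      induction hw using Submodule.span_induction with
      | mem w hw =>
          obtain ⟨v, hv, rfl⟩ := hw
          rw [IsBaseChange.equiv_symm_apply, LinearMap.baseChange_tmul]
          have hvN : N.mkQ v = 0 := by
            rw [Submodule.mkQ_apply, Submodule.Quotient.mk_eq_zero]
            apply Submodule.subset_span
            exact Finset.mem_coe.2 (Finset.mem_biUnion.2 ⟨i, Finset.mem_univ i, hv⟩)
          rw [hvN, TensorProduct.tmul_zero]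
      | zero => rw [map_zero, map_zero]
      | add w w' _ _ hw hw' => rw [map_add, map_add, hw, hw', add_zero]
      | smul a w _ hw => rw [map_smul, map_smul, hw, smul_zero]
    have := key ((he i).equiv y)
    rw [LinearEquiv.symm_apply_apply] at this
    exact this
  exact Submodule.Quotient.subsingleton_iff.1 hQ

end FamilyProps

section DescentB

variable {R S T : Type u} [CommRing R] [CommRing S] [CommRing T] [Algebra R S] [Algebra S T]
  [Algebra R T] [IsScalarTower R S T]
  {N V W : Type u} [AddCommGroup N] [AddCommGroup V] [AddCommGroup W]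
  [Module R N] [Module R V] [Module S V] [IsScalarTower R S V]
  [Module R W] [Module S W] [Module T W] [IsScalarTower S T W] [IsScalarTower R T W]
  [IsScalarTower R S W]
  (f : N →ₗ[R] V) (e : V →ₗ[S] W)

/-- if `e` and `e ∘ f` are base changes then the canonical map attached to `f` becomes bijective
after the base change along which `e` is one -/
theorem lTensor_liftBaseChange_bijective (he : IsBaseChange T e)
    (hc : IsBaseChange T ((e.restrictScalars R).comp f)) :
    Function.Bijective ((f.liftBaseChange S).lTensor T) := by
  have h0 : IsBaseChange S (TensorProduct.mk R S N 1) := TensorProduct.isBaseChange R N S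
  have h1 : IsBaseChange T (e.comp (f.liftBaseChange S)) := by
    apply IsBaseChange.of_comp h0
    have hE : ((e.comp (f.liftBaseChange S)).restrictScalars R).comp (TensorProduct.mk R S N 1) =
        (e.restrictScalars R).comp f := by
      apply LinearMap.ext
      intro n
      show e (f.liftBaseChange S ((1 : S) ⊗ₜ[R] n)) = e (f n)
      rw [LinearMap.liftBaseChange_tmul, one_smul]
    exact hE ▸ hc
  have key : ∀ z, he.equiv ((f.liftBaseChange S).lTensor T z) = h1.equiv z := by
    intro z
    induction z using TensorProduct.induction_on with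
    | zero => rw [map_zero, map_zero, map_zero]
    | tmul t y => rfl
    | add a b ha hb => rw [map_add, map_add, map_add, ha, hb]
  have hfun : ⇑((f.liftBaseChange S).lTensor T) = ⇑he.equiv.symm ∘ ⇑h1.equiv := by
    funext z
    show _ = he.equiv.symm (h1.equiv z)
    rw [← key z, LinearEquiv.symm_apply_apply]
  rw [hfun]
  exact he.equiv.symm.bijective.comp h1.equiv.bijective

end DescentB

end Groth.Agent.Lib.helper23.AffAlg
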