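import Mathlib
import Groth.Prelude.Def_SchFin2
import Groth.Agent.Lib.helper23.AffAlg

/-! Sections of quasi-coherent modules over affine up-closed subsets of finite ringed posets. -/

set_option autoImplicit false

open TensorProduct

universe u

namespace Groth.Agent.Lib.helper23.AffSect

open SchFin

section Univ

variable {R S : Type u} [CommRing R] [CommRing S] (g : R →+* S) {M N : Type u}
  [AddCommGroup M] [AddCommGroup N] [Module R M] [Module S N] (f : M →ₛₗ[g] N)

/-- the universal property of a base change, in terms of semilinear maps -/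
def UnivBC : Prop :=
  ∀ (Q : Type u) [AddCommMonoid Q] [Module S Q] (h : M →+ Q), (∀ r m, h (r • m) = g r • h m) →
    ∃! l : N →ₗ[S] Q, ∀ m, l (f m) = h m

lemma univBC_of_isBCAlong (hbc : IsBCAlong g f) : UnivBC g f := by
  intro Q _ _ h hh
  unfold IsBCAlong at hbc
  letI : Algebra R S := g.toAlgebra
  letI : Module R N := Module.compHom N g
  haveI : IsScalarTower R S N := IsScalarTower.of_algebraMap_smul fun _ _ => rfl
  letI : Module R Q := Module.compHom Q g
  haveI : IsScalarTower R S Q := IsScalarTower.of_algebraMap_smul fun _ _ => rfl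
  let hl : M →ₗ[R] Q := { toFun := h, map_add' := h.map_add, map_smul' := fun r m => hh r m }
  refine ⟨hbc.lift hl, fun m => hbc.lift_eq hl m, ?_⟩
  intro l' hl'
  apply hbc.algHom_ext
  intro m
  exact (hl' m).trans (hbc.lift_eq hl m).symm

lemma isBCAlong_of_univBC (hu : UnivBC g f) : IsBCAlong g f := by
  unfold IsBCAlong
  letI : Algebra R S := g.toAlgebra
  letI : Module R N := Module.compHom N g
  haveI : IsScalarTower R S N := IsScalarTower.of_algebraMap_smul fun _ _ => rfl
  apply IsBaseChange.of_lift_unique
  intro Q _ _ _ _ k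
  have hk : ∀ (r : R) (m : M), k.toAddMonoidHom (r • m) = g r • k.toAddMonoidHom m := by
    intro r m
    show k (r • m) = g r • k m
    rw [k.map_smul]
    exact (algebraMap_smul S r (k m)).symm
  obtain ⟨l, hl, hl'⟩ := hu Q k.toAddMonoidHom hk
  refine ⟨l, LinearMap.ext fun m => hl m, ?_⟩
  intro l' h'
  apply hl'
  intro m
  exact LinearMap.congr_fun h' m

end Univ

section Restr

variable {X : RSpace.{u}} (U : Set X.pt)

/-- global sections of the restriction, as sections over the subset -/
def ofRestr (t : (X.restrict U).sectRing Set.univ) : X.sectRing U :=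
  ⟨fun q => t.1 ⟨q, trivial⟩, fun q q' h => t.2 ⟨q, trivial⟩ ⟨q', trivial⟩ h⟩

variable (M : OMod X)

/-- sections of a module over the subset, as global sections of the restriction -/
def modToRestr (m : M.sect U) : (M.restrict U).sect Set.univ :=
  ⟨fun q => m.1 q.1, fun q q' h => m.2 q.1 q'.1 h⟩

/-- global sections of the restricted module, as sections over the subset -/
def modOfRestr : (M.restrict U).sect Set.univ →+ M.sect U where
  toFun m := ⟨fun q => m.1 ⟨q, trivial⟩, fun q q' h => m.2 ⟨q, trivial⟩ ⟨q', trivial⟩ h⟩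
  map_zero' := rfl
  map_add' _ _ := rfl

lemma modOfRestr_smul (t : (X.restrict U).sectRing Set.univ) (m : (M.restrict U).sect Set.univ) :
    modOfRestr U M (t • m) = ofRestr U t • modOfRestr U M m := rfl

lemma modOfRestr_modToRestr (m : M.sect U) : modOfRestr U M (modToRestr U M m) = m := rfl

lemma restrict_isQcoh (hM : M.IsQcoh) : (M.restrict U).IsQcoh :=
  fun p q h => hM p.1 q.1 h

/-- over an affine subset, evaluation of sections at a point is a base change -/
theorem isBCAlong_evalMod (hUa : (X.restrict U).IsAffine) (hM : M.IsQcoh) (q : U) :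
    IsBCAlong (X.evalRing U q) (M.evalMod U q) := by
  have h3 := hUa.2.2.1 (M.restrict U) (restrict_isQcoh U M hM) q
  apply isBCAlong_of_univBC
  intro Q _ _ h hh
  have hu := univBC_of_isBCAlong _ _ h3 Q (h.comp (modOfRestr U M)) (by
    intro t m
    show h (modOfRestr U M (t • m)) = _
    rw [modOfRestr_smul, hh]
    rfl)
  obtain ⟨l, hl, huniq⟩ := hu
  refine ⟨l, ?_, ?_⟩
  · intro m
    exact hl (modToRestr U M m)
  · intro l' hl'
    apply huniq
    intro m'
    exact hl' (modOfRestr U M m')

end Restr

section Main

open Groth.Agent.Lib.helper23.AffAlg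

variable {X : RSpace.{u}} (x : X.pt) (U : Set X.pt) (hU : U ⊆ X.up x)

open Classical in
/-- over an affine subset above a point, the sections of a quasi-coherent module are the base change
of its value at the point -/
theorem isBCAlong_resSect (hUa : (X.restrict U).IsAffine)
    (hff : Module.FaithfullyFlat (X.sectRing U) ((q : ↥U) → X.ring q.1)) (M : OMod X)
    (hM : M.IsQcoh) : IsBCAlong (X.resSect x U hU) (M.resSect x U hU) := by
  letI instP : Module (X.sectRing U) ((q : ↥U) → X.ring q.1) := inferInstance
  have hff' : @Module.FaithfullyFlat (X.sectRing U) ((q : ↥U) → X.ring q.1) _ _ instP := hff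
  unfold IsBCAlong
  letI algRS : Algebra (X.ring x) (X.sectRing U) := (X.resSect x U hU).toAlgebra
  letI modRV : Module (X.ring x) (M.sect U) := Module.compHom (M.sect U) (X.resSect x U hU)
  haveI twRSV : IsScalarTower (X.ring x) (X.sectRing U) (M.sect U) :=
    IsScalarTower.of_algebraMap_smul fun _ _ => rfl
  let f : M.carrier x →ₗ[X.ring x] M.sect U :=
    { toFun := M.resSect x U hU
      map_add' := (M.resSect x U hU).map_add
      map_smul' := (M.resSect x U hU).map_smulₛₗ }
  show IsBaseChange (X.sectRing U) f
  suffices hθ : Function.Bijective (f.liftBaseChange (X.sectRing U)) from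
    IsBaseChange.of_equiv (LinearEquiv.ofBijective (f.liftBaseChange (X.sectRing U)) hθ)
      (fun n => LinearMap.liftBaseChange_one_tmul _ f n)
  letI : Fintype U := Fintype.ofFinite U
  letI algSO : ∀ q : U, Algebra (X.sectRing U) (X.ring q.1) := fun q => (X.evalRing U q).toAlgebra
  let π : ∀ q : U, @LinearMap (X.sectRing U) (X.sectRing U) _ _ (RingHom.id _)
      ((q : ↥U) → X.ring q.1) (X.ring q.1) _ _ instP _ := fun q =>
    @LinearMap.mk (X.sectRing U) (X.sectRing U) _ _ (RingHom.id _)
      ((q : ↥U) → X.ring q.1) (X.ring q.1) _ _ instP _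
      { toFun := fun p => p q, map_add' := fun _ _ => rfl } (fun _ _ => rfl)
  let inc : ∀ q : U, @LinearMap (X.sectRing U) (X.sectRing U) _ _ (RingHom.id _)
      (X.ring q.1) ((q : ↥U) → X.ring q.1) _ _ _ instP := fun q =>
    @LinearMap.mk (X.sectRing U) (X.sectRing U) _ _ (RingHom.id _)
      (X.ring q.1) ((q : ↥U) → X.ring q.1) _ _ _ instP
      { toFun := fun a => Pi.single (M := fun q : ↥U => X.ring q.1) q a
        map_add' := fun a b => Pi.single_add (f := fun q : ↥U => X.ring q.1) q a b } (by
        intro s a
        funext q'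
        by_cases hq : q' = q
        · subst hq
          show Pi.single (M := fun q : ↥U => X.ring q.1) q' (s.1 q' * a) q' =
            s.1 q' * Pi.single (M := fun q : ↥U => X.ring q.1) q' a q'
          rw [Pi.single_eq_same, Pi.single_eq_same]
        · show Pi.single (M := fun q : ↥U => X.ring q.1) q (s.1 q * a) q' =
            s.1 q' * Pi.single (M := fun q : ↥U => X.ring q.1) q a q'
          rw [Pi.single_eq_of_ne hq, Pi.single_eq_of_ne hq, mul_zero])
  have hsum : ∀ p : (q : ↥U) → X.ring q.1, ∑ q, inc q (π q p) = p := fun p =>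
    Finset.univ_sum_single p
  refine @bijective_of_family (X.sectRing U) _ U _ (fun q => X.ring q.1) _ _
    ((q : ↥U) → X.ring q.1) _ instP π inc hff' hsum _ _ _ _ _ _ (f.liftBaseChange (X.sectRing U)) ?_
  intro q
  letI algRO : Algebra (X.ring x) (X.ring q.1) := (X.res (hU q.2)).toAlgebra
  haveI twRSO : IsScalarTower (X.ring x) (X.sectRing U) (X.ring q.1) :=
    IsScalarTower.of_algebraMap_eq fun r => rfl
  letI modSW : Module (X.sectRing U) (M.carrier q.1) := Module.compHom _ (X.evalRing U q)
  letI modRW : Module (X.ring x) (M.carrier q.1) := Module.compHom _ (X.res (hU q.2))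
  haveI twSTW : IsScalarTower (X.sectRing U) (X.ring q.1) (M.carrier q.1) :=
    IsScalarTower.of_algebraMap_smul fun _ _ => rfl
  haveI twRTW : IsScalarTower (X.ring x) (X.ring q.1) (M.carrier q.1) :=
    IsScalarTower.of_algebraMap_smul fun _ _ => rfl
  haveI twRSW : IsScalarTower (X.ring x) (X.sectRing U) (M.carrier q.1) :=
    IsScalarTower.of_algebraMap_smul fun _ _ => rfl
  let e : M.sect U →ₗ[X.sectRing U] M.carrier q.1 :=
    { toFun := M.evalMod U q
      map_add' := (M.evalMod U q).map_add
      map_smul' := (M.evalMod U q).map_smulₛₗ }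
  have he : IsBaseChange (X.ring q.1) e := isBCAlong_evalMod U M hUa hM q
  have hc : IsBaseChange (X.ring q.1) ((e.restrictScalars (X.ring x)).comp f) :=
    hM x q.1 (hU q.2)
  exact lTensor_liftBaseChange_bijective f e he hc

end Main

end Groth.Agent.Lib.helper23.AffSect
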