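import Mathlib
import Groth.Prelude.Def_SchFin2
import Groth.Agent.Lib.helper23.AffSect

/-! Sections of quasi-coherent algebras over affine up-closed subsets: flatness, faithful flatness
and finiteness are detected pointwise. -/

set_option autoImplicit false

open TensorProduct

universe u

namespace Groth.Agent.Lib.helper23.AffSect

open SchFin Groth.Agent.Lib.helper23.AffAlg

section Fam

variable {X : RSpace.{u}} (U : Set X.pt)

/-- the module structure of the product of the rings over the sections -/
@[reducible] def instP : Module (X.sectRing U) ((q : ↥U) → X.ring q.1) := inferInstance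

/-- the ring of a point as an algebra over the sections -/
@[reducible] def algSO (q : U) : Algebra (X.sectRing U) (X.ring q.1) := (X.evalRing U q).toAlgebra

attribute [local instance] algSO

/-- the projections of the product -/
def famPi (q : U) : @LinearMap (X.sectRing U) (X.sectRing U) _ _ (RingHom.id _)
    ((q : ↥U) → X.ring q.1) (X.ring q.1) _ _ (instP U) _ :=
  @LinearMap.mk (X.sectRing U) (X.sectRing U) _ _ (RingHom.id _)
    ((q : ↥U) → X.ring q.1) (X.ring q.1) _ _ (instP U) _
    { toFun := fun p => p q, map_add' := fun _ _ => rfl } (fun _ _ => rfl)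

open Classical in
/-- the inclusions of the factors -/
noncomputable def famInc (q : U) : @LinearMap (X.sectRing U) (X.sectRing U) _ _ (RingHom.id _)
    (X.ring q.1) ((q : ↥U) → X.ring q.1) _ _ _ (instP U) :=
  @LinearMap.mk (X.sectRing U) (X.sectRing U) _ _ (RingHom.id _)
    (X.ring q.1) ((q : ↥U) → X.ring q.1) _ _ _ (instP U)
    { toFun := fun a => Pi.single (M := fun q : ↥U => X.ring q.1) q a
      map_add' := fun a b => Pi.single_add (f := fun q : ↥U => X.ring q.1) q a b } (by
      intro s a
      funext q'
      by_cases hq : q' = q
      · subst hq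
        show Pi.single (M := fun q : ↥U => X.ring q.1) q' (s.1 q' * a) q' =
          s.1 q' * Pi.single (M := fun q : ↥U => X.ring q.1) q' a q'
        rw [Pi.single_eq_same, Pi.single_eq_same]
      · show Pi.single (M := fun q : ↥U => X.ring q.1) q (s.1 q * a) q' =
          s.1 q' * Pi.single (M := fun q : ↥U => X.ring q.1) q a q'
        rw [Pi.single_eq_of_ne hq, Pi.single_eq_of_ne hq, mul_zero])

open Classical in
lemma fam_sum [Fintype U] (p : (q : ↥U) → X.ring q.1) : ∑ q, famInc U q (famPi U q p) = p :=
  Finset.univ_sum_single p

open Classical in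
lemma fam_ret (q : U) (a : X.ring q.1) : famPi U q (famInc U q a) = a :=
  Pi.single_eq_same (M := fun q : ↥U => X.ring q.1) q a

lemma flat_O (hff : @Module.FaithfullyFlat (X.sectRing U) ((q : ↥U) → X.ring q.1) _ _ (instP U))
    (q : U) : Module.Flat (X.sectRing U) (X.ring q.1) := by
  letI := instP U
  haveI : Module.Flat (X.sectRing U) ((q : ↥U) → X.ring q.1) := hff.toFlat
  exact Module.Flat.of_retract (famInc U q) (famPi U q) (LinearMap.ext fun a => fam_ret U q a)

end Fam

section AlgSect

variable {X : RSpace.{u}} (U : Set X.pt) (A : Alg X)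

attribute [local instance] algSO

/-- the value of the algebra at a point as a module over the sections -/
@[reducible] def modSW (q : U) : Module (X.sectRing U) (A.carrier q.1) :=
  Module.compHom _ (X.evalRing U q)

attribute [local instance] modSW

instance twSOW (q : U) : IsScalarTower (X.sectRing U) (X.ring q.1) (A.carrier q.1) :=
  IsScalarTower.of_algebraMap_smul fun _ _ => rfl

/-- evaluation of sections of the algebra at a point -/
def evalLin (q : U) : A.toMod.sect U →ₗ[X.sectRing U] A.carrier q.1 where
  toFun m := m.1 q
  map_add' _ _ := rfl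
  map_smul' _ _ := rfl

lemma evalLin_isBaseChange (hUa : (X.restrict U).IsAffine) (hA : A.IsQcoh) (q : U) :
    IsBaseChange (X.ring q.1) (evalLin U A q) :=
  isBCAlong_evalMod U A.toMod hUa hA q

variable (hUa : (X.restrict U).IsAffine) (hA : A.IsQcoh)
  (hff : @Module.FaithfullyFlat (X.sectRing U) ((q : ↥U) → X.ring q.1) _ _ (instP U))

include hUa hA hff

theorem flat_sect_iff : (∀ q : U, Module.Flat (X.ring q.1) (A.carrier q.1)) ↔
    Module.Flat (X.sectRing U) (A.toMod.sect U) := by
  letI : Fintype U := Fintype.ofFinite U
  constructor
  · intro h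
    letI := instP U
    exact flat_of_family (famPi U) (famInc U) (evalLin_isBaseChange U A hUa hA) (fam_sum U)
      (flat_O U hff) h
  · intro h q
    exact Module.Flat.isBaseChange (X.sectRing U) (X.ring q.1) (A.toMod.sect U) (A.carrier q.1)
      (evalLin_isBaseChange U A hUa hA q)

theorem faithfullyFlat_sect_iff :
    (∀ q : U, Module.FaithfullyFlat (X.ring q.1) (A.carrier q.1)) ↔
      Module.FaithfullyFlat (X.sectRing U) (A.toMod.sect U) := by
  letI : Fintype U := Fintype.ofFinite U
  constructor
  · intro h
    letI := instP U
    exact faithfullyFlat_of_family (famPi U) (famInc U) (evalLin_isBaseChange U A hUa hA)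
      (fam_sum U) (flat_O U hff) h
  · intro h q
    exact Module.FaithfullyFlat.of_linearEquiv (R := X.ring q.1)
      (M := X.ring q.1 ⊗[X.sectRing U] A.toMod.sect U)
      (evalLin_isBaseChange U A hUa hA q).equiv.symm

theorem finite_sect_iff : (∀ q : U, Module.Finite (X.ring q.1) (A.carrier q.1)) ↔
    Module.Finite (X.sectRing U) (A.toMod.sect U) := by
  letI : Fintype U := Fintype.ofFinite U
  constructor
  · intro h
    letI := instP U
    exact finite_of_family (famPi U) (famInc U) (evalLin_isBaseChange U A hUa hA) (fam_sum U) h
  · intro h q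
    exact Module.Finite.equiv (evalLin_isBaseChange U A hUa hA q).equiv

end AlgSect

section Kappa

variable {X : RSpace.{u}} (U : Set X.pt) (A : Alg X)

/-- the ring of sections of the algebra as an algebra over the sections of the rings -/
@[reducible] def algSA : Algebra (X.sectRing U) (A.total.sectRing U) := (A.sectMap U).toAlgebra

attribute [local instance] algSA

/-- sections of the algebra as a module, compared with the ring of sections -/
def kappa : A.toMod.sect U ≃ₗ[X.sectRing U] A.total.sectRing U where
  toFun m := ⟨m.1, m.2⟩
  invFun t := ⟨t.1, t.2⟩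
  left_inv _ := rfl
  right_inv _ := rfl
  map_add' _ _ := rfl
  map_smul' s m := by
    apply Subtype.ext
    funext q
    exact Algebra.smul_def (R := X.ring q.1) (A := A.carrier q.1) (s.1 q) (m.1 q)

lemma flat_sectMap_iff :
    (A.sectMap U).Flat ↔ Module.Flat (X.sectRing U) (A.toMod.sect U) :=
  ⟨fun h => by
    have : Module.Flat (X.sectRing U) (A.total.sectRing U) := h
    exact Module.Flat.of_linearEquiv (kappa U A),
   fun h => by
    have := h
    exact (Module.Flat.of_linearEquiv (kappa U A).symm : Module.Flat (X.sectRing U)
      (A.total.sectRing U))⟩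

lemma faithfullyFlat_sectMap_iff :
    (A.sectMap U).FaithfullyFlat ↔ Module.FaithfullyFlat (X.sectRing U) (A.toMod.sect U) :=
  ⟨fun h => by
    have : Module.FaithfullyFlat (X.sectRing U) (A.total.sectRing U) := h
    exact Module.FaithfullyFlat.of_linearEquiv (R := X.sectRing U) (M := A.total.sectRing U)
      (kappa U A),
   fun h => by
    have := h
    exact Module.FaithfullyFlat.of_linearEquiv (R := X.sectRing U) (M := A.toMod.sect U)
      (kappa U A).symm⟩

lemma finite_sectMap_iff :
    (A.sectMap U).Finite ↔ Module.Finite (X.sectRing U) (A.toMod.sect U) :=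
  ⟨fun h => by
    have : Module.Finite (X.sectRing U) (A.total.sectRing U) := h
    exact Module.Finite.equiv (kappa U A).symm,
   fun h => by
    have := h
    exact (Module.Finite.equiv (kappa U A) : Module.Finite (X.sectRing U)
      (A.total.sectRing U))⟩

end Kappa

end Groth.Agent.Lib.helper23.AffSect
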