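import Mathlib
import Groth.Prelude.Def_EtOpen

set_option autoImplicit false
open CategoryTheory CategoryTheory.Limits AlgebraicGeometry Opposite
universe u

namespace Groth.Agent.H23.EtOpenSub

open EtDesc

variable {X : Scheme.{u}}

/-- structure morphism -/
def hm (U : X.Etale) : U.left ⟶ X := U.hom

instance (U : X.Etale) : Etale (hm U) := U.prop

lemma isOpen_range_hm (U : X.Etale) : IsOpen (Set.range (hm U).base) :=
  (hm U).isOpenMap.isOpen_range

lemma key2 (W' : X.Opens) (U : X.Etale) :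
    Nonempty (U ⟶ ofOpen W') ↔ Set.range (hm U).base ⊆ (W' : Set X) := by
  constructor
  · rintro ⟨f⟩
    have hw : f.left ≫ W'.ι = hm U := MorphismProperty.Over.w f
    rintro _ ⟨v, rfl⟩
    rw [← hw]
    have : (f.left ≫ W'.ι).base v = W'.ι.base (f.left.base v) := rfl
    rw [this]
    exact (f.left.base v).2
  · intro h
    have h' : Set.range (hm U).base ⊆ Set.range W'.ι.base := by
      rw [Scheme.Opens.range_ι]
      exact h
    let l : U.left ⟶ (W' : Scheme.{u}) := IsOpenImmersion.lift W'.ι (hm U) h'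
    have hl : l ≫ W'.ι = hm U := IsOpenImmersion.lift_fac _ _ _
    exact ⟨MorphismProperty.Over.homMk l hl⟩

lemma sub2 (W' : X.Opens) (U : X.Etale) : Subsingleton (U ⟶ ofOpen W') := by
  constructor
  intro f g
  apply MorphismProperty.Over.Hom.ext
  have hf : f.left ≫ W'.ι = U.hom := MorphismProperty.Over.w f
  have hg : g.left ≫ W'.ι = U.hom := MorphismProperty.Over.w g
  exact (cancel_mono W'.ι).1 (hf.trans hg.symm)

/-- The presheaf represented by an open (lifted). -/
noncomputable abbrev P (W : X.Opens) : X.Etaleᵒᵖ ⥤ Type (u + 1) :=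
  yoneda.obj (ofOpen W) ⋙ uliftFunctor.{u + 1, u}

instance (W : X.Opens) (U : X.Etaleᵒᵖ) : Subsingleton ((P W).obj U) := by
  have := sub2 W U.unop
  constructor
  rintro ⟨a⟩ ⟨b⟩
  exact congrArg ULift.up (Subsingleton.elim a b)

lemma eS : X.smallEtaleTopology =
    (X.smallPretopology (P := EtCoh.etaleMP) (Q := EtCoh.etaleMP)).toGrothendieck :=
  Scheme.smallGrothendieckTopology_eq_toGrothendieck_smallPretopology X le_rfl

/-- local criterion for covering sieves. -/
lemma mem_cov (U : X.Etale) (T : Sieve U)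
    (h : ∀ v : U.left, ∃ (V : X.Etale) (ψ : V ⟶ U) (z : V.left), T.arrows ψ ∧ ψ.left.base z = v) :
    T ∈ X.smallEtaleTopology U := by
  rw [eS]
  refine (Scheme.mem_toGrothendieck_smallPretopology U _).2 ?_
  intro v
  obtain ⟨V, ψ, z, hψ, hz⟩ := h v
  refine ⟨V, ψ, z, hψ, ?_, hz⟩
  have h1 : Etale (hm V) := V.prop
  have h2 : Etale (hm U) := U.prop
  have hw : ψ.left ≫ hm U = hm V := MorphismProperty.Over.w ψ
  have : Etale (ψ.left ≫ hm U) := by rw [hw]; exact h1
  exact Etale.of_comp ψ.left (hm U)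

lemma exists_cov (U : X.Etale) (T : Sieve U) (hT : T ∈ X.smallEtaleTopology U) (v : U.left) :
    ∃ (V : X.Etale) (ψ : V ⟶ U) (z : V.left), T.arrows ψ ∧ ψ.left.base z = v := by
  rw [eS] at hT
  obtain ⟨V, ψ, z, hψ, _, hz⟩ := (Scheme.mem_toGrothendieck_smallPretopology U _).1 hT v
  exact ⟨V, ψ, z, hψ, hz⟩

lemma isSheaf_P (W : X.Opens) : Presheaf.IsSheaf X.smallEtaleTopology (P W) := by
  rw [isSheaf_iff_isSheaf_of_type]
  intro U T hT x hx
  have hne : Nonempty (U ⟶ ofOpen W) := by
    rw [key2]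
    rintro _ ⟨v, rfl⟩
    obtain ⟨V, ψ, z, hψ, hz⟩ := exists_cov U T hT v
    have h1 : Nonempty (V ⟶ ofOpen W) := ⟨(x ψ hψ).down⟩
    have h2 := (key2 W V).1 h1
    have hw : ψ.left ≫ hm U = hm V := MorphismProperty.Over.w ψ
    have : (hm U).base v = (hm V).base z := by
      rw [← hw, ← hz]; rfl
    rw [this]
    exact h2 ⟨z, rfl⟩
  refine ⟨⟨hne.some⟩, ?_, ?_⟩
  · intro V ψ hψ
    exact Subsingleton.elim _ _
  · intro y _
    exact Subsingleton.elim _ _

/-- the sheaf represented by an open. -/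
noncomputable def shP (W : X.Opens) : Sh X := ⟨P W, isSheaf_P W⟩

noncomputable def repIso (W : X.Opens) : repSh (ofOpen W) ≅ shP W :=
  (asIso (sheafificationAdjunction X.smallEtaleTopology (Type (u + 1))).counit).app (shP W)

lemma hom_subsingleton_of_sections (F : Sh X)
    (hF : ∀ U : X.Etale, Subsingleton (F.obj.obj (op U))) (G : Sh X) :
    Subsingleton (G ⟶ F) := by
  constructor
  intro a b
  apply Sheaf.hom_ext
  ext U s
  exact (hF U.unop).elim _ _

lemma mono_of_hom_subsingleton (F : Sh X) (h : ∀ G : Sh X, Subsingleton (G ⟶ F)) :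
    Mono (terminal.from F) :=
  ⟨fun a b _ => (h _).elim a b⟩

lemma hom_subsingleton_of_iso {F F' : Sh X} (e : F ≅ F')
    (h : ∀ G : Sh X, Subsingleton (G ⟶ F')) (G : Sh X) : Subsingleton (G ⟶ F) := by
  constructor
  intro a b
  have := (h G).elim (a ≫ e.hom) (b ≫ e.hom)
  exact (cancel_mono e.hom).1 this

lemma mono_repSh (W : X.Opens) : Mono (terminal.from (repSh (ofOpen W))) := by
  apply mono_of_hom_subsingleton
  apply hom_subsingleton_of_iso (repIso W)
  intro G
  apply hom_subsingleton_of_sections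
  intro U
  show Subsingleton ((P W).obj (op U))
  infer_instance

lemma le_iff (U V : X.Opens) :
    U ≤ V ↔ Nonempty (repSh (ofOpen U) ⟶ repSh (ofOpen V)) := by
  have hU : Set.range (hm (ofOpen U)).base = (U : Set X) := Scheme.Opens.range_ι U
  constructor
  · intro h
    have h1 : Nonempty (ofOpen U ⟶ ofOpen V) := by
      rw [key2, hU]
      exact h
    exact ⟨(presheafToSheaf _ _).map (Functor.whiskerRight (yoneda.map h1.some) uliftFunctor.{u + 1, u})⟩
  · rintro ⟨g⟩
    let g' : shP U ⟶ shP V := (repIso U).inv ≫ g ≫ (repIso V).hom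
    have h1 : Nonempty (ofOpen U ⟶ ofOpen V) :=
      ⟨(g'.hom.app (op (ofOpen U)) ⟨𝟙 _⟩).down⟩
    have := (key2 V (ofOpen U)).1 h1
    rw [hU] at this
    exact this

/-- the natural transformation attached to a section. -/
noncomputable def secNat (F : Sh X) (V : X.Etale) (s : F.obj.obj (op V)) :
    yoneda.obj V ⋙ uliftFunctor.{u + 1, u} ⟶ F.obj where
  app := fun U => TypeCat.ofHom (fun (f : ULift.{u + 1, u} (U.unop ⟶ V)) => F.obj.map f.down.op s)
  naturality := by
    intro U U' g
    ext f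
    show F.obj.map (g.unop ≫ f.down).op s = F.obj.map g (F.obj.map f.down.op s)
    rw [op_comp, F.obj.map_comp]
    rfl

lemma subsingleton_of_mono (F : Sh X) (hF : Mono (terminal.from F)) (V : X.Etale) :
    Subsingleton (F.obj.obj (op V)) := by
  constructor
  intro s t
  let adj := sheafificationAdjunction X.smallEtaleTopology (Type (u + 1))
  let a : repSh V ⟶ F := (adj.homEquiv _ F).symm (secNat F V s)
  let b : repSh V ⟶ F := (adj.homEquiv _ F).symm (secNat F V t)
  have hab : a = b := (cancel_mono (terminal.from F)).1 (Subsingleton.elim _ _)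
  have h2 : secNat F V s = secNat F V t := (adj.homEquiv _ F).symm.injective hab
  have h3 : (secNat F V s).app (op V) ⟨𝟙 V⟩ = (secNat F V t).app (op V) ⟨𝟙 V⟩ := by rw [h2]
  have h4 : ∀ r : F.obj.obj (op V), (secNat F V r).app (op V) ⟨𝟙 V⟩ = r := by
    intro r
    show F.obj.map (𝟙 V).op r = r
    rw [op_id, F.obj.map_id]
    rfl
  rw [h4, h4] at h3
  exact h3

lemma exists_open (F : Sh X) (hF : ∀ U : X.Etale, Subsingleton (F.obj.obj (op U))) :
    ∃ W : X.Opens, Nonempty (F ≅ shP W) := by
  classical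
  let ι := {U : X.Etale // Nonempty (F.obj.obj (op U))}
  let W : X.Opens := ⟨⋃ p : ι, Set.range (hm p.1).base, isOpen_iUnion fun p => isOpen_range_hm _⟩
  have hsh : Presieve.IsSheaf X.smallEtaleTopology F.obj :=
    (isSheaf_iff_isSheaf_of_type _ _).1 F.property
  have key : ∀ U : X.Etale, Nonempty (F.obj.obj (op U)) ↔
      Set.range (hm U).base ⊆ (W : Set X) := by
    intro U
    constructor
    · intro h
      exact Set.subset_iUnion (fun p : ι => Set.range (hm p.1).base) ⟨U, h⟩
    · intro h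
      let T : Sieve U :=
        { arrows := fun V ψ => Nonempty (F.obj.obj (op V))
          downward_closed := by
            intro Y Z f hf g
            exact ⟨F.obj.map g.op hf.some⟩ }
      have hT : T ∈ X.smallEtaleTopology U := by
        apply mem_cov
        intro v
        have hv : (hm U).base v ∈ (W : Set X) := h ⟨v, rfl⟩
        obtain ⟨p, hp⟩ := Set.mem_iUnion.1 hv
        obtain ⟨u₁, hu₁⟩ := hp
        obtain ⟨U₁, h₁⟩ := p
        obtain ⟨z, hz1, hz2⟩ := Scheme.Pullback.exists_preimage_pullback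
          (f := U.hom) (g := U₁.hom) v u₁ hu₁.symm
        let Pb : X.Etale := Scheme.Etale.mk (pullback.fst U.hom U₁.hom ≫ U.hom)
        let ψ : Pb ⟶ U := MorphismProperty.Over.homMk (pullback.fst U.hom U₁.hom) rfl
        let ψ₁ : Pb ⟶ U₁ := MorphismProperty.Over.homMk (pullback.snd U.hom U₁.hom)
          pullback.condition.symm
        exact ⟨Pb, ψ, z, ⟨F.obj.map ψ₁.op h₁.some⟩, hz1⟩
      let x : Presieve.FamilyOfElements F.obj T.arrows := fun V ψ hψ => hψ.some
      have hx : x.Compatible := by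
        intro Y₁ Y₂ Z g₁ g₂ f₁ f₂ h₁ h₂ _
        exact (hF Z).elim _ _
      exact ⟨(hsh T hT).amalgamate x hx⟩
  refine ⟨W, ⟨(sheafToPresheaf _ _).preimageIso (NatIso.ofComponents (fun U => Equiv.toIso
      { toFun := fun s => ⟨((key2 W U.unop).2 ((key U.unop).1 ⟨s⟩)).some⟩
        invFun := fun f => ((key U.unop).2 ((key2 W U.unop).1 ⟨f.down⟩)).some
        left_inv := fun s => (hF U.unop).elim _ _
        right_inv := fun f => Subsingleton.elim (α := (P W).obj U) _ _ }) ?_)⟩⟩
  intro U V f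
  ext s
  exact Subsingleton.elim (α := (P W).obj V) _ _

end Groth.Agent.H23.EtOpenSub
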