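import Mathlib
import Groth.Prelude.Def_BigSite
import Groth.Prelude.Def_EtOpen
import Groth.Agent.Lib.helper23.EtOpenSub

set_option autoImplicit false
open CategoryTheory CategoryTheory.Limits AlgebraicGeometry Opposite
universe u

namespace Groth.Agent.H23.AlmostCocont

open EtDesc Groth.Agent.H23.EtOpenSub

variable {X Y : Scheme.{u}} (f : X ⟶ Y)

set_option backward.isDefEq.respectTransparency.types false in
/-- first projection of bc -/
noncomputable def pr (V : Y.Etale) : ((EtCoh.bc f).obj V).left ⟶ V.left := pullback.fst V.hom f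

set_option backward.isDefEq.respectTransparency.types false in
lemma pr_w {V' V : Y.Etale} (g : V' ⟶ V) :
    ((EtCoh.bc f).map g).left ≫ pr f V = pr f V' ≫ g.left :=
  (EtCoh.isPullback_bc_map f g).w

lemma bot_mem_of_isEmpty (U : X.Etale) [IsEmpty U.left] :
    (⊥ : Sieve U) ∈ X.smallEtaleTopology U := by
  apply mem_cov
  intro v
  exact (IsEmpty.false v).elim

lemma pullback_bot {C : Type*} [Category C] {A B : C} (h : A ⟶ B) :
    (⊥ : Sieve B).pullback h = ⊥ := by
  ext Z g
  simp

set_option backward.isDefEq.respectTransparency.types false in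
/-- the symmetry iso on `bc` -/
noncomputable def sig (V : Y.Etale) : ((EtCoh.bc f).obj V).left ≅ pullback f (hm V) :=
  pullbackSymmetry V.hom f

set_option backward.isDefEq.respectTransparency.types false in
lemma sig_snd (V : Y.Etale) : (sig f V).hom ≫ pullback.snd f (hm V) = pr f V :=
  pullbackSymmetry_hom_comp_snd _ _

set_option backward.isDefEq.respectTransparency.types false in
lemma sig_fst (V : Y.Etale) : (sig f V).hom ≫ pullback.fst f (hm V) = hm ((EtCoh.bc f).obj V) :=
  pullbackSymmetry_hom_comp_fst _ _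

lemma range_pr (V : Y.Etale) :
    Set.range (pr f V).base = Set.range (pullback.snd f (hm V)).base := by
  rw [← sig_snd]
  ext y
  constructor
  · rintro ⟨x, rfl⟩
    exact ⟨(sig f V).hom.base x, rfl⟩
  · rintro ⟨x, rfl⟩
    refine ⟨(sig f V).inv.base x, ?_⟩
    show ((sig f V).inv ≫ (sig f V).hom ≫ pullback.snd f (hm V)).base x = _
    rw [Iso.inv_hom_id_assoc]

lemma case1 (V : Y.Etale) (hcl : IsClosedMap (pullback.snd f (hm V)).base) (y : V.left)
    (hy : y ∉ Set.range (pr f V).base) :
    ∃ (V' : Y.Etale) (g : V' ⟶ V) (z : V'.left),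
      IsEmpty ((EtCoh.bc f).obj V').left ∧ g.left.base z = y := by
  have hc : IsClosed (Set.range (pr f V).base) := by
    rw [range_pr]
    exact hcl.isClosed_range
  let O : V.left.Opens := ⟨(Set.range (pr f V).base)ᶜ, hc.isOpen_compl⟩
  let V' : Y.Etale := Scheme.Etale.mk (O.ι ≫ hm V)
  let g : V' ⟶ V := MorphismProperty.Over.homMk O.ι rfl
  refine ⟨V', g, ⟨y, hy⟩, ⟨fun w => ?_⟩, rfl⟩
  have h1 := congrArg (fun φ => φ.base w) (pr_w f g)
  have h2 : (pr f V).base (((EtCoh.bc f).map g).left.base w) = O.ι.base ((pr f V').base w) := h1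
  have h3 : O.ι.base ((pr f V').base w) ∈ (O : Set V.left) := ((pr f V').base w).2
  rw [← h2] at h3
  exact h3 ⟨_, rfl⟩

set_option backward.isDefEq.respectTransparency.types false in
lemma case2 (V : Y.Etale) (hC : BigSite.PropC (pullback.snd f (hm V)))
    (R : Sieve ((EtCoh.bc f).obj V)) (U : X.Etale) (ψ : U ⟶ (EtCoh.bc f).obj V) (hψ : R ψ)
    (z : U.left) :
    ∃ (V' : Y.Etale) (g : V' ⟶ V) (z' : V'.left),
      R ((EtCoh.bc f).map g) ∧ g.left.base z' = (pr f V).base (ψ.left.base z) := by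
  have hψw : ψ.left ≫ hm ((EtCoh.bc f).obj V) = hm U := MorphismProperty.Over.w ψ
  haveI : Etale ψ.left := by
    have : Etale (ψ.left ≫ hm ((EtCoh.bc f).obj V)) := by rw [hψw]; infer_instance
    exact Etale.of_comp ψ.left (hm ((EtCoh.bc f).obj V))
  let gU : U.left ⟶ pullback f (hm V) := ψ.left ≫ (sig f V).hom
  obtain ⟨V₁, v₁, hv₁, h, hh, hs⟩ := hC U.left gU
  haveI := hv₁
  let V' : Y.Etale := Scheme.Etale.mk (v₁ ≫ hm V)
  let g : V' ⟶ V := MorphismProperty.Over.homMk v₁ rfl
  -- the point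
  obtain ⟨w, hw⟩ := hs.surj z
  have e1 : (pullback.fst (pullback.snd f (hm V)) v₁).base w = gU.base z := by
    rw [← hh, ← hw]; rfl
  have e2 : v₁.base ((pullback.snd (pullback.snd f (hm V)) v₁).base w) =
      (pr f V).base (ψ.left.base z) := by
    have c := congrArg (fun φ => φ.base w)
      (pullback.condition (f := pullback.snd f (hm V)) (g := v₁))
    have c' : (pullback.snd f (hm V)).base ((pullback.fst (pullback.snd f (hm V)) v₁).base w) =
      v₁.base ((pullback.snd (pullback.snd f (hm V)) v₁).base w) := c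
    rw [← c', e1, ← sig_snd]
    rfl
  refine ⟨V', g, (pullback.snd (pullback.snd f (hm V)) v₁).base w, ?_, e2⟩
  -- factorisation
  let τ : ((EtCoh.bc f).obj V').left ⟶ pullback (pullback.snd f (hm V)) v₁ :=
    (sig f V').hom ≫ (pullbackLeftPullbackSndIso f (hm V) v₁).inv
  have hUw : hm U = gU ≫ pullback.fst f (hm V) := by
    rw [← hψw]
    show _ = (ψ.left ≫ (sig f V).hom) ≫ _
    rw [Category.assoc, sig_fst]
  let θ : (EtCoh.bc f).obj V' ⟶ U := MorphismProperty.Over.homMk (τ ≫ h) (by
    show (τ ≫ h) ≫ hm U = hm ((EtCoh.bc f).obj V')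
    rw [hUw, Category.assoc, reassoc_of% hh]
    show ((sig f V').hom ≫ (pullbackLeftPullbackSndIso f (hm V) v₁).inv) ≫ _ = _
    rw [Category.assoc]
    erw [pullbackLeftPullbackSndIso_inv_fst]
    exact sig_fst f V')
  have fac : θ ≫ ψ = (EtCoh.bc f).map g := by
    apply MorphismProperty.Over.Hom.ext
    show (τ ≫ h) ≫ ψ.left = ((EtCoh.bc f).map g).left
    apply pullback.hom_ext
    · show ((τ ≫ h) ≫ ψ.left) ≫ pr f V = ((EtCoh.bc f).map g).left ≫ pr f V
      rw [pr_w, ← sig_snd f V]
      have : ((τ ≫ h) ≫ ψ.left) ≫ (sig f V).hom ≫ pullback.snd f (hm V) =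
          τ ≫ (h ≫ gU) ≫ pullback.snd f (hm V) := by
        simp only [Category.assoc, gU]
      rw [this, hh, pullback.condition]
      show ((sig f V').hom ≫ (pullbackLeftPullbackSndIso f (hm V) v₁).inv) ≫ _ = _
      rw [Category.assoc]
      erw [pullbackLeftPullbackSndIso_inv_snd_snd_assoc]
      have q := sig_snd f V'
      show (sig f V').hom ≫ pullback.snd f (hm V') ≫ v₁ = pr f V' ≫ v₁
      rw [← q, Category.assoc]
    · have a1 : (θ ≫ ψ).left ≫ hm ((EtCoh.bc f).obj V) = hm ((EtCoh.bc f).obj V') :=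
        MorphismProperty.Over.w (θ ≫ ψ)
      have a2 : ((EtCoh.bc f).map g).left ≫ hm ((EtCoh.bc f).obj V) = hm ((EtCoh.bc f).obj V') :=
        MorphismProperty.Over.w ((EtCoh.bc f).map g)
      exact a1.trans a2.symm
  rw [← fac]
  exact R.downward_closed hψ θ

theorem almostCocont
    (hC : ∀ (V : Scheme.{u}) (v : V ⟶ Y) [Etale v], BigSite.PropC (pullback.snd f v))
    (hcl : ∀ (V : Scheme.{u}) (v : V ⟶ Y) [Etale v], IsClosedMap (pullback.snd f v).base) :
    BigSite.IsAlmostCocontinuous (EtCoh.bc f) Y.smallEtaleTopology X.smallEtaleTopology := by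
  intro V R hR
  let R' : Sieve V :=
    { arrows := fun V' g =>
        (⊥ : Sieve ((EtCoh.bc f).obj V')) ∈ X.smallEtaleTopology ((EtCoh.bc f).obj V') ∨
          R ((EtCoh.bc f).map g)
      downward_closed := by
        intro V₁ V₂ g hg a
        rcases hg with h | h
        · left
          have := X.smallEtaleTopology.pullback_stable ((EtCoh.bc f).map a) h
          rwa [pullback_bot] at this
        · right
          rw [Functor.map_comp]
          exact R.downward_closed h _ }
  refine ⟨R', ?_, fun V' g hg => hg⟩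
  apply mem_cov
  intro y
  haveI : Etale (hm V) := V.prop
  by_cases hy : y ∈ Set.range (pr f V).base
  · obtain ⟨x', hx'⟩ := hy
    obtain ⟨U, ψ, z, hψ, hz⟩ := exists_cov _ R hR x'
    obtain ⟨V', g, z', hg, hz'⟩ := case2 f V (hC V.left (hm V)) R U ψ hψ z
    refine ⟨V', g, z', Or.inr hg, ?_⟩
    rw [hz', hz, hx']
  · obtain ⟨V', g, z, he, hz⟩ := case1 f V (hcl V.left (hm V)) y hy
    haveI := he
    exact ⟨V', g, z, Or.inl (bot_mem_of_isEmpty _), hz⟩

end Groth.Agent.H23.AlmostCocont
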