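import Mathlib
import Groth.Prelude.Def_BigSite
import Groth.Prelude.Def_EtOpen
import Groth.Agent.Lib.helper23.EtOpenSub

set_option autoImplicit false
open CategoryTheory CategoryTheory.Limits AlgebraicGeometry Opposite
universe u w

namespace Groth.Agent.H23.Glue

open EtDesc Groth.Agent.H23.EtOpenSub

variable {X : Scheme.{u}}

/-- an open of an etale `X`-scheme, as an etale `X`-scheme. -/
noncomputable def opn (U : X.Etale) (W : U.left.Opens) : X.Etale :=
  Scheme.Etale.mk (W.ι ≫ hm U)

/-- the inclusion -/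
noncomputable def incl (U : X.Etale) (W : U.left.Opens) : opn U W ⟶ U :=
  MorphismProperty.Over.homMk W.ι rfl

lemma incl_left (U : X.Etale) (W : U.left.Opens) : (incl U W).left = W.ι := rfl

instance (U : X.Etale) (W : U.left.Opens) : Mono (incl U W) := by
  constructor
  intro Z a b h
  apply MorphismProperty.Over.Hom.ext
  have h' := congrArg (fun φ => φ.left) h
  have h2 : a.left ≫ W.ι = b.left ≫ W.ι := h'
  exact (cancel_mono W.ι).1 h2

lemma subsingleton_of_isEmpty (F : X.Etaleᵒᵖ ⥤ Type w)
    (hF : Presieve.IsSheaf X.smallEtaleTopology F) (Z : X.Etale) [IsEmpty Z.left] :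
    Subsingleton (F.obj (op Z)) := by
  constructor
  intro a b
  have hbot : (⊥ : Sieve Z) ∈ X.smallEtaleTopology Z := by
    apply mem_cov
    intro v
    exact (IsEmpty.false v).elim
  apply (hF.isSeparated _ hbot).ext
  intro Y f hf
  exact hf.elim

lemma cover_mem (U : X.Etale) {μ : Type*} (W : μ → U.left.Opens) (hc : (⨆ a, W a) = ⊤) :
    Sieve.generate (Presieve.ofArrows (fun a => opn U (W a)) (fun a => incl U (W a))) ∈
      X.smallEtaleTopology U := by
  apply mem_cov
  intro v
  have hv : v ∈ (⨆ a, W a) := by rw [hc]; trivial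
  obtain ⟨a, ha⟩ := TopologicalSpace.Opens.mem_iSup.1 hv
  exact ⟨opn U (W a), incl U (W a), ⟨v, ha⟩, Sieve.le_generate _ _ _ (Presieve.ofArrows.mk a), rfl⟩

theorem glue (F : X.Etaleᵒᵖ ⥤ Type w) (hF : Presieve.IsSheaf X.smallEtaleTopology F)
    (U : X.Etale) {μ : Type*} (W : μ → U.left.Opens)
    (hd : ∀ a b, a ≠ b → Disjoint (W a) (W b)) (hc : (⨆ a, W a) = ⊤)
    (t : ∀ a, F.obj (op (opn U (W a)))) :
    ∃! s : F.obj (op U), ∀ a, F.map (incl U (W a)).op s = t a := by
  have h1 := hF _ (cover_mem U W hc)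
  rw [← Presieve.isSheafFor_iff_generate] at h1
  rw [Presieve.isSheafFor_arrows_iff] at h1
  apply h1
  intro a b Z ga gb hab
  by_cases hne : a = b
  · subst hne
    rw [(cancel_mono (incl U (W a))).1 hab]
  · haveI : IsEmpty Z.left := by
      constructor
      intro z
      have h' := congrArg (fun φ => φ.left.base z) hab
      have h2 : (W a).ι.base (ga.left.base z) = (W b).ι.base (gb.left.base z) := h'
      have ha : (W a).ι.base (ga.left.base z) ∈ W a := (ga.left.base z).2
      have hb : (W b).ι.base (gb.left.base z) ∈ W b := (gb.left.base z).2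
      rw [← h2] at hb
      have hdis : W a ⊓ W b = ⊥ := disjoint_iff.1 (hd a b hne)
      have hmem : (W a).ι.base (ga.left.base z) ∈ W a ⊓ W b := ⟨ha, hb⟩
      rw [hdis] at hmem
      exact hmem
    exact (subsingleton_of_isEmpty F hF Z).elim _ _

end Groth.Agent.H23.Glue
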