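import Mathlib
import Groth.Prelude.Def_BigSite
import Groth.Prelude.Def_EtOpen
import Groth.Agent.Lib.helper23.EtOpenSub
import Groth.Agent.Lib.helper23.AlmostCocont
import Groth.Agent.Lib.helper23.Glue

set_option autoImplicit false
open CategoryTheory CategoryTheory.Limits AlgebraicGeometry Opposite
universe u w

namespace Groth.Agent.H23.PropBLib

open EtDesc Groth.Agent.H23.EtOpenSub Groth.Agent.H23.Glue Groth.Agent.H23.AlmostCocont

variable {X Y : Scheme.{u}} (f : X ⟶ Y)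

/-- `pullback f v` as an etale `X`-scheme. -/
noncomputable def Q (V : Y.Etale) : X.Etale := Scheme.Etale.mk (pullback.fst f (hm V))

noncomputable def e (V : Y.Etale) : (EtCoh.bc f).obj V ⟶ Q f V :=
  MorphismProperty.Over.homMk (sig f V).hom (sig_fst f V)

noncomputable def e' (V : Y.Etale) : Q f V ⟶ (EtCoh.bc f).obj V :=
  MorphismProperty.Over.homMk (sig f V).inv (by
    show (sig f V).inv ≫ hm ((EtCoh.bc f).obj V) = pullback.fst f (hm V)
    rw [Iso.inv_comp_eq]; exact (sig_fst f V).symm)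

lemma e_e' (V : Y.Etale) : e f V ≫ e' f V = 𝟙 _ := by
  apply MorphismProperty.Over.Hom.ext
  exact (sig f V).hom_inv_id

lemma e'_e (V : Y.Etale) : e' f V ≫ e f V = 𝟙 _ := by
  apply MorphismProperty.Over.Hom.ext
  exact (sig f V).inv_hom_id

/-- the map of etale `Y`-schemes attached to `v₁ : V₁ ⟶ V.left`. -/
noncomputable def V1 (V : Y.Etale) {V₁ : Scheme.{u}} (v₁ : V₁ ⟶ V.left) [Etale v₁] : Y.Etale :=
  Scheme.Etale.mk (v₁ ≫ hm V)

noncomputable def g1 (V : Y.Etale) {V₁ : Scheme.{u}} (v₁ : V₁ ⟶ V.left) [Etale v₁] : V1 V v₁ ⟶ V :=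
  MorphismProperty.Over.homMk v₁ rfl

/-- comparison of the base change map with `pullback.map`. -/
lemma bcmap_eq (V : Y.Etale) {V₁ : Scheme.{u}} (v₁ : V₁ ⟶ V.left) [Etale v₁] :
    (sig f (V1 V v₁)).inv ≫ ((EtCoh.bc f).map (g1 V v₁)).left ≫ (sig f V).hom =
      pullback.map f (v₁ ≫ hm V) f (hm V) (𝟙 X) v₁ (𝟙 Y) (by simp) (by simp) := by
  apply pullback.hom_ext
  · have r : pullback.map f (v₁ ≫ hm V) f (hm V) (𝟙 X) v₁ (𝟙 Y) (by simp) (by simp) ≫
        pullback.fst f (hm V) = pullback.fst f (v₁ ≫ hm V) :=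
      (pullback.lift_fst _ _ _).trans (Category.comp_id _)
    refine Eq.trans ?_ r.symm
    simp only [Category.assoc]
    rw [sig_fst]
    have a2 : ((EtCoh.bc f).map (g1 V v₁)).left ≫ hm ((EtCoh.bc f).obj V) =
        hm ((EtCoh.bc f).obj (V1 V v₁)) := MorphismProperty.Over.w ((EtCoh.bc f).map (g1 V v₁))
    rw [a2, Iso.inv_comp_eq]
    exact (sig_fst f (V1 V v₁)).symm
  · have r : pullback.map f (v₁ ≫ hm V) f (hm V) (𝟙 X) v₁ (𝟙 Y) (by simp) (by simp) ≫
        pullback.snd f (hm V) = pullback.snd f (v₁ ≫ hm V) ≫ v₁ :=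
      pullback.lift_snd _ _ _
    refine Eq.trans ?_ r.symm
    simp only [Category.assoc]
    rw [sig_snd, pr_w, Iso.inv_comp_eq]
    have q := sig_snd f (V1 V v₁)
    show pr f (V1 V v₁) ≫ v₁ = (sig f (V1 V v₁)).hom ≫ pullback.snd f (hm (V1 V v₁)) ≫ v₁
    rw [← q, Category.assoc]

lemma key (V : Y.Etale) {F G : Sh X} (φ : F ⟶ G) (s : G.obj.obj (op ((EtCoh.bc f).obj V)))
    {V₁ : Scheme.{u}} (v₁ : V₁ ⟶ V.left) [Etale v₁]
    {μ : Type*} (W : μ → (pullback f (v₁ ≫ hm V)).Opens)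
    (hd : ∀ a b, a ≠ b → Disjoint (W a) (W b)) (hc : (⨆ a, W a) = ⊤)
    (hfac : ∀ a, ∃ (U : X.Etale) (ψ : U ⟶ (EtCoh.bc f).obj V) (t : F.obj.obj (op U))
        (h : ((W a : (pullback f (v₁ ≫ hm V)).Opens) : Scheme.{u}) ⟶ U.left),
        φ.hom.app _ t = G.obj.map ψ.op s ∧
        h ≫ ψ.left ≫ (sig f V).hom = (W a).ι ≫
          pullback.map f (v₁ ≫ hm V) f (hm V) (𝟙 X) v₁ (𝟙 Y) (by simp) (by simp)) :
    ∃ t : F.obj.obj (op ((EtCoh.bc f).obj (V1 V v₁))),
      φ.hom.app _ t = G.obj.map ((EtCoh.bc f).map (g1 V v₁)).op s := by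
  choose U ψ t h ht hh using hfac
  have hF : Presieve.IsSheaf X.smallEtaleTopology F.obj :=
    (isSheaf_iff_isSheaf_of_type _ _).1 F.property
  have hG : Presieve.IsSheaf X.smallEtaleTopology G.obj :=
    (isSheaf_iff_isSheaf_of_type _ _).1 G.property
  let Qv : X.Etale := Q f (V1 V v₁)
  let W' : μ → Qv.left.Opens := W
  have hθ : ∀ a, h a ≫ hm (U a) = (W a).ι ≫ hm Qv := by
    intro a
    have hψw : (ψ a).left ≫ hm ((EtCoh.bc f).obj V) = hm (U a) := MorphismProperty.Over.w (ψ a)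
    rw [← hψw, ← sig_fst f V, reassoc_of% (hh a)]
    congr 1
    exact (pullback.lift_fst _ _ _).trans (Category.comp_id _)
  let θ : ∀ a, opn Qv (W' a) ⟶ U a := fun a => MorphismProperty.Over.homMk (h a) (hθ a)
  let t' : ∀ a, F.obj.obj (op (opn Qv (W' a))) := fun a => F.obj.map (θ a).op (t a)
  obtain ⟨T, hT, -⟩ := glue F.obj hF Qv W' hd hc t'
  have fac : ∀ a, θ a ≫ ψ a =
      incl Qv (W' a) ≫ e' f (V1 V v₁) ≫ (EtCoh.bc f).map (g1 V v₁) := by
    intro a
    apply MorphismProperty.Over.Hom.ext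
    show h a ≫ (ψ a).left = (W a).ι ≫ (sig f (V1 V v₁)).inv ≫ ((EtCoh.bc f).map (g1 V v₁)).left
    apply (cancel_mono (sig f V).hom).1
    simp only [Category.assoc]
    exact (hh a).trans (congrArg (fun m => (W a).ι ≫ m) (bcmap_eq f V v₁).symm)
  refine ⟨F.obj.map (e f (V1 V v₁)).op T, ?_⟩
  have inj : Function.Injective (G.obj.map (e' f (V1 V v₁)).op) := by
    intro a b hab
    have := congrArg (G.obj.map (e f (V1 V v₁)).op) hab
    simp only [← Functor.map_comp_apply, ← op_comp, e_e', op_id,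
      Functor.map_id_apply] at this
    exact this
  apply inj
  apply (hG.isSeparated _ (cover_mem Qv W' hc)).ext
  rintro Z _ ⟨Z', k, _, ⟨a⟩, rfl⟩
  rw [op_comp, G.obj.map_comp]
  simp only [ConcreteCategory.comp_apply]
  congr 1
  -- the check on `incl a`
  have n1 : φ.hom.app _ (F.obj.map (e f (V1 V v₁)).op T) =
      G.obj.map (e f (V1 V v₁)).op (φ.hom.app _ T) :=
    ConcreteCategory.congr_hom (φ.hom.naturality (e f (V1 V v₁)).op) T
  have n2 : G.obj.map (incl Qv (W' a)).op (φ.hom.app _ T) =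
      φ.hom.app _ (F.obj.map (incl Qv (W' a)).op T) :=
    (ConcreteCategory.congr_hom (φ.hom.naturality (incl Qv (W' a)).op) T).symm
  have n3 : φ.hom.app _ (F.obj.map (θ a).op (t a)) = G.obj.map (θ a).op (φ.hom.app _ (t a)) :=
    ConcreteCategory.congr_hom (φ.hom.naturality (θ a).op) (t a)
  rw [n1]
  have c1 : G.obj.map (e' f (V1 V v₁)).op (G.obj.map (e f (V1 V v₁)).op (φ.hom.app _ T)) =
      φ.hom.app _ T := by
    simp only [← Functor.map_comp_apply, ← op_comp, e'_e, op_id,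
      Functor.map_id_apply]
    rfl
  rw [c1, n2, hT a]
  show φ.hom.app _ (F.obj.map (θ a).op (t a)) = _
  rw [n3, ht a]
  simp only [← Functor.map_comp_apply, ← op_comp]
  rw [fac a]

theorem preserves_epi (hB : BigSite.PropB f) {F G : Sh X} (φ : F ⟶ G) (hφ : Epi φ) :
    Epi ((pushSh f).map φ) := by
  rw [← Sheaf.isLocallySurjective_iff_epi] at hφ ⊢
  constructor
  intro V s
  haveI := hφ
  have hT : Presheaf.imageSieve φ.hom s ∈ X.smallEtaleTopology ((EtCoh.bc f).obj V) :=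
    Presheaf.imageSieve_mem X.smallEtaleTopology φ.hom (U := op ((EtCoh.bc f).obj V)) s
  choose Ux ψx zx hTx hzx using fun x => exists_cov _ _ hT x
  choose tx htx using hTx
  have het : ∀ x, Etale ((ψx x).left ≫ (sig f V).hom) := by
    intro x
    have hψw : (ψx x).left ≫ hm ((EtCoh.bc f).obj V) = hm (Ux x) := MorphismProperty.Over.w (ψx x)
    haveI : Etale (ψx x).left := by
      have : Etale ((ψx x).left ≫ hm ((EtCoh.bc f).obj V)) := by rw [hψw]; infer_instance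
      exact Etale.of_comp (ψx x).left (hm ((EtCoh.bc f).obj V))
    infer_instance
  obtain ⟨κ, V', v', hv', hsurj, hW⟩ := hB V.left (hm V) ((EtCoh.bc f).obj V).left
    (fun x => (Ux x).left) (fun x => (ψx x).left ≫ (sig f V).hom) het (by
      intro x0
      refine ⟨(sig f V).inv.base x0, zx _, ?_⟩
      show (sig f V).hom.base ((ψx _).left.base (zx _)) = x0
      rw [hzx]
      show ((sig f V).inv ≫ (sig f V).hom).base x0 = x0
      rw [Iso.inv_hom_id]
      rfl)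
  apply mem_cov
  intro y
  obtain ⟨j, z, hz⟩ := hsurj y
  haveI := hv' j
  obtain ⟨μ, W, hd, hc, hfac⟩ := hW j
  refine ⟨V1 V (v' j), g1 V (v' j), z, ?_, hz⟩
  obtain ⟨t, ht⟩ := key f V φ s (v' j) W hd hc (fun a => by
    obtain ⟨i, h, hh⟩ := hfac a
    exact ⟨Ux i, ψx i, tx i, h, htx i, by rw [← hh]⟩)
  exact ⟨t, ht⟩

end Groth.Agent.H23.PropBLib
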