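import Mathlib
import Groth.Prelude.Def_BigSite
import Groth.Prelude.Def_EtOpen
import Groth.Agent.Lib.helper23.EtOpenSub
import Groth.Agent.Lib.helper23.AlmostCocont
import Groth.Agent.Lib.helper23.Glue
import Groth.Agent.Lib.helper23.PropBLib

set_option autoImplicit false
open CategoryTheory CategoryTheory.Limits AlgebraicGeometry Opposite
universe u w

namespace Groth.Agent.H23.PropALib

open EtDesc Groth.Agent.H23.EtOpenSub Groth.Agent.H23.Glue Groth.Agent.H23.AlmostCocont
  Groth.Agent.H23.PropBLib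

variable {X Y : Scheme.{u}}

/-- underlying sheaf of types. -/
noncomputable abbrev ty (F : EtCoh.Ab X) : X.Etaleᵒᵖ ⥤ Type (u + 1) :=
  F.obj ⋙ forget AddCommGrpCat.{u + 1}

lemma ty_isSheaf (F : EtCoh.Ab X) : Presieve.IsSheaf X.smallEtaleTopology (ty F) :=
  (isSheaf_iff_isSheaf_of_type _ _).1
    ((Presheaf.isSheaf_iff_isSheaf_forget _ _ (forget AddCommGrpCat.{u + 1})).1 F.property)

/-- complement of a clopen. -/
def cmpl {T : Scheme.{u}} (W : T.Opens) (hW : IsClosed (W : Set T)) : T.Opens :=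
  ⟨(W : Set T)ᶜ, hW.isOpen_compl⟩

/-- two-piece cover. -/
def two {T : Scheme.{u}} (W : T.Opens) (hW : IsClosed (W : Set T)) : Bool → T.Opens :=
  fun b => cond b W (cmpl W hW)

lemma two_disj {T : Scheme.{u}} (W : T.Opens) (hW : IsClosed (W : Set T)) :
    ∀ a b, a ≠ b → Disjoint (two W hW a) (two W hW b) := by
  have h1 : Disjoint W (cmpl W hW) := by
    rw [disjoint_iff]
    ext x
    constructor
    · rintro ⟨h1, h2⟩
      exact (h2 h1).elim
    · intro h
      exact h.elim
  intro a b hab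
  cases a <;> cases b
  · exact (hab rfl).elim
  · exact h1.symm
  · exact h1
  · exact (hab rfl).elim

lemma two_cover {T : Scheme.{u}} (W : T.Opens) (hW : IsClosed (W : Set T)) :
    (⨆ b, two W hW b) = ⊤ := by
  rw [eq_top_iff]
  intro x _
  by_cases hx : x ∈ W
  · exact TopologicalSpace.Opens.mem_iSup.2 ⟨true, hx⟩
  · exact TopologicalSpace.Opens.mem_iSup.2 ⟨false, hx⟩

lemma extend (F : EtCoh.Ab X) (U : X.Etale) (W : U.left.Opens) (hW : IsClosed (W : Set U.left))
    (t : F.obj.obj (op (opn U W))) :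
    ∃ s : F.obj.obj (op U), F.obj.map (incl U W).op s = t ∧
      F.obj.map (incl U (cmpl W hW)).op s = 0 := by
  let t' : ∀ b, (ty F).obj (op (opn U (two W hW b))) := fun b =>
    Bool.rec (motive := fun b => (ty F).obj (op (opn U (two W hW b))))
      (0 : F.obj.obj (op (opn U (cmpl W hW)))) t b
  obtain ⟨s, hs, -⟩ := glue (ty F) (ty_isSheaf F) U (two W hW) (two_disj W hW) (two_cover W hW) t'
  exact ⟨s, hs true, hs false⟩

lemma ext_two (F : EtCoh.Ab X) (U : X.Etale) (W : U.left.Opens) (hW : IsClosed (W : Set U.left))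
    (s s' : F.obj.obj (op U)) (h1 : F.obj.map (incl U W).op s = F.obj.map (incl U W).op s')
    (h2 : F.obj.map (incl U (cmpl W hW)).op s = F.obj.map (incl U (cmpl W hW)).op s') :
    s = s' := by
  let t' : ∀ b, (ty F).obj (op (opn U (two W hW b))) := fun b =>
    (ty F).map (incl U (two W hW b)).op s'
  obtain ⟨s0, -, hu⟩ := glue (ty F) (ty_isSheaf F) U (two W hW) (two_disj W hW) (two_cover W hW) t'
  have e1 : s = s0 := hu s (fun b => by cases b; exact h2; exact h1)
  have e2 : s' = s0 := hu s' (fun b => rfl)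
  exact e1.trans e2.symm

lemma localA (f : X ⟶ Y) (hA : BigSite.PropA f) (U : X.Etale) (u : U.left) :
    ∃ (V : Y.Etale) (W : (Q f V).left.Opens) (hW : IsClosed (W : Set (Q f V).left))
      (θ : opn (Q f V) W ⟶ U), u ∈ Set.range θ.left.base := by
  obtain ⟨V₀, v, hv, W, hW, h, hh, hu⟩ := hA U.left (hm U) u
  haveI := hv
  exact ⟨Scheme.Etale.mk v, W, hW, MorphismProperty.Over.homMk h hh, hu⟩

lemma nat_apply {F G : EtCoh.Ab X} (φ : F ⟶ G) {U U' : X.Etale} (k : U' ⟶ U)
    (s : F.obj.obj (op U)) :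
    φ.hom.app (op U') (F.obj.map k.op s) = G.obj.map k.op (φ.hom.app (op U) s) :=
  ConcreteCategory.congr_hom (φ.hom.naturality k.op) s

lemma map_e'_e (f : X ⟶ Y) (F : EtCoh.Ab X) (V : Y.Etale) (s : F.obj.obj (op (Q f V))) :
    F.obj.map (e' f V).op (F.obj.map (e f V).op s) = s := by
  have h : F.obj.map (e f V).op ≫ F.obj.map (e' f V).op = 𝟙 _ := by
    rw [← F.obj.map_comp, ← op_comp, e'_e, op_id, F.obj.map_id]
  exact ConcreteCategory.congr_hom h s

lemma inj_of_inj (f : X ⟶ Y) (hA : BigSite.PropA f) {F G : EtCoh.Ab X} (φ : F ⟶ G)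
    (h : ∀ V : Y.Etale, Function.Injective (φ.hom.app (op ((EtCoh.bc f).obj V)))) (U : X.Etale) :
    Function.Injective (φ.hom.app (op U)) := by
  rw [injective_iff_map_eq_zero]
  intro s hs
  have key : ∀ (V : Y.Etale) (W : (Q f V).left.Opens) (hW : IsClosed (W : Set (Q f V).left))
      (θ : opn (Q f V) W ⟶ U), F.obj.map θ.op s = 0 := by
    intro V W hW θ
    obtain ⟨s', h1, h2⟩ := extend F (Q f V) W hW (F.obj.map θ.op s)
    have z : φ.hom.app _ s' = 0 := by
      apply ext_two G (Q f V) W hW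
      · rw [← nat_apply, h1, nat_apply, hs, map_zero, map_zero]
      · rw [← nat_apply, h2, map_zero, map_zero]
    have z2 : F.obj.map (e f V).op s' = 0 := by
      apply h V
      rw [nat_apply, z, map_zero, map_zero]
    have z3 : s' = 0 := by
      rw [← map_e'_e f F V s', z2, map_zero]
    rw [← h1, z3, map_zero]
  let S : Sieve U :=
    { arrows := fun Z k => F.obj.map k.op s = 0
      downward_closed := by
        intro Z Z' k hk k'
        show F.obj.map (k' ≫ k).op s = 0
        rw [op_comp, F.obj.map_comp]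
        show F.obj.map k'.op (F.obj.map k.op s) = 0
        rw [hk, map_zero] }
  have hS : S ∈ X.smallEtaleTopology U := by
    apply mem_cov
    intro u
    obtain ⟨V, W, hW, θ, z, hz⟩ := localA f hA U u
    exact ⟨_, θ, z, key V W hW θ, hz⟩
  apply ((ty_isSheaf F).isSeparated _ hS).ext
  intro Z k hk
  show F.obj.map k.op s = F.obj.map k.op 0
  rw [map_zero]
  exact hk

lemma mono_iff_inj {F G : EtCoh.Ab X} (φ : F ⟶ G) :
    Mono φ ↔ ∀ U : X.Etale, Function.Injective (φ.hom.app (op U)) := by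
  constructor
  · intro h U
    have h1 : Mono φ.hom := (inferInstance : Mono ((sheafToPresheaf _ _).map φ))
    have h2 : Mono (φ.hom.app (op U)) := inferInstance
    exact (AddCommGrpCat.mono_iff_injective _).1 h2
  · intro h
    have : ∀ U : X.Etaleᵒᵖ, Mono (φ.hom.app U) :=
      fun U => (AddCommGrpCat.mono_iff_injective _).2 (h U.unop)
    have h1 : Mono φ.hom := NatTrans.mono_of_mono_app _
    exact Sheaf.Hom.mono_of_presheaf_mono _ _ φ

lemma reflects_mono (f : X ⟶ Y) (hA : BigSite.PropA f) {F G : EtCoh.Ab X} (φ : F ⟶ G)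
    (h : Mono ((EtCoh.push f).map φ)) : Mono φ := by
  rw [mono_iff_inj]
  have h' := (mono_iff_inj ((EtCoh.push f).map φ)).1 h
  exact inj_of_inj f hA φ (fun V => h' V)

lemma counit_epi (f : X ⟶ Y) (hA : BigSite.PropA f) (F : EtCoh.Ab X) :
    Epi ((EtCoh.pullPushAdj f).counit.app F) := by
  haveI : Sheaf.IsLocallySurjective ((EtCoh.pullPushAdj f).counit.app F) := by
    constructor
    intro U s
    apply mem_cov
    intro u
    obtain ⟨V, W, hW, θ, z, hz⟩ := localA f hA U u
    refine ⟨_, θ, z, ?_, hz⟩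
    obtain ⟨s', h1, -⟩ := extend F (Q f V) W hW (F.obj.map θ.op s)
    let s₁ : F.obj.obj (op ((EtCoh.bc f).obj V)) := F.obj.map (e f V).op s'
    let η := (EtCoh.pullPushAdj f).unit.app ((EtCoh.push f).obj F)
    have tri : ((EtCoh.pullPushAdj f).counit.app F).hom.app (op ((EtCoh.bc f).obj V))
        (η.hom.app (op V) s₁) = s₁ :=
      ConcreteCategory.congr_hom (congrArg (fun m => m.hom.app (op V))
        ((EtCoh.pullPushAdj f).right_triangle_components F)) s₁
    refine ⟨((EtCoh.pull f).obj ((EtCoh.push f).obj F)).obj.map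
      (incl (Q f V) W ≫ e' f V).op (η.hom.app (op V) s₁), ?_⟩
    have c1 := nat_apply ((EtCoh.pullPushAdj f).counit.app F) (incl (Q f V) W ≫ e' f V)
      (η.hom.app (op V) s₁)
    refine c1.trans ?_
    have c2 : F.obj.map (incl (Q f V) W ≫ e' f V).op s₁ = F.obj.map θ.op s := by
      rw [op_comp, F.obj.map_comp]
      show F.obj.map (incl (Q f V) W).op (F.obj.map (e' f V).op (F.obj.map (e f V).op s')) = _
      rw [map_e'_e, h1]
    refine Eq.trans ?_ c2
    exact congrArg (fun x => F.obj.map (incl (Q f V) W ≫ e' f V).op x) tri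
  exact Sheaf.epi_of_isLocallySurjective _

lemma reflects_epi (f : X ⟶ Y) (hA : BigSite.PropA f) {F G : EtCoh.Ab X} (φ : F ⟶ G)
    (h : Epi ((EtCoh.push f).map φ)) : Epi φ := by
  haveI := counit_epi f hA G
  haveI := counit_epi f hA F
  haveI : Epi ((EtCoh.pull f).map ((EtCoh.push f).map φ)) := inferInstance
  have nat := (EtCoh.pullPushAdj f).counit.naturality φ
  have : Epi ((EtCoh.pullPushAdj f).counit.app F ≫ φ) := by
    have e2 : (EtCoh.pullPushAdj f).counit.app F ≫ φ =
        (EtCoh.pull f).map ((EtCoh.push f).map φ) ≫ (EtCoh.pullPushAdj f).counit.app G := nat.symm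
    rw [e2]
    infer_instance
  exact epi_of_epi ((EtCoh.pullPushAdj f).counit.app F) φ

lemma faithful (f : X ⟶ Y) (hA : BigSite.PropA f) : (EtCoh.push f).Faithful := by
  constructor
  intro F G φ ψ h
  haveI := counit_epi f hA F
  have n1 := (EtCoh.pullPushAdj f).counit.naturality φ
  have n2 := (EtCoh.pullPushAdj f).counit.naturality ψ
  have : (EtCoh.pullPushAdj f).counit.app F ≫ φ = (EtCoh.pullPushAdj f).counit.app F ≫ ψ := by
    have e1 : (EtCoh.pullPushAdj f).counit.app F ≫ φ =
        (EtCoh.pull f).map ((EtCoh.push f).map φ) ≫ (EtCoh.pullPushAdj f).counit.app G := n1.symm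
    have e2 : (EtCoh.pullPushAdj f).counit.app F ≫ ψ =
        (EtCoh.pull f).map ((EtCoh.push f).map ψ) ≫ (EtCoh.pullPushAdj f).counit.app G := n2.symm
    rw [e1, e2, h]
  exact (cancel_epi _).1 this

end Groth.Agent.H23.PropALib
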