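import Mathlib
import Groth.Prelude.Def_BigSite
import Groth.Prelude.Def_EtOpen
import Groth.Agent.Lib.helper23.EtOpenSub

set_option autoImplicit false
open CategoryTheory CategoryTheory.Limits AlgebraicGeometry Opposite
universe u

namespace Groth.Agent.H23.PropCLib

open EtDesc Groth.Agent.H23.EtOpenSub

variable {X Y : Scheme.{u}} (f : X ⟶ Y)

lemma mono_iff_inj {F G : Sh X} (φ : F ⟶ G) :
    Mono φ ↔ ∀ U : X.Etale, Function.Injective (φ.hom.app (op U)) := by
  constructor
  · intro h U
    have h1 : Mono φ.hom := (inferInstance : Mono ((sheafToPresheaf _ _).map φ))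
    have h2 : Mono (φ.hom.app (op U)) := inferInstance
    exact (mono_iff_injective _).1 h2
  · intro h
    have : ∀ U : X.Etaleᵒᵖ, Mono (φ.hom.app U) := fun U => (mono_iff_injective _).2 (h U.unop)
    have h1 : Mono φ.hom := NatTrans.mono_of_mono_app _
    exact Sheaf.Hom.mono_of_presheaf_mono _ _ φ

/-- the cover supplied by condition (C). -/
lemma exists_cover (hC : BigSite.PropC f) (U : X.Etale) :
    ∃ (V : Y.Etale) (k : (EtCoh.bc f).obj V ⟶ U), Surjective k.left := by
  haveI : Etale (hm U) := U.prop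
  obtain ⟨V, v, hv, h, hh, hs⟩ := hC U.left (hm U)
  haveI := hv
  refine ⟨Scheme.Etale.mk v, MorphismProperty.Over.homMk ((pullbackSymmetry v f).hom ≫ h) ?_, ?_⟩
  · show ((pullbackSymmetry v f).hom ≫ h) ≫ hm U = pullback.snd v f
    rw [Category.assoc, hh, pullbackSymmetry_hom_comp_fst]
  · show Surjective ((pullbackSymmetry v f).hom ≫ h)
    infer_instance

lemma generate_mem {P U : X.Etale} (k : P ⟶ U) (hk : Surjective k.left) :
    Sieve.generate (Presieve.singleton k) ∈ X.smallEtaleTopology U := by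
  apply mem_cov
  intro v
  obtain ⟨z, hz⟩ := hk.surj v
  exact ⟨P, k, z, Sieve.le_generate _ _ _ (Presieve.singleton_self k), hz⟩

lemma reflects_mono (hC : BigSite.PropC f) {F G : Sh X} (φ : F ⟶ G)
    (h : Mono ((pushSh f).map φ)) : Mono φ := by
  rw [mono_iff_inj]
  have h' := (mono_iff_inj ((pushSh f).map φ)).1 h
  intro U s t hst
  obtain ⟨V, k, hk⟩ := exists_cover f hC U
  have hsh : Presieve.IsSheaf X.smallEtaleTopology F.obj :=
    (isSheaf_iff_isSheaf_of_type _ _).1 F.property
  have key : F.obj.map k.op s = F.obj.map k.op t := by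
    apply h' V
    show φ.hom.app (op ((EtCoh.bc f).obj V)) (F.obj.map k.op s) =
      φ.hom.app (op ((EtCoh.bc f).obj V)) (F.obj.map k.op t)
    have n1 := ConcreteCategory.congr_hom (φ.hom.naturality k.op) s
    have n2 := ConcreteCategory.congr_hom (φ.hom.naturality k.op) t
    simp only [ConcreteCategory.comp_apply] at n1 n2
    rw [n1, n2, hst]
  apply (hsh.isSeparated _ (generate_mem k hk)).ext
  rintro W _ ⟨Z, a, b, ⟨⟩, rfl⟩
  rw [op_comp, F.obj.map_comp]
  simp only [ConcreteCategory.comp_apply]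
  rw [key]

lemma reflects_epi (hC : BigSite.PropC f) {F G : Sh X} (φ : F ⟶ G)
    (h : Epi ((pushSh f).map φ)) : Epi φ := by
  rw [← Sheaf.isLocallySurjective_iff_epi] at h ⊢
  constructor
  intro U s
  obtain ⟨V, k, hk⟩ := exists_cover f hC U
  have hT := Presheaf.imageSieve_mem Y.smallEtaleTopology ((pushSh f).map φ).hom (U := op V)
    (G.obj.map k.op s)
  have hT' := (EtCoh.coverPreserving_bc f).cover_preserve hT
  have hP : Presheaf.imageSieve φ.hom (G.obj.map k.op s) ∈
      X.smallEtaleTopology ((EtCoh.bc f).obj V) := by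
    refine X.smallEtaleTopology.superset_covering ?_ hT'
    rintro W' _ ⟨V'', v', b', ⟨t, ht⟩, rfl⟩
    apply Sieve.downward_closed
    exact ⟨t, ht⟩
  refine X.smallEtaleTopology.transitive (generate_mem k hk) _ ?_
  rintro W _ ⟨Z, a, b, ⟨⟩, rfl⟩
  rw [Sieve.pullback_comp]
  apply X.smallEtaleTopology.pullback_stable
  rw [Presheaf.pullback_imageSieve]
  exact hP

end Groth.Agent.H23.PropCLib
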