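import Mathlib

set_option autoImplicit false
open CategoryTheory CategoryTheory.Limits Opposite
universe u

namespace Groth.Agent.H23.PullLocal

variable {C D : Type (u + 1)} [Category.{u} C] [Category.{u} D] (G : C ⥤ D)
  (J : GrothendieckTopology C) (K : GrothendieckTopology D) [G.IsContinuous J K]
  (A : Type (u + 2)) [Category.{u + 1} A]
  [HasWeakSheafify K A] [∀ F : Cᵒᵖ ⥤ A, G.op.HasPointwiseLeftKanExtension F]

/-- the constructed adjunction -/
noncomputable abbrev cadj :
    Functor.sheafPullbackConstruction.sheafPullback G A J K ⊣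
      G.sheafPushforwardContinuous A J K :=
  Functor.sheafPullbackConstruction.sheafAdjunctionContinuous G A J K

lemma unit_hom (F : Sheaf J A) :
    ((cadj G J K A).unit.app F).hom =
      (G.op.lanUnit.app F.obj) ≫ Functor.whiskerLeft G.op (toSheafify K (G.op.lan.obj F.obj)) := by
  show (sheafToPresheaf J _).map ((cadj G J K A).unit.app F) = _
  simp only [cadj, Functor.sheafPullbackConstruction.sheafAdjunctionContinuous,
    Adjunction.map_restrictFullyFaithful_unit_app, Adjunction.comp_unit_app]
  simp only [Functor.comp_obj, Functor.whiskeringLeft_obj_obj, Functor.id_obj,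
    sheafificationAdjunction_unit_app, Functor.comp_map,
    Functor.whiskeringLeft_obj_map, Iso.refl_hom, NatTrans.id_app, Category.assoc]
  rw [Functor.lanAdjunction_unit]
  refine congrArg₂ (fun a b => a ≫ b) rfl ?_
  show _ ≫ G.op.whiskerLeft (𝟙 _) ≫ 𝟙 _ = _
  erw [Functor.whiskerLeft_id', Category.comp_id, Category.comp_id]
  rfl

variable {FA : A → A → Type*} {CA : A → Type (u + 1)} [∀ X Y, FunLike (FA X Y) (CA X) (CA Y)]
  [ConcreteCategory.{u + 1} A FA]
  [∀ P : Dᵒᵖ ⥤ A, Presheaf.IsLocallyInjective K (toSheafify K P)]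
  [∀ U : D, PreservesColimitsOfShape (CostructuredArrow G.op (op U)) (forget A)]
  [RepresentablyFlat G]

omit [G.IsContinuous J K] [HasWeakSheafify K A] in
/-- equality in the pointwise left Kan extension. -/
lemma lan_eq (P : Cᵒᵖ ⥤ A) {V : C} {U : D} (k : U ⟶ G.obj V) (s t : ToType (P.obj (op V)))
    (h : (G.op.lan.obj P).map k.op ((G.op.lanUnit.app P).app (op V) s) =
      (G.op.lan.obj P).map k.op ((G.op.lanUnit.app P).app (op V) t)) :
    ∃ (V' : C) (k' : U ⟶ G.obj V') (v : V' ⟶ V), k' ≫ G.map v = k ∧
      P.map v.op s = P.map v.op t := by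
  have hcol := Functor.isPointwiseLeftKanExtensionLeftKanExtensionUnit G.op P (op U)
  haveI : IsFiltered (CostructuredArrow G.op (op U)) :=
    IsFiltered.of_equivalence (structuredArrowOpEquivalence G U)
  let i : CostructuredArrow G.op (op U) := CostructuredArrow.mk (Y := op V) k.op
  have h2 : ((Functor.LeftExtension.mk _ (G.op.leftKanExtensionUnit P)).coconeAt (op U)).ι.app i s =
      ((Functor.LeftExtension.mk _ (G.op.leftKanExtensionUnit P)).coconeAt (op U)).ι.app i t :=
    (ConcreteCategory.comp_apply _ _ _).trans (h.trans (ConcreteCategory.comp_apply _ _ _).symm)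
  obtain ⟨j, f, g, hfg⟩ := Concrete.isColimit_exists_of_rep_eq
    (CostructuredArrow.proj G.op (op U) ⋙ P) hcol (i := i) (j := i) s t h2
  -- coequalize f and g
  let c := IsFiltered.coeq f g
  let q : j ⟶ c := IsFiltered.coeqHom f g
  have hq : f ≫ q = g ≫ q := IsFiltered.coeq_condition f g
  refine ⟨c.left.unop, c.hom.unop, (f ≫ q).left.unop, ?_, ?_⟩
  · have := CostructuredArrow.w (f ≫ q)
    exact congrArg Quiver.Hom.unop this
  · have e1 : P.map (f ≫ q).left s = P.map q.left (P.map f.left s) := by
      simp only [CostructuredArrow.comp_left, P.map_comp, ConcreteCategory.comp_apply]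
    have e2 : P.map (f ≫ q).left t = P.map q.left (P.map g.left t) := by
      rw [hq]
      simp only [CostructuredArrow.comp_left, P.map_comp, ConcreteCategory.comp_apply]
    show P.map (f ≫ q).left s = P.map (f ≫ q).left t
    rw [e1, e2]
    exact congrArg _ hfg

omit [RepresentablyFlat G]
  [∀ U : D, PreservesColimitsOfShape (CostructuredArrow G.op (op U)) (forget A)] in
lemma equalizer_mem (F : Sheaf J A) (V : C) (s t : ToType (F.obj.obj (op V)))
    (h : ((cadj G J K A).unit.app F).hom.app (op V) s =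
      ((cadj G J K A).unit.app F).hom.app (op V) t) :
    Presheaf.equalizerSieve (F := G.op.lan.obj F.obj) (X := op (G.obj V))
      ((G.op.lanUnit.app F.obj).app (op V) s) ((G.op.lanUnit.app F.obj).app (op V) t) ∈
        K (G.obj V) := by
  rw [unit_hom] at h
  apply Presheaf.equalizerSieve_mem K (toSheafify K (G.op.lan.obj F.obj))
  have e : ∀ x : ToType (F.obj.obj (op V)),
      ((G.op.lanUnit.app F.obj ≫ Functor.whiskerLeft G.op
        (toSheafify K (G.op.lan.obj F.obj))).app (op V)) x =
      (toSheafify K (G.op.lan.obj F.obj)).app (op (G.obj V))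
        ((G.op.lanUnit.app F.obj).app (op V) x) := fun x => ConcreteCategory.comp_apply _ _ _
  rw [← e, ← e]
  exact h

theorem local_eq_of_unit_eq (F : Sheaf J A) (V : C) (s t : ToType (F.obj.obj (op V)))
    (h : ((cadj G J K A).unit.app F).hom.app (op V) s =
      ((cadj G J K A).unit.app F).hom.app (op V) t) :
    ∃ T ∈ K (G.obj V), ∀ ⦃U : D⦄ (k : U ⟶ G.obj V), T k →
      ∃ (V' : C) (k' : U ⟶ G.obj V') (v : V' ⟶ V), k' ≫ G.map v = k ∧
        F.obj.map v.op s = F.obj.map v.op t :=
  ⟨_, equalizer_mem G J K A F V s t h, fun _ k hk => lan_eq G A F.obj k s t hk⟩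

omit [∀ P : Dᵒᵖ ⥤ A, Presheaf.IsLocallyInjective K (toSheafify K P)]
  [∀ U : D, PreservesColimitsOfShape (CostructuredArrow G.op (op U)) (forget A)] in
lemma unit_transfer (F : Sheaf J A) (V : C) (s t : ToType (F.obj.obj (op V)))
    (h : ((G.sheafAdjunctionContinuous A J K).unit.app F).hom.app (op V) s =
      ((G.sheafAdjunctionContinuous A J K).unit.app F).hom.app (op V) t) :
    ((cadj G J K A).unit.app F).hom.app (op V) s =
      ((cadj G J K A).unit.app F).hom.app (op V) t := by
  have e := Adjunction.unit_leftAdjointUniq_hom_app (G.sheafAdjunctionContinuous A J K)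
    (cadj G J K A) F
  rw [← e]
  exact (ConcreteCategory.comp_apply _ _ _).trans
    ((congrArg _ h).trans (ConcreteCategory.comp_apply _ _ _).symm)

theorem local_eq_of_unit_eq' (F : Sheaf J A) (V : C) (s t : ToType (F.obj.obj (op V)))
    (h : ((G.sheafAdjunctionContinuous A J K).unit.app F).hom.app (op V) s =
      ((G.sheafAdjunctionContinuous A J K).unit.app F).hom.app (op V) t) :
    ∃ T ∈ K (G.obj V), ∀ ⦃U : D⦄ (k : U ⟶ G.obj V), T k →
      ∃ (V' : C) (k' : U ⟶ G.obj V') (v : V' ⟶ V), k' ≫ G.map v = k ∧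
        F.obj.map v.op s = F.obj.map v.op t :=
  local_eq_of_unit_eq G J K A F V s t (unit_transfer G J K A F V s t h)

end Groth.Agent.H23.PullLocal
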