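import Mathlib
import Groth.Prelude.Def_SGA4b
import Groth.Agent.Lib.helper23.PullLocal
import Groth.Agent.Lib.helper23.AlmostCocont
import Groth.Agent.Lib.helper23.PropALib
import Groth.Agent.Lib.helper23.PropCLib

set_option autoImplicit false
open CategoryTheory CategoryTheory.Limits AlgebraicGeometry Opposite
universe u

namespace Groth.Agent.H23.PullSurj

open EtDesc Groth.Agent.H23.EtOpenSub Groth.Agent.H23.AlmostCocont

variable {X Y : Scheme.{u}} (f : X ⟶ Y)

instance presFiltAb (U : X.Etale) :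
    PreservesColimitsOfShape (CostructuredArrow (EtCoh.bc f).op (op U))
      (forget AddCommGrpCat.{u + 1}) := by
  haveI : IsFiltered (CostructuredArrow (EtCoh.bc f).op (op U)) :=
    IsFiltered.of_equivalence (structuredArrowOpEquivalence (EtCoh.bc f) U)
  have h : PreservesFilteredColimitsOfSize.{u + 1, u + 1} (forget AddCommGrpCat.{u + 1}) :=
    inferInstance
  have : PreservesFilteredColimitsOfSize.{u, u + 1} (forget AddCommGrpCat.{u + 1}) :=
    @preservesFilteredColimitsOfSize_of_univLE.{u + 1, u + 1, u, u + 1} _ _ _ _ _ _ _ h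
  exact PreservesFilteredColimitsOfSize.preserves_filtered_colimits _

set_option backward.isDefEq.respectTransparency.types false in
lemma pr_surj [Surjective f] (V : Y.Etale) : Function.Surjective (pr f V).base :=
  (inferInstance : Surjective (pullback.fst V.hom f)).surj

lemma cover_of_local [Surjective f] (V : Y.Etale) (S : Sieve V)
    (T : Sieve ((EtCoh.bc f).obj V)) (hT : T ∈ X.smallEtaleTopology _)
    (h : ∀ ⦃U : X.Etale⦄ (k : U ⟶ (EtCoh.bc f).obj V), T k →
      ∃ (V' : Y.Etale) (k' : U ⟶ (EtCoh.bc f).obj V') (v : V' ⟶ V),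
        k' ≫ (EtCoh.bc f).map v = k ∧ S v) :
    S ∈ Y.smallEtaleTopology V := by
  apply mem_cov
  intro y
  obtain ⟨x, hx⟩ := pr_surj f V y
  obtain ⟨U, k, z, hk, hz⟩ := exists_cov _ T hT x
  obtain ⟨V', k', v, hkv, hv⟩ := h k hk
  refine ⟨V', v, (pr f V').base (k'.left.base z), hv, ?_⟩
  have h1 := congrArg (fun φ => φ.base (k'.left.base z)) (pr_w f v)
  have h2 : (pr f V).base (((EtCoh.bc f).map v).left.base (k'.left.base z)) =
      v.left.base ((pr f V').base (k'.left.base z)) := h1
  rw [← h2, ← hx, ← hz, ← hkv]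
  rfl

theorem unit_inj_ab [Surjective f] (F : EtCoh.Ab Y) (V : Y.Etale) :
    Function.Injective (((EtCoh.pullPushAdj f).unit.app F).hom.app (op V)) := by
  intro s t h
  obtain ⟨T, hT, hloc⟩ := PullLocal.local_eq_of_unit_eq' (EtCoh.bc f) Y.smallEtaleTopology
    X.smallEtaleTopology AddCommGrpCat.{u + 1} F V s t h
  have hS : Presheaf.equalizerSieve (F := F.obj) (X := op V) s t ∈ Y.smallEtaleTopology V :=
    cover_of_local f V _ T hT hloc
  exact ((PropALib.ty_isSheaf F).isSeparated _ hS).ext (fun _ _ hf => hf)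

theorem unit_inj_sh [Surjective f] (F : EtDesc.Sh Y) (V : Y.Etale) :
    Function.Injective (((EtDesc.adjSh f).unit.app F).hom.app (op V)) := by
  intro s t h
  obtain ⟨T, hT, hloc⟩ := PullLocal.local_eq_of_unit_eq' (EtCoh.bc f) Y.smallEtaleTopology
    X.smallEtaleTopology (Type (u + 1)) F V s t h
  have hS : Presheaf.equalizerSieve (F := F.obj) (X := op V) s t ∈ Y.smallEtaleTopology V :=
    cover_of_local f V _ T hT hloc
  exact ((((isSheaf_iff_isSheaf_of_type _ _).1 F.property)).isSeparated _ hS).ext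
    (fun _ _ hf => hf)

theorem mono_unit_ab [Surjective f] (F : EtCoh.Ab Y) :
    Mono ((EtCoh.pullPushAdj f).unit.app F) :=
  (PropALib.mono_iff_inj _).2 (unit_inj_ab f F)

theorem mono_unit_sh [Surjective f] (F : EtDesc.Sh Y) :
    Mono ((EtDesc.adjSh f).unit.app F) :=
  (PropCLib.mono_iff_inj _).2 (unit_inj_sh f F)

theorem faithful_pullSh [Surjective f] : (EtDesc.pullSh f).Faithful :=
  haveI := mono_unit_sh f
  (EtDesc.adjSh f).faithful_L_of_mono_unit_app

theorem reflectsIso_pullSh [Surjective f] : (EtDesc.pullSh f).ReflectsIsomorphisms := by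
  haveI := faithful_pullSh f
  haveI : Balanced (EtDesc.Sh Y) := inferInstance
  exact reflectsIsomorphisms_of_reflectsMonomorphisms_of_reflectsEpimorphisms _

end Groth.Agent.H23.PullSurj
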