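import Mathlib
import Groth.Prelude.Def_SGA4b
import Groth.Agent.Lib.helper23.PullSurj

set_option autoImplicit false
open CategoryTheory CategoryTheory.Limits AlgebraicGeometry Opposite
universe u

namespace Groth.Agent.H23.AgreeOpen

open EtDesc Groth.Agent.H23.EtOpenSub Groth.Agent.H23.AlmostCocont

variable {S : Scheme.{u}} (F : EtCoh.Ab S) (s t : EtCoh.sect F (EtCoh.top S))

/-- the set where `s` and `t` agree étale-locally. -/
def Wset : Set S := {y | ∃ (V : S.Etale) (v : V ⟶ EtCoh.top S) (z : V.left),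
  F.obj.map v.op s = F.obj.map v.op t ∧ (hm V).base z = y}

lemma isOpen_Wset : IsOpen (Wset F s t) := by
  rw [isOpen_iff_forall_mem_open]
  rintro y ⟨V, v, z, hv, hz⟩
  refine ⟨Set.range (hm V).base, ?_, isOpen_range_hm V, ⟨z, hz⟩⟩
  rintro _ ⟨z', rfl⟩
  exact ⟨V, v, z', hv, rfl⟩

def W : S.Opens := ⟨Wset F s t, isOpen_Wset F s t⟩

variable {T : Scheme.{u}} (f : T ⟶ S)

set_option backward.isDefEq.respectTransparency.types false in
lemma hm_bc (V : S.Etale) : hm ((EtCoh.bc f).obj V) = pullback.snd V.hom f := rfl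

set_option backward.isDefEq.respectTransparency.types false in
lemma pr_hm (V : S.Etale) : pr f V ≫ hm V = hm ((EtCoh.bc f).obj V) ≫ f :=
  pullback.condition

set_option backward.isDefEq.respectTransparency.types false in
lemma exists_point (V : S.Etale) (z : V.left) (x : T) (h : (hm V).base z = f.base x) :
    ∃ w : ((EtCoh.bc f).obj V).left, (pr f V).base w = z ∧
      (hm ((EtCoh.bc f).obj V)).base w = x := by
  obtain ⟨w, h1, h2⟩ := Scheme.Pullback.exists_preimage_pullback (f := V.hom) (g := f) z x h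
  exact ⟨w, h1, h2⟩

set_option backward.isDefEq.respectTransparency.types false in
lemma hm_top_inj : Function.Injective (hm ((EtCoh.bc f).obj (EtCoh.top S))).base := by
  haveI : IsIso (hm ((EtCoh.bc f).obj (EtCoh.top S))) := by
    rw [hm_bc]
    show IsIso (pullback.snd (𝟙 S) f)
    infer_instance
  intro a b hab
  have := congrArg (inv (hm ((EtCoh.bc f).obj (EtCoh.top S)))).base hab
  simpa [← Scheme.Hom.comp_apply] using this

lemma unit_nat {V V' : S.Etale} (v : V' ⟶ V) (a : F.obj.obj (op V)) :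
    ((EtCoh.pullPushAdj f).unit.app F).hom.app (op V') (F.obj.map v.op a) =
      ((EtCoh.pull f).obj F).obj.map ((EtCoh.bc f).map v).op
        (((EtCoh.pullPushAdj f).unit.app F).hom.app (op V) a) :=
  PropALib.nat_apply ((EtCoh.pullPushAdj f).unit.app F) v a

theorem forward (h : Set.range f.base ⊆ (W F s t : Set S)) :
    ((EtCoh.pullPushAdj f).unit.app F).hom.app (op (EtCoh.top S)) s =
      ((EtCoh.pullPushAdj f).unit.app F).hom.app (op (EtCoh.top S)) t := by
  set G := (EtCoh.pull f).obj F with hG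
  have hS : Presheaf.equalizerSieve (F := G.obj) (X := op ((EtCoh.bc f).obj (EtCoh.top S)))
      (((EtCoh.pullPushAdj f).unit.app F).hom.app (op (EtCoh.top S)) s)
      (((EtCoh.pullPushAdj f).unit.app F).hom.app (op (EtCoh.top S)) t) ∈
        T.smallEtaleTopology _ := by
    apply mem_cov
    intro x'
    obtain ⟨V, v, z, hv, hz⟩ := h ⟨(hm ((EtCoh.bc f).obj (EtCoh.top S))).base x', rfl⟩
    obtain ⟨w, hw1, hw2⟩ := exists_point f V z _ hz
    refine ⟨(EtCoh.bc f).obj V, (EtCoh.bc f).map v, w, ?_, ?_⟩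
    · show G.obj.map ((EtCoh.bc f).map v).op _ = G.obj.map ((EtCoh.bc f).map v).op _
      rw [← unit_nat, ← unit_nat, hv]
    · apply hm_top_inj f
      rw [← hw2]
      have hw : ((EtCoh.bc f).map v).left ≫ hm ((EtCoh.bc f).obj (EtCoh.top S)) =
        hm ((EtCoh.bc f).obj V) := MorphismProperty.Over.w ((EtCoh.bc f).map v)
      rw [← hw]
      rfl
  exact ((PropALib.ty_isSheaf G).isSeparated _ hS).ext (fun _ _ hf => hf)

theorem backward (h : ((EtCoh.pullPushAdj f).unit.app F).hom.app (op (EtCoh.top S)) s =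
      ((EtCoh.pullPushAdj f).unit.app F).hom.app (op (EtCoh.top S)) t) :
    Set.range f.base ⊆ (W F s t : Set S) := by
  obtain ⟨T', hT', hloc⟩ := PullLocal.local_eq_of_unit_eq' (EtCoh.bc f) S.smallEtaleTopology
    T.smallEtaleTopology AddCommGrpCat.{u + 1} F (EtCoh.top S) s t h
  rintro _ ⟨x, rfl⟩
  obtain ⟨x', -, hx'⟩ := exists_point f (EtCoh.top S) (f.base x) x rfl
  obtain ⟨U, k, z, hk, hz⟩ := exists_cov _ T' hT' x'
  obtain ⟨V', k', v, hkv, hv⟩ := hloc k hk
  refine ⟨V', v, (pr f V').base (k'.left.base z), hv, ?_⟩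
  have h1 := congrArg (fun φ => φ.base (k'.left.base z)) (pr_hm f V')
  have h2 : (hm V').base ((pr f V').base (k'.left.base z)) =
      f.base ((hm ((EtCoh.bc f).obj V')).base (k'.left.base z)) := h1
  rw [h2]
  congr 1
  have hk'w : k'.left ≫ hm ((EtCoh.bc f).obj V') = hm U := MorphismProperty.Over.w k'
  have hkw : k.left ≫ hm ((EtCoh.bc f).obj (EtCoh.top S)) = hm U := MorphismProperty.Over.w k
  have e1 : (hm ((EtCoh.bc f).obj V')).base (k'.left.base z) = (hm U).base z := by
    rw [← hk'w]; rfl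
  have e2 : (hm ((EtCoh.bc f).obj (EtCoh.top S))).base (k.left.base z) = (hm U).base z := by
    rw [← hkw]; rfl
  rw [e1, ← e2, hz, hx']

theorem main : ∃ W : S.Opens, ∀ (T : Scheme.{u}) (f : T ⟶ S),
      Set.range f.base ⊆ (W : Set S) ↔
        ((EtCoh.pullPushAdj f).unit.app F).hom.app (op (EtCoh.top S)) s =
          ((EtCoh.pullPushAdj f).unit.app F).hom.app (op (EtCoh.top S)) t :=
  ⟨W F s t, fun _ f => ⟨forward F s t f, backward F s t f⟩⟩

end Groth.Agent.H23.AgreeOpen
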