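import Mathlib
import Groth.Prelude.Def_AnCl

set_option autoImplicit false
open CategoryTheory CategoryTheory.Limits TopologicalSpace Topology Opposite
universe u

namespace Groth.Agent.Lib.helper23.AnClLib

open An

variable (T : Type u) [TopologicalSpace T]

instance : (opensToCl T).Faithful where
  map_injective _ := Subsingleton.elim _ _

lemma le_of_hom {U V : Opens T} (φ : (opensToCl T).obj U ⟶ (opensToCl T).obj V) : U ≤ V := by
  intro x hx
  have h := φ.over ⟨x, hx⟩
  let y : V := φ.toFun ⟨x, hx⟩
  have h2 : (y : T) = x := h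
  rw [← h2]
  exact y.2

instance : (opensToCl T).Full where
  map_surjective {U V} φ := by
    refine ⟨homOfLE (le_of_hom T φ), ?_⟩
    apply Cl.hom_ext
    funext a
    apply Subtype.ext
    exact (φ.over a).symm

instance : (opensToCl T).IsCoverDense (Cl.topology T) where
  is_cover B := by
    intro b
    obtain ⟨e, hb, he⟩ := B.lh b
    let V : Opens T := ⟨e.target, e.open_target⟩
    let g : (opensToCl T).obj V ⟶ B :=
      { toFun := fun v => e.symm v.1
        continuous := by
          have := e.symm.continuousOn.domRestrict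
          exact this
        «over» := fun v => by
          change B.p (e.symm v.1) = v.1
          rw [he]
          exact e.right_inv v.2 }
    refine ⟨(opensToCl T).obj V, g, ?_, ?_, ?_⟩
    · exact ⟨⟨V, 𝟙 _, g, Category.id_comp _⟩⟩
    · exact e.symm.isOpenEmbedding_restrict
    · exact ⟨⟨e b, e.map_source hb⟩, e.left_inv hb⟩

instance : (opensToCl T).IsDenseSubsite (Opens.grothendieckTopology T) (Cl.topology T) where
  functorPushforward_mem_iff {U S} := by
    constructor
    · intro h x hx
      obtain ⟨B, g, hSg, hg, b, hb⟩ := h ⟨x, hx⟩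
      obtain ⟨V, f, k, hSf, hgk⟩ := hSg
      refine ⟨V, f, hSf, ?_⟩
      let y : V := k.toFun b
      have h1 : ((opensToCl T).obj U).p (g.toFun b) = x := congrArg Subtype.val hb
      rw [hgk] at h1
      have h2 : ((opensToCl T).obj U).p ((k ≫ (opensToCl T).map f).toFun b) = (y : T) := rfl
      rw [h2] at h1
      rw [← h1]
      exact y.2
    · intro h a
      obtain ⟨V, f, hSf, hxV⟩ := h a.1 a.2
      refine ⟨(opensToCl T).obj V, (opensToCl T).map f, Sieve.image_mem_functorPushforward _ S hSf,
        ?_, ⟨⟨a.1, hxV⟩, Subtype.ext rfl⟩⟩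
      exact TopologicalSpace.Opens.isOpenEmbedding_of_le f.le

end Groth.Agent.Lib.helper23.AnClLib
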