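import Mathlib

/-! Pushouts of commutative rings as tensor products, at the level of ring homomorphisms. -/

set_option autoImplicit false

open TensorProduct

universe u

namespace Groth.Agent.Lib.helper23.PushoutAlg

variable {C A B : Type u} [CommRing C] [CommRing A] [CommRing B]

/-- the pushout of `A ← C → B` -/
def PO (f : C →+* A) (g : C →+* B) : Type u :=
  letI := f.toAlgebra
  letI := g.toAlgebra
  A ⊗[C] B

variable (f : C →+* A) (g : C →+* B)

noncomputable instance : CommRing (PO f g) :=
  letI := f.toAlgebra
  letI := g.toAlgebra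
  (inferInstance : CommRing (A ⊗[C] B))

/-- left inclusion -/
noncomputable def inl : A →+* PO f g :=
  letI := f.toAlgebra
  letI := g.toAlgebra
  (Algebra.TensorProduct.includeLeftRingHom : A →+* A ⊗[C] B)

/-- right inclusion -/
noncomputable def inr : B →+* PO f g :=
  letI := f.toAlgebra
  letI := g.toAlgebra
  (Algebra.TensorProduct.includeRight : B →ₐ[C] A ⊗[C] B).toRingHom

lemma inl_comp : (inl f g).comp f = (inr f g).comp g := by
  letI := f.toAlgebra
  letI := g.toAlgebra
  ext c
  show (f c) ⊗ₜ[C] (1 : B) = (1 : A) ⊗ₜ[C] (g c)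
  have h1 : f c = c • (1 : A) := by rw [Algebra.smul_def, mul_one]; rfl
  have h2 : g c = c • (1 : B) := by rw [Algebra.smul_def, mul_one]; rfl
  rw [h1, h2, TensorProduct.smul_tmul]

lemma inl_f_apply (c : C) : inl f g (f c) = inr f g (g c) := RingHom.congr_fun (inl_comp f g) c

/-- every element is a sum of products -/
lemma induction_on {motive : PO f g → Prop} (z : PO f g) (zero : motive 0)
    (mul : ∀ a b, motive (inl f g a * inr f g b))
    (add : ∀ x y, motive x → motive y → motive (x + y)) : motive z := by
  letI := f.toAlgebra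
  letI := g.toAlgebra
  have key : ∀ z : A ⊗[C] B, motive z := by
    intro z
    induction z using TensorProduct.induction_on with
    | zero => exact zero
    | tmul a b =>
        have h := mul a b
        have e : inl f g a * inr f g b = (a ⊗ₜ[C] b : A ⊗[C] B) := by
          show (a ⊗ₜ[C] (1 : B)) * ((1 : A) ⊗ₜ[C] b) = a ⊗ₜ[C] b
          rw [Algebra.TensorProduct.tmul_mul_tmul, mul_one, one_mul]
        rw [e] at h
        exact h
    | add x y hx hy => exact add x y hx hy
  exact key z

variable {f g}

lemma hom_ext {T : Type*} [Semiring T] {w w' : PO f g →+* T}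
    (h1 : w.comp (inl f g) = w'.comp (inl f g)) (h2 : w.comp (inr f g) = w'.comp (inr f g)) :
    w = w' := by
  ext z
  induction z using induction_on with
  | zero => rw [map_zero, map_zero]
  | mul a b =>
      rw [map_mul, map_mul]
      have e1 := RingHom.congr_fun h1 a
      have e2 := RingHom.congr_fun h2 b
      simp only [RingHom.comp_apply] at e1 e2
      rw [e1, e2]
  | add x y hx hy => rw [map_add, map_add, hx, hy]

/-- the universal map out of the pushout -/
noncomputable def desc {T : Type u} [CommRing T] (u : A →+* T) (v : B →+* T)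
    (h : u.comp f = v.comp g) : PO f g →+* T :=
  letI := f.toAlgebra
  letI := g.toAlgebra
  letI : Algebra C T := (u.comp f).toAlgebra
  (Algebra.TensorProduct.productMap
    ({ u with commutes' := fun _ => rfl } : A →ₐ[C] T)
    ({ v with commutes' := fun c => (RingHom.congr_fun h c).symm } : B →ₐ[C] T)).toRingHom

lemma desc_inl {T : Type u} [CommRing T] (u : A →+* T) (v : B →+* T)
    (h : u.comp f = v.comp g) (a : A) : desc u v h (inl f g a) = u a := by
  letI := f.toAlgebra
  letI := g.toAlgebra
  letI : Algebra C T := (u.comp f).toAlgebra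
  show (Algebra.TensorProduct.productMap
    ({ u with commutes' := fun _ => rfl } : A →ₐ[C] T)
    ({ v with commutes' := fun c => (RingHom.congr_fun h c).symm } : B →ₐ[C] T))
      (a ⊗ₜ[C] (1 : B)) = u a
  rw [Algebra.TensorProduct.productMap_apply_tmul]
  show u a * v 1 = u a
  rw [map_one, mul_one]

lemma desc_inr {T : Type u} [CommRing T] (u : A →+* T) (v : B →+* T)
    (h : u.comp f = v.comp g) (b : B) : desc u v h (inr f g b) = v b := by
  letI := f.toAlgebra
  letI := g.toAlgebra
  letI : Algebra C T := (u.comp f).toAlgebra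
  show (Algebra.TensorProduct.productMap
    ({ u with commutes' := fun _ => rfl } : A →ₐ[C] T)
    ({ v with commutes' := fun c => (RingHom.congr_fun h c).symm } : B →ₐ[C] T))
      ((1 : A) ⊗ₜ[C] b) = v b
  rw [Algebra.TensorProduct.productMap_apply_tmul]
  show u 1 * v b = v b
  rw [map_one, one_mul]

section Alg

variable {R : Type u} [CommRing R] [Algebra R C] [Algebra R A] [Algebra R B]

noncomputable instance instAlgebraPO (f : C →+* A) (g : C →+* B) : Algebra R (PO f g) :=
  ((inl f g).comp (algebraMap R A)).toAlgebra

lemma algebraMap_eq (f : C →+* A) (g : C →+* B) (r : R) :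
    algebraMap R (PO f g) r = inl f g (algebraMap R A r) := rfl

/-- left inclusion as an algebra map -/
noncomputable def inlₐ (f : C →+* A) (g : C →+* B) : A →ₐ[R] PO f g :=
  { inl f g with commutes' := fun _ => rfl }

variable (f : C →+* A) (g : C →+* B)
  (hf : ∀ r : R, f (algebraMap R C r) = algebraMap R A r)
  (hg : ∀ r : R, g (algebraMap R C r) = algebraMap R B r)

include hf hg in
lemma inr_algebraMap (r : R) : inr f g (algebraMap R B r) = inl f g (algebraMap R A r) := by
  rw [← hg r, ← hf r]
  exact (inl_f_apply f g (algebraMap R C r)).symm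

/-- right inclusion as an algebra map -/
noncomputable def inrₐ : B →ₐ[R] PO f g :=
  { inr f g with commutes' := fun r => inr_algebraMap f g hf hg r }

@[simp] lemma inlₐ_apply (a : A) : inlₐ (R := R) f g a = inl f g a := rfl

@[simp] lemma inrₐ_apply (b : B) : inrₐ f g hf hg b = inr f g b := rfl

/-- the universal algebra map out of the pushout -/
noncomputable def descₐ {T : Type u} [CommRing T] [Algebra R T] (u : A →ₐ[R] T) (v : B →ₐ[R] T)
    (h : ∀ c, u (f c) = v (g c)) : PO f g →ₐ[R] T :=
  { desc (f := f) (g := g) (u : A →+* T) (v : B →+* T) (RingHom.ext fun c => h c) with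
    commutes' := fun r => by
      have h1 := desc_inl (f := f) (g := g) (u : A →+* T) (v : B →+* T)
        (RingHom.ext fun c => h c) (algebraMap R A r)
      exact h1.trans (u.commutes r) }

lemma descₐ_inl {T : Type u} [CommRing T] [Algebra R T] (u : A →ₐ[R] T) (v : B →ₐ[R] T)
    (h : ∀ c, u (f c) = v (g c)) (a : A) : descₐ f g u v h (inl f g a) = u a :=
  desc_inl (f := f) (g := g) (u : A →+* T) (v : B →+* T) (RingHom.ext fun c => h c) a

lemma descₐ_inr {T : Type u} [CommRing T] [Algebra R T] (u : A →ₐ[R] T) (v : B →ₐ[R] T)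
    (h : ∀ c, u (f c) = v (g c)) (b : B) : descₐ f g u v h (inr f g b) = v b :=
  desc_inr (f := f) (g := g) (u : A →+* T) (v : B →+* T) (RingHom.ext fun c => h c) b

lemma algHom_ext {T : Type*} [Semiring T] [Algebra R T] {w w' : PO f g →ₐ[R] T}
    (h1 : ∀ a, w (inl f g a) = w' (inl f g a)) (h2 : ∀ b, w (inr f g b) = w' (inr f g b)) :
    w = w' := by
  have : (w : PO f g →+* T) = (w' : _ →+* T) :=
    hom_ext (RingHom.ext h1) (RingHom.ext h2)
  exact AlgHom.ext (fun z => RingHom.congr_fun this z)

include hf hg in
theorem finite_PO [Module.Finite R A] [Module.Finite R B] : Module.Finite R (PO f g) := by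
  let π : A ⊗[R] B →ₐ[R] PO f g :=
    Algebra.TensorProduct.productMap (inlₐ f g) (inrₐ f g hf hg)
  have hπ : Function.Surjective π := by
    intro z
    induction z using induction_on with
    | zero => exact ⟨0, map_zero _⟩
    | mul a b =>
        refine ⟨a ⊗ₜ b, ?_⟩
        rw [Algebra.TensorProduct.productMap_apply_tmul]
        rfl
    | add x y hx hy =>
        obtain ⟨x', rfl⟩ := hx
        obtain ⟨y', rfl⟩ := hy
        exact ⟨x' + y', map_add _ _ _⟩
  exact Module.Finite.of_surjective π.toLinearMap hπ

include hf hg in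
theorem etale_PO [Algebra.Etale R C] [Algebra.Etale R A] [Algebra.Etale R B] :
    Algebra.Etale R (PO f g) := by
  letI : Algebra C A := f.toAlgebra
  letI : Algebra C B := g.toAlgebra
  haveI : IsScalarTower R C A := IsScalarTower.of_algebraMap_eq (fun r => (hf r).symm)
  haveI : IsScalarTower R C B := IsScalarTower.of_algebraMap_eq (fun r => (hg r).symm)
  haveI : Algebra.Etale C A := Algebra.Etale.of_restrictScalars (R := R) (A := C) (B := A)
  haveI : SMulCommClass C R B := ⟨fun c r b => by
    simp only [Algebra.smul_def]
    exact mul_left_comm _ _ _⟩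
  haveI : Algebra.Etale R (B ⊗[C] A) := Algebra.Etale.comp R B (B ⊗[C] A)
  let e : (B ⊗[C] A) ≃ₐ[R] PO f g :=
    { (Algebra.TensorProduct.comm C B A).toRingEquiv with
      commutes' := fun r => by
        show (Algebra.TensorProduct.comm C B A) ((algebraMap R B r) ⊗ₜ[C] (1 : A)) =
          inl f g (algebraMap R A r)
        rw [Algebra.TensorProduct.comm_tmul]
        exact inr_algebraMap f g hf hg r }
  exact Algebra.Etale.of_equiv e

end Alg

end Groth.Agent.Lib.helper23.PushoutAlg
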