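import Mathlib
import Groth.Agent.Lib.helper23.PushoutAlg

/-! Base change of algebras along a ring homomorphism, via universal properties. -/

set_option autoImplicit false

open TensorProduct

universe u

namespace Groth.Agent.Lib.helper23.BCRing

open Groth.Agent.Lib.helper23.PushoutAlg

section BCT

variable {R R' : Type u} [CommRing R] [CommRing R'] (ρ : R →+* R')
  (A : Type u) [CommRing A] [Algebra R A]

/-- the base change `R' ⊗[R] A` along a ring homomorphism -/
@[reducible] def BCT : Type u :=
  letI := ρ.toAlgebra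
  R' ⊗[R] A

noncomputable instance : CommRing (BCT ρ A) :=
  letI := ρ.toAlgebra
  (inferInstance : CommRing (R' ⊗[R] A))

/-- left inclusion -/
noncomputable def BCT.inl : R' →+* BCT ρ A :=
  letI := ρ.toAlgebra
  (Algebra.TensorProduct.includeLeftRingHom : R' →+* R' ⊗[R] A)

/-- right inclusion -/
noncomputable def BCT.inr : A →+* BCT ρ A :=
  letI := ρ.toAlgebra
  (Algebra.TensorProduct.includeRight : A →ₐ[R] R' ⊗[R] A).toRingHom

lemma BCT.inl_rho (r : R) : BCT.inl ρ A (ρ r) = BCT.inr ρ A (algebraMap R A r) := by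
  letI := ρ.toAlgebra
  show (ρ r) ⊗ₜ[R] (1 : A) = (1 : R') ⊗ₜ[R] (algebraMap R A r)
  have h1 : ρ r = r • (1 : R') := by rw [Algebra.smul_def, mul_one]; rfl
  rw [h1, Algebra.algebraMap_eq_smul_one, TensorProduct.smul_tmul]

variable {ρ A}

lemma BCT.induction_on {motive : BCT ρ A → Prop} (z : BCT ρ A) (zero : motive 0)
    (mul : ∀ b a, motive (BCT.inl ρ A b * BCT.inr ρ A a))
    (add : ∀ x y, motive x → motive y → motive (x + y)) : motive z := by
  letI := ρ.toAlgebra
  have key : ∀ z : R' ⊗[R] A, motive z := by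
    intro z
    induction z using TensorProduct.induction_on with
    | zero => exact zero
    | tmul b a =>
        have h := mul b a
        have e : BCT.inl ρ A b * BCT.inr ρ A a = (b ⊗ₜ[R] a : R' ⊗[R] A) := by
          show (b ⊗ₜ[R] (1 : A)) * ((1 : R') ⊗ₜ[R] a) = b ⊗ₜ[R] a
          rw [Algebra.TensorProduct.tmul_mul_tmul, mul_one, one_mul]
        rw [e] at h
        exact h
    | add x y hx hy => exact add x y hx hy
  exact key z

lemma BCT.hom_ext {T : Type*} [Semiring T] {w w' : BCT ρ A →+* T}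
    (h1 : ∀ b, w (BCT.inl ρ A b) = w' (BCT.inl ρ A b))
    (h2 : ∀ a, w (BCT.inr ρ A a) = w' (BCT.inr ρ A a)) : w = w' := by
  ext z
  induction z using BCT.induction_on with
  | zero => rw [map_zero, map_zero]
  | mul b a => rw [map_mul, map_mul, h1, h2]
  | add x y hx hy => rw [map_add, map_add, hx, hy]

/-- the universal map out of the base change -/
noncomputable def BCT.desc {T : Type u} [CommRing T] (u : R' →+* T) (v : A →+* T)
    (h : ∀ r, u (ρ r) = v (algebraMap R A r)) : BCT ρ A →+* T :=
  letI := ρ.toAlgebra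
  letI : Algebra R T := (u.comp ρ).toAlgebra
  (Algebra.TensorProduct.productMap
    ({ u with commutes' := fun _ => rfl } : R' →ₐ[R] T)
    ({ v with commutes' := fun r => (h r).symm } : A →ₐ[R] T)).toRingHom

lemma BCT.desc_inl {T : Type u} [CommRing T] (u : R' →+* T) (v : A →+* T)
    (h : ∀ r, u (ρ r) = v (algebraMap R A r)) (b : R') :
    BCT.desc u v h (BCT.inl ρ A b) = u b := by
  letI := ρ.toAlgebra
  letI : Algebra R T := (u.comp ρ).toAlgebra
  show (Algebra.TensorProduct.productMap
    ({ u with commutes' := fun _ => rfl } : R' →ₐ[R] T)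
    ({ v with commutes' := fun r => (h r).symm } : A →ₐ[R] T)) (b ⊗ₜ[R] (1 : A)) = u b
  rw [Algebra.TensorProduct.productMap_apply_tmul]
  show u b * v 1 = u b
  rw [map_one, mul_one]

lemma BCT.desc_inr {T : Type u} [CommRing T] (u : R' →+* T) (v : A →+* T)
    (h : ∀ r, u (ρ r) = v (algebraMap R A r)) (a : A) :
    BCT.desc u v h (BCT.inr ρ A a) = v a := by
  letI := ρ.toAlgebra
  letI : Algebra R T := (u.comp ρ).toAlgebra
  show (Algebra.TensorProduct.productMap
    ({ u with commutes' := fun _ => rfl } : R' →ₐ[R] T)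
    ({ v with commutes' := fun r => (h r).symm } : A →ₐ[R] T)) ((1 : R') ⊗ₜ[R] a) = v a
  rw [Algebra.TensorProduct.productMap_apply_tmul]
  show u 1 * v a = v a
  rw [map_one, one_mul]

end BCT

section IsBC

variable {R R' A A' : Type u} [CommRing R] [CommRing R'] [CommRing A] [CommRing A']
  [Algebra R A] [Algebra R' A'] (ρ : R →+* R') (σ : A →+* A')

/-- `σ : A → A'` exhibits `A'` as the base change of `A` along `ρ : R → R'`. -/
def IsBCRing : Prop :=
  ∃ hσ : ∀ r, algebraMap R' A' (ρ r) = σ (algebraMap R A r),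
    Function.Bijective (BCT.desc (ρ := ρ) (algebraMap R' A') σ hσ)

variable {ρ σ}

lemma IsBCRing.compat (h : IsBCRing ρ σ) (r : R) : σ (algebraMap R A r) = algebraMap R' A' (ρ r) :=
  (h.1 r).symm

/-- existence part of the universal property -/
lemma IsBCRing.exists_desc (h : IsBCRing ρ σ) {T : Type u} [CommRing T] (u : R' →+* T) (v : A →+* T)
    (huv : ∀ r, u (ρ r) = v (algebraMap R A r)) :
    ∃ w : A' →+* T, (∀ b, w (algebraMap R' A' b) = u b) ∧ ∀ a, w (σ a) = v a := by
  obtain ⟨hσ, hbij⟩ := h
  let e : BCT ρ A ≃+* A' := RingEquiv.ofBijective _ hbij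
  refine ⟨(BCT.desc u v huv).comp (e.symm : A' →+* BCT ρ A), ?_, ?_⟩
  · intro b
    have : e.symm (algebraMap R' A' b) = BCT.inl ρ A b := by
      rw [RingEquiv.symm_apply_eq]
      exact (BCT.desc_inl (ρ := ρ) (algebraMap R' A') σ hσ b).symm
    simp only [RingHom.comp_apply, RingHom.coe_coe, this, BCT.desc_inl]
  · intro a
    have : e.symm (σ a) = BCT.inr ρ A a := by
      rw [RingEquiv.symm_apply_eq]
      exact (BCT.desc_inr (ρ := ρ) (algebraMap R' A') σ hσ a).symm
    simp only [RingHom.comp_apply, RingHom.coe_coe, this, BCT.desc_inr]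

/-- uniqueness part of the universal property -/
lemma IsBCRing.hom_ext (h : IsBCRing ρ σ) {T : Type*} [Semiring T] {w w' : A' →+* T}
    (h1 : ∀ b, w (algebraMap R' A' b) = w' (algebraMap R' A' b))
    (h2 : ∀ a, w (σ a) = w' (σ a)) : w = w' := by
  obtain ⟨hσ, hbij⟩ := h
  have hcomp : w.comp (BCT.desc (ρ := ρ) (algebraMap R' A') σ hσ) =
      w'.comp (BCT.desc (ρ := ρ) (algebraMap R' A') σ hσ) := by
    apply BCT.hom_ext
    · intro b
      simp only [RingHom.comp_apply, BCT.desc_inl, h1]
    · intro a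
      simp only [RingHom.comp_apply, BCT.desc_inr, h2]
  ext a'
  obtain ⟨z, rfl⟩ := hbij.2 a'
  exact RingHom.congr_fun hcomp z

/-- the universal property characterizes base change -/
lemma isBCRing_of_universal (hσ : ∀ r, algebraMap R' A' (ρ r) = σ (algebraMap R A r))
    (hex : ∃ w : A' →+* BCT ρ A, (∀ b, w (algebraMap R' A' b) = BCT.inl ρ A b) ∧
      ∀ a, w (σ a) = BCT.inr ρ A a)
    (hext : ∀ w w' : A' →+* A', (∀ b, w (algebraMap R' A' b) = w' (algebraMap R' A' b)) →
      (∀ a, w (σ a) = w' (σ a)) → w = w') : IsBCRing ρ σ := by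
  refine ⟨hσ, ?_⟩
  obtain ⟨w, hw1, hw2⟩ := hex
  set θ := BCT.desc (ρ := ρ) (algebraMap R' A') σ hσ with hθ
  have h1 : w.comp θ = RingHom.id _ := by
    apply BCT.hom_ext
    · intro b
      simp only [RingHom.comp_apply, hθ, BCT.desc_inl, hw1, RingHom.id_apply]
    · intro a
      simp only [RingHom.comp_apply, hθ, BCT.desc_inr, hw2, RingHom.id_apply]
  have h2 : θ.comp w = RingHom.id _ := by
    apply hext
    · intro b
      simp only [RingHom.comp_apply, hw1, hθ, BCT.desc_inl, RingHom.id_apply]
    · intro a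
      simp only [RingHom.comp_apply, hw2, hθ, BCT.desc_inr, RingHom.id_apply]
  constructor
  · intro z z' hzz
    have := congrArg w hzz
    have e1 := RingHom.congr_fun h1 z
    have e2 := RingHom.congr_fun h1 z'
    simp only [RingHom.comp_apply, RingHom.id_apply] at e1 e2
    rw [← e1, ← e2, this]
  · intro a'
    exact ⟨w a', RingHom.congr_fun h2 a'⟩

end IsBC

section POBC

variable {R R' : Type u} [CommRing R] [CommRing R'] (ρ : R →+* R')
variable {C A B C' A' B' : Type u} [CommRing C] [CommRing A] [CommRing B]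
  [CommRing C'] [CommRing A'] [CommRing B']
  [Algebra R C] [Algebra R A] [Algebra R B] [Algebra R' C'] [Algebra R' A'] [Algebra R' B']
variable (f : C →+* A) (g : C →+* B) (f' : C' →+* A') (g' : C' →+* B')
variable (σC : C →+* C') (σA : A →+* A') (σB : B →+* B')

/-- the induced map on pushouts -/
noncomputable def POmap (hfσ : ∀ c, f' (σC c) = σA (f c)) (hgσ : ∀ c, g' (σC c) = σB (g c)) :
    PO f g →+* PO f' g' :=
  desc (f := f) (g := g) ((inl f' g').comp σA) ((inr f' g').comp σB) (by
    ext c
    simp only [RingHom.comp_apply]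
    rw [← hfσ, ← hgσ]
    exact inl_f_apply f' g' (σC c))

lemma POmap_inl (hfσ : ∀ c, f' (σC c) = σA (f c)) (hgσ : ∀ c, g' (σC c) = σB (g c)) (a : A) :
    POmap f g f' g' σC σA σB hfσ hgσ (inl f g a) = inl f' g' (σA a) := by
  unfold POmap
  rw [desc_inl]
  rfl

lemma POmap_inr (hfσ : ∀ c, f' (σC c) = σA (f c)) (hgσ : ∀ c, g' (σC c) = σB (g c)) (b : B) :
    POmap f g f' g' σC σA σB hfσ hgσ (inr f g b) = inr f' g' (σB b) := by
  unfold POmap
  rw [desc_inr]
  rfl

theorem isBCRing_POmap
    (hf : ∀ r : R, f (algebraMap R C r) = algebraMap R A r)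
    (hg : ∀ r : R, g (algebraMap R C r) = algebraMap R B r)
    (hf' : ∀ r : R', f' (algebraMap R' C' r) = algebraMap R' A' r)
    (hg' : ∀ r : R', g' (algebraMap R' C' r) = algebraMap R' B' r)
    (hfσ : ∀ c, f' (σC c) = σA (f c)) (hgσ : ∀ c, g' (σC c) = σB (g c))
    (hC : IsBCRing ρ σC) (hA : IsBCRing ρ σA) (hB : IsBCRing ρ σB) :
    IsBCRing ρ (POmap f g f' g' σC σA σB hfσ hgσ) := by
  set σD := POmap f g f' g' σC σA σB hfσ hgσ with hσD
  have hσ : ∀ r, algebraMap R' (PO f' g') (ρ r) = σD (algebraMap R (PO f g) r) := by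
    intro r
    rw [algebraMap_eq, algebraMap_eq, hσD, POmap_inl, hA.compat]
  have hinrD : ∀ r : R, inr f g (algebraMap R B r) = algebraMap R (PO f g) r :=
    fun r => inr_algebraMap f g hf hg r
  have hinrD' : ∀ r : R', inr f' g' (algebraMap R' B' r) = algebraMap R' (PO f' g') r :=
    fun r => inr_algebraMap f' g' hf' hg' r
  apply isBCRing_of_universal hσ
  · obtain ⟨wA, hwA1, hwA2⟩ := hA.exists_desc (BCT.inl ρ (PO f g))
      ((BCT.inr ρ (PO f g)).comp (inl f g)) (fun r => by
        rw [BCT.inl_rho]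
        rfl)
    obtain ⟨wB, hwB1, hwB2⟩ := hB.exists_desc (BCT.inl ρ (PO f g))
      ((BCT.inr ρ (PO f g)).comp (inr f g)) (fun r => by
        rw [BCT.inl_rho, RingHom.comp_apply, hinrD])
    have hcomp : wA.comp f' = wB.comp g' := by
      apply hC.hom_ext
      · intro b
        simp only [RingHom.comp_apply]
        rw [hf', hg', hwA1, hwB1]
      · intro c
        simp only [RingHom.comp_apply]
        rw [hfσ, hgσ, hwA2, hwB2]
        simp only [RingHom.comp_apply]
        rw [inl_f_apply]
    refine ⟨desc (f := f') (g := g') wA wB hcomp, ?_, ?_⟩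
    · intro b
      rw [algebraMap_eq, desc_inl, hwA1]
    · have : (desc (f := f') (g := g') wA wB hcomp).comp σD = BCT.inr ρ (PO f g) := by
        apply hom_ext
        · ext a
          simp only [RingHom.comp_apply]
          rw [hσD, POmap_inl, desc_inl, hwA2]
          rfl
        · ext b
          simp only [RingHom.comp_apply]
          rw [hσD, POmap_inr, desc_inr, hwB2]
          rfl
      intro d
      exact RingHom.congr_fun this d
  · intro w w' h1 h2
    apply hom_ext
    · apply hA.hom_ext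
      · intro b
        simp only [RingHom.comp_apply]
        rw [← algebraMap_eq]
        exact h1 b
      · intro a
        simp only [RingHom.comp_apply]
        rw [← POmap_inl f g f' g' σC σA σB hfσ hgσ a]
        exact h2 _
    · apply hB.hom_ext
      · intro b
        simp only [RingHom.comp_apply]
        rw [hinrD']
        exact h1 b
      · intro b
        simp only [RingHom.comp_apply]
        rw [← POmap_inr f g f' g' σC σA σB hfσ hgσ b]
        exact h2 _

end POBC

end Groth.Agent.Lib.helper23.BCRing
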