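import Mathlib

/-!
# Colimits over a category fibred in categories with terminal objects are exact
-/

universe u v₁ v₂ v₃ u₁ u₂ u₃

open CategoryTheory CategoryTheory.Limits Opposite

namespace FiberTerm

section LanEval

variable {C : Type u₁} [Category.{v₁} C] {D : Type u₂} [Category.{v₂} D]
  (E : Type u₃) [Category.{v₃} E]

set_option backward.defeqAttrib.useBackward true in
set_option backward.isDefEq.respectTransparency false in
/-- universe-general version of `lanEvaluationIsoColim` -/
noncomputable def lanEvalIsoColim (F : C ⥤ D) (X : D)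
    [∀ X : D, HasColimitsOfShape (CostructuredArrow F X) E] :
    F.lan ⋙ (evaluation D E).obj X ≅
      (Functor.whiskeringLeft _ _ E).obj (CostructuredArrow.proj F X) ⋙ colim :=
  NatIso.ofComponents (fun G =>
    IsColimit.coconePointUniqueUpToIso
    (Functor.isPointwiseLeftKanExtensionLeftKanExtensionUnit F G X)
    (colimit.isColimit _)) (fun {G₁ G₂} φ => by
      apply (Functor.isPointwiseLeftKanExtensionLeftKanExtensionUnit F G₁ X).hom_ext
      intro T
      have h₁ := fun (G : C ⥤ E) => IsColimit.comp_coconePointUniqueUpToIso_hom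
        (Functor.isPointwiseLeftKanExtensionLeftKanExtensionUnit F G X) (colimit.isColimit _) T
      have h₂ := congr_app (F.lanUnit.naturality φ) T.left
      dsimp at h₁ h₂ ⊢
      simp only [Category.assoc] at h₁ ⊢
      simp only [Functor.lan, Functor.lanUnit] at h₂ ⊢
      rw [reassoc_of% h₁, NatTrans.naturality_assoc, ← reassoc_of% h₂, h₁,
        ι_colimMap, Functor.whiskerLeft_app]
      rfl)


end LanEval

section General

variable {K : Type (u + 1)} [Category.{u} K]

lemma preservesLimitsOfShape_colim_of_isEmpty [IsEmpty K]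
    (J : Type) [SmallCategory J] :
    PreservesLimitsOfShape J (colim : (K ⥤ AddCommGrpCat.{u + 1}) ⥤ AddCommGrpCat.{u + 1}) := by
  refine ⟨fun {D} => ⟨fun {c} _ => ⟨?_⟩⟩⟩
  have hz : ∀ F : K ⥤ AddCommGrpCat.{u + 1}, IsZero (colim.obj F) := fun F => by
    rw [IsZero.iff_id_eq_zero]
    apply colimit.hom_ext
    intro j
    exact isEmptyElim j
  exact
    { lift := fun s => 0
      fac := fun s j => (hz _).eq_of_tgt _ _
      uniq := fun s m _ => (hz _).eq_of_tgt _ _ }

/-- colimit over a category with a terminal object is evaluation there -/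
noncomputable def colimIsoEval {T : K} (hT : IsTerminal T) :
    (colim : (K ⥤ AddCommGrpCat.{u + 1}) ⥤ AddCommGrpCat.{u + 1}) ≅ (evaluation K _).obj T :=
  NatIso.ofComponents
    (fun F => (colimit.isColimit F).coconePointUniqueUpToIso (colimitOfDiagramTerminal hT F))
    (by
      intro F G α
      apply colimit.hom_ext
      intro k
      simp only [colim_obj, colim_map, evaluation_obj_obj, evaluation_obj_map,
        ι_colimMap_assoc, colimit.comp_coconePointUniqueUpToIso_hom,
        colimit.comp_coconePointUniqueUpToIso_hom_assoc, coconeOfDiagramTerminal_ι_app,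
        NatTrans.naturality])

lemma preservesLimitsOfShape_colim_of_isTerminal {T : K} (hT : IsTerminal T)
    (J : Type) [SmallCategory J] :
    PreservesLimitsOfShape J (colim : (K ⥤ AddCommGrpCat.{u + 1}) ⥤ AddCommGrpCat.{u + 1}) :=
  preservesLimitsOfShape_of_natIso (colimIsoEval hT).symm

end General

variable {I : Type (u + 1)} [Category.{u} I] {Φ : Type (u + 1)} (p : I ⥤ Discrete Φ)
  (hp : ∀ φ : Discrete Φ, IsEmpty (CostructuredArrow p φ) ∨
    ∃ T : CostructuredArrow p φ, Nonempty (IsTerminal T))

include hp in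
lemma plan_preservesFiniteLimits :
    PreservesFiniteLimits (p.lan :
      (I ⥤ AddCommGrpCat.{u + 1}) ⥤ (Discrete Φ ⥤ AddCommGrpCat.{u + 1})) := by
  apply preservesFiniteLimits_of_preservesFiniteLimitsOfSize.{0}
  intro J _ _
  apply preservesLimitsOfShape_of_evaluation _ J
  intro φ
  rcases hp φ with he | ⟨T, ⟨hT⟩⟩
  · have := preservesLimitsOfShape_colim_of_isEmpty (K := CostructuredArrow p φ) J
    exact preservesLimitsOfShape_of_natIso (lanEvalIsoColim _ _ _).symm
  · have := preservesLimitsOfShape_colim_of_isTerminal hT J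
    exact preservesLimitsOfShape_of_natIso (lanEvalIsoColim _ _ _).symm

/-- colimit over `I` factors through the left Kan extension to `Φ`. -/
noncomputable def colimIso :
    (colim : (I ⥤ AddCommGrpCat.{u + 1}) ⥤ AddCommGrpCat.{u + 1}) ≅ p.lan ⋙ colim :=
  Adjunction.leftAdjointUniq colimConstAdj
    (((p.lanAdjunction AddCommGrpCat.{u + 1}).comp colimConstAdj).ofNatIsoRight
      (Functor.constCompWhiskeringLeftIso I p))

include hp in
lemma colim_preservesFiniteLimits :
    PreservesFiniteLimits (colim : (I ⥤ AddCommGrpCat.{u + 1}) ⥤ AddCommGrpCat.{u + 1}) := by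
  have h1 := plan_preservesFiniteLimits p hp
  have h2 : PreservesFiniteLimits
      (colim : (Discrete Φ ⥤ AddCommGrpCat.{u + 1}) ⥤ AddCommGrpCat.{u + 1}) :=
    inferInstance
  have h3 : PreservesFiniteLimits (p.lan ⋙
      (colim : (Discrete Φ ⥤ AddCommGrpCat.{u + 1}) ⥤ AddCommGrpCat.{u + 1})) :=
    comp_preservesFiniteLimits _ _
  exact preservesFiniteLimits_of_natIso (colimIso p).symm

end FiberTerm
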