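import Mathlib
import Groth.Agent.Lib.helper23.FiberTerm

/-!
# Left Kan extension along a flat functor between large sites is exact
-/

universe u

open CategoryTheory CategoryTheory.Limits Opposite

namespace FlatLan

variable {C D : Type (u + 1)} [Category.{u} C] [Category.{u} D] (G : C ⥤ D)

lemma colim_preservesLimitsOfShape_of_filtered (K : Type (u + 1)) [Category.{u} K] [IsFiltered K]
    (J : Type) [SmallCategory J] [FinCategory J] :
    PreservesLimitsOfShape J
      (colim : (K ⥤ AddCommGrpCat.{u + 1}) ⥤ AddCommGrpCat.{u + 1}) := by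
  have h : PreservesFilteredColimitsOfSize.{u + 1, u + 1} (forget AddCommGrpCat.{u + 1}) :=
    inferInstance
  have : PreservesFilteredColimitsOfSize.{u, u + 1} (forget AddCommGrpCat.{u + 1}) :=
    @preservesFilteredColimitsOfSize_of_univLE.{u + 1, u + 1, u, u + 1} _ _ _ _ _ _ _ h
  have : PreservesColimitsOfShape K (forget AddCommGrpCat.{u + 1}) :=
    PreservesFilteredColimitsOfSize.preserves_filtered_colimits K
  infer_instance

theorem lan_preservesFiniteLimits_of_flat [RepresentablyFlat G] :
    PreservesFiniteLimits (G.op.lan :
      (Cᵒᵖ ⥤ AddCommGrpCat.{u + 1}) ⥤ (Dᵒᵖ ⥤ AddCommGrpCat.{u + 1})) := by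
  apply preservesFiniteLimits_of_preservesFiniteLimitsOfSize.{0}
  intro J _ _
  apply preservesLimitsOfShape_of_evaluation _ J
  intro K
  have : IsFiltered (CostructuredArrow G.op K) :=
    IsFiltered.of_equivalence (structuredArrowOpEquivalence G (unop K))
  have := colim_preservesLimitsOfShape_of_filtered (CostructuredArrow G.op K) J
  exact preservesLimitsOfShape_of_natIso (FiberTerm.lanEvalIsoColim _ _ _).symm

theorem sheafPullback_preservesFiniteLimits [RepresentablyFlat G]
    (J : GrothendieckTopology C) (K : GrothendieckTopology D) [G.IsContinuous J K]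
    [HasSheafify K AddCommGrpCat.{u + 1}] :
    PreservesFiniteLimits (G.sheafPullback AddCommGrpCat.{u + 1} J K) := by
  have := lan_preservesFiniteLimits_of_flat G
  have : PreservesFiniteLimits (G.op.lan ⋙
      presheafToSheaf K AddCommGrpCat.{u + 1}) :=
    comp_preservesFiniteLimits _ _
  have h2 : PreservesFiniteLimits
      (Functor.sheafPullbackConstruction.sheafPullback G AddCommGrpCat.{u + 1} J K) := by
    unfold Functor.sheafPullbackConstruction.sheafPullback
    apply comp_preservesFiniteLimits
  exact preservesFiniteLimits_of_natIso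
    (Functor.sheafPullbackConstruction.sheafPullbackIso G AddCommGrpCat.{u + 1} J K).symm

end FlatLan
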