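import Mathlib
import Groth.Agent.Lib.helper23.FiberTerm

universe v u

open CategoryTheory CategoryTheory.Limits Opposite

namespace OverShriek

variable {𝒮 : Type (u + 1)} [Category.{u} 𝒮] {T S : 𝒮} (f : T ⟶ S) (W : Over S)

/-- the index category -/
abbrev II := CostructuredArrow (Over.map f).op (op W)

/-- the map to `T` determined by an object of the index category -/
def phi (A : II f W) : W.left ⟶ T :=
  A.hom.unop.left ≫ A.left.unop.hom

lemma phi_comp (A : II f W) : phi f W A ≫ f = W.hom := by
  have := Over.w A.hom.unop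
  simpa [phi] using this

lemma phi_eq_of_hom {A B : II f W} (g : A ⟶ B) : phi f W A = phi f W B := by
  have h1 : (Over.map f).op.map g.left ≫ B.hom = A.hom := CostructuredArrow.w g
  have h2 : B.hom.unop ≫ (Over.map f).map g.left.unop = A.hom.unop := by
    have := congrArg Quiver.Hom.unop h1
    simpa using this
  have h3 : B.hom.unop.left ≫ g.left.unop.left = A.hom.unop.left :=
    congrArg (fun k => k.left) h2
  have h4 : g.left.unop.left ≫ A.left.unop.hom = B.left.unop.hom :=
    Over.w g.left.unop
  unfold phi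
  calc A.hom.unop.left ≫ A.left.unop.hom
      = (B.hom.unop.left ≫ g.left.unop.left) ≫ A.left.unop.hom :=
        congrArg (· ≫ A.left.unop.hom) h3.symm
    _ = B.hom.unop.left ≫ (g.left.unop.left ≫ A.left.unop.hom) := Category.assoc _ _ _
    _ = B.hom.unop.left ≫ B.left.unop.hom := congrArg (B.hom.unop.left ≫ ·) h4

/-- the functor to the discrete category of maps `W ⟶ T` -/
def pp : II f W ⥤ Discrete (ULift.{u + 1} (W.left ⟶ T)) where
  obj A := ⟨⟨phi f W A⟩⟩
  map g := eqToHom (by rw [phi_eq_of_hom f W g])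
  map_id _ := Subsingleton.elim _ _
  map_comp _ _ := Subsingleton.elim _ _

variable (φ : W.left ⟶ T) (hφ : φ ≫ f = W.hom)

/-- the canonical map `W ⟶ Over.map f (Over.mk φ)` -/
def isoHom : W ⟶ (Over.map f).obj (Over.mk φ) :=
  Over.homMk (𝟙 W.left) (by
    show 𝟙 W.left ≫ (φ ≫ f) = W.hom
    rw [Category.id_comp, hφ])

/-- the terminal object of the fibre -/
def TT : II f W :=
  CostructuredArrow.mk (Y := op (Over.mk φ)) (isoHom f W φ hφ).op

lemma phi_TT : phi f W (TT f W φ hφ) = φ := by
  show 𝟙 W.left ≫ φ = φ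
  exact Category.id_comp _

/-- the object of the fibre category -/
def TTfib : CostructuredArrow (pp f W) ⟨⟨φ⟩⟩ :=
  CostructuredArrow.mk (Y := TT f W φ hφ) (eqToHom (by
    show (⟨⟨phi f W (TT f W φ hφ)⟩⟩ : Discrete (ULift.{u + 1} (W.left ⟶ T))) = ⟨⟨φ⟩⟩
    rw [phi_TT]))

lemma phi_of_fib (B : CostructuredArrow (pp f W) ⟨⟨φ⟩⟩) : phi f W B.left = φ := by
  have := Discrete.eq_of_hom B.hom
  exact congrArg ULift.down this

/-- the map to the terminal object -/
def toTT (B : CostructuredArrow (pp f W) ⟨⟨φ⟩⟩) : B.left ⟶ TT f W φ hφ :=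
  CostructuredArrow.homMk
    (Over.homMk (B.left.hom.unop.left) (phi_of_fib f W φ B) :
      Over.mk φ ⟶ B.left.left.unop).op (by
    apply Quiver.Hom.unop_inj
    apply Over.OverMorphism.ext
    show 𝟙 _ ≫ B.left.hom.unop.left = B.left.hom.unop.left
    exact Category.id_comp _)

/-- the fibre object is terminal -/
def isTerminalTTfib : IsTerminal (TTfib f W φ hφ) :=
  IsTerminal.ofUniqueHom
    (fun B => CostructuredArrow.homMk (toTT f W φ hφ B) (Subsingleton.elim _ _))
    (fun B m => by
      apply CostructuredArrow.hom_ext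
      apply CostructuredArrow.hom_ext
      apply Quiver.Hom.unop_inj
      apply Over.OverMorphism.ext
      have h1 := CostructuredArrow.w m.left
      have h2 := congrArg (fun k => k.unop.left) h1
      exact (Category.id_comp _).symm.trans h2)

lemma hp (ψ : Discrete (ULift.{u + 1} (W.left ⟶ T))) :
    IsEmpty (CostructuredArrow (pp f W) ψ) ∨
      ∃ T' : CostructuredArrow (pp f W) ψ, Nonempty (IsTerminal T') := by
  by_cases h : Nonempty (CostructuredArrow (pp f W) ψ)
  · right
    obtain ⟨B⟩ := h
    obtain ⟨⟨φ⟩⟩ := ψ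
    have hφ : φ ≫ f = W.hom := by
      rw [← phi_of_fib f W φ B]
      exact phi_comp f W B.left
    exact ⟨TTfib f W φ hφ, ⟨isTerminalTTfib f W φ hφ⟩⟩
  · left
    exact not_nonempty_iff.1 h

theorem lan_preservesFiniteLimits :
    PreservesFiniteLimits ((Over.map f).op.lan :
      ((Over T)ᵒᵖ ⥤ AddCommGrpCat.{u + 1}) ⥤ ((Over S)ᵒᵖ ⥤ AddCommGrpCat.{u + 1})) := by
  apply preservesFiniteLimits_of_preservesFiniteLimitsOfSize.{0}
  intro J _ _
  apply preservesLimitsOfShape_of_evaluation _ J
  intro W'
  obtain ⟨W⟩ := W'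
  have e7 := FiberTerm.colim_preservesFiniteLimits (pp f W) (hp f W)
  have e8 : PreservesLimitsOfShape J
      ((Functor.whiskeringLeft _ _ AddCommGrpCat.{u + 1}).obj
        (CostructuredArrow.proj (Over.map f).op (op W)) ⋙ colim) := inferInstance
  exact preservesLimitsOfShape_of_natIso (FiberTerm.lanEvalIsoColim _ _ _).symm

theorem sheafPullback_preservesFiniteLimits
    (J : GrothendieckTopology (Over T)) (K : GrothendieckTopology (Over S))
    [(Over.map f).IsContinuous J K] [HasSheafify K AddCommGrpCat.{u + 1}] :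
    PreservesFiniteLimits ((Over.map f).sheafPullback AddCommGrpCat.{u + 1} J K) := by
  have := lan_preservesFiniteLimits f
  have : PreservesFiniteLimits ((Over.map f).op.lan ⋙
      presheafToSheaf K AddCommGrpCat.{u + 1}) :=
    comp_preservesFiniteLimits _ _
  have h2 : PreservesFiniteLimits
      (Functor.sheafPullbackConstruction.sheafPullback (Over.map f) AddCommGrpCat.{u + 1} J K) := by
    unfold Functor.sheafPullbackConstruction.sheafPullback
    apply comp_preservesFiniteLimits
  exact preservesFiniteLimits_of_natIso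
    (Functor.sheafPullbackConstruction.sheafPullbackIso (Over.map f) AddCommGrpCat.{u + 1}
      J K).symm

end OverShriek
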