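import Mathlib
import Groth.Agent.Lib.helper23.FlatLan
import Groth.Agent.Lib.helper23.OverShriek

/-!
# Restriction of injective sheaves along continuous functors with exact left Kan extension
-/

universe u

open CategoryTheory CategoryTheory.Limits Opposite

namespace InjRestr

section Comp

variable {C D E : Type (u + 1)} [Category.{u} C] [Category.{u} D] [Category.{u} E]
  (G₁ : C ⥤ D) (G₂ : D ⥤ E)

/-- left Kan extension along a composite -/
noncomputable def lanCompIso :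
    ((G₁ ⋙ G₂).op.lan : (Cᵒᵖ ⥤ AddCommGrpCat.{u + 1}) ⥤ (Eᵒᵖ ⥤ AddCommGrpCat.{u + 1})) ≅
      G₁.op.lan ⋙ G₂.op.lan :=
  Adjunction.leftAdjointUniq ((G₁ ⋙ G₂).op.lanAdjunction AddCommGrpCat.{u + 1})
    ((G₁.op.lanAdjunction AddCommGrpCat.{u + 1}).comp (G₂.op.lanAdjunction AddCommGrpCat.{u + 1}))

lemma lan_comp_preservesFiniteLimits
    (h₁ : PreservesFiniteLimits (G₁.op.lan :
      (Cᵒᵖ ⥤ AddCommGrpCat.{u + 1}) ⥤ (Dᵒᵖ ⥤ AddCommGrpCat.{u + 1})))
    (h₂ : PreservesFiniteLimits (G₂.op.lan :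
      (Dᵒᵖ ⥤ AddCommGrpCat.{u + 1}) ⥤ (Eᵒᵖ ⥤ AddCommGrpCat.{u + 1}))) :
    PreservesFiniteLimits ((G₁ ⋙ G₂).op.lan :
      (Cᵒᵖ ⥤ AddCommGrpCat.{u + 1}) ⥤ (Eᵒᵖ ⥤ AddCommGrpCat.{u + 1})) := by
  have : PreservesFiniteLimits (G₁.op.lan ⋙ G₂.op.lan :
      (Cᵒᵖ ⥤ AddCommGrpCat.{u + 1}) ⥤ (Eᵒᵖ ⥤ AddCommGrpCat.{u + 1})) :=
    comp_preservesFiniteLimits _ _
  exact preservesFiniteLimits_of_natIso (lanCompIso G₁ G₂).symm

end Comp

variable {C D : Type (u + 1)} [Category.{u} C] [Category.{u} D] (G : C ⥤ D)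
  (J : GrothendieckTopology C) (K : GrothendieckTopology D) [G.IsContinuous J K]

theorem sheafPullbackConstruction_preservesFiniteLimits
    (h : PreservesFiniteLimits (G.op.lan :
      (Cᵒᵖ ⥤ AddCommGrpCat.{u + 1}) ⥤ (Dᵒᵖ ⥤ AddCommGrpCat.{u + 1}))) :
    PreservesFiniteLimits
      (Functor.sheafPullbackConstruction.sheafPullback G AddCommGrpCat.{u + 1} J K) := by
  have : PreservesFiniteLimits (G.op.lan ⋙
      presheafToSheaf K AddCommGrpCat.{u + 1}) :=
    comp_preservesFiniteLimits _ _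
  unfold Functor.sheafPullbackConstruction.sheafPullback
  apply comp_preservesFiniteLimits

theorem injective_pushforward
    (h : PreservesFiniteLimits (G.op.lan :
      (Cᵒᵖ ⥤ AddCommGrpCat.{u + 1}) ⥤ (Dᵒᵖ ⥤ AddCommGrpCat.{u + 1})))
    (I : Sheaf K AddCommGrpCat.{u + 1}) [Injective I] :
    Injective ((G.sheafPushforwardContinuous AddCommGrpCat.{u + 1} J K).obj I) := by
  have h2 := sheafPullbackConstruction_preservesFiniteLimits G J K h
  have adj := Functor.sheafPullbackConstruction.sheafAdjunctionContinuous G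
    AddCommGrpCat.{u + 1} J K
  exact Injective.injective_of_adjoint adj I

end InjRestr
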