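import Mathlib
import Groth.Prelude.Def_BigSite
import Groth.Prelude.Def_EtCore
import Groth.Agent.Lib.helper23.InjRestr
import Groth.Agent.Lib.helper10.ExtAdj

universe u

open CategoryTheory CategoryTheory.Limits Opposite AlgebraicGeometry

namespace BigSmall

variable (X : Scheme.{u})

local notation "Ket" => Scheme.etalePrecoverage

lemma piEtPull_preservesFiniteLimits : PreservesFiniteLimits (BigSite.piEtPull Ket X) := by
  have : PreservesFiniteLimits (EtFppf.a X) :=
    inferInstanceAs (PreservesFiniteLimits (Scheme.Etale.forget X))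
  have : RepresentablyFlat (EtFppf.a X) := flat_of_preservesFiniteLimits _
  exact FlatLan.sheafPullback_preservesFiniteLimits (EtFppf.a X) X.smallEtaleTopology
    (QuotSh.J Ket X)

lemma piEtPull_preservesFiniteColimits : PreservesFiniteColimits (BigSite.piEtPull Ket X) := by
  have := (BigSite.piEtAdj Ket X).leftAdjoint_preservesColimits
  infer_instance

lemma resEt_preservesFiniteLimits : PreservesFiniteLimits (BigSite.resEt Ket X) := by
  have := (BigSite.piEtAdj Ket X).rightAdjoint_preservesLimits
  infer_instance

lemma resEt_preservesFiniteColimits : PreservesFiniteColimits (BigSite.resEt Ket X) := by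
  have := (BigSite.iEtAdj Ket X).leftAdjoint_preservesColimits
  infer_instance

/-- restriction followed by global sections is global sections -/
noncomputable def resGsecIso : BigSite.resEt Ket X ⋙ EtCore.gsec X ≅
    (sheafSections (QuotSh.J Ket X) AddCommGrpCat.{u + 1}).obj (op (Over.mk (𝟙 X))) :=
  NatIso.ofComponents (fun F => Iso.refl _) (fun {F G} φ => by
    simp only [Iso.refl_hom, Category.comp_id, Category.id_comp]
    rfl)

/-- the pullback of a constant sheaf to the big site is constant -/
noncomputable def piEtPullConstIso :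
    constantSheaf X.smallEtaleTopology AddCommGrpCat.{u + 1} ⋙ BigSite.piEtPull Ket X ≅
      constantSheaf (QuotSh.J Ket X) AddCommGrpCat.{u + 1} :=
  Adjunction.leftAdjointUniq
    (((EtCore.constAdj X).comp (BigSite.piEtAdj Ket X)).ofNatIsoRight (resGsecIso X))
    (constantSheafAdj (QuotSh.J Ket X) AddCommGrpCat.{u + 1} Over.mkIdTerminal)


theorem H_iso (F : BigSite.Ab Ket X) (p : ℕ) :
    Nonempty (EtCoh.H X ((BigSite.resEt Ket X).obj F) p ≃+ BigSite.H Ket X F p) := by
  have h1 := piEtPull_preservesFiniteLimits X
  have h2 := piEtPull_preservesFiniteColimits X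
  have h3 := resEt_preservesFiniteLimits X
  have h4 := resEt_preservesFiniteColimits X
  have h5 : (BigSite.piEtPull Ket X).Additive := (BigSite.piEtAdj Ket X).left_adjoint_additive
  obtain ⟨e⟩ := Groth.Agent.Lib.helper10.ExtAdj.extAdj (BigSite.piEtAdj Ket X)
    ((constantSheaf X.smallEtaleTopology AddCommGrpCat.{u + 1}).obj (AddCommGrpCat.of (ULift ℤ)))
    ((constantSheaf (QuotSh.J Ket X) AddCommGrpCat.{u + 1}).obj (AddCommGrpCat.of (ULift ℤ)))
    ((piEtPullConstIso X).app _) F p
  exact ⟨e.symm⟩

end BigSmall
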