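import Mathlib

/-!
# Fully faithful continuous and cocontinuous functors between sites

For `G : C ⥤ D` fully faithful, continuous and cocontinuous, the counit of
`G.sheafAdjunctionCocontinuous` is an isomorphism and so is the unit of
`G.sheafAdjunctionContinuous`.
-/

open CategoryTheory CategoryTheory.Limits

namespace FFSite

universe v₁ u₁ v₂ u₂ v₃ u₃

variable {C : Type u₁} [Category.{v₁} C] {D : Type u₂} [Category.{v₂} D] (G : C ⥤ D)
  [G.Full] [G.Faithful]
  (A : Type u₃) [Category.{v₃} A] (J : GrothendieckTopology C) (K : GrothendieckTopology D)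
  [G.IsContinuous J K] [G.IsCocontinuous J K]
  [∀ F : Cᵒᵖ ⥤ A, G.op.HasPointwiseRightKanExtension F]

lemma isIso_counit_app (F : Sheaf J A) :
    IsIso ((G.sheafAdjunctionCocontinuous A J K).counit.app F) := by
  have h := G.sheafAdjunctionCocontinuous_counit_app_hom A J K F
  have h2 : IsIso ((sheafToPresheaf J A).map
      ((G.sheafAdjunctionCocontinuous A J K).counit.app F)) := by
    show IsIso ((G.sheafAdjunctionCocontinuous A J K).counit.app F).hom
    rw [h]
    exact (inferInstance : IsIso ((G.op.ranAdjunction A).counit.app F.obj))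
  exact isIso_of_reflects_iso _ (sheafToPresheaf J A)

lemma isIso_counit : IsIso (G.sheafAdjunctionCocontinuous A J K).counit :=
  haveI := isIso_counit_app G A J K
  NatIso.isIso_of_isIso_app _

lemma isIso_unit [(G.sheafPushforwardContinuous A J K).IsRightAdjoint] :
    IsIso (G.sheafAdjunctionContinuous A J K).unit :=
  (Adjunction.Triple.mk (G.sheafAdjunctionContinuous A J K)
    (G.sheafAdjunctionCocontinuous A J K)).isIso_unit_iff_isIso_counit.2 (isIso_counit G A J K)

end FFSite
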