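import Mathlib
import Groth.Prelude.Def_BigSite
import Groth.Prelude.Def_EtCore
import Groth.Agent.Lib.helper23.BigSmall
import Groth.Agent.Lib.helper23.FFSite

universe u

open CategoryTheory CategoryTheory.Limits Opposite AlgebraicGeometry

namespace BigSmall

variable {T S : Scheme.{u}} (f : T ⟶ S)

local notation "Ket" => Scheme.etalePrecoverage

/-- `f_big,*` followed by restriction is restriction followed by `f_small,*` -/
noncomputable def pushResIso :
    BigSite.pushBig Ket f AddCommGrpCat.{u + 1} ⋙ BigSite.resEt Ket S ≅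
      BigSite.resEt Ket T ⋙ EtCoh.push f := Iso.refl _

/-- the counit `i_* ⋙ res ≅ 𝟭` -/
noncomputable def iEtResIso : BigSite.iEtPush Ket T ⋙ BigSite.resEt Ket T ≅ 𝟭 _ := by
  haveI : (EtFppf.a T).Full := inferInstanceAs (Scheme.Etale.forget T).Full
  haveI : (EtFppf.a T).Faithful := inferInstanceAs (Scheme.Etale.forget T).Faithful
  haveI := FFSite.isIso_counit (EtFppf.a T) AddCommGrpCat.{u + 1} T.smallEtaleTopology
      (QuotSh.J Ket T)
  exact asIso (BigSite.iEtAdj Ket T).counit

/-- the composite adjunction -/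
noncomputable def adjComposite :
    BigSite.piEtPull Ket S ⋙ BigSite.resEtAlong Ket f ⊣
      (BigSite.iEtPush Ket T ⋙ BigSite.pushBig Ket f AddCommGrpCat.{u + 1}) ⋙
        BigSite.resEt Ket S :=
  (BigSite.piEtAdj Ket S).comp ((BigSite.bigAdj Ket f AddCommGrpCat.{u + 1}).comp
    (BigSite.iEtAdj Ket T))

/-- the right adjoint is `f_small,*` -/
noncomputable def rightIso :
    (BigSite.iEtPush Ket T ⋙ BigSite.pushBig Ket f AddCommGrpCat.{u + 1}) ⋙
        BigSite.resEt Ket S ≅ EtCoh.push f :=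
  Functor.associator _ _ _ ≪≫ Functor.isoWhiskerLeft _ (pushResIso f) ≪≫
    (Functor.associator _ _ _).symm ≪≫ Functor.isoWhiskerRight (iEtResIso (T := T)) _ ≪≫
    Functor.leftUnitor _

/-- `(π_S⁻¹ F)|_{T_et} ≅ f⁻¹ F`, naturally in `F` -/
noncomputable def pullIso :
    BigSite.piEtPull Ket S ⋙ BigSite.resEtAlong Ket f ≅ EtCoh.pull f :=
  ((adjComposite f).ofNatIsoRight (rightIso f)).leftAdjointUniq (EtCoh.pullPushAdj f)

end BigSmall
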