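import Mathlib

/-!
# Cosimplicial objects with an extra codegeneracy
-/

universe u

open CategoryTheory CategoryTheory.Limits Opposite Simplicial AlgebraicTopology

namespace CechContr

section General

variable {A : Type*} [Category A] [Preadditive A] [HasZeroObject A]

/-- an extra codegeneracy on a coaugmented cosimplicial object -/
structure ExtraCodeg (Y : CosimplicialObject A) (B : A) where
  η : B ⟶ Y ^⦋0⦌
  s' : Y ^⦋0⦌ ⟶ B
  s : ∀ n : ℕ, Y ^⦋n + 1⦌ ⟶ Y ^⦋n⦌
  η_s' : η ≫ s' = 𝟙 B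
  η_δ : η ≫ Y.δ (0 : Fin 2) = η ≫ Y.δ (1 : Fin 2)
  δ₁_s₀ : Y.δ (1 : Fin 2) ≫ s 0 = s' ≫ η
  δ₀_s : ∀ n : ℕ, Y.δ (0 : Fin (n + 2)) ≫ s n = 𝟙 _
  δ_s : ∀ (n : ℕ) (i : Fin (n + 2)), Y.δ i.succ ≫ s (n + 1) = s n ≫ Y.δ i

variable {Y : CosimplicialObject A} {B : A} (e : ExtraCodeg Y B)

lemma d_eq (n : ℕ) : ((alternatingCofaceMapComplex A).obj Y).d n (n + 1) =
    ∑ i : Fin (n + 2), (-1 : ℤ) ^ (i : ℕ) • Y.δ i := by
  have h1 : ((alternatingCofaceMapComplex A).obj Y).d n (n + 1) =
      AlternatingCofaceMapComplex.objD Y n := by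
    simp only [alternatingCofaceMapComplex, AlternatingCofaceMapComplex.obj, CochainComplex.of_d]
  exact h1

lemma η_sum : e.η ≫ ∑ i : Fin 2, (-1 : ℤ) ^ (i : ℕ) • Y.δ i = 0 := by
  rw [Fin.sum_univ_two]
  simp [e.η_δ]

lemma sum_s_zero : (∑ i : Fin 2, (-1 : ℤ) ^ (i : ℕ) • Y.δ i) ≫ e.s 0 =
    𝟙 (Y ^⦋0⦌) - e.s' ≫ e.η := by
  rw [Fin.sum_univ_two]
  simp [e.δ₀_s 0, e.δ₁_s₀, sub_eq_add_neg]

lemma sum_s_succ (n : ℕ) : (∑ i : Fin (n + 3), (-1 : ℤ) ^ (i : ℕ) • Y.δ i) ≫ e.s (n + 1) =
    𝟙 (Y ^⦋n + 1⦌) - e.s n ≫ ∑ i : Fin (n + 2), (-1 : ℤ) ^ (i : ℕ) • Y.δ i := by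
  simp [Fin.sum_univ_succ (n := n + 2), e.δ₀_s, Preadditive.sum_comp, Preadditive.comp_sum,
    e.δ_s, pow_succ, sub_eq_add_neg]

lemma η_d : e.η ≫ ((alternatingCofaceMapComplex A).obj Y).d 0 1 = 0 := by
  have := η_sum e
  rw [d_eq 0]
  exact this

lemma d_s_zero : ((alternatingCofaceMapComplex A).obj Y).d 0 1 ≫ e.s 0 = 𝟙 _ - e.s' ≫ e.η := by
  have := sum_s_zero e
  rw [d_eq 0]
  exact this

lemma d_s_succ (n : ℕ) : ((alternatingCofaceMapComplex A).obj Y).d (n + 1) (n + 2) ≫ e.s (n + 1) =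
    𝟙 _ - e.s n ≫ ((alternatingCofaceMapComplex A).obj Y).d n (n + 1) := by
  have := sum_s_succ e n
  rw [d_eq (n + 1), d_eq n]
  exact this

end General

section Contr

variable {A : Type*} [Category A] [Preadditive A] [HasZeroObject A]

/-- contraction data for a cochain complex onto an object in degree zero -/
structure ContrData (K : CochainComplex A ℕ) (B : A) where
  η : B ⟶ K.X 0
  s' : K.X 0 ⟶ B
  s : ∀ n : ℕ, K.X (n + 1) ⟶ K.X n
  η_d : η ≫ K.d 0 1 = 0
  η_s' : η ≫ s' = 𝟙 B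
  d_s_zero : K.d 0 1 ≫ s 0 = 𝟙 (K.X 0) - s' ≫ η
  d_s_succ : ∀ n : ℕ, K.d (n + 1) (n + 2) ≫ s (n + 1) = 𝟙 (K.X (n + 1)) - s n ≫ K.d n (n + 1)

variable {K : CochainComplex A ℕ} {B : A} (c : ContrData K B)

namespace ContrData

/-- the coaugmentation as a map of complexes -/
noncomputable def homη : (CochainComplex.single₀ A).obj B ⟶ K :=
  (CochainComplex.fromSingle₀Equiv _ _).symm ⟨c.η, c.η_d⟩

/-- the retraction as a map of complexes -/
noncomputable def homs : K ⟶ (CochainComplex.single₀ A).obj B :=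
  (CochainComplex.toSingle₀Equiv _ _).symm c.s'

/-- the contracting homotopy -/
noncomputable def hmt (i j : ℕ) : K.X i ⟶ K.X j :=
  match i with
  | 0 => 0
  | (i + 1) => if h : j = i then -(c.s i) ≫ eqToHom (by rw [h]) else 0

lemma hmt_succ (i : ℕ) : hmt c (i + 1) i = -(c.s i) := by
  simp [hmt]

/-- a contractible complex is homotopy equivalent to its coaugmentation -/
noncomputable def homotopyEquiv : HomotopyEquiv ((CochainComplex.single₀ A).obj B) K where
  hom := homη c
  inv := homs c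
  homotopyHomInvId := Homotopy.ofEq (by
    apply HomologicalComplex.from_single_hom_ext
    have h1 : (homη c).f 0 = c.η := by simp [homη]
    have h2 : (homs c).f 0 = c.s' := by simp [homs]
    have h3 : (homη c).f 0 ≫ (homs c).f 0 = 𝟙 _ := by
      rw [h1, h2]
      exact c.η_s'
    exact h3)
  homotopyInvHomId :=
    { hom := hmt c
      zero := by
        intro i j hij
        cases i with
        | zero => rfl
        | succ i =>
          have : j ≠ i := fun h => hij (by subst h; rfl)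
          simp [hmt, this]
      comm := by
        intro i
        cases i with
        | zero =>
          rw [Homotopy.dNext_cochainComplex, Homotopy.prevD_zero_cochainComplex, hmt_succ]
          have h1 : (homη c).f 0 = c.η := by simp [homη]
          have h2 : (homs c).f 0 = c.s' := by simp [homs]
          rw [HomologicalComplex.comp_f, h1, h2, Preadditive.comp_neg, c.d_s_zero]
          simp
        | succ i =>
          rw [Homotopy.dNext_cochainComplex, Homotopy.prevD_succ_cochainComplex, hmt_succ,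
            hmt_succ]
          have h1 : (homs c ≫ homη c).f (i + 1) = 0 := by
            rw [HomologicalComplex.comp_f]
            have : (homs c).f (i + 1) = 0 := rfl
            rw [this, zero_comp]
          rw [h1, Preadditive.comp_neg, c.d_s_succ, Preadditive.neg_comp,
            HomologicalComplex.id_f]
          abel }

end ContrData

end Contr

section General2

variable {A : Type*} [Category A] [Preadditive A] [HasZeroObject A]
variable {Y : CosimplicialObject A} {B : A} (e : ExtraCodeg Y B)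

/-- the contraction data attached to an extra codegeneracy -/
noncomputable def contrData : ContrData ((alternatingCofaceMapComplex A).obj Y) B where
  η := e.η
  s' := e.s'
  s := e.s
  η_d := η_d e
  η_s' := e.η_s'
  d_s_zero := d_s_zero e
  d_s_succ := d_s_succ e

end General2

end CechContr

namespace CechContr

open TopologicalSpace

section Cech

variable {X : TopCat.{u}} {ι : Type u} (U : ι → Opens X) (i : ι) (hi : U i = iSup U)

/-- the Cech nerve of the family -/
noncomputable abbrev K : SimplicialObject (FormalCoproduct.{u} (Opens X)) :=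
  (FormalCoproduct.mk ι U).cech

/-- the distinguished member as a formal coproduct -/
abbrev T : FormalCoproduct.{u} (Opens X) := ⟨PUnit, fun _ => U i⟩

lemma thin_ext {Z Z' : FormalCoproduct.{u} (Opens X)} (f g : Z ⟶ Z') (h : f.f = g.f) : f = g :=
  FormalCoproduct.hom_ext h (fun _ => Subsingleton.elim _ _)

include hi in
lemma member_le (j : ι) : U j ≤ U i := hi ▸ le_iSup U j

lemma pi_le {n : ℕ} (x : Fin (n + 1) → ι) (a : Fin (n + 1)) : ∏ᶜ (U ∘ x) ≤ U (x a) :=
  leOfHom (Pi.π (U ∘ x) a)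

include hi in
lemma cons_le {n : ℕ} (x : Fin (n + 1) → ι) (a : Fin (n + 2)) :
    ∏ᶜ (U ∘ x) ≤ U ((Fin.cons i x : Fin (n + 2) → ι) a) := by
  refine Fin.cases ?_ ?_ a
  · exact (pi_le U x 0).trans (member_le U i hi (x 0))
  · intro b
    exact pi_le U x b

/-- the augmentation -/
noncomputable def ε (n : ℕ) : (K U).obj (op ⦋n⦌) ⟶ T U i :=
  ⟨fun _ => PUnit.unit, fun (x : Fin (n + 1) → ι) =>
    homOfLE ((pi_le U x 0).trans (member_le U i hi (x 0)))⟩

/-- the section of the augmentation -/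
noncomputable def sT' : T U i ⟶ (K U).obj (op ⦋0⦌) :=
  ⟨fun _ => ((fun _ => i) : Fin 1 → ι), fun _ => Pi.lift (fun _ => 𝟙 (U i))⟩

/-- the extra degeneracy -/
noncomputable def sT (n : ℕ) : (K U).obj (op ⦋n⦌) ⟶ (K U).obj (op ⦋n + 1⦌) :=
  ⟨fun (x : Fin (n + 1) → ι) => (Fin.cons i x : Fin (n + 2) → ι),
    fun (x : Fin (n + 1) → ι) => Pi.lift (fun a => homOfLE (cons_le U i hi x a))⟩

lemma sT'_ε : sT' U i ≫ ε U i hi 0 = 𝟙 _ :=
  thin_ext _ _ rfl

lemma δ_ε (j : Fin 2) : (K U).δ j ≫ ε U i hi 0 = ε U i hi 1 :=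
  thin_ext _ _ rfl

lemma sT_δ₁ : sT U i hi 0 ≫ (K U).δ (1 : Fin 2) = ε U i hi 0 ≫ sT' U i := by
  apply thin_ext
  funext (x : Fin 1 → ι)
  funext (a : Fin 1)
  fin_cases a
  rfl

lemma sT_δ₀ (n : ℕ) : sT U i hi n ≫ (K U).δ (0 : Fin (n + 2)) = 𝟙 _ := by
  apply thin_ext
  funext (x : Fin (n + 1) → ι)
  funext (a : Fin (n + 1))
  rfl

lemma sT_δ (n : ℕ) (j : Fin (n + 2)) :
    sT U i hi (n + 1) ≫ (K U).δ j.succ = (K U).δ j ≫ sT U i hi n := by
  apply thin_ext
  funext (x : Fin (n + 2) → ι)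
  funext (a : Fin (n + 2))
  show (Fin.cons i x : Fin (n + 3) → ι) (j.succ.succAbove a) =
    (Fin.cons i (x ∘ j.succAbove) : Fin (n + 2) → ι) a
  refine Fin.cases ?_ ?_ a
  · rw [Fin.succ_succAbove_zero]
    rfl
  · intro b
    rw [Fin.succ_succAbove_succ]
    rfl

variable (F : (Opens X)ᵒᵖ ⥤ AddCommGrpCat.{u})

/-- the evaluation functor on formal coproducts -/
noncomputable abbrev E' : (FormalCoproduct.{u} (Opens X))ᵒᵖ ⥤ AddCommGrpCat.{u} :=
  (FormalCoproduct.evalOp (Opens X) AddCommGrpCat.{u}).obj F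

/-- the Cech cosimplicial object -/
noncomputable abbrev Y : CosimplicialObject AddCommGrpCat.{u} := (K U).rightOp ⋙ E' F

lemma Y_δ {n : ℕ} (j : Fin (n + 2)) : (Y U F).δ j = (E' F).map ((K U).δ j).op := rfl

/-- the extra codegeneracy of the Cech cosimplicial object -/
noncomputable def extraCodeg : ExtraCodeg (Y U F) ((E' F).obj (op (T U i))) where
  η := (E' F).map (ε U i hi 0).op
  s' := (E' F).map (sT' U i).op
  s n := (E' F).map (sT U i hi n).op
  η_s' := by
    rw [← (E' F).map_comp, ← op_comp, sT'_ε, op_id, (E' F).map_id]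
  η_δ := by
    rw [Y_δ, Y_δ, ← (E' F).map_comp, ← (E' F).map_comp, ← op_comp, ← op_comp, δ_ε, δ_ε]
  δ₁_s₀ := by
    rw [Y_δ, ← (E' F).map_comp, ← (E' F).map_comp, ← op_comp, ← op_comp, sT_δ₁]
  δ₀_s n := by
    rw [Y_δ, ← (E' F).map_comp, ← op_comp, sT_δ₀, op_id, (E' F).map_id]
    rfl
  δ_s n j := by
    rw [Y_δ, Y_δ, ← (E' F).map_comp, ← (E' F).map_comp, ← op_comp, ← op_comp, sT_δ]

/-- sections over the distinguished member -/
noncomputable def isoB : F.obj (op (iSup U)) ≅ (E' F).obj (op (T U i)) :=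
  eqToIso (by rw [hi]) ≪≫
    (productUniqueIso (fun _ : PUnit.{u + 1} => F.obj (op (U i)))).symm

/-- the Cech complex is homotopy equivalent to the sections over the union -/
noncomputable def cechHomotopyEquiv :
    HomotopyEquiv ((CochainComplex.single₀ AddCommGrpCat.{u}).obj (F.obj (op (iSup U))))
      ((cechComplexFunctor U).obj F) :=
  (HomotopyEquiv.ofIso ((CochainComplex.single₀ AddCommGrpCat.{u}).mapIso (isoB U i hi F))).trans
    (contrData (extraCodeg U i hi F)).homotopyEquiv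

end Cech

end CechContr
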