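import Groth.Agent.Lib.helper23.Cosk
open CategoryTheory CategoryTheory.Limits Opposite Simplicial

namespace Groth.Agent.H23.CechCosk

universe v u

variable {C : Type u} [Category.{v} C] [HasFiniteProducts C] (X : C)

/-- the inclusion -/
abbrev L₀ : (SimplexCategory.Truncated 0)ᵒᵖ ⥤ SimplexCategoryᵒᵖ := (SimplexCategory.Truncated.inclusion 0).op

/-- the zero object of the truncated category -/
def a₀ : (SimplexCategory.Truncated 0)ᵒᵖ := op ⟨⦋0⦌, le_refl _⟩

section
variable {X} {G : SimplicialObject C} (β : L₀ ⋙ G ⟶ L₀ ⋙ cechNerveTerminalFrom X)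

/-- the vertex map -/
noncomputable def bmap : G.obj (op ⦋0⦌) ⟶ X :=
  β.app a₀ ≫ Pi.π (fun _ : Fin (0 + 1) => X) 0

noncomputable def γ : G ⟶ cechNerveTerminalFrom X where
  app m := Pi.lift (fun i => G.map (SimplexCategory.const ⦋0⦌ m.unop i).op ≫ bmap β)
  naturality m m' f := by
    apply Pi.hom_ext
    intro i
    show (G.map f ≫ Pi.lift (fun i => G.map (SimplexCategory.const ⦋0⦌ m'.unop i).op ≫ bmap β)) ≫
        Pi.π _ i =
      (Pi.lift (fun i => G.map (SimplexCategory.const ⦋0⦌ m.unop i).op ≫ bmap β) ≫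
        (Pi.lift fun i => Pi.π _ (f.unop.toOrderHom i))) ≫ Pi.π _ i
    rw [Category.assoc, Category.assoc, Pi.lift_π, Pi.lift_π, Pi.lift_π, ← Category.assoc,
      ← G.map_comp]
    rfl

lemma γ_fac : Functor.whiskerLeft L₀ (γ β) = β := by
  ext a
  induction a using Opposite.rec with
  | op a =>
    obtain ⟨⟨l⟩, hl⟩ := a
    have hl0 : l = 0 := Nat.le_zero.mp hl
    subst hl0
    apply Pi.hom_ext
    intro i
    have hi : i = 0 := Subsingleton.elim (α := Fin 1) _ _
    subst hi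
    show Pi.lift (fun i => G.map (SimplexCategory.const ⦋0⦌ ⦋0⦌ i).op ≫ bmap β) ≫ Pi.π _ 0 = _
    rw [Pi.lift_π]
    have : SimplexCategory.const ⦋0⦌ ⦋0⦌ 0 = 𝟙 _ := SimplexCategory.const_eq_id
    rw [this, op_id, G.map_id, Category.id_comp]
    rfl

lemma γ_uniq (γ' : G ⟶ cechNerveTerminalFrom X) (h : Functor.whiskerLeft L₀ γ' = β) :
    γ' = γ β := by
  ext m
  apply Pi.hom_ext
  intro i
  show γ'.app m ≫ Pi.π _ i = Pi.lift (fun i => G.map (SimplexCategory.const ⦋0⦌ m.unop i).op ≫ bmap β) ≫ Pi.π _ i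
  rw [Pi.lift_π]
  have h1 := γ'.naturality (SimplexCategory.const ⦋0⦌ m.unop i).op
  have h2 : (cechNerveTerminalFrom X).map (SimplexCategory.const ⦋0⦌ m.unop i).op ≫
      Pi.π (fun _ : Fin (0 + 1) => X) 0 = Pi.π _ i := by
    show (Pi.lift fun j : Fin (0 + 1) => Pi.π (fun _ : Fin (m.unop.len + 1) => X)
      ((SimplexCategory.const ⦋0⦌ m.unop i).toOrderHom j)) ≫
      Pi.π (fun _ : Fin (0 + 1) => X) 0 = Pi.π _ i
    rw [Pi.lift_π]
    rfl
  have h3 : γ'.app (op ⦋0⦌) = β.app a₀ := congrArg (fun t => t.app a₀) h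
  unfold bmap
  rw [← h3, ← h2, ← Category.assoc, ← Category.assoc, ← h1]
  rfl

end

theorem cech_cosk0 : SimplicialObject.IsCoskeletal (cechNerveTerminalFrom X) 0 := by
  constructor
  refine ⟨⟨IsTerminal.ofUniqueHom (fun E => CostructuredArrow.homMk (γ E.hom) ?_) ?_⟩⟩
  · show Functor.whiskerLeft L₀ (γ E.hom) ≫ 𝟙 _ = E.hom
    rw [Category.comp_id]
    exact γ_fac E.hom
  · intro E m
    apply CostructuredArrow.hom_ext
    apply γ_uniq
    exact (Category.comp_id _).symm.trans (CostructuredArrow.w m)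

theorem cech_cosk [HasFiniteLimits C] (n : ℕ) :
    SimplicialObject.IsCoskeletal (cechNerveTerminalFrom X) n := by
  have := cech_cosk0 X
  exact Cosk.main _ (Nat.zero_le n)

end Groth.Agent.H23.CechCosk
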