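import Mathlib
open CategoryTheory CategoryTheory.Limits Opposite Simplicial

namespace Groth.Agent.H23.CechFib
universe u

variable {A B : Type u} (f : A ⟶ B)

/-- the Čech nerve -/
noncomputable abbrev N : SSet.{u} := (Arrow.mk f).cechNerve

/-- i-th vertex projection -/
noncomputable def pr (m : SimplexCategoryᵒᵖ) (i : Fin (m.unop.len + 1)) (x : (N f).obj m) : A :=
  (WidePullback.π (fun _ : Fin (m.unop.len + 1) => (Arrow.mk f).hom) i) x

/-- base projection -/
noncomputable def bs (m : SimplexCategoryᵒᵖ) (x : (N f).obj m) : B :=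
  (WidePullback.base (fun _ : Fin (m.unop.len + 1) => (Arrow.mk f).hom)) x

lemma bs_eq (m : SimplexCategoryᵒᵖ) (i : Fin (m.unop.len + 1)) (x : (N f).obj m) :
    bs f m x = f (pr f m i x) := by
  have := WidePullback.π_arrow (fun _ : Fin (m.unop.len + 1) => (Arrow.mk f).hom) i
  exact (ConcreteCategory.congr_hom this x).symm

lemma ext_N (m : SimplexCategoryᵒᵖ) (x y : (N f).obj m) (h : ∀ i, pr f m i x = pr f m i y) :
    x = y :=
  Concrete.widePullback_ext' (fun _ : Fin (m.unop.len + 1) => (Arrow.mk f).hom) x y h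

lemma pr_map {m m' : SimplexCategoryᵒᵖ} (g : m ⟶ m') (j : Fin (m'.unop.len + 1)) (x : (N f).obj m) :
    pr f m' j ((N f).map g x) = pr f m (g.unop.toOrderHom j) x := by
  have := WidePullback.lift_π (fun _ : Fin (m'.unop.len + 1) => (Arrow.mk f).hom)
    (WidePullback.base (fun _ : Fin (m.unop.len + 1) => (Arrow.mk f).hom))
    (fun i => WidePullback.π (fun _ : Fin (m.unop.len + 1) => (Arrow.mk f).hom) (g.unop.toOrderHom i)) (by simp) j
  exact ConcreteCategory.congr_hom this x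

lemma exists_mk (m : SimplexCategoryᵒᵖ) (w : Fin (m.unop.len + 1) → A) (b : B)
    (hw : ∀ i, f (w i) = b) : ∃ v : (N f).obj m, ∀ i, pr f m i v = w i := by
  let φ : (PUnit.{u+1} : Type u) ⟶ (N f).obj m :=
    WidePullback.lift (arrows := fun _ : Fin (m.unop.len + 1) => (Arrow.mk f).hom)
      (TypeCat.ofHom (fun _ => b)) (fun i => TypeCat.ofHom (fun _ => w i)) (by
        intro i
        ext x
        exact hw i)
  refine ⟨φ PUnit.unit, fun i => ?_⟩
  have := WidePullback.lift_π (fun _ : Fin (m.unop.len + 1) => (Arrow.mk f).hom)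
    (TypeCat.ofHom (fun _ : PUnit.{u+1} => b)) (fun i => TypeCat.ofHom (fun _ : PUnit.{u+1} => w i)) (by
        intro i
        ext x
        exact hw i) i
  exact ConcreteCategory.congr_hom this PUnit.unit

lemma hom_ext_N {G : SSet.{u}} (p q : G ⟶ N f) (h : p.app (op ⦋0⦌) = q.app (op ⦋0⦌)) : p = q := by
  ext m x
  apply ext_N
  intro i
  have h1 := pr_map f (SimplexCategory.const ⦋0⦌ m.unop i).op 0 (p.app m x)
  have h2 := pr_map f (SimplexCategory.const ⦋0⦌ m.unop i).op 0 (q.app m x)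
  have e : (SimplexCategory.const ⦋0⦌ m.unop i).op.unop.toOrderHom 0 = i := rfl
  rw [e] at h1 h2
  refine h1.symm.trans (Eq.trans ?_ h2)
  have n1 := NatTrans.naturality_apply p (SimplexCategory.const ⦋0⦌ m.unop i).op x
  have n2 := NatTrans.naturality_apply q (SimplexCategory.const ⦋0⦌ m.unop i).op x
  rw [← n1, ← n2, h]


lemma const_eq_of_zero {k : ℕ} (x : ⦋0⦌ ⟶ ⦋k⦌) : x = SimplexCategory.const ⦋0⦌ ⦋k⦌ (x.toOrderHom 0) := by
  ext i
  have : i = 0 := Subsingleton.elim (α := Fin 1) i 0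
  subst this
  rfl

theorem main6783 (hf : Function.Surjective f) :
    SSet.modelCategoryQuillen.I.rlp (Arrow.mk f).augmentedCechNerve.hom := by
  intro X Y i hi
  obtain ⟨k⟩ := hi
  constructor
  intro a b sq
  let p : N f ⟶ (SimplicialObject.const _).obj B := (Arrow.mk f).augmentedCechNerve.hom
  let a' : (∂Δ[k] : SSet.{u}) ⟶ N f := a
  let b' : (Δ[k] : SSet.{u}) ⟶ (SimplicialObject.const _).obj B := b
  have sqw : a' ≫ p = (SSet.boundary.{u} k).ι ≫ b' := sq.w
  let b0 : B := SSet.yonedaEquiv b'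
  have hb : ∀ (m : SimplexCategoryᵒᵖ) (y : (Δ[k] : SSet.{u}).obj m), b'.app m y = b0 := by
    intro m y
    have n1 := NatTrans.naturality_apply b' (SSet.stdSimplex.objEquiv y).op
      (SSet.stdSimplex.objEquiv.symm (𝟙 ⦋k⦌))
    have e1 : (Δ[k] : SSet.{u}).map (SSet.stdSimplex.objEquiv y).op
      (SSet.stdSimplex.objEquiv.symm (𝟙 ⦋k⦌)) = y := by
      rw [SSet.stdSimplex.map_objEquiv_symm]
      simp
    rw [e1] at n1
    exact n1
  have hp : ∀ (m : SimplexCategoryᵒᵖ) (x : (N f).obj m), p.app m x = bs f m x := fun m x => rfl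
  -- vertices
  obtain ⟨w, hw, hwa⟩ : ∃ w : Fin (k + 1) → A, (∀ i, f (w i) = b0) ∧
      ∀ (x : (Δ[k] : SSet.{u}).obj (op ⦋0⦌)) (hx : x ∈ (SSet.boundary.{u} k).obj (op ⦋0⦌)),
        pr f (op ⦋0⦌) 0 (a'.app (op ⦋0⦌) ⟨x, hx⟩) = w ((SSet.stdSimplex.objEquiv x).toOrderHom 0) := by
    rcases Nat.eq_zero_or_pos k with hk | hk
    · subst hk
      obtain ⟨a0, ha0⟩ := hf b0
      refine ⟨fun _ => a0, fun _ => ha0, ?_⟩
      intro x hx
      exfalso
      simp at hx
    · have huniv := SSet.boundary_obj_eq_univ.{u} 0 k hk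
      have hmem : ∀ x : (Δ[k] : SSet.{u}).obj (op ⦋0⦌), x ∈ (SSet.boundary.{u} k).obj (op ⦋0⦌) := by
        intro x
        rw [huniv]
        exact Set.mem_univ _
      refine ⟨fun i => pr f (op ⦋0⦌) 0 (a'.app (op ⦋0⦌)
        ⟨SSet.stdSimplex.objEquiv.symm (SimplexCategory.const ⦋0⦌ ⦋k⦌ i), hmem _⟩), ?_, ?_⟩
      · intro i
        rw [← bs_eq, ← hp]
        have := congrArg (fun t => t.app (op ⦋0⦌)
          ⟨SSet.stdSimplex.objEquiv.symm (SimplexCategory.const ⦋0⦌ ⦋k⦌ i), hmem _⟩) sqw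
        refine Eq.trans this ?_
        exact hb _ _
      · intro x hx
        have ex : x = SSet.stdSimplex.objEquiv.symm
            (SimplexCategory.const ⦋0⦌ ⦋k⦌ ((SSet.stdSimplex.objEquiv x).toOrderHom 0)) := by
          apply SSet.stdSimplex.objEquiv.injective
          rw [Equiv.apply_symm_apply]
          exact const_eq_of_zero _
        congr 3
  obtain ⟨v, hv⟩ := exists_mk f (op ⦋k⦌) w b0 hw
  have hl : SSet.yonedaEquiv.symm v ≫ p = b' := by
    apply SSet.yonedaEquiv.injective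
    rw [SSet.yonedaEquiv_comp, Equiv.apply_symm_apply, hp, bs_eq f _ 0, hv]
    exact hw 0
  refine ⟨⟨{ l := SSet.yonedaEquiv.symm v, fac_left := ?_, fac_right := hl }⟩⟩
  show (SSet.boundary.{u} k).ι ≫ SSet.yonedaEquiv.symm v = a'
  apply hom_ext_N
  ext ⟨x, hx⟩
  apply ext_N
  intro j
  have hj : j = 0 := Subsingleton.elim (α := Fin 1) _ _
  subst hj
  refine Eq.trans ?_ (hwa x hx).symm
  rw [← hv]
  exact pr_map f (SSet.stdSimplex.objEquiv x).op 0 v

end Groth.Agent.H23.CechFib
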