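import Mathlib
import Groth.Agent.Lib.helper18.SectSupp

/-!
# Sheaves on a closed subspace
-/

universe u

open CategoryTheory CategoryTheory.Limits TopologicalSpace Opposite Topology

namespace ClEmb

variable {Z X : TopCat.{u}} (i : Z ⟶ X)

/-- The right adjoint of the preimage map on opens. -/
def rFun (W : Opens Z) : Opens X := sSup {V : Opens X | (Opens.map i).obj V ≤ W}

lemma rFun_mono : Monotone (rFun i) := by
  intro W W' h
  apply sSup_le_sSup
  intro V hV
  exact le_trans hV h

/-- The right adjoint of the preimage functor on opens. -/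
def r : Opens Z ⥤ Opens X := (rFun_mono i).functor

lemma le_r_iff (V : Opens X) (W : Opens Z) : V ≤ (r i).obj W ↔ (Opens.map i).obj V ≤ W := by
  constructor
  · intro h z hz
    have hz' : i z ∈ (r i).obj W := h hz
    obtain ⟨V', hV', hzV'⟩ := Opens.mem_sSup.1 hz'
    exact hV' hzV'
  · intro h
    exact le_sSup h

lemma map_r_le (W : Opens Z) : (Opens.map i).obj ((r i).obj W) ≤ W :=
  (le_r_iff i _ _).1 le_rfl

lemma le_r_map (V : Opens X) : V ≤ (r i).obj ((Opens.map i).obj V) :=
  (le_r_iff i _ _).2 le_rfl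

/-- The adjunction between preimage and `r`. -/
def adj : Opens.map i ⊣ r i :=
  Adjunction.mkOfUnitCounit
    { unit := { app := fun V => homOfLE (le_r_map i V) }
      counit := { app := fun W => homOfLE (map_r_le i W) } }

variable {i}

lemma map_r (hi : IsInducing i) (W : Opens Z) : (Opens.map i).obj ((r i).obj W) = W := by
  apply le_antisymm (map_r_le i W)
  obtain ⟨V₀, hV₀, hV₀'⟩ := (hi.isOpen_iff).1 W.2
  have : W = (Opens.map i).obj ⟨V₀, hV₀⟩ := by
    ext z
    show z ∈ W.carrier ↔ _
    rw [← hV₀']
    rfl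
  have h2 : (⟨V₀, hV₀⟩ : Opens X) ≤ (r i).obj W := (le_r_iff i _ _).2 this.ge
  calc W = (Opens.map i).obj ⟨V₀, hV₀⟩ := this
    _ ≤ (Opens.map i).obj ((r i).obj W) := (Opens.map i).monotone h2

lemma r_full (hi : IsInducing i) : (r i).Full where
  map_surjective {W W'} f := by
    refine ⟨homOfLE ?_, Subsingleton.elim _ _⟩
    calc W = (Opens.map i).obj ((r i).obj W) := (map_r hi W).symm
      _ ≤ (Opens.map i).obj ((r i).obj W') := (Opens.map i).monotone (leOfHom f)
      _ = W' := map_r hi W'

instance : (r i).Faithful where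
  map_injective := fun _ => Subsingleton.elim _ _

section

variable (A : Type*) [Category A]

/-- precomposition with preimage is fully faithful -/
noncomputable def ffWhisker (hi : IsInducing i) :
    ((Functor.whiskeringLeft (Opens X)ᵒᵖ (Opens Z)ᵒᵖ A).obj (Opens.map i).op).FullyFaithful := by
  have := r_full hi
  have h1 := (adj i).isLocalization
  exact Localization.fullyFaithfulWhiskeringLeft (Opens.map i).op
    ((MorphismProperty.isomorphisms (Opens Z)).inverseImage (Opens.map i)).op A

lemma full_pushforward (hi : IsInducing i) : (TopCat.Sheaf.pushforward A i).Full where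
  map_surjective {F G} g := by
    refine ⟨⟨(ffWhisker A hi).preimage g.hom⟩, ?_⟩
    apply Sheaf.hom_ext
    exact (ffWhisker A hi).map_preimage g.hom

lemma faithful_pushforward (hi : IsInducing i) : (TopCat.Sheaf.pushforward A i).Faithful where
  map_injective {F G} a b h := by
    apply Sheaf.hom_ext
    apply (ffWhisker A hi).map_injective
    exact congrArg (fun t => t.hom) h

end

section Van

/-- abelian sheaves vanishing on the open `U` -/
def VanOn (U : Opens X) : ObjectProperty (CohTop.Ab X) :=
  fun F => ∀ V : Opens X, V ≤ U → IsZero (F.obj.obj (op V))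

variable (U : Opens X) (hU : (U : Set X) = (Set.range i)ᶜ)

include hU in
lemma map_eq_bot {V : Opens X} (hV : V ≤ U) : (Opens.map i).obj V = ⊥ := by
  ext z
  simp only [Opens.map_coe, Set.mem_preimage, SetLike.mem_coe, Opens.coe_bot, Set.mem_empty_iff_false,
    iff_false]
  intro hz
  have : i z ∈ (U : Set X) := hV hz
  rw [hU] at this
  exact this ⟨z, rfl⟩

include hU in
lemma vanOn_push (G : CohTop.Ab Z) : VanOn U ((CohTop.push i).obj G) := by
  intro V hV
  have h := map_eq_bot U hU hV
  have h0 : IsZero (G.obj.obj (op (⊥ : Opens Z))) := by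
    have ht : IsTerminal (G.obj.obj (op (⊥ : Opens Z))) := TopCat.Sheaf.isTerminalOfEmpty G
    exact (isZero_zero _).of_iso (ht.uniqueUpToIso (isZero_zero AddCommGrpCat).isTerminal)
  show IsZero (G.obj.obj (op ((Opens.map i).obj V)))
  rw [h]
  exact h0

include hU in
lemma U_le_r (W : Opens Z) : U ≤ (r i).obj W := by
  rw [le_r_iff, map_eq_bot U hU le_rfl]
  exact bot_le

include hU in
lemma r_map_le (V : Opens X) : (r i).obj ((Opens.map i).obj V) ≤ V ⊔ U := by
  intro x hx
  obtain ⟨V', hV', hxV'⟩ := Opens.mem_sSup.1 hx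
  by_cases hxr : x ∈ Set.range i
  · obtain ⟨z, rfl⟩ := hxr
    exact Or.inl (hV' hxV')
  · refine Or.inr ?_
    show x ∈ (U : Set X)
    rw [hU]
    exact hxr

lemma isIso_fst_of_isZero {C : Type*} [Category C] [HasZeroMorphisms C] {X' Y' Z' P : C}
    {f : X' ⟶ Z'} {g : Y' ⟶ Z'} {fst : P ⟶ X'} {snd : P ⟶ Y'} (w : fst ≫ f = snd ≫ g)
    (h : IsLimit (PullbackCone.mk fst snd w)) (hY : IsZero Y') (hZ : IsZero Z') : IsIso fst := by
  let s : PullbackCone f g := PullbackCone.mk (𝟙 X') 0 (hZ.eq_of_tgt _ _)
  let l : X' ⟶ P := h.lift s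
  have h1 : l ≫ fst = 𝟙 X' := h.fac s WalkingCospan.left
  refine ⟨l, ?_, h1⟩
  apply PullbackCone.IsLimit.hom_ext h
  · show (fst ≫ l) ≫ fst = 𝟙 P ≫ fst
    rw [Category.assoc, h1, Category.comp_id, Category.id_comp]
  · exact hY.eq_of_tgt _ _

lemma isIso_map_of_vanOn {F : CohTop.Ab X} (hF : VanOn U F) (V : Opens X) :
    IsIso (F.obj.map (homOfLE (le_sup_left : V ≤ V ⊔ U)).op) := by
  have h := TopCat.Sheaf.isLimitPullbackCone F V U
  exact isIso_fst_of_isZero _ h (hF U le_rfl) (hF (V ⊓ U) inf_le_right)

variable (i) in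
/-- the presheaf on `Z` attached to a sheaf on `X` -/
def preG (F : CohTop.Ab X) : TopCat.Presheaf AddCommGrpCat.{u} Z := (r i).op ⋙ F.obj

lemma preG_map (F : CohTop.Ab X) {W W' : Opens Z} (f : W ⟶ W') :
    (preG i F).map f.op = F.obj.map ((r i).map f).op := rfl

lemma map_eq_of_thin (F : CohTop.Ab X) {V V' : Opens X} (f g : V ⟶ V') :
    F.obj.map f.op = F.obj.map g.op := by
  rw [Subsingleton.elim f g]

include hU in
lemma r_iSup_le (hi : IsInducing i) {ι : Type u} (W : ι → Opens Z) :
    (r i).obj (iSup W) ≤ iSup (fun o : Option ι => Option.elim o U (fun k => (r i).obj (W k))) := by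
  intro x hx
  obtain ⟨V', hV', hxV'⟩ := Opens.mem_sSup.1 hx
  by_cases hxr : x ∈ Set.range i
  · obtain ⟨z, rfl⟩ := hxr
    have hz : z ∈ iSup W := hV' hxV'
    obtain ⟨k, hk⟩ := Opens.mem_iSup.1 hz
    apply Opens.mem_iSup.2
    refine ⟨some k, ?_⟩
    show i z ∈ (r i).obj (W k)
    have : z ∈ (Opens.map i).obj ((r i).obj (W k)) := by
      rw [map_r hi]
      exact hk
    exact this
  · apply Opens.mem_iSup.2
    refine ⟨none, ?_⟩
    show x ∈ (U : Set X)
    rw [hU]
    exact hxr

include hU in
lemma preG_isSheaf (hi : IsInducing i) {F : CohTop.Ab X} (hF : VanOn U F) :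
    (preG i F).IsSheaf := by
  rw [TopCat.Presheaf.isSheaf_iff_isSheafUniqueGluing]
  intro ι W sf hsf
  let Fs : TopCat.Sheaf AddCommGrpCat.{u} X := F
  let V : Option ι → Opens X := fun o => Option.elim o U (fun k => (r i).obj (W k))
  have hsub : ∀ (V' : Opens X), V' ≤ U → Subsingleton (ToType (F.obj.obj (op V'))) := by
    intro V' hV'
    exact (AddCommGrpCat.subsingleton_of_isZero (hF V' hV'))
  let t : ∀ o : Option ι, ToType (F.obj.obj (op (V o))) := fun o =>
    match o with
    | none => (0 : F.obj.obj (op U))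
    | some k => sf k
  have hle : ∀ o, V o ≤ (r i).obj (iSup W) := by
    intro o
    cases o with
    | none => exact U_le_r U hU _
    | some k => exact (r i).monotone (le_iSup W k)
  have hcompat : TopCat.Presheaf.IsCompatible F.obj V t := by
    intro o o'
    cases o with
    | none =>
      have := hsub (V none ⊓ V o') inf_le_left
      exact Subsingleton.elim _ _
    | some k =>
      cases o' with
      | none =>
        have := hsub (V (some k) ⊓ V none) inf_le_right
        exact Subsingleton.elim _ _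
      | some l =>
        have h1 : F.obj.map ((r i).map (Opens.infLELeft (W k) (W l))).op (sf k) =
            F.obj.map ((r i).map (Opens.infLERight (W k) (W l))).op (sf l) := hsf k l
        have hrl : (r i).obj (W k) ⊓ (r i).obj (W l) ≤ (r i).obj (W k ⊓ W l) := by
          rw [le_r_iff]
          apply le_inf
          · exact le_trans ((Opens.map i).monotone inf_le_left) (map_r_le i _)
          · exact le_trans ((Opens.map i).monotone inf_le_right) (map_r_le i _)
        have h2 := congrArg (F.obj.map (homOfLE hrl).op) h1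
        rw [← ConcreteCategory.comp_apply, ← ConcreteCategory.comp_apply, ← F.obj.map_comp,
          ← F.obj.map_comp, ← op_comp, ← op_comp] at h2
        show F.obj.map (Opens.infLELeft _ _).op (sf k) = F.obj.map (Opens.infLERight _ _).op (sf l)
        rw [map_eq_of_thin F (Opens.infLELeft _ _) (homOfLE hrl ≫ (r i).map (Opens.infLELeft _ _)),
          map_eq_of_thin F (Opens.infLERight _ _) (homOfLE hrl ≫ (r i).map (Opens.infLERight _ _))]
        exact h2
  obtain ⟨s, hs, hs'⟩ := Fs.existsUnique_gluing' V ((r i).obj (iSup W)) (fun o => homOfLE (hle o))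
    (r_iSup_le U hU hi W) t hcompat
  refine ⟨s, ?_, ?_⟩
  · intro k
    have := hs (some k)
    show F.obj.map ((r i).map (Opens.leSupr W k)).op s = sf k
    rw [map_eq_of_thin F ((r i).map (Opens.leSupr W k)) (homOfLE (hle (some k)))]
    exact this
  · intro s' hs''
    apply hs'
    intro o
    cases o with
    | none =>
      have := hsub (V none) le_rfl
      exact Subsingleton.elim _ _
    | some k =>
      have := hs'' k
      show F.obj.map (homOfLE (hle (some k))).op s' = sf k
      rw [map_eq_of_thin F (homOfLE (hle (some k))) ((r i).map (Opens.leSupr W k))]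
      exact this

/-- the sheaf on `Z` attached to a sheaf on `X` vanishing on `U` -/
def sheafG (hi : IsInducing i) (F : CohTop.Ab X) (hF : VanOn U F) : CohTop.Ab Z :=
  ⟨preG i F, preG_isSheaf U hU hi hF⟩

include hU in
lemma isIso_unit_comp {F : CohTop.Ab X} (hF : VanOn U F) (V : Opens X) :
    IsIso (F.obj.map (homOfLE (le_r_map i V)).op) := by
  have h2 : V ⊔ U ≤ (r i).obj ((Opens.map i).obj V) := sup_le (le_r_map i V) (U_le_r U hU _)
  have h3 := r_map_le U hU V
  have e : (r i).obj ((Opens.map i).obj V) = V ⊔ U := le_antisymm h3 h2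
  have : F.obj.map (homOfLE (le_r_map i V)).op =
      F.obj.map (eqToHom e.symm).op ≫ F.obj.map (homOfLE (le_sup_left : V ≤ V ⊔ U)).op := by
    rw [← F.obj.map_comp, ← op_comp]
    exact map_eq_of_thin F _ _
  rw [this]
  have := isIso_map_of_vanOn U hF V
  infer_instance

/-- `i_* G ≅ F` -/
noncomputable def pushSheafGIso (hi : IsInducing i) (F : CohTop.Ab X) (hF : VanOn U F) :
    (CohTop.push i).obj (sheafG U hU hi F hF) ≅ F :=
  (fullyFaithfulSheafToPresheaf _ _).preimageIso
    (NatIso.ofComponents
      (fun V => @asIso _ _ _ _ (F.obj.map (homOfLE (le_r_map i V.unop)).op)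
        (isIso_unit_comp U hU hF V.unop))
      (by
        intro V V' f
        show F.obj.map _ ≫ F.obj.map _ = F.obj.map _ ≫ F.obj.map _
        rw [← F.obj.map_comp, ← F.obj.map_comp]
        congr 1))

end Van

section Adj

open Groth.Agent.H18.OpenRestr Groth.Agent.H18.SectSupp

variable (U : Opens X) (hU : (U : Set X) = (Set.range i)ᶜ)

/-- the lift of the pushforward to sheaves vanishing on `U` -/
noncomputable def E : CohTop.Ab Z ⥤ (VanOn U).FullSubcategory :=
  (VanOn U).lift (CohTop.push i) (vanOn_push U hU)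

include hU in
lemma E_isEquivalence (hi : IsInducing i) : (E U hU).IsEquivalence := by
  have hf1 : (CohTop.push i).Full := full_pushforward AddCommGrpCat.{u} hi
  have hf2 : (CohTop.push i).Faithful := faithful_pushforward AddCommGrpCat.{u} hi
  have h1 : (E U hU).Full :=
    Functor.Full.of_comp_faithful_iso ((VanOn U).liftCompιIso (CohTop.push i) (vanOn_push U hU))
  have h2 : (E U hU).Faithful :=
    Functor.Faithful.of_comp_iso ((VanOn U).liftCompιIso (CohTop.push i) (vanOn_push U hU))
  have h3 : (E U hU).EssSurj := by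
    constructor
    intro S
    exact ⟨sheafG U hU hi S.obj S.property,
      ⟨(VanOn U).fullyFaithfulι.preimageIso (pushSheafGIso U hU hi S.obj S.property)⟩⟩
  exact { }

/-- the restricted pullback is left adjoint to `E` -/
noncomputable def adjL : (VanOn U).ι ⋙ CohTop.pull i ⊣ E U hU :=
  Adjunction.restrictFullyFaithful (iC := (VanOn U).ι) (iD := 𝟭 _)
    (TopCat.Sheaf.pullbackPushforwardAdjunction AddCommGrpCat.{u} i)
    (VanOn U).fullyFaithfulι (Functor.FullyFaithful.id _)
    (Functor.rightUnitor _).symm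
    (Functor.leftUnitor _ ≪≫ ((VanOn U).liftCompιIso _ _).symm)

/-- `E` is left adjoint to the restricted pullback -/
noncomputable def adjE (hi : IsInducing i) : E U hU ⊣ (VanOn U).ι ⋙ CohTop.pull i := by
  have := E_isEquivalence U hU hi
  exact (adjL U hU).toEquivalence.symm.toAdjunction

lemma comp_η_eq_zero_of_vanOn {S F : CohTop.Ab X} (hS : VanOn U S) (σ : S ⟶ F) :
    σ ≫ (η U).app F = 0 := by
  rw [comp_η_eq_zero_iff]
  apply Sheaf.hom_ext
  apply NatTrans.ext
  funext V
  show σ.hom.app V ≫ F.obj.map (homOfLE (LR_le U V.unop)).op = 0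
  rw [← σ.hom.naturality]
  have hz : IsZero (S.obj.obj (op ((L U).obj ((R U).obj V.unop)))) := by
    apply hS
    rw [LR_eq]
    exact inf_le_right
  rw [hz.eq_of_tgt (S.obj.map _) 0, zero_comp]

lemma vanOn_sectSupp (F : CohTop.Ab X) : VanOn U ((LocCohZ.sectSuppF U).obj F) := by
  intro V hV
  have h1 : κ U F ≫ (unitN U).app F = 0 := (comp_η_eq_zero_iff U _).1 (κ_η U F)
  have h2 := congrArg (fun t => t.hom.app (op V)) h1
  have h3 : (κ U F).hom.app (op V) ≫ F.obj.map (homOfLE (LR_le U V)).op = 0 := h2
  have e : (L U).obj ((R U).obj V) = V := by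
    rw [LR_eq]
    exact inf_eq_left.2 hV
  have hiso : IsIso (F.obj.map (homOfLE (LR_le U V)).op) := by
    have : homOfLE (LR_le U V) = eqToHom e := Subsingleton.elim _ _
    rw [this]
    infer_instance
  have h4 : (κ U F).hom.app (op V) = 0 := by
    rw [← cancel_mono (F.obj.map (homOfLE (LR_le U V)).op), h3, zero_comp]
  have hm : Mono (κ U F).hom := inferInstanceAs (Mono ((sheafToPresheaf _ _).map (κ U F)))
  have hm' : Mono ((κ U F).hom.app (op V)) := inferInstance
  exact IsZero.of_mono_eq_zero _ h4

/-- the coreflector -/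
noncomputable def Γ : CohTop.Ab X ⥤ (VanOn U).FullSubcategory :=
  (VanOn U).lift (LocCohZ.sectSuppF U) (vanOn_sectSupp U)

/-- the inclusion is left adjoint to `Γ` -/
noncomputable def adjΓ : (VanOn U).ι ⊣ Γ U :=
  Adjunction.mkOfHomEquiv
    { homEquiv := fun S F =>
        { toFun := fun σ => ObjectProperty.homMk (liftκ U σ (comp_η_eq_zero_of_vanOn U S.property σ))
          invFun := fun τ => τ.hom ≫ κ U F
          left_inv := fun σ => liftκ_κ U σ _
          right_inv := fun τ => by
            apply (VanOn U).fullyFaithfulι.map_injective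
            show liftκ U (τ.hom ≫ κ U F) _ = τ.hom
            rw [← cancel_mono (κ U F)]
            exact liftκ_κ U _ _ }
      homEquiv_naturality_left_symm := fun {S' S F} f g => by
        show (f ≫ g).hom ≫ κ U F = f.hom ≫ g.hom ≫ κ U F
        rw [← Category.assoc]
        rfl
      homEquiv_naturality_right := fun {S F F'} f g => by
        apply (VanOn U).fullyFaithfulι.map_injective
        show liftκ U (f ≫ g) _ = liftκ U f _ ≫ (LocCohZ.sectSuppF U).map g
        rw [← cancel_mono (κ U F'), liftκ_κ, Category.assoc, sectSuppF_map_κ, liftκ_κ_assoc] }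

/-- the main adjunction -/
noncomputable def adjPush (hi : IsInducing i) :
    CohTop.push i ⊣ LocCohZ.sectSuppF U ⋙ CohTop.pull i :=
  (((adjE U hU hi).comp (adjΓ U)).ofNatIsoLeft ((VanOn U).liftCompιIso _ _)).ofNatIsoRight
    ((Functor.associator _ _ _).symm ≪≫
      Functor.isoWhiskerRight ((VanOn U).liftCompιIso _ _) (CohTop.pull i))

end Adj

end ClEmb
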