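import Mathlib
import Groth.Agent.Lib.helper23.ClEmb

universe u

open CategoryTheory CategoryTheory.Limits TopologicalSpace Opposite Topology

namespace ClEmb

variable {X : TopCat.{u}} (U : Opens X)

lemma isZero_stalk_of_vanOn {F : CohTop.Ab X} (hF : VanOn U F) (x : X) (hx : x ∈ U) :
    IsZero (CohTop.stalk F x) := by
  have : Subsingleton (CohTop.stalk F x) := by
    constructor
    have key : ∀ t : CohTop.stalk F x, t = 0 := by
      intro t
      obtain ⟨V, m, s, rfl⟩ := TopCat.Presheaf.exists_germ_eq F.obj t
      have hm : x ∈ V ⊓ U := ⟨m, hx⟩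
      have h1 := TopCat.Presheaf.germ_res_apply F.obj (Opens.infLELeft V U) x hm s
      rw [← h1]
      have hz : IsZero (F.obj.obj (op (V ⊓ U))) := hF _ inf_le_right
      have : Subsingleton (F.obj.obj (op (V ⊓ U))) := AddCommGrpCat.subsingleton_of_isZero hz
      rw [Subsingleton.elim (F.obj.map (Opens.infLELeft V U).op s) 0, map_zero]
    intro a b
    rw [key a, key b]
  exact AddCommGrpCat.isZero_of_subsingleton _

lemma vanOn_of_isZero_stalk {F : CohTop.Ab X}
    (hF : ∀ x : X, x ∈ U → IsZero (CohTop.stalk F x)) : VanOn U F := by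
  intro V hV
  have : Subsingleton (F.obj.obj (op V)) := by
    constructor
    intro s t
    apply TopCat.Presheaf.section_ext (F := (F : TopCat.Sheaf AddCommGrpCat.{u} X)) V s t
    intro x hx
    have := AddCommGrpCat.subsingleton_of_isZero (hF x (hV hx))
    exact Subsingleton.elim _ _
  exact AddCommGrpCat.isZero_of_subsingleton _

lemma vanOn_of_iso {F G : CohTop.Ab X} (e : F ≅ G) (hF : VanOn U F) : VanOn U G := by
  intro V hV
  exact (hF V hV).of_iso (((sheafToPresheaf _ _).mapIso e).app (op V)).symm

end ClEmb
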