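import Mathlib
import Groth.Agent.Lib.helper23.ClEmb

/-!
# Sections with support preserve injectives
-/

universe u

open CategoryTheory CategoryTheory.Limits TopologicalSpace Opposite Topology

namespace ClEmb

variable {X : TopCat.{u}}

set_option synthInstance.maxHeartbeats 2000000 in
instance pull_preservesFiniteLimits {Z Y : TopCat.{u}} (f : Z ⟶ Y) :
    PreservesFiniteLimits (TopCat.Sheaf.pullback AddCommGrpCat.{u} f) := by
  have h1 : RepresentablyFlat (Opens.map f) := inferInstance
  have h2 : PreservesFiniteLimits ((Opens.map f).op.lan : (_ ⥤ _ ⥤ AddCommGrpCat.{u})) := by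
    exact lan_preservesFiniteLimits_of_flat _ _
  exact Functor.sheafPullbackConstruction.preservesFiniteLimits (Opens.map f) AddCommGrpCat.{u} _ _

instance pull_preservesMono {Z Y : TopCat.{u}} (f : Z ⟶ Y) :
    (TopCat.Sheaf.pullback AddCommGrpCat.{u} f).PreservesMonomorphisms :=
  have := pull_preservesFiniteLimits f
  inferInstance

lemma injective_push {Z Y : TopCat.{u}} (f : Z ⟶ Y) (G : CohTop.Ab Z) (hG : Injective G) :
    Injective ((CohTop.push f).obj G) :=
  @Injective.injective_of_adjoint _ _ _ _ (TopCat.Sheaf.pullback AddCommGrpCat.{u} f)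
    (TopCat.Sheaf.pushforward AddCommGrpCat.{u} f) (pull_preservesMono f)
    (TopCat.Sheaf.pullbackPushforwardAdjunction AddCommGrpCat.{u} f) G hG

/-- the closed complement of an open, as a space -/
abbrev compl (U : Opens X) : TopCat.{u} := TopCat.of ((U : Set X)ᶜ : Set X)

/-- the inclusion of the closed complement -/
abbrev complIncl (U : Opens X) : compl U ⟶ X := TopCat.ofHom ⟨Subtype.val, continuous_subtype_val⟩

lemma complIncl_isInducing (U : Opens X) : IsInducing (complIncl U) :=
  IsInducing.subtypeVal

lemma complIncl_range (U : Opens X) : (U : Set X) = (Set.range (complIncl U))ᶜ := by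
  have : Set.range (complIncl U) = (U : Set X)ᶜ := Subtype.range_coe
  rw [this, compl_compl]

/-- sheaves vanishing on `U` are direct images from the complement -/
noncomputable def pushPullIso (U : Opens X) (S : CohTop.Ab X) (hS : VanOn U S) :
    (CohTop.push (complIncl U)).obj ((CohTop.pull (complIncl U)).obj S) ≅ S := by
  have hi := complIncl_isInducing U
  have hU := complIncl_range U
  have hf1 : (CohTop.push (complIncl U)).Full := full_pushforward AddCommGrpCat.{u} hi
  have hf2 : (CohTop.push (complIncl U)).Faithful := faithful_pushforward AddCommGrpCat.{u} hi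
  let adj := TopCat.Sheaf.pullbackPushforwardAdjunction AddCommGrpCat.{u} (complIncl U)
  have hc : IsIso adj.counit := @Adjunction.counit_isIso_of_R_fully_faithful _ _ _ _ _ _ adj hf1 hf2
  have hc' : ∀ G, IsIso (adj.counit.app G) := fun G => inferInstance
  let G := sheafG U hU hi S hS
  let e : (CohTop.push (complIncl U)).obj G ≅ S := pushSheafGIso U hU hi S hS
  exact (CohTop.push (complIncl U)).mapIso ((CohTop.pull (complIncl U)).mapIso e.symm) ≪≫
    (CohTop.push (complIncl U)).mapIso (@asIso _ _ _ _ (adj.counit.app G) (hc' G)) ≪≫ e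

lemma injective_sectSupp (U : Opens X) (F : CohTop.Ab X) (hF : Injective F) :
    Injective ((LocCohZ.sectSuppF U).obj F) := by
  have hi := complIncl_isInducing U
  have hU := complIncl_range U
  let adj1 := adjPush U hU hi
  let adj2 := TopCat.Sheaf.pullbackPushforwardAdjunction AddCommGrpCat.{u} (complIncl U)
  have hm1 : (CohTop.push (complIncl U)).PreservesMonomorphisms :=
    Functor.preservesMonomorphisms_of_adjunction adj2
  have hm2 : (CohTop.pull (complIncl U)).PreservesMonomorphisms := pull_preservesMono _
  have hm : (CohTop.pull (complIncl U) ⋙ CohTop.push (complIncl U)).PreservesMonomorphisms :=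
    inferInstance
  have h1 : Injective (((LocCohZ.sectSuppF U ⋙ CohTop.pull (complIncl U)) ⋙
      CohTop.push (complIncl U)).obj F) :=
    @Injective.injective_of_adjoint _ _ _ _ _ _ hm (adj2.comp adj1) F hF
  exact Injective.of_iso (pushPullIso U _ (vanOn_sectSupp U F)) h1

end ClEmb
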