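import Mathlib
import Groth.Agent.Lib.helper23.ClEmb

/-!
# Sheaves of sets on a closed subspace
-/

universe u

open CategoryTheory CategoryTheory.Limits TopologicalSpace Opposite Topology

namespace ClEmbT

open ClEmb

variable {Z X : TopCat.{u}} {i : Z ⟶ X}

/-- sheaves of sets with one-point sections over the opens inside `U` -/
def TermOn (U : Opens X) (F : TopCat.Sheaf (Type u) X) : Prop :=
  ∀ V : Opens X, V ≤ U → Nonempty (Unique (F.obj.obj (op V)))

variable (U : Opens X) (hU : (U : Set X) = (Set.range i)ᶜ)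

include hU in
lemma termOn_push (G : TopCat.Sheaf (Type u) Z) :
    TermOn U ((TopCat.Sheaf.pushforward (Type u) i).obj G) := by
  intro V hV
  have h := map_eq_bot U hU hV
  have ht : IsTerminal (G.obj.obj (op (⊥ : Opens Z))) := TopCat.Sheaf.isTerminalOfEmpty G
  show Nonempty (Unique (G.obj.obj (op ((Opens.map i).obj V))))
  rw [h]
  exact ⟨Types.isTerminalEquivUnique _ ht⟩

lemma termOn_of_iso {F F' : TopCat.Sheaf (Type u) X} (e : F ≅ F') (hF : TermOn U F) :
    TermOn U F' := by
  intro V hV
  obtain ⟨hu⟩ := hF V hV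
  let e' : F.obj.obj (op V) ≅ F'.obj.obj (op V) :=
    ((sheafToPresheaf _ _).mapIso e).app (op V)
  exact ⟨Equiv.unique e'.toEquiv.symm⟩

lemma isIso_fst_of_isTerminal {C : Type*} [Category C] {X' Y' Z' P : C}
    {f : X' ⟶ Z'} {g : Y' ⟶ Z'} {fst : P ⟶ X'} {snd : P ⟶ Y'} (w : fst ≫ f = snd ≫ g)
    (h : IsLimit (PullbackCone.mk fst snd w)) (hY : IsTerminal Y') (hZ : IsTerminal Z') :
    IsIso fst := by
  let s : PullbackCone f g := PullbackCone.mk (𝟙 X') (hY.from X') (hZ.hom_ext _ _)
  let l : X' ⟶ P := h.lift s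
  have h1 : l ≫ fst = 𝟙 X' := h.fac s WalkingCospan.left
  refine ⟨l, ?_, h1⟩
  apply PullbackCone.IsLimit.hom_ext h
  · show (fst ≫ l) ≫ fst = 𝟙 P ≫ fst
    rw [Category.assoc, h1, Category.comp_id, Category.id_comp]
  · exact hY.hom_ext _ _

lemma isIso_map_of_termOn {F : TopCat.Sheaf (Type u) X} (hF : TermOn U F) (V : Opens X) :
    IsIso (F.obj.map (homOfLE (le_sup_left : V ≤ V ⊔ U)).op) := by
  have h := TopCat.Sheaf.isLimitPullbackCone F V U
  obtain ⟨h1⟩ := hF U le_rfl
  obtain ⟨h2⟩ := hF (V ⊓ U) inf_le_right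
  exact isIso_fst_of_isTerminal _ h ((Types.isTerminalEquivUnique _).symm h1)
    ((Types.isTerminalEquivUnique _).symm h2)

variable (i) in
/-- the presheaf on `Z` attached to a sheaf on `X` -/
def preG (F : TopCat.Sheaf (Type u) X) : TopCat.Presheaf (Type u) Z := (r i).op ⋙ F.obj

lemma map_eq_of_thin (F : TopCat.Sheaf (Type u) X) {V V' : Opens X} (f g : V ⟶ V') :
    F.obj.map f.op = F.obj.map g.op := by
  rw [Subsingleton.elim f g]

include hU in
lemma preG_isSheaf (hi : IsInducing i) {F : TopCat.Sheaf (Type u) X} (hF : TermOn U F) :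
    (preG i F).IsSheaf := by
  rw [TopCat.Presheaf.isSheaf_iff_isSheafUniqueGluing]
  intro ι W sf hsf
  let V : Option ι → Opens X := fun o => Option.elim o U (fun k => (r i).obj (W k))
  have hsub : ∀ (V' : Opens X), V' ≤ U → Subsingleton (F.obj.obj (op V')) := by
    intro V' hV'
    obtain ⟨h⟩ := hF V' hV'
    infer_instance
  obtain ⟨hUu⟩ := hF U le_rfl
  let t : ∀ o : Option ι, ToType (F.obj.obj (op (V o))) := fun o =>
    match o with
    | none => (default : F.obj.obj (op U))
    | some k => sf k
  have hle : ∀ o, V o ≤ (r i).obj (iSup W) := by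
    intro o
    cases o with
    | none => exact U_le_r U hU _
    | some k => exact (r i).monotone (le_iSup W k)
  have hcompat : TopCat.Presheaf.IsCompatible F.obj V t := by
    intro o o'
    cases o with
    | none =>
      have := hsub (V none ⊓ V o') inf_le_left
      exact Subsingleton.elim _ _
    | some k =>
      cases o' with
      | none =>
        have := hsub (V (some k) ⊓ V none) inf_le_right
        exact Subsingleton.elim _ _
      | some l =>
        have h1 : F.obj.map ((r i).map (Opens.infLELeft (W k) (W l))).op (sf k) =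
            F.obj.map ((r i).map (Opens.infLERight (W k) (W l))).op (sf l) := hsf k l
        have hrl : (r i).obj (W k) ⊓ (r i).obj (W l) ≤ (r i).obj (W k ⊓ W l) := by
          rw [le_r_iff]
          apply le_inf
          · exact le_trans ((Opens.map i).monotone inf_le_left) (map_r_le i _)
          · exact le_trans ((Opens.map i).monotone inf_le_right) (map_r_le i _)
        have h2 := congrArg (F.obj.map (homOfLE hrl).op) h1
        have e1 : F.obj.map (Opens.infLELeft ((r i).obj (W k)) ((r i).obj (W l))).op =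
            F.obj.map ((r i).map (Opens.infLELeft (W k) (W l))).op ≫ F.obj.map (homOfLE hrl).op := by
          rw [← F.obj.map_comp, ← op_comp]
          exact map_eq_of_thin F _ _
        have e2 : F.obj.map (Opens.infLERight ((r i).obj (W k)) ((r i).obj (W l))).op =
            F.obj.map ((r i).map (Opens.infLERight (W k) (W l))).op ≫ F.obj.map (homOfLE hrl).op := by
          rw [← F.obj.map_comp, ← op_comp]
          exact map_eq_of_thin F _ _
        show F.obj.map (Opens.infLELeft _ _).op (sf k) = F.obj.map (Opens.infLERight _ _).op (sf l)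
        rw [e1, e2]
        exact h2
  obtain ⟨s, hs, hs'⟩ := F.existsUnique_gluing' V ((r i).obj (iSup W)) (fun o => homOfLE (hle o))
    (r_iSup_le U hU hi W) t hcompat
  refine ⟨s, ?_, ?_⟩
  · intro k
    have := hs (some k)
    show F.obj.map ((r i).map (Opens.leSupr W k)).op s = sf k
    rw [map_eq_of_thin F ((r i).map (Opens.leSupr W k)) (homOfLE (hle (some k)))]
    exact this
  · intro s' hs''
    apply hs'
    intro o
    cases o with
    | none =>
      have := hsub (V none) le_rfl
      exact Subsingleton.elim _ _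
    | some k =>
      have := hs'' k
      show F.obj.map (homOfLE (hle (some k))).op s' = sf k
      rw [map_eq_of_thin F (homOfLE (hle (some k))) ((r i).map (Opens.leSupr W k))]
      exact this

/-- the sheaf on `Z` attached to a sheaf on `X` trivial on `U` -/
def sheafG (hi : IsInducing i) (F : TopCat.Sheaf (Type u) X) (hF : TermOn U F) :
    TopCat.Sheaf (Type u) Z :=
  ⟨preG i F, preG_isSheaf U hU hi hF⟩

include hU in
lemma isIso_unit_comp {F : TopCat.Sheaf (Type u) X} (hF : TermOn U F) (V : Opens X) :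
    IsIso (F.obj.map (homOfLE (le_r_map i V)).op) := by
  have h2 : V ⊔ U ≤ (r i).obj ((Opens.map i).obj V) := sup_le (le_r_map i V) (U_le_r U hU _)
  have h3 := r_map_le U hU V
  have e : (r i).obj ((Opens.map i).obj V) = V ⊔ U := le_antisymm h3 h2
  have : F.obj.map (homOfLE (le_r_map i V)).op =
      F.obj.map (eqToHom e.symm).op ≫ F.obj.map (homOfLE (le_sup_left : V ≤ V ⊔ U)).op := by
    rw [← F.obj.map_comp, ← op_comp]
    exact map_eq_of_thin F _ _
  rw [this]
  have := isIso_map_of_termOn U hF V
  infer_instance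

/-- `i_* G ≅ F` -/
noncomputable def pushSheafGIso (hi : IsInducing i) (F : TopCat.Sheaf (Type u) X)
    (hF : TermOn U F) :
    (TopCat.Sheaf.pushforward (Type u) i).obj (sheafG U hU hi F hF) ≅ F :=
  (fullyFaithfulSheafToPresheaf _ _).preimageIso
    (NatIso.ofComponents
      (fun V => @asIso _ _ _ _ (F.obj.map (homOfLE (le_r_map i V.unop)).op)
        (isIso_unit_comp U hU hF V.unop))
      (by
        intro V V' f
        show F.obj.map _ ≫ F.obj.map _ = F.obj.map _ ≫ F.obj.map _
        rw [← F.obj.map_comp, ← F.obj.map_comp]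
        congr 1))

omit hU

lemma stalk_unique_of_termOn {F : TopCat.Sheaf (Type u) X} (hF : TermOn U F) (x : X)
    (hx : x ∈ U) : Nonempty (Unique (F.presheaf.stalk x)) := by
  obtain ⟨hUu⟩ := hF U le_rfl
  refine ⟨{ default := F.presheaf.germ U x hx (default : F.obj.obj (op U)), uniq := ?_ }⟩
  intro t
  obtain ⟨V, m, s, rfl⟩ := TopCat.Presheaf.exists_germ_eq F.presheaf t
  have hm : x ∈ V ⊓ U := ⟨m, hx⟩
  obtain ⟨hW⟩ := hF (V ⊓ U) inf_le_right
  have h1 := TopCat.Presheaf.germ_res_apply F.presheaf (homOfLE (inf_le_left : V ⊓ U ≤ V)) x hm s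
  have h2 := TopCat.Presheaf.germ_res_apply F.presheaf (homOfLE (inf_le_right : V ⊓ U ≤ U)) x hm
    (default : F.obj.obj (op U))
  have h3 : F.presheaf.map (homOfLE (inf_le_left : V ⊓ U ≤ V)).op s =
      F.presheaf.map (homOfLE (inf_le_right : V ⊓ U ≤ U)).op (default : F.obj.obj (op U)) :=
    Subsingleton.elim (α := F.obj.obj (op (V ⊓ U))) _ _
  exact h1.symm.trans ((congrArg _ h3).trans h2)

lemma termOn_of_stalk_unique {F : TopCat.Sheaf (Type u) X}
    (h : ∀ x : X, x ∈ U → Nonempty (Unique (F.presheaf.stalk x))) : TermOn U F := by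
  intro V hV
  have hsub : ∀ V' : Opens X, V' ≤ U → Subsingleton (F.obj.obj (op V')) := by
    intro V' hV'
    constructor
    intro s t
    apply TopCat.Presheaf.section_ext F V' s t
    intro x hx
    obtain ⟨hu⟩ := h x (hV' hx)
    exact Subsingleton.elim (α := F.presheaf.stalk x) _ _
  have hne : Nonempty (F.obj.obj (op V)) := by
    have hex : ∀ x : V, ∃ (W : Opens X) (_ : (x : X) ∈ W), Nonempty (F.obj.obj (op W)) := by
      intro x
      obtain ⟨hu⟩ := h x (hV x.2)
      obtain ⟨W, m, s, -⟩ := TopCat.Presheaf.exists_germ_eq F.presheaf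
        (default : F.presheaf.stalk (x : X))
      exact ⟨W, m, ⟨s⟩⟩
    choose W hW hs using hex
    let V' : V → Opens X := fun x => W x ⊓ V
    let sf : ∀ x : V, ToType (F.obj.obj (op (V' x))) := fun x =>
      F.obj.map (homOfLE (inf_le_left : W x ⊓ V ≤ W x)).op (hs x).some
    have hcompat : TopCat.Presheaf.IsCompatible F.obj V' sf := by
      intro x y
      have := hsub (V' x ⊓ V' y) (le_trans inf_le_left (le_trans inf_le_right hV))
      exact Subsingleton.elim _ _
    have hcov : V ≤ iSup V' := by
      intro x hx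
      apply Opens.mem_iSup.2
      exact ⟨⟨x, hx⟩, ⟨hW ⟨x, hx⟩, hx⟩⟩
    obtain ⟨s, -, -⟩ := F.existsUnique_gluing' V' V (fun x => homOfLE inf_le_right) hcov sf hcompat
    exact ⟨s⟩
  have := hsub V hV
  obtain ⟨s⟩ := hne
  exact ⟨{ default := s, uniq := fun t => Subsingleton.elim _ _ }⟩

end ClEmbT
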