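import Mathlib
import Groth.Prelude.Def_EtShriek2

/-!
# `compEtale j` is cocontinuous
-/

universe u

open CategoryTheory CategoryTheory.Limits Opposite AlgebraicGeometry

namespace CompEtCocont

variable {U X : Scheme.{u}}

set_option backward.isDefEq.respectTransparency.types false in
theorem cocont_compEtale (j : U ⟶ X) [hj : Etale j] :
    (EtShriek.compEtale j).IsCocontinuous U.smallEtaleTopology X.smallEtaleTopology := by
  constructor
  intro V S hS
  have eU : U.smallEtaleTopology =
      (U.smallPretopology (P := EtCoh.etaleMP) (Q := EtCoh.etaleMP)).toGrothendieck :=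
    Scheme.smallGrothendieckTopology_eq_toGrothendieck_smallPretopology U le_rfl
  have eX : X.smallEtaleTopology =
      (X.smallPretopology (P := EtCoh.etaleMP) (Q := EtCoh.etaleMP)).toGrothendieck :=
    Scheme.smallGrothendieckTopology_eq_toGrothendieck_smallPretopology X le_rfl
  rw [eX] at hS
  rw [eU]
  replace hS := (Scheme.mem_toGrothendieck_smallPretopology _ S).1 hS
  refine (Scheme.mem_toGrothendieck_smallPretopology V _).2 ?_
  intro x
  obtain ⟨W, g, w, hg, hP, hw⟩ := hS x
  have e : g.left ≫ V.hom ≫ j = W.hom := MorphismProperty.Over.w g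
  have hW : EtCoh.etaleMP ((g.left ≫ V.hom) ≫ j) := by
    rw [Category.assoc, e]; exact W.prop
  let W' : U.Etale := MorphismProperty.Over.mk ⊤ (g.left ≫ V.hom)
      (EtCoh.etaleMP.of_postcomp (W' := EtCoh.etaleMP) (g.left ≫ V.hom) j hj hW)
  let g' : W' ⟶ V := MorphismProperty.Over.homMk g.left rfl
  let iso : (EtShriek.compEtale j).obj W' ≅ W := MorphismProperty.Over.isoMk (Iso.refl _)
      ((Category.id_comp W.hom).trans (e.symm.trans (Category.assoc _ _ _).symm))
  refine ⟨W', g', w, ?_, hP, hw⟩
  show S ((EtShriek.compEtale j).map g')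
  have h : (EtShriek.compEtale j).map g' = iso.hom ≫ g :=
    MorphismProperty.Over.Hom.ext (by
      show g.left = 𝟙 _ ≫ g.left
      rw [Category.id_comp])
  rw [h]
  exact S.downward_closed hg _

end CompEtCocont
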