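import Mathlib
import Groth.Prelude.Def_EtShriek2

/-!
# `compEtale j` is continuous for every étale `j`
-/

universe u

open CategoryTheory CategoryTheory.Limits Opposite AlgebraicGeometry

namespace CompEtCont

variable {U X : Scheme.{u}}

set_option backward.isDefEq.respectTransparency.types false in
theorem compatiblePreserving_compEtale (j : U ⟶ X) [hj : Etale j] :
    CompatiblePreserving X.smallEtaleTopology (EtShriek.compEtale j) := by
  constructor
  intro ℱ Z T x hx Y₁ Y₂ X' f₁ f₂ g₁ g₂ hg₁ hg₂ he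
  have e1 : f₁.left ≫ Y₁.hom ≫ j = X'.hom := MorphismProperty.Over.w f₁
  have hW : EtCoh.etaleMP ((f₁.left ≫ Y₁.hom) ≫ j) := by
    rw [Category.assoc, e1]; exact X'.prop
  let X'' : U.Etale := MorphismProperty.Over.mk ⊤ (f₁.left ≫ Y₁.hom)
      (EtCoh.etaleMP.of_postcomp (W' := EtCoh.etaleMP) (f₁.left ≫ Y₁.hom) j hj hW)
  let e : (EtShriek.compEtale j).obj X'' ≅ X' := MorphismProperty.Over.isoMk (Iso.refl _)
      ((Category.id_comp X'.hom).trans (e1.symm.trans (Category.assoc _ _ _).symm))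
  have hl : f₁.left ≫ g₁.left = f₂.left ≫ g₂.left := congrArg (fun k => k.left) he
  have w1 : g₁.left ≫ Z.hom = Y₁.hom := MorphismProperty.Over.w g₁
  have w2 : g₂.left ≫ Z.hom = Y₂.hom := MorphismProperty.Over.w g₂
  have e2 : f₂.left ≫ Y₂.hom = f₁.left ≫ Y₁.hom := by
    rw [← w1, ← w2]
    exact ((Category.assoc _ _ _).symm.trans (congrArg (· ≫ Z.hom) hl.symm)).trans
      (Category.assoc _ _ _)
  let h₁ : X'' ⟶ Y₁ := MorphismProperty.Over.homMk f₁.left rfl
  let h₂ : X'' ⟶ Y₂ := MorphismProperty.Over.homMk f₂.left e2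
  have hh : h₁ ≫ g₁ = h₂ ≫ g₂ := MorphismProperty.Over.Hom.ext hl
  have key := hx h₁ h₂ hg₁ hg₂ hh
  have m1 : (EtShriek.compEtale j).map h₁ = e.hom ≫ f₁ :=
    MorphismProperty.Over.Hom.ext (by
      show f₁.left = 𝟙 _ ≫ f₁.left
      rw [Category.id_comp])
  have m2 : (EtShriek.compEtale j).map h₂ = e.hom ≫ f₂ :=
    MorphismProperty.Over.Hom.ext (by
      show f₂.left = 𝟙 _ ≫ f₂.left
      rw [Category.id_comp])
  apply (ℱ.obj.mapIso e.op).toEquiv.injective
  have k1 : ℱ.obj.map ((EtShriek.compEtale j).map h₁).op (x g₁ hg₁) =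
      ℱ.obj.map ((EtShriek.compEtale j).map h₂).op (x g₂ hg₂) := key
  rw [m1, m2, op_comp, op_comp, Functor.map_comp, Functor.map_comp] at k1
  exact k1

theorem jCont (j : U ⟶ X) [hj : Etale j] : EtShriek.JCont j :=
  Functor.isContinuous_of_coverPreserving (compatiblePreserving_compEtale j)
    (EtShriek.coverPreserving_compEtale j)

end CompEtCont
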