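import Mathlib
import Groth.Prelude.Def_DCoh2

open AlgebraicGeometry CategoryTheory CategoryTheory.Limits Opposite

namespace Groth.Agent.H23.StrPerf
universe u

open Scheme.Modules

variable {X Y : Scheme.{u}}

set_option backward.isDefEq.respectTransparency false in
/-- restriction of the free module of rank `n` along an open immersion. -/
noncomputable def freeModRestrictIso (f : Y ⟶ X) [IsOpenImmersion f] (n : ℕ) :
    (FlatMod.freeMod X n).restrict f ≅ FlatMod.freeMod Y n :=
  have : PreservesColimitsOfSize.{0, 0} (restrictFunctor f) :=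
    (restrictAdjunction f).leftAdjoint_preservesColimits
  PreservesCoproduct.iso (restrictFunctor f) (fun _ : Fin n => Coh.structureModule X) ≪≫
    Sigma.mapIso (fun _ => restrictUnitIso f)

set_option backward.isDefEq.respectTransparency false in
lemma restrict_iso_freeMod_of_range_subset (F : X.Modules) {V : X.Opens} (n : ℕ)
    (i : F.restrict V.ι ≅ FlatMod.freeMod V n) (j : Y ⟶ X) [IsOpenImmersion j]
    (hj : Set.range j ⊆ (V : Set X)) :
    Nonempty (F.restrict j ≅ FlatMod.freeMod Y n) := by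
  have hrange : Set.range j ⊆ Set.range V.ι := by
    rw [Scheme.Opens.range_ι]
    exact hj
  let k : Y ⟶ V := IsOpenImmersion.lift V.ι j hrange
  have hk : k ≫ V.ι = j := IsOpenImmersion.lift_fac _ _ _
  haveI : IsOpenImmersion (k ≫ V.ι) := by
    rw [hk]
    infer_instance
  haveI : IsOpenImmersion k := IsOpenImmersion.of_comp k V.ι
  exact ⟨(restrictFunctorCongr hk.symm).app F ≪≫ (restrictFunctorComp k V.ι).app F ≪≫
      (restrictFunctor k).mapIso i ≪≫ freeModRestrictIso k n⟩

section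
variable {C : Type*} [Category C] [Abelian C] (O : C) (m n : ℕ)
  [HasCoproduct (fun _ : Fin m => O)] [HasCoproduct (fun _ : Fin n => O)]
  [HasCoproduct (fun _ : Fin (m + n) => O)]

/-- `O^m ⊞ O^n ≅ O^(m+n)` -/
noncomputable def sigmaAddIso :
    (∐ fun _ : Fin m => O) ⊞ (∐ fun _ : Fin n => O) ≅ ∐ fun _ : Fin (m + n) => O where
  hom := biprod.desc (Sigma.desc (fun i => Sigma.ι (fun _ : Fin (m + n) => O) (Fin.castAdd n i)))
    (Sigma.desc (fun j => Sigma.ι (fun _ : Fin (m + n) => O) (Fin.natAdd m j)))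
  inv := Sigma.desc (fun k => Fin.addCases
    (fun i => Sigma.ι (fun _ : Fin m => O) i ≫ biprod.inl)
    (fun j => Sigma.ι (fun _ : Fin n => O) j ≫ biprod.inr) k)
  hom_inv_id := by
    apply biprod.hom_ext'
    · apply Sigma.hom_ext
      intro i
      simp
    · apply Sigma.hom_ext
      intro j
      simp
  inv_hom_id := by
    apply Sigma.hom_ext
    intro k
    refine Fin.addCases (fun i => ?_) (fun j => ?_) k
    · simp
    · simp

end

lemma isFinLocFree_of_iso {M N : X.Modules} (e : M ≅ N) (hM : FlatMod.IsFinLocFree M) :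
    FlatMod.IsFinLocFree N := by
  intro x
  obtain ⟨U, n, hx, ⟨i⟩⟩ := hM x
  exact ⟨U, n, hx, ⟨(restrictFunctor U.ι).mapIso e.symm ≪≫ i⟩⟩

set_option backward.isDefEq.respectTransparency false in
theorem isFinLocFree_biprod {M N : X.Modules} (hM : FlatMod.IsFinLocFree M)
    (hN : FlatMod.IsFinLocFree N) : FlatMod.IsFinLocFree (M ⊞ N) := by
  intro x
  obtain ⟨U, m, hxU, ⟨i⟩⟩ := hM x
  obtain ⟨V, n, hxV, ⟨j⟩⟩ := hN x
  refine ⟨U ⊓ V, m + n, ⟨hxU, hxV⟩, ?_⟩
  obtain ⟨i'⟩ := restrict_iso_freeMod_of_range_subset M m i (U ⊓ V).ι (by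
    rw [Scheme.Opens.range_ι]; exact inf_le_left)
  obtain ⟨j'⟩ := restrict_iso_freeMod_of_range_subset N n j (U ⊓ V).ι (by
    rw [Scheme.Opens.range_ι]; exact inf_le_right)
  haveI : PreservesColimitsOfSize.{0, 0} (restrictFunctor (U ⊓ V).ι) :=
    (restrictAdjunction (U ⊓ V).ι).leftAdjoint_preservesColimits
  haveI : PreservesBinaryBiproducts (restrictFunctor (U ⊓ V).ι) :=
    preservesBinaryBiproducts_of_preservesBinaryCoproducts _
  exact ⟨(restrictFunctor (U ⊓ V).ι).mapBiprod M N ≪≫ biprod.mapIso i' j' ≪≫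
    sigmaAddIso (Coh.structureModule (↑(U ⊓ V))) m n⟩

lemma isZero_biprod {C : Type*} [Category C] [Preadditive C] {A B : C} [HasBinaryBiproduct A B]
    (hA : IsZero A) (hB : IsZero B) : IsZero (A ⊞ B) := by
  rw [IsZero.iff_id_eq_zero]
  apply biprod.hom_ext'
  · exact hA.eq_of_src _ _
  · exact hB.eq_of_src _ _

theorem main6516 {E F : CochainComplex X.Modules ℤ} (φ : E ⟶ F)
    (hE : DCoh.IsStrictlyPerfect E) (hF : DCoh.IsStrictlyPerfect F) :
    DCoh.IsStrictlyPerfect (CochainComplex.mappingCone φ) := by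
  obtain ⟨⟨a, b, hab⟩, hE'⟩ := hE
  obtain ⟨⟨a', b', hab'⟩, hF'⟩ := hF
  have iso : ∀ i : ℤ, (CochainComplex.mappingCone φ).X i ≅ E.X (i + 1) ⊞ F.X i := fun i =>
    HomologicalComplex.homotopyCofiber.XIsoBiprod φ i (i + 1) rfl
  refine ⟨⟨min (a - 1) a', max (b - 1) b', ?_⟩, ?_⟩
  · intro i hi
    refine IsZero.of_iso (isZero_biprod (hab _ ?_) (hab' _ ?_)) (iso i)
    · rcases hi with h | h
      · left; have := min_le_left (a - 1) a'; omega
      · right; have := le_max_left (b - 1) b'; omega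
    · rcases hi with h | h
      · left; have := min_le_right (a - 1) a'; omega
      · right; have := le_max_right (b - 1) b'; omega
  · intro i
    exact isFinLocFree_of_iso (iso i).symm (isFinLocFree_biprod (hE' _) (hF' _))

end Groth.Agent.H23.StrPerf
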