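import Mathlib
import Groth.Prelude.Def_DDual2
import Groth.Agent.Lib.helper23.StrPerf
import Groth.Agent.Lib.helper10.ModColim

open AlgebraicGeometry CategoryTheory CategoryTheory.Limits Opposite TopologicalSpace

namespace Groth.Agent.H23.LocLift
universe u

open Scheme.Modules

variable {X : Scheme.{u}}

/-- an epimorphism of modules is locally surjective on sections -/
theorem exists_lift_of_epi {G F : X.Modules} (p : G ⟶ F) [Epi p] (U : X.Opens)
    (s : Γ(F, U)) (x : X) (hx : x ∈ U) :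
    ∃ (W : X.Opens) (hW : W ≤ U) (_ : x ∈ W) (a : Γ(G, W)),
      p.app W a = F.presheaf.map (homOfLE hW).op s := by
  let T : X.Modules ⥤ Sheaf (Opens.grothendieckTopology X) AddCommGrpCat.{u} :=
    SheafOfModules.toSheaf.{u} X.ringCatSheaf
  have hpc : PreservesColimitsOfSize.{u, u} T :=
    Groth.Agent.Lib.helper10.ModColim.toSheaf_preservesColimits X.ringCatSheaf
  have : PreservesColimitsOfSize.{0, 0} T :=
    preservesColimitsOfSize_shrink.{0, u, 0, u} _
  have : T.PreservesEpimorphisms := inferInstance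
  have : Epi (T.map p) := Functor.map_epi _ p
  have hls : Sheaf.IsLocallySurjective (T.map p) :=
    (Sheaf.isLocallySurjective_iff_epi' _ _).mpr this
  have hmem := Presheaf.imageSieve_mem (Opens.grothendieckTopology X)
    (T.map p).hom s
  obtain ⟨W, f, ⟨a, ha⟩, hxW⟩ := hmem x hx
  exact ⟨W, f.le, hxW, a, ha⟩

/-- finite family version -/
theorem exists_lift_fin_of_epi {G F : X.Modules} (p : G ⟶ F) [Epi p] (U : X.Opens) (n : ℕ)
    (s : Fin n → Γ(F, U)) (x : X) (hx : x ∈ U) :
    ∃ (W : X.Opens) (hW : W ≤ U) (_ : x ∈ W) (a : Fin n → Γ(G, W)),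
      ∀ m, p.app W (a m) = F.presheaf.map (homOfLE hW).op (s m) := by
  choose W hW hxW a ha using fun m => exists_lift_of_epi p U (s m) x hx
  let W₀ : X.Opens := U ⊓ Finset.univ.inf W
  have hle : ∀ m, W₀ ≤ W m := fun m => inf_le_right.trans (Finset.inf_le (Finset.mem_univ m))
  have hx₀ : x ∈ W₀ := by
    refine ⟨hx, ?_⟩
    have : x ∈ ((Finset.univ.inf W : X.Opens) : Set X) := by
      rw [Opens.coe_finset_inf, Finset.inf_set_eq_iInter]
      simp only [Finset.mem_univ, Set.iInter_true, Set.mem_iInter]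
      intro m
      exact hxW m
    exact this
  refine ⟨W₀, inf_le_left, hx₀, fun m => G.presheaf.map (homOfLE (hle m)).op (a m), fun m => ?_⟩
  have h1 := congrArg (fun ψ => (ConcreteCategory.hom ψ) (a m))
    (p.mapPresheaf.naturality (homOfLE (hle m)).op)
  have h2 : F.presheaf.map (homOfLE (inf_le_left : W₀ ≤ U)).op (s m) =
      F.presheaf.map (homOfLE (hle m)).op (F.presheaf.map (homOfLE (hW m)).op (s m)) := by
    rw [← ConcreteCategory.comp_apply, ← Functor.map_comp]
    rfl
  rw [h2, ← ha m]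
  simp only [ConcreteCategory.comp_apply] at h1
  exact h1

/-- the section over `V` determined by `u : O ⟶ M` (image of `1`). -/
noncomputable def unitSec (M : X.Modules) (u : Coh.structureModule X ⟶ M) (V : X.Opens) : Γ(M, V) :=
  (u.val.app (op V)).hom (1 : X.ringCatSheaf.obj.obj (op V))

lemma unitSec_res (M : X.Modules) (u : Coh.structureModule X ⟶ M) {V V' : X.Opens}
    (h : V' ≤ V) : M.presheaf.map (homOfLE h).op (unitSec M u V) = unitSec M u V' :=
  PresheafOfModules.sections_property (M.unitHomEquiv u) (homOfLE h).op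

lemma hom_ext_top {M : X.Modules} {u v : Coh.structureModule X ⟶ M}
    (h : unitSec M u ⊤ = unitSec M v ⊤) : u = v := by
  apply M.unitHomEquiv.injective
  apply PresheafOfModules.sections_ext
  intro W
  have h1 := unitSec_res M u (le_top : W.unop ≤ ⊤)
  have h2 := unitSec_res M v (le_top : W.unop ≤ ⊤)
  exact h1.symm.trans ((congrArg _ h).trans h2)

lemma app_one_eq_unitSec (M : X.Modules) (u : Coh.structureModule X ⟶ M) (V : X.Opens) :
    (ConcreteCategory.hom (Hom.app u V)) (1 : X.ringCatSheaf.obj.obj (op V)) = unitSec M u V := rfl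

lemma unitSec_comp {M N : X.Modules} (u : Coh.structureModule X ⟶ M) (q : M ⟶ N) (V : X.Opens) :
    unitSec N (u ≫ q) V = q.app V (unitSec M u V) := rfl

/-- the morphism `O ⟶ M` determined by a section over `⊤`. -/
noncomputable def ofTop (M : X.Modules) (a : Γ(M, ⊤)) : Coh.structureModule X ⟶ M :=
  M.unitHomEquiv.symm (PresheafOfModules.sectionsMk
    (fun W => M.presheaf.map (homOfLE (le_top : W.unop ≤ ⊤)).op a) (by
      intro V W f
      change M.presheaf.map f (M.presheaf.map (homOfLE (le_top : V.unop ≤ ⊤)).op a) =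
        M.presheaf.map (homOfLE (le_top : W.unop ≤ ⊤)).op a
      rw [← ConcreteCategory.comp_apply, ← Functor.map_comp]
      rfl))

lemma unitSec_ofTop (M : X.Modules) (a : Γ(M, ⊤)) (V : X.Opens) :
    unitSec M (ofTop M a) V = M.presheaf.map (homOfLE (le_top : V ≤ ⊤)).op a := by
  have := congrArg (fun s => s.val (op V)) (M.unitHomEquiv.apply_symm_apply
    (PresheafOfModules.sectionsMk
    (fun W => M.presheaf.map (homOfLE (le_top : W.unop ≤ ⊤)).op a) (by
      intro V W f
      change M.presheaf.map f (M.presheaf.map (homOfLE (le_top : V.unop ≤ ⊤)).op a) =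
        M.presheaf.map (homOfLE (le_top : W.unop ≤ ⊤)).op a
      rw [← ConcreteCategory.comp_apply, ← Functor.map_comp]
      rfl)))
  exact this

section core
variable {Y Z : Scheme.{u}} (k : Z ⟶ Y) [IsOpenImmersion k]

lemma unitSec_restrict_map {M N : Y.Modules} (q : M ⟶ N)
    (u : Coh.structureModule Z ⟶ M.restrict k) (V : Z.Opens) :
    unitSec (N.restrict k) (u ≫ (restrictFunctor k).map q) V =
      q.app (k ''ᵁ V) (unitSec (M.restrict k) u V) := rfl

lemma unitSec_restrictUnitIso_inv (V : Z.Opens) :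
    unitSec ((Coh.structureModule Y).restrict k) (restrictUnitIso k).inv V =
      (1 : Y.ringCatSheaf.obj.obj (op (k ''ᵁ V))) := by
  change (k.appIso V).inv (1 : Γ(Z, V)) = 1
  exact map_one _

set_option backward.isDefEq.respectTransparency false in
lemma ι_freeModRestrictIso_inv (n : ℕ) (m : Fin n) :
    Sigma.ι (fun _ : Fin n => Coh.structureModule Z) m ≫ (StrPerf.freeModRestrictIso k n).inv =
      (restrictUnitIso k).inv ≫
        (restrictFunctor k).map (Sigma.ι (fun _ : Fin n => Coh.structureModule Y) m) := by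
  have : PreservesColimitsOfSize.{0, 0} (restrictFunctor k) :=
    (restrictAdjunction k).leftAdjoint_preservesColimits
  simp [StrPerf.freeModRestrictIso]

end core

set_option backward.isDefEq.respectTransparency false in
theorem core_lift {Y : Scheme.{u}} {G F : Y.Modules} (p : G ⟶ F) [Epi p] (n : ℕ)
    (φ : FlatMod.freeMod Y n ⟶ F) (y : Y) :
    ∃ W₀ : Y.Opens, y ∈ W₀ ∧ ∀ (Z : Scheme.{u}) (k : Z ⟶ Y) [IsOpenImmersion k],
      Set.range k ⊆ (W₀ : Set Y) →
      ∃ ψ : (FlatMod.freeMod Y n).restrict k ⟶ G.restrict k,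
        ψ ≫ (restrictFunctor k).map p = (restrictFunctor k).map φ := by
  obtain ⟨W₀, hW₀, hy, a, ha⟩ := exists_lift_fin_of_epi p ⊤ n
    (fun m => unitSec F (Sigma.ι (fun _ : Fin n => Coh.structureModule Y) m ≫ φ) ⊤) y trivial
  refine ⟨W₀, hy, fun Z k _ hk => ?_⟩
  have hk' : k ''ᵁ ⊤ ≤ W₀ := by
    rintro _ ⟨z, -, rfl⟩
    exact hk ⟨z, rfl⟩
  let t : Fin n → (Coh.structureModule Z ⟶ G.restrict k) := fun m =>
    ofTop (G.restrict k) (G.presheaf.map (homOfLE hk').op (a m))
  let β := StrPerf.freeModRestrictIso k n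
  refine ⟨β.hom ≫ Sigma.desc t, ?_⟩
  rw [← cancel_epi β.inv, Category.assoc, Iso.inv_hom_id_assoc]
  apply Sigma.hom_ext
  intro m
  rw [colimit.ι_desc_assoc]
  change t m ≫ _ = _
  rw [← Category.assoc, ι_freeModRestrictIso_inv k n m, Category.assoc, ← Functor.map_comp]
  apply hom_ext_top
  rw [unitSec_restrict_map, unitSec_restrict_map, unitSec_restrictUnitIso_inv]
  have e1 : unitSec (G.restrict k) (t m) ⊤ = G.presheaf.map (homOfLE hk').op (a m) := by
    rw [unitSec_ofTop]
    change G.presheaf.map _ (G.presheaf.map _ (a m)) = _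
    rw [← ConcreteCategory.comp_apply, ← Functor.map_comp]
    rfl
  have e2 := congrArg (fun ψ => (ConcreteCategory.hom ψ) (a m))
    (p.mapPresheaf.naturality (homOfLE hk').op)
  simp only [ConcreteCategory.comp_apply] at e2
  have e3 : (ConcreteCategory.hom (Hom.app (Sigma.ι (fun _ : Fin n => Coh.structureModule Y) m ≫ φ)
      (k ''ᵁ ⊤))) (1 : Y.ringCatSheaf.obj.obj (op (k ''ᵁ ⊤))) =
      F.presheaf.map (homOfLE (le_top : k ''ᵁ ⊤ ≤ ⊤)).op
        (unitSec F (Sigma.ι (fun _ : Fin n => Coh.structureModule Y) m ≫ φ) ⊤) :=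
    (app_one_eq_unitSec F _ _).trans (unitSec_res F _ (le_top : k ''ᵁ ⊤ ≤ ⊤)).symm
  rw [e1, e3]
  refine e2.trans ?_
  have e4 := ha m
  change (ConcreteCategory.hom (F.presheaf.map (homOfLE hk').op))
    ((ConcreteCategory.hom (Hom.app p W₀)) (a m)) = _
  rw [e4, ← ConcreteCategory.comp_apply, ← Functor.map_comp]
  rfl

set_option backward.isDefEq.respectTransparency false in
theorem main0934 {E F G : X.Modules} (p : G ⟶ F) [Epi p] (φ : E ⟶ F)
    (hE : FlatMod.IsFinLocFree E) (x : X) :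
    ∃ (V : X.Opens) (ψ : E.restrict V.ι ⟶ G.restrict V.ι), x ∈ V ∧
      ψ ≫ (Scheme.Modules.restrictFunctor V.ι).map p =
        (Scheme.Modules.restrictFunctor V.ι).map φ := by
  obtain ⟨U, n, hxU, ⟨i⟩⟩ := hE x
  have : Epi ((restrictFunctor U.ι).map p) := (restrictFunctor U.ι).map_epi p
  obtain ⟨W₀, hyW₀, H⟩ := core_lift ((restrictFunctor U.ι).map p) n
    (i.inv ≫ (restrictFunctor U.ι).map φ) ⟨x, hxU⟩
  let V : X.Opens := U.ι ''ᵁ W₀
  have hVU : V ≤ U := U.ι_image_le W₀
  let k : (V : Scheme.{u}) ⟶ U := X.homOfLE hVU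
  have hk : k ≫ U.ι = V.ι := X.homOfLE_ι hVU
  have hrange : Set.range k ⊆ (W₀ : Set U) := by
    rintro _ ⟨z, rfl⟩
    obtain ⟨w, hw, hwz⟩ := z.2
    have h1 : U.ι (k z) = V.ι z := by
      rw [← hk]
      rfl
    have h2 : U.ι (k z) = U.ι w := h1.trans hwz.symm
    have h3 : k z = w := U.ι.isOpenEmbedding.injective h2
    rw [h3]
    exact hw
  obtain ⟨ψ'', hψ''⟩ := H V k hrange
  let α : restrictFunctor V.ι ≅ restrictFunctor U.ι ⋙ restrictFunctor k :=
    restrictFunctorCongr hk.symm ≪≫ restrictFunctorComp k U.ι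
  refine ⟨V, α.hom.app E ≫ (restrictFunctor k).map i.hom ≫ ψ'' ≫ α.inv.app G,
    ⟨⟨x, hxU⟩, hyW₀, rfl⟩, ?_⟩
  have nat1 := α.inv.naturality p
  have nat2 := α.hom.naturality φ
  simp only [Functor.comp_map] at nat1 nat2
  simp only [Category.assoc]
  rw [← nat1, reassoc_of% hψ'', Functor.map_comp, Category.assoc, ← Functor.map_comp_assoc,
    Iso.hom_inv_id, CategoryTheory.Functor.map_id, Category.id_comp, ← reassoc_of% nat2,
    Iso.hom_inv_id_app, Category.comp_id]

end Groth.Agent.H23.LocLift
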