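import Mathlib
import Groth.Prelude.Def_DDual2
import Groth.Agent.Lib.helper23.StrPerf
import Groth.Agent.Lib.helper23.LocLift

open AlgebraicGeometry CategoryTheory CategoryTheory.Limits Opposite TopologicalSpace

namespace Groth.Agent.H23.NullHtpy
universe u

open Scheme.Modules

variable {X : Scheme.{u}}

lemma app_injective_of_mono {M N : X.Modules} (φ : M ⟶ N) [Mono φ] (U : X.Opens) :
    Function.Injective (φ.app U) := by
  have h1 : Mono ((Scheme.Modules.toPresheaf X).map φ) := inferInstance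
  have h2 : Mono (((Scheme.Modules.toPresheaf X).map φ).app (op U)) := inferInstance
  exact (AddCommGrpCat.mono_iff_injective _).mp h2

lemma mono_of_app_injective {M N : X.Modules} (φ : M ⟶ N)
    (h : ∀ U : X.Opens, Function.Injective (φ.app U)) : Mono φ := by
  have : Mono ((Scheme.Modules.toPresheaf X).map φ) := by
    have : ∀ U, Mono (((Scheme.Modules.toPresheaf X).map φ).app U) := fun U =>
      (AddCommGrpCat.mono_iff_injective _).mpr (h U.unop)
    exact NatTrans.mono_of_mono_app _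
  exact (Scheme.Modules.toPresheaf X).mono_of_mono_map this

section
variable {Y : Scheme.{u}} (f : Y ⟶ X) [IsOpenImmersion f]

set_option backward.isDefEq.respectTransparency false in
instance preservesFiniteLimits_restrictFunctor : PreservesFiniteLimits (restrictFunctor f) := by
  have hc : PreservesFiniteColimits (restrictFunctor f) := inferInstance
  rw [Functor.preservesFiniteLimits_iff_forall_exact_map_and_mono]
  intro S hS
  refine ⟨((Functor.preservesFiniteColimits_iff_forall_exact_map_and_epi _).mp hc S hS).1, ?_⟩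
  have := hS.mono_f
  exact mono_of_app_injective _ (fun U => app_injective_of_mono S.f (f ''ᵁ U))

end

section
variable {Y : Scheme.{u}} (k : Y ⟶ X) [IsOpenImmersion k]

/-- restriction of complexes along an open immersion -/
noncomputable abbrev resCx : CochainComplex X.Modules ℤ ⥤ CochainComplex Y.Modules ℤ :=
  (restrictFunctor k).mapHomologicalComplex (ComplexShape.up ℤ)

lemma isZero_homology_resCx (F : CochainComplex X.Modules ℤ) (i : ℤ)
    (h : IsZero (F.homology i)) : IsZero (((resCx k).obj F).homology i) := by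
  rw [← HomologicalComplex.exactAt_iff_isZero_homology] at h ⊢
  exact h.map (restrictFunctor k)

set_option backward.isDefEq.respectTransparency false in
lemma isFinLocFree_restrict (M : X.Modules) (hM : FlatMod.IsFinLocFree M) :
    FlatMod.IsFinLocFree (M.restrict k) := by
  intro z
  obtain ⟨U, n, hzU, ⟨i⟩⟩ := hM (k z)
  let W : Y.Opens := k ⁻¹ᵁ U
  have hr : Set.range (W.ι ≫ k) ⊆ (U : Set X) := by
    rintro _ ⟨w, rfl⟩
    exact w.2
  obtain ⟨e⟩ := StrPerf.restrict_iso_freeMod_of_range_subset M n i (W.ι ≫ k) hr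
  exact ⟨W, n, hzU, ⟨((restrictFunctorComp W.ι k).app M).symm ≪≫ e⟩⟩

end

/-- one step: find `ψ` locally -/
lemma exists_local_lift (E F : CochainComplex X.Modules ℤ) (α : E ⟶ F) (t : ℤ)
    (hflf : FlatMod.IsFinLocFree (E.X t)) (hα : α.f (t + 1) = 0) (hF : IsZero (F.homology t))
    (x : X) :
    ∃ (V : X.Opens) (ψ : (E.X t).restrict V.ι ⟶ (F.X (t - 1)).restrict V.ι), x ∈ V ∧
      ψ ≫ (restrictFunctor V.ι).map (F.d (t - 1) t) = (restrictFunctor V.ι).map (α.f t) := by
  have hαt : α.f t ≫ F.d t (t + 1) = 0 := by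
    rw [α.comm, hα, comp_zero]
  let p : F.X (t - 1) ⟶ kernel (F.d t (t + 1)) :=
    kernel.lift _ (F.d (t - 1) t) (F.d_comp_d _ _ _)
  have hex : (F.sc' (t - 1) t (t + 1)).Exact :=
    (F.exactAt_iff' (t - 1) t (t + 1) (by simp) (by simp)).mp
      ((HomologicalComplex.exactAt_iff_isZero_homology _ _).mpr hF)
  have : Epi p := (ShortComplex.exact_iff_epi_kernel_lift _).mp hex
  let φ : E.X t ⟶ kernel (F.d t (t + 1)) := kernel.lift _ (α.f t) hαt
  obtain ⟨V, ψ, hxV, hψ⟩ := LocLift.main0934 p φ hflf x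
  refine ⟨V, ψ, hxV, ?_⟩
  have := congrArg (· ≫ (restrictFunctor V.ι).map (kernel.ι (F.d t (t + 1)))) hψ
  simp only [Category.assoc, ← Functor.map_comp, kernel.lift_ι, p, φ] at this
  exact this

section corr
variable {Y : Scheme.{u}} (E' F' : CochainComplex Y.Modules ℤ) (t : ℤ) (ψ : E'.X t ⟶ F'.X (t - 1))

/-- the degree `-1` family concentrated in degree `t` -/
noncomputable def hfam : ∀ i j, (ComplexShape.up ℤ).Rel j i → (E'.X i ⟶ F'.X j) := fun i j r =>
  if hi : i = t then
    eqToHom (by rw [hi]) ≫ ψ ≫ eqToHom (by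
      have : j = t - 1 := by
        have : j + 1 = i := r
        omega
      rw [this])
  else 0

lemma hfam_self (r : (ComplexShape.up ℤ).Rel (t - 1) t) : hfam E' F' t ψ t (t - 1) r = ψ := by
  simp [hfam]

lemma hfam_ne (i j : ℤ) (r : (ComplexShape.up ℤ).Rel j i) (hi : i ≠ t) :
    hfam E' F' t ψ i j r = 0 := by
  simp [hfam, hi]

/-- the null-homotopic correction map -/
noncomputable def corr : E' ⟶ F' := Homotopy.nullHomotopicMap' (hfam E' F' t ψ)

noncomputable def corrHomotopy : Homotopy (corr E' F' t ψ) 0 :=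
  Homotopy.nullHomotopy' (hfam E' F' t ψ)

lemma corr_f_t : (corr E' F' t ψ).f t = ψ ≫ F'.d (t - 1) t := by
  have r₂₁ : (ComplexShape.up ℤ).Rel (t - 1) t := by simp
  have r₁₀ : (ComplexShape.up ℤ).Rel t (t + 1) := by simp
  rw [corr, Homotopy.nullHomotopicMap'_f r₂₁ r₁₀, hfam_self, hfam_ne _ _ _ _ _ _ _ (by omega),
    comp_zero, zero_add]

lemma corr_f_gt (i : ℤ) (hi : t < i) : (corr E' F' t ψ).f i = 0 := by
  have r₂₁ : (ComplexShape.up ℤ).Rel (i - 1) i := by simp
  have r₁₀ : (ComplexShape.up ℤ).Rel i (i + 1) := by simp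
  rw [corr, Homotopy.nullHomotopicMap'_f r₂₁ r₁₀, hfam_ne _ _ _ _ _ _ _ (by omega),
    hfam_ne _ _ _ _ _ _ _ (by omega), comp_zero, zero_comp, add_zero]

end corr

section transport
variable {A B : Type*} [Category A] [Category B] [Preadditive A] [Preadditive B]
  {G₁ G₂ : A ⥤ B} [G₁.Additive] [G₂.Additive]

/-- transport of a null-homotopy along a natural isomorphism of functors -/
noncomputable def homotopyOfNatIso (η : G₁ ≅ G₂) {E F : CochainComplex A ℤ} (α : E ⟶ F)
    (H : Homotopy ((G₂.mapHomologicalComplex (ComplexShape.up ℤ)).map α) 0) :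
    Homotopy ((G₁.mapHomologicalComplex (ComplexShape.up ℤ)).map α) 0 := by
  let ηc := NatIso.mapHomologicalComplex η (ComplexShape.up ℤ)
  have e1 : (G₁.mapHomologicalComplex (ComplexShape.up ℤ)).map α =
      ηc.hom.app E ≫ (G₂.mapHomologicalComplex (ComplexShape.up ℤ)).map α ≫ ηc.inv.app F := by
    rw [← ηc.hom.naturality_assoc, Iso.hom_inv_id_app, Category.comp_id]
  have e2 : ηc.hom.app E ≫ (0 : _ ⟶ _) ≫ ηc.inv.app F = 0 := by simp
  exact (Homotopy.ofEq e1).trans (((H.compRight (ηc.inv.app F)).compLeft (ηc.hom.app E)).trans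
    (Homotopy.ofEq e2))

end transport

set_option backward.isDefEq.respectTransparency false in
theorem exists_nullHomotopy_aux (n : ℕ) : ∀ (Y : Scheme.{u}) (E F : CochainComplex Y.Modules ℤ)
    (α : E ⟶ F) (_ : ∀ i, FlatMod.IsFinLocFree (E.X i)) (a : ℤ) (_ : ∀ i, i < a → IsZero (E.X i))
    (_ : ∀ i, a + n ≤ i → α.f i = 0) (_ : ∀ i, a ≤ i → IsZero (F.homology i)) (y : Y),
    ∃ (Z : Scheme.{u}) (k : Z ⟶ Y) (_ : IsOpenImmersion k), y ∈ Set.range k ∧
      Nonempty (Homotopy ((resCx k).map α) 0) := by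
  induction n with
  | zero =>
    intro Y E F α hflf a hEa hα hF y
    refine ⟨Y, 𝟙 Y, inferInstance, ⟨y, rfl⟩, ⟨Homotopy.ofEq ?_⟩⟩
    have hα0 : α = 0 := by
      refine HomologicalComplex.hom_ext _ _ (fun i => ?_)
      by_cases hi : i < a
      · exact (hEa i hi).eq_of_src _ _
      · exact hα i (by simpa using not_lt.mp hi)
    rw [hα0, Functor.map_zero]
  | succ n ih =>
    intro Y E F α hflf a hEa hα hF y
    obtain ⟨V, ψ, hyV, hψ⟩ := exists_local_lift E F α (a + n) (hflf (a + n))
      (hα (a + n + 1) (by push_cast; omega)) (hF (a + n) (by omega)) y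
    let E' := (resCx V.ι).obj E
    let F' := (resCx V.ι).obj F
    let α' : E' ⟶ F' := (resCx V.ι).map α
    let c : E' ⟶ F' := corr E' F' (a + n) ψ
    let α'' : E' ⟶ F' := α' - c
    have hα'' : ∀ i, a + n ≤ i → α''.f i = 0 := by
      intro i hi
      rcases eq_or_lt_of_le hi with h | h
      · subst h
        change α'.f (a + n) - c.f (a + n) = 0
        rw [corr_f_t]
        exact sub_eq_zero.mpr hψ.symm
      · change α'.f i - c.f i = 0
        rw [corr_f_gt _ _ _ _ i h, sub_zero]
        change (restrictFunctor V.ι).map (α.f i) = 0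
        rw [hα i (by push_cast; omega), Functor.map_zero]
    obtain ⟨Z, k, hk, hyk, ⟨H''⟩⟩ := ih (↑V) E' F' α''
      (fun i => isFinLocFree_restrict V.ι _ (hflf i)) a
      (fun i hi => (restrictFunctor V.ι).map_isZero (hEa i hi)) hα''
      (fun i hi => isZero_homology_resCx V.ι F i (hF i hi)) ⟨y, hyV⟩
    have Hc : Homotopy ((resCx k).map c) 0 :=
      ((restrictFunctor k).mapHomotopy (corrHomotopy E' F' (a + n) ψ)).trans
        (Homotopy.ofEq (by simp))
    have e : (resCx k).map α' = (resCx k).map α'' + (resCx k).map c := by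
      rw [← Functor.map_add]
      congr 1
      simp [α'']
    have H' : Homotopy ((resCx k).map α') 0 :=
      (Homotopy.ofEq e).trans ((H''.add Hc).trans (Homotopy.ofEq (by simp)))
    refine ⟨Z, k ≫ V.ι, inferInstance, ?_, ⟨?_⟩⟩
    · obtain ⟨z, hz⟩ := hyk
      refine ⟨z, ?_⟩
      change V.ι (k z) = y
      rw [hz]
      rfl
    · exact homotopyOfNatIso (restrictFunctorComp k V.ι) α H'

set_option backward.isDefEq.respectTransparency false in
theorem main0932 {E F : CochainComplex X.Modules ℤ}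
    (α : E ⟶ F) (hE : DCoh.IsStrictlyPerfect E) (a : ℤ) (hEa : ∀ i : ℤ, i < a → IsZero (E.X i))
    (hF : ∀ i : ℤ, a ≤ i → IsZero (F.homology i)) (x : X) :
    ∃ V : X.Opens, x ∈ V ∧ Nonempty (Homotopy ((DCoh.restrictCx V).map α) 0) := by
  obtain ⟨⟨a', b', hab⟩, hflf⟩ := hE
  have hα : ∀ i, a + ((b' + 1 - a).toNat : ℤ) ≤ i → α.f i = 0 := by
    intro i hi
    have h1 : b' + 1 - a ≤ ((b' + 1 - a).toNat : ℤ) := Int.self_le_toNat _
    exact (hab i (Or.inr (by omega))).eq_of_src _ _
  obtain ⟨Z, k, hk, ⟨z, hz⟩, ⟨H⟩⟩ :=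
    exists_nullHomotopy_aux (b' + 1 - a).toNat X E F α hflf a hEa hα hF x
  refine ⟨k.opensRange, ⟨z, hz⟩, ⟨?_⟩⟩
  let e := k.isoOpensRange
  have hη : k.opensRange.ι = e.inv ≫ k := k.isoOpensRange_inv_comp.symm
  let η : restrictFunctor k.opensRange.ι ≅ restrictFunctor k ⋙ restrictFunctor e.inv :=
    restrictFunctorCongr hη ≪≫ restrictFunctorComp e.inv k
  have H1 : Homotopy ((resCx e.inv).map ((resCx k).map α)) 0 :=
    ((restrictFunctor e.inv).mapHomotopy H).trans (Homotopy.ofEq (by simp))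
  exact homotopyOfNatIso η α H1

end Groth.Agent.H23.NullHtpy
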