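import Mathlib
import Groth.Prelude.Def_DDual2
import Groth.Agent.Lib.helper23.NullHtpy

open AlgebraicGeometry CategoryTheory CategoryTheory.Limits Opposite TopologicalSpace

namespace Groth.Agent.H23.ConeLift
universe u v w

section general
variable {A : Type u} [Category.{v} A] [Abelian A]

open CochainComplex HomotopyCategory Pretriangulated in
/-- the cone of `f` has no homology in degree `j` if `H^j(f)` is epi and `H^{j+1}(f)` is mono -/
theorem isZero_homology_mappingCone {G F : CochainComplex A ℤ} (f : G ⟶ F) (j : ℤ)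
    (hepi : Epi (HomologicalComplex.homologyMap f j))
    (hmono : Mono (HomologicalComplex.homologyMap f (j + 1))) :
    IsZero ((mappingCone f).homology j) := by
  let T := mappingCone.triangleh f
  have hT : T ∈ distTriang _ := mappingCone_triangleh_distinguished f
  let H := HomotopyCategory.homologyFunctor A (ComplexShape.up ℤ) 0
  have arrowIso : ∀ i : ℤ, Arrow.mk ((HomotopyCategory.quotient _ _ ⋙
      HomotopyCategory.homologyFunctor A (ComplexShape.up ℤ) i).map f) ≅
      Arrow.mk ((HomologicalComplex.homologyFunctor A (ComplexShape.up ℤ) i).map f) := fun i =>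
    Arrow.isoMk ((homologyFunctorFactors A (ComplexShape.up ℤ) i).app G)
      ((homologyFunctorFactors A (ComplexShape.up ℤ) i).app F)
      ((homologyFunctorFactors A (ComplexShape.up ℤ) i).hom.naturality f).symm
  have hepi' : Epi ((H.shift j).map T.mor₁) := by
    have h1 : (MorphismProperty.epimorphisms A)
        ((HomologicalComplex.homologyFunctor A (ComplexShape.up ℤ) j).map f) := hepi
    exact ((MorphismProperty.epimorphisms A).arrow_mk_iso_iff (arrowIso j)).mpr h1
  have hmono' : Mono ((H.shift (j + 1)).map T.mor₁) := by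
    have h1 : (MorphismProperty.monomorphisms A)
        ((HomologicalComplex.homologyFunctor A (ComplexShape.up ℤ) (j + 1)).map f) := hmono
    exact ((MorphismProperty.monomorphisms A).arrow_mk_iso_iff (arrowIso (j + 1))).mpr h1
  have h2 : (H.shift j).map T.mor₂ = 0 :=
    (H.homologySequence_epi_shift_map_mor₁_iff T hT j).mp hepi'
  have h3 : H.homologySequenceδ T j (j + 1) rfl = 0 :=
    (H.homologySequence_mono_shift_map_mor₁_iff T hT j (j + 1) rfl).mp hmono'
  have hz : IsZero ((H.shift j).obj T.obj₃) :=
    (H.homologySequence_exact₃ T hT j (j + 1) rfl).isZero_of_both_zeros h2 h3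
  exact IsZero.of_iso hz ((homologyFunctorFactors A (ComplexShape.up ℤ) j).app (mappingCone f)).symm

open CochainComplex HomotopyCategory Pretriangulated in
/-- a null-homotopy of `K → F → cone(φ)` gives a lift of `K → F` through `φ` up to homotopy -/
theorem exists_lift_of_homotopy {K G F : CochainComplex A ℤ} (φ : G ⟶ F) (α : K ⟶ F)
    (H : Homotopy (α ≫ mappingCone.inr φ) 0) :
    ∃ β : K ⟶ G, Nonempty (Homotopy (β ≫ φ) α) := by
  let T := mappingCone.triangleh φ
  have hT : T ∈ distTriang _ := mappingCone_triangleh_distinguished φ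
  let Q := HomotopyCategory.quotient A (ComplexShape.up ℤ)
  have h0 : Q.map α ≫ T.mor₂ = 0 := by
    change Q.map α ≫ Q.map (mappingCone.inr φ) = 0
    rw [← Q.map_comp, HomotopyCategory.eq_of_homotopy _ _ H, Functor.map_zero]
  obtain ⟨g, hg⟩ := Pretriangulated.Triangle.coyoneda_exact₂ T hT (Q.map α) h0
  obtain ⟨β, rfl⟩ := Q.map_surjective g
  refine ⟨β, ⟨HomotopyCategory.homotopyOfEq _ _ ?_⟩⟩
  rw [Functor.map_comp]
  exact hg.symm

end general

open Scheme.Modules CochainComplex in
set_option backward.isDefEq.respectTransparency false in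
theorem main0933 {X : Scheme.{u}} {E F G : CochainComplex X.Modules ℤ}
    (α : E ⟶ F) (f : G ⟶ F) (hE : DCoh.IsStrictlyPerfect E) (a : ℤ)
    (hEa : ∀ j : ℤ, j < a → IsZero (E.X j))
    (hf : ∀ j : ℤ, a < j → IsIso (HomologicalComplex.homologyMap f j))
    (hfa : Epi (HomologicalComplex.homologyMap f a)) (x : X) :
    ∃ (V : X.Opens) (β : (DCoh.restrictCx V).obj E ⟶ (DCoh.restrictCx V).obj G), x ∈ V ∧
      Nonempty (Homotopy (β ≫ (DCoh.restrictCx V).map f) ((DCoh.restrictCx V).map α)) := by
  have hC : ∀ j, a ≤ j → IsZero ((mappingCone f).homology j) := by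
    intro j hj
    apply isZero_homology_mappingCone
    · rcases eq_or_lt_of_le hj with h | h
      · subst h
        exact hfa
      · have := hf j h
        infer_instance
    · have := hf (j + 1) (by omega)
      infer_instance
  obtain ⟨V, hxV, ⟨H⟩⟩ := NullHtpy.main0932 (α ≫ mappingCone.inr f) hE a hEa hC x
  let e := mappingCone.mapHomologicalComplexIso f (restrictFunctor V.ι)
  have H' : Homotopy ((DCoh.restrictCx V).map α ≫
      mappingCone.inr ((DCoh.restrictCx V).map f)) 0 := by
    have h1 : (DCoh.restrictCx V).map (α ≫ mappingCone.inr f) ≫ e.hom =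
        (DCoh.restrictCx V).map α ≫ mappingCone.inr ((DCoh.restrictCx V).map f) := by
      rw [Functor.map_comp, Category.assoc, mappingCone.map_inr]
    exact (Homotopy.ofEq h1.symm).trans ((H.compRight e.hom).trans (Homotopy.ofEq zero_comp))
  obtain ⟨β, hβ⟩ := exists_lift_of_homotopy _ _ H'
  exact ⟨V, β, hxV, hβ⟩

end Groth.Agent.H23.ConeLift
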