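import Mathlib
open CategoryTheory CategoryTheory.Limits Opposite

namespace Groth.Agent.H23.Cosk

universe v u

instance finOp (α : Type*) [Finite α] : Finite αᵒᵖ :=
  Finite.of_injective (fun a => a.unop) (fun _ _ h => Opposite.unop_injective h)

instance finOpHom {A : Type*} [Category A] [∀ a b : A, Finite (a ⟶ b)] (a b : Aᵒᵖ) :
    Finite (a ⟶ b) :=
  Finite.of_injective (fun f => f.unop) (fun _ _ h => Quiver.Hom.unop_inj h)

instance finTrunc (n : ℕ) : Finite (SimplexCategory.Truncated n) := by
  refine Finite.of_injective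
    (fun a : SimplexCategory.Truncated n => (⟨a.obj.len, Nat.lt_succ_of_le a.property⟩ : Fin (n+1))) ?_
  intro a b hab
  have h1 : a.obj.len = b.obj.len := by simpa using congrArg Fin.val hab
  exact ObjectProperty.FullSubcategory.ext (SimplexCategory.ext h1)

instance finTruncHom (n : ℕ) (a b : SimplexCategory.Truncated n) : Finite (a ⟶ b) :=
  Finite.of_injective (fun f => f.hom) (fun _ _ h => InducedCategory.hom_ext h)

noncomputable def finStruct {A B : Type} [SmallCategory A] [SmallCategory B] [Finite A]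
    [∀ a b : A, Finite (a ⟶ b)] [∀ a b : B, Finite (a ⟶ b)] (F : A ⥤ B) (Y : B) :
    FinCategory (StructuredArrow Y F) := by
  classical
  haveI : Finite (StructuredArrow Y F) := by
    refine Finite.of_injective
      (fun s : StructuredArrow Y F => (⟨s.right, s.hom⟩ : Σ a : A, (Y ⟶ F.obj a))) ?_
    intro s t h
    obtain ⟨⟨⟨⟩⟩, sr, sh⟩ := s
    obtain ⟨⟨⟨⟩⟩, tr, th⟩ := t
    simp only [Sigma.mk.injEq] at h
    obtain ⟨rfl, h2⟩ := h
    have := eq_of_heq h2
    subst this
    rfl
  haveI : ∀ s t : StructuredArrow Y F, Finite (s ⟶ t) := fun s t =>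
    Finite.of_injective (fun f => f.right) (fun f g h => StructuredArrow.hom_ext _ _ h)
  exact { fintypeObj := Fintype.ofFinite _, fintypeHom := fun _ _ => Fintype.ofFinite _ }


instance hasPw {C : Type u} [Category.{v} C] [HasFiniteLimits C] {A B : Type} [SmallCategory A]
    [SmallCategory B] [Finite A]
    [∀ a b : A, Finite (a ⟶ b)] [∀ a b : B, Finite (a ⟶ b)] (L : A ⥤ B) (F : A ⥤ C) :
    L.HasPointwiseRightKanExtension F := fun Y => by
  haveI := finStruct L Y
  show HasLimit _
  infer_instance


theorem main {C : Type u} [Category.{v} C] [HasFiniteLimits C] (U : SimplicialObject C) {n m : ℕ}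
    (h : n ≤ m) [U.IsCoskeletal n] : U.IsCoskeletal m := by
  let Ln := (SimplexCategory.Truncated.inclusion n).op
  let Lm := (SimplexCategory.Truncated.inclusion m).op
  let Lnm := (SimplexCategory.Truncated.incl n m h).op
  let adjn := Ln.ranAdjunction C
  let adjm := Lm.ranAdjunction C
  let adjnm := Lnm.ranAdjunction C
  let adj' := adjm.comp adjnm
  have e : Ln.ran ≅ Lnm.ran ⋙ Lm.ran := adjn.rightAdjointUniq adj'
  have hU : U.IsRightKanExtension (𝟙 (Ln ⋙ U)) := SimplicialObject.IsCoskeletal.isRightKanExtension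
  have h1 : IsIso (adjn.unit.app U) := (Functor.isIso_ranAdjunction_unit_app_iff Ln U).mpr hU
  have : IsIso adjm.counit := Functor.reflective' Lm
  have ff := adjm.fullyFaithfulROfIsIsoCounit
  have := ff.full
  have := ff.faithful
  have h2 : IsIso (adjm.unit.app U) := by
    refine (Adjunction.isIso_unit_app_iff_mem_essImage adjm).mpr ⟨Lnm.ran.obj (Ln ⋙ U), ⟨?_⟩⟩
    exact (asIso (adjn.unit.app U) ≪≫ e.app _).symm
  exact ⟨(Functor.isIso_ranAdjunction_unit_app_iff Lm U).mp h2⟩

end Groth.Agent.H23.Cosk
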