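import Groth.Agent.Lib.helper23.Cosk
open CategoryTheory CategoryTheory.Limits Opposite

namespace Groth.Agent.H23.Cosk

universe v u

theorem main6813 {C : Type u} [Category.{v} C] [HasFiniteLimits C] (X : C) (k : ℕ) (hk : 1 ≤ k)
    (V : SimplicialObject (Over X)) [V.IsCoskeletal k] :
    SimplicialObject.IsCoskeletal (V ⋙ Over.forget X) k := by
  haveI : NeZero k := ⟨by omega⟩
  let L := (SimplexCategory.Truncated.inclusion k).op
  haveI : L.Final := inferInstance
  haveI : ∀ c, IsConnected (StructuredArrow c L) := fun c => Functor.Final.out c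
  haveI : HasFiniteLimits (Over X) := inferInstance
  haveI : ∀ c, PreservesLimit (StructuredArrow.proj c L ⋙ (L ⋙ V)) (Over.forget X) :=
    fun c => by
      haveI := finStruct L c
      infer_instance
  haveI : (Over.forget X).PreservesRightKanExtension (L ⋙ V) L := inferInstance
  have hV : V.IsRightKanExtension (𝟙 (L ⋙ V)) := SimplicialObject.IsCoskeletal.isRightKanExtension
  have := Functor.PreservesRightKanExtension.preserves (G := Over.forget X) V (𝟙 (L ⋙ V))
  constructor
  have e : (Functor.associator L V (Over.forget X)).inv ≫ Functor.whiskerRight (𝟙 (L ⋙ V)) (Over.forget X)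
      = 𝟙 (L ⋙ V ⋙ Over.forget X) := by
    ext; simp
  rw [e] at this
  exact this

end Groth.Agent.H23.Cosk
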