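import Groth.Agent.Lib.helper23.Cosk
open CategoryTheory CategoryTheory.Limits Opposite

namespace Groth.Agent.H23.Cosk

universe v u

noncomputable def finCostruct {A B : Type} [SmallCategory A] [SmallCategory B] [Finite A]
    [∀ a b : A, Finite (a ⟶ b)] [∀ a b : B, Finite (a ⟶ b)] (F : A ⥤ B) (Y : B) :
    FinCategory (CostructuredArrow F Y) := by
  classical
  haveI : Finite (CostructuredArrow F Y) := by
    refine Finite.of_injective
      (fun s : CostructuredArrow F Y => (⟨s.left, s.hom⟩ : Σ a : A, (F.obj a ⟶ Y))) ?_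
    intro s t h
    obtain ⟨sl, ⟨⟨⟩⟩, sh⟩ := s
    obtain ⟨tl, ⟨⟨⟩⟩, th⟩ := t
    simp only [Sigma.mk.injEq] at h
    obtain ⟨rfl, h2⟩ := h
    have := eq_of_heq h2
    subst this
    rfl
  haveI : ∀ s t : CostructuredArrow F Y, Finite (s ⟶ t) := fun s t =>
    Finite.of_injective (fun f => f.left) (fun f g h => CostructuredArrow.hom_ext _ _ h)
  exact { fintypeObj := Fintype.ofFinite _, fintypeHom := fun _ _ => Fintype.ofFinite _ }

instance hasPwL {C : Type u} [Category.{v} C] [HasFiniteColimits C] {A B : Type} [SmallCategory A]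
    [SmallCategory B] [Finite A]
    [∀ a b : A, Finite (a ⟶ b)] [∀ a b : B, Finite (a ⟶ b)] (L : A ⥤ B) (F : A ⥤ C) :
    L.HasPointwiseLeftKanExtension F := fun Y => by
  haveI := finCostruct L Y
  show HasColimit _
  infer_instance

theorem main6806 {A : Type u} [Category.{v} A] [Abelian A] (m : ℕ)
    [∀ F : (SimplexCategory.Truncated m)ᵒᵖ ⥤ A,
      (SimplexCategory.Truncated.inclusion m).op.HasLeftKanExtension F]
    (U : SimplicialObject.Truncated A m) (n : ℕ) (hn : m < n) :
    AlgebraicTopology.NormalizedMooreComplex.objX ((SimplicialObject.Truncated.sk m).obj U) n = ⊥ := by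
  let L := (SimplexCategory.Truncated.inclusion m).op
  let X : SimplicialObject A := (SimplicialObject.Truncated.sk m).obj U
  have hp := Functor.isPointwiseLeftKanExtensionLeftKanExtensionUnit L U
  have hP : (AlgebraicTopology.DoldKan.PInfty (X := X)).f n = 0 := by
    apply (hp (op (SimplexCategory.mk n))).hom_ext
    intro g
    refine Eq.trans ?_ comp_zero.symm
    show ((L.leftKanExtensionUnit U).app g.left ≫ X.map g.hom) ≫ _ = 0
    refine (Category.assoc _ _ _).trans ?_
    have hθ : ¬ Mono g.hom.unop := by
      intro hmono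
      have h1 := SimplexCategory.len_le_of_mono g.hom.unop
      have h2 : g.left.unop.obj.len ≤ m := g.left.unop.property
      have h3 : (SimplexCategory.mk n).len ≤ g.left.unop.obj.len := h1
      simp at h3
      omega
    have := AlgebraicTopology.DoldKan.degeneracy_comp_PInfty X n g.hom.unop hθ
    exact (congrArg (fun z => (L.leftKanExtensionUnit U).app g.left ≫ z) this).trans comp_zero
  have h0 : (AlgebraicTopology.NormalizedMooreComplex.objX X n).arrow = 0 := by
    have := congrArg (fun φ => φ.f n) (AlgebraicTopology.DoldKan.inclusionOfMooreComplexMap_comp_PInfty X)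
    simp only [HomologicalComplex.comp_f, AlgebraicTopology.inclusionOfMooreComplexMap_f] at this
    rw [← this, hP]
    exact comp_zero
  refine le_antisymm ?_ bot_le
  refine Subobject.le_of_comm 0 ?_
  show 0 ≫ _ = (AlgebraicTopology.NormalizedMooreComplex.objX X n).arrow
  rw [h0, zero_comp]

end Groth.Agent.H23.Cosk
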