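import Mathlib
open CategoryTheory CategoryTheory.Limits Opposite

namespace Groth.Agent.H23.SkSub

universe v u

variable {A : Type u} [Category.{v} A] [Abelian A]

lemma factors_iff_comp_cokernel {X Y : A} (T : Subobject Y) (h : X ⟶ Y) :
    T.Factors h ↔ h ≫ cokernel.π T.arrow = 0 := by
  constructor
  · intro hf
    rw [← T.factorThru_arrow h hf, Category.assoc, cokernel.condition, comp_zero]
  · intro w
    have hl := Abelian.monoIsKernelOfCokernel _ (colimit.isColimit (parallelPair T.arrow 0))
    obtain ⟨l, hl'⟩ := KernelFork.IsLimit.lift' hl h w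
    have : h = l ≫ T.arrow := hl'.symm
    rw [this]
    exact Subobject.factors_comp_arrow l

lemma image_factors {X Y : A} (f : X ⟶ Y) : (imageSubobject f).Factors f := by
  have := Subobject.factors_comp_arrow (P := imageSubobject f) (factorThruImageSubobject f)
  rwa [imageSubobject_arrow_comp] at this

lemma self_factors {Y : A} (S : Subobject Y) : S.Factors S.arrow := by
  have := Subobject.factors_comp_arrow (P := S) (𝟙 _)
  rwa [Category.id_comp] at this

lemma eq_bot_of_arrow_eq_zero {Y : A} (S : Subobject Y) (h : S.arrow = 0) : S = ⊥ := by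
  refine le_antisymm ?_ bot_le
  refine Subobject.le_of_comm 0 ?_
  rw [h, zero_comp]

lemma factors_of_lub {Y Z : A} {ι : Type*} {X : ι → A} (f : ∀ i, X i ⟶ Y) (S : Subobject Y)
    (hS : IsLUB (Set.range fun i => imageSubobject (f i)) S) (g : Y ⟶ Z) (T : Subobject Z)
    (hT : ∀ i, T.Factors (f i ≫ g)) : T.Factors (S.arrow ≫ g) := by
  let P := kernelSubobject (g ≫ cokernel.π T.arrow)
  have hSP : S ≤ P := by
    refine hS.2 ?_
    rintro _ ⟨i, rfl⟩
    have hfac : P.Factors (f i) := by
      refine (kernelSubobject_factors_iff _ _).mpr ?_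
      rw [← Category.assoc]
      exact (factors_iff_comp_cokernel T _).mp (hT i)
    exact imageSubobject_le (f i) (P.factorThru (f i) hfac) (Subobject.factorThru_arrow _ _ _)
  have h1 : P.Factors S.arrow := Subobject.factors_of_le _ hSP (self_factors S)
  have h2 := (kernelSubobject_factors_iff _ _).mp h1
  refine (factors_iff_comp_cokernel T _).mpr ?_
  rw [Category.assoc]
  exact h2

lemma image_le_of_lub {Y Z : A} {ι : Type*} {X : ι → A} (f : ∀ i, X i ⟶ Y) (S : Subobject Y)
    (hS : IsLUB (Set.range fun i => imageSubobject (f i)) S) (g : Y ⟶ Z) (T : Subobject Z)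
    (hT : ∀ i, T.Factors (f i ≫ g)) : imageSubobject (S.arrow ≫ g) ≤ T := by
  have h := factors_of_lub f S hS g T hT
  exact imageSubobject_le _ (T.factorThru _ h) (T.factorThru_arrow _ h)

lemma imageSubobject_id_eq_top {Y : A} : imageSubobject (𝟙 Y) = ⊤ := by
  haveI : IsSplitEpi (imageSubobject (𝟙 Y)).arrow :=
    IsSplitEpi.mk' ⟨factorThruImageSubobject (𝟙 Y), imageSubobject_arrow_comp (𝟙 Y)⟩
  haveI : IsIso (imageSubobject (𝟙 Y)).arrow := isIso_of_mono_of_isSplitEpi _
  exact Subobject.eq_top_of_isIso_arrow _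

theorem main6818 (U : SimplicialObject A) (n : ℕ)
    (U' : ∀ m : ℕ, Subobject (U.obj (op (SimplexCategory.mk m))))
    (hU' : ∀ m : ℕ, IsLUB (Set.range (fun φ : Σ i : Fin (n + 1),
      (SimplexCategory.mk m ⟶ SimplexCategory.mk i) => imageSubobject (U.map φ.2.op))) (U' m)) :
    (∀ (m m' : ℕ) (ψ : SimplexCategory.mk m' ⟶ SimplexCategory.mk m),
      imageSubobject ((U' m).arrow ≫ U.map ψ.op) ≤ U' m') ∧
    (∀ i : ℕ, i ≤ n → U' i = ⊤) ∧
    (∀ m : ℕ, n < m → U' m ⊓ AlgebraicTopology.NormalizedMooreComplex.objX U m = ⊥) := by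
  refine ⟨?_, ?_, ?_⟩
  · intro m m' ψ
    refine image_le_of_lub (fun φ : Σ i : Fin (n + 1),
      (SimplexCategory.mk m ⟶ SimplexCategory.mk i) => U.map φ.2.op) (U' m) (hU' m) (U.map ψ.op)
      (U' m') ?_
    intro φ
    have h1 : U.map φ.2.op ≫ U.map ψ.op = U.map (ψ ≫ φ.2).op := by
      rw [← U.map_comp, ← op_comp]
    rw [h1]
    have h2 : imageSubobject (U.map (ψ ≫ φ.2).op) ≤ U' m' :=
      (hU' m').1 ⟨⟨φ.1, ψ ≫ φ.2⟩, rfl⟩
    exact Subobject.factors_of_le _ h2 (image_factors _)
  · intro i hi
    refine top_le_iff.mp ?_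
    have h2 : imageSubobject (U.map (𝟙 (SimplexCategory.mk i)).op) ≤ U' i :=
      (hU' i).1 ⟨⟨⟨i, Nat.lt_succ_of_le hi⟩, 𝟙 _⟩, rfl⟩
    have h3 : U.map (𝟙 (SimplexCategory.mk i)).op = 𝟙 _ := by
      rw [op_id, U.map_id]
    rw [h3, imageSubobject_id_eq_top] at h2
    exact h2
  · intro m hm
    let P := (AlgebraicTopology.DoldKan.PInfty (X := U)).f m
    let K := kernelSubobject P
    have hK : U' m ≤ K := by
      refine (hU' m).2 ?_
      rintro _ ⟨φ, rfl⟩
      have hθ : ¬ Mono φ.2 := by
        intro hmono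
        have h1 := SimplexCategory.len_le_of_mono φ.2
        have h3 : m ≤ (φ.1 : ℕ) := by simpa using h1
        have := φ.1.isLt
        omega
      have hz := AlgebraicTopology.DoldKan.degeneracy_comp_PInfty U m φ.2 hθ
      exact imageSubobject_le _ (K.factorThru _ (kernelSubobject_factors _ _ hz))
        (Subobject.factorThru_arrow _ _ _)
    apply eq_bot_of_arrow_eq_zero
    set S := U' m ⊓ AlgebraicTopology.NormalizedMooreComplex.objX U m with hS
    have h1 : S.arrow ≫ P = 0 := by
      have : K.Factors S.arrow := Subobject.factors_of_le _ (inf_le_left.trans hK) (self_factors S)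
      exact (kernelSubobject_factors_iff _ _).mp this
    have h2 : S.arrow ≫ P = S.arrow := by
      have hN : (AlgebraicTopology.NormalizedMooreComplex.objX U m).arrow ≫ P =
          (AlgebraicTopology.NormalizedMooreComplex.objX U m).arrow := by
        have := congrArg (fun φ => φ.f m)
          (AlgebraicTopology.DoldKan.inclusionOfMooreComplexMap_comp_PInfty U)
        simp only [HomologicalComplex.comp_f, AlgebraicTopology.inclusionOfMooreComplexMap_f]
          at this
        exact this
      have hle : S ≤ AlgebraicTopology.NormalizedMooreComplex.objX U m := inf_le_right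
      rw [← Subobject.ofLE_arrow hle, Category.assoc, hN]
    rw [← h2, h1]

end Groth.Agent.H23.SkSub
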