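import Groth.Agent.Lib.helper23.Cosk3
import Groth.Agent.Lib.helper23.SkSub
open CategoryTheory CategoryTheory.Limits Opposite

namespace Groth.Agent.H23.Cosk

universe v u

variable {A : Type u} [Category.{v} A] [Abelian A]

section
variable (n : ℕ) [∀ F : (SimplexCategory.Truncated n)ᵒᵖ ⥤ A,
      (SimplexCategory.Truncated.inclusion n).op.HasLeftKanExtension F] (U : SimplicialObject A)

/-- the counit -/
noncomputable abbrev cU : (SimplicialObject.Truncated.sk n).obj ((SimplicialObject.truncation n).obj U) ⟶ U :=
  (SimplicialObject.skAdj n).counit.app U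

lemma unit_cU (a : (SimplexCategory.Truncated n)ᵒᵖ) :
    ((SimplexCategory.Truncated.inclusion n).op.lanUnit.app
      ((SimplexCategory.Truncated.inclusion n).op ⋙ U)).app a ≫
      (cU n U).app ((SimplexCategory.Truncated.inclusion n).op.obj a) = 𝟙 _ :=
  Functor.lanUnit_app_app_lanAdjunction_counit_app_app
    (SimplexCategory.Truncated.inclusion n).op U a

omit [Abelian A] in
lemma mono_of_iso_comp_eq_id {P Q : A} (f : P ⟶ Q) (g : Q ⟶ P) (hf : IsIso f) (h : f ≫ g = 𝟙 P) :
    Mono g := by
  have : g = inv f := by
    rw [← cancel_epi f, h, IsIso.hom_inv_id]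
  rw [this]
  infer_instance

lemma mono_cU_low (a : (SimplexCategory.Truncated n)ᵒᵖ) :
    Mono ((cU n U).app ((SimplexCategory.Truncated.inclusion n).op.obj a)) := by
  have hi : IsIso (((SimplexCategory.Truncated.inclusion n).op.lanUnit.app
      ((SimplexCategory.Truncated.inclusion n).op ⋙ U)).app a) := inferInstance
  exact mono_of_iso_comp_eq_id _ _ hi (unit_cU n U a)

lemma mono_N_cU (k : ℕ) :
    Mono (((AlgebraicTopology.normalizedMooreComplex A).map (cU n U)).f k) := by
  by_cases hk : k ≤ n
  · have h1 : ((AlgebraicTopology.normalizedMooreComplex A).map (cU n U)).f k ≫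
        (AlgebraicTopology.NormalizedMooreComplex.objX U k).arrow =
        (AlgebraicTopology.NormalizedMooreComplex.objX _ k).arrow ≫
          (cU n U).app (op (SimplexCategory.mk k)) := by
      simp only [AlgebraicTopology.normalizedMooreComplex_map,
        AlgebraicTopology.NormalizedMooreComplex.map_f]
      exact Subobject.factorThru_arrow _ _ _
    have hm1 := mono_cU_low n U (op ⟨SimplexCategory.mk k, hk⟩)
    have hm2 : Mono ((cU n U).app (op (SimplexCategory.mk k))) := hm1
    have hm3 : Mono (((AlgebraicTopology.normalizedMooreComplex A).map (cU n U)).f k ≫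
        (AlgebraicTopology.NormalizedMooreComplex.objX U k).arrow) := by
      rw [h1]; exact @mono_comp _ _ _ _ _ _ (Subobject.arrow_mono _) _ hm2
    exact mono_of_mono _ (AlgebraicTopology.NormalizedMooreComplex.objX U k).arrow
  · have hbot := main6806 n ((SimplicialObject.truncation n).obj U) k (by omega)
    have hz : IsZero ((AlgebraicTopology.NormalizedMooreComplex.objX
        ((SimplicialObject.Truncated.sk n).obj ((SimplicialObject.truncation n).obj U)) k : A)) := by
      rw [hbot]
      exact (isZero_zero A).of_iso Subobject.botCoeIsoZero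
    exact ⟨fun g h _ => hz.eq_of_tgt g h⟩

lemma mono_cU : Mono (cU n U) := by
  have h1 : Mono ((AlgebraicTopology.normalizedMooreComplex A).map (cU n U)) :=
    HomologicalComplex.mono_of_mono_f _ (fun k => mono_N_cU n U k)
  have h2 : Mono ((Abelian.DoldKan.equivalence (A := A)).functor.map (cU n U)) := h1
  exact Functor.mono_of_mono_map (Abelian.DoldKan.equivalence (A := A)).functor h2

lemma cU_fac (a : (SimplexCategory.Truncated n)ᵒᵖ) {Y : SimplexCategoryᵒᵖ}
    (f : (SimplexCategory.Truncated.inclusion n).op.obj a ⟶ Y) :
    ((SimplexCategory.Truncated.inclusion n).op.lanUnit.app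
      ((SimplexCategory.Truncated.inclusion n).op ⋙ U)).app a ≫
      ((SimplicialObject.Truncated.sk n).obj ((SimplicialObject.truncation n).obj U)).map f ≫
      (cU n U).app Y = U.map f := by
  have h1 := (cU n U).naturality f
  have h2 := unit_cU n U a
  exact (congrArg (fun z => _ ≫ z) h1).trans ((Category.assoc _ _ _).symm.trans
    ((congrArg (fun z => z ≫ U.map f) h2).trans (Category.id_comp _)))

theorem main6819 (U' : ∀ m : ℕ, Subobject (U.obj (op (SimplexCategory.mk m))))
    (hU' : ∀ m : ℕ, IsLUB (Set.range (fun φ : Σ i : Fin (n + 1),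
      (SimplexCategory.mk m ⟶ SimplexCategory.mk i) => imageSubobject (U.map φ.2.op))) (U' m))
    (m : ℕ) :
    Mono ((cU n U).app (op (SimplexCategory.mk m))) ∧
      imageSubobject ((cU n U).app (op (SimplexCategory.mk m))) = U' m := by
  constructor
  · haveI := mono_cU n U
    exact (NatTrans.mono_iff_mono_app (cU n U)).mp this _
  · apply le_antisymm
    · have hfac : (U' m).Factors ((cU n U).app (op (SimplexCategory.mk m))) := by
        refine (SkSub.factors_iff_comp_cokernel _ _).mpr ?_
        have hp := Functor.isPointwiseLeftKanExtensionLeftKanExtensionUnit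
          (SimplexCategory.Truncated.inclusion n).op
          ((SimplexCategory.Truncated.inclusion n).op ⋙ U)
        apply (hp (op (SimplexCategory.mk m))).hom_ext
        intro g
        refine Eq.trans ?_ comp_zero.symm
        have h1 := cU_fac n U g.left g.hom
        have h2 : (U' m).Factors (U.map g.hom) := by
          have : imageSubobject (U.map g.hom.unop.op) ≤ U' m :=
            (hU' m).1 ⟨⟨⟨g.left.unop.obj.len, Nat.lt_succ_of_le g.left.unop.property⟩,
              g.hom.unop⟩, rfl⟩
          exact Subobject.factors_of_le _ this (SkSub.image_factors _)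
        have h3 := (SkSub.factors_iff_comp_cokernel _ _).mp h2
        refine Eq.trans ?_ h3
        refine Eq.trans ?_ (congrArg (fun z => z ≫ cokernel.π (U' m).arrow) h1)
        exact ((Category.assoc _ _ _).trans (congrArg (fun z => _ ≫ z)
          (Category.assoc _ _ _).symm)).trans (Category.assoc _ _ _).symm
      exact imageSubobject_le _ ((U' m).factorThru _ hfac) ((U' m).factorThru_arrow _ hfac)
    · refine (hU' m).2 ?_
      rintro _ ⟨φ, rfl⟩
      have h1 := cU_fac n U (op ⟨SimplexCategory.mk φ.1, Nat.le_of_lt_succ φ.1.isLt⟩) φ.2.op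
      refine imageSubobject_le _ (((SimplexCategory.Truncated.inclusion n).op.lanUnit.app
        ((SimplexCategory.Truncated.inclusion n).op ⋙ U)).app
          (op ⟨SimplexCategory.mk φ.1, Nat.le_of_lt_succ φ.1.isLt⟩) ≫
        ((SimplicialObject.Truncated.sk n).obj ((SimplicialObject.truncation n).obj U)).map φ.2.op ≫
        factorThruImageSubobject ((cU n U).app (op (SimplexCategory.mk m)))) ?_
      rw [Category.assoc, Category.assoc, imageSubobject_arrow_comp]
      exact h1

end

end Groth.Agent.H23.Cosk
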