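import Mathlib
open CategoryTheory CategoryTheory.Limits Opposite Simplicial

namespace Groth.Agent.H23.CoskFib

universe u

/-- maps into a coskeletal simplicial set are determined by their truncation -/
lemma hom_ext_cosk {G X : SSet.{u}} (n : ℕ) [SimplicialObject.IsCoskeletal X n] (p q : G ⟶ X)
    (h : Functor.whiskerLeft (SimplexCategory.Truncated.inclusion n).op p =
      Functor.whiskerLeft (SimplexCategory.Truncated.inclusion n).op q) : p = q := by
  haveI : X.IsRightKanExtension (𝟙 ((SimplexCategory.Truncated.inclusion n).op ⋙ X)) :=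
    SimplicialObject.IsCoskeletal.isRightKanExtension
  apply Functor.hom_ext_of_isRightKanExtension X
    (𝟙 ((SimplexCategory.Truncated.inclusion n).op ⋙ X))
  rw [Category.comp_id, Category.comp_id]
  exact h

lemma exists_lift_cosk {G X : SSet.{u}} (n : ℕ) [SimplicialObject.IsCoskeletal X n]
    (β : (SimplexCategory.Truncated.inclusion n).op ⋙ G ⟶
      (SimplexCategory.Truncated.inclusion n).op ⋙ X) :
    ∃ l : G ⟶ X, Functor.whiskerLeft (SimplexCategory.Truncated.inclusion n).op l = β := by
  haveI : X.IsRightKanExtension (𝟙 ((SimplexCategory.Truncated.inclusion n).op ⋙ X)) :=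
    SimplicialObject.IsCoskeletal.isRightKanExtension
  refine ⟨Functor.liftOfIsRightKanExtension X
    (𝟙 ((SimplexCategory.Truncated.inclusion n).op ⋙ X)) G β, ?_⟩
  have := Functor.liftOfIsRightKanExtension_fac X
    (𝟙 ((SimplexCategory.Truncated.inclusion n).op ⋙ X)) G β
  rwa [Category.comp_id] at this

lemma isIso_tr_boundary (n k : ℕ) (hk : n < k) :
    IsIso (Functor.whiskerLeft (SimplexCategory.Truncated.inclusion n).op (SSet.boundary.{u} k).ι) := by
  haveI : ∀ a, IsIso ((Functor.whiskerLeft (SimplexCategory.Truncated.inclusion n).op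
      (SSet.boundary.{u} k).ι).app a) := by
    intro a
    rw [isIso_iff_bijective]
    constructor
    · intro x y hxy
      exact Subtype.ext hxy
    · intro x
      have hlen : a.unop.obj.len < k := lt_of_le_of_lt a.unop.property hk
      have := SSet.boundary_obj_eq_univ.{u} a.unop.obj.len k hlen
      refine ⟨⟨x, ?_⟩, rfl⟩
      have hx : x ∈ (Set.univ : Set ((Δ[k] : SSet.{u}).obj (op (SimplexCategory.mk a.unop.obj.len)))) :=
        Set.mem_univ _
      rw [← this] at hx
      exact hx
  exact NatIso.isIso_of_isIso_app _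

theorem main6782 {U V : SSet.{u}} (f : V ⟶ U) (n : ℕ)
    (h1 : ∀ i : ℕ, i < n → Function.Bijective (f.app (op (SimplexCategory.mk i))))
    (h2 : Function.Surjective (f.app (op (SimplexCategory.mk n))))
    [SimplicialObject.IsCoskeletal U n] [SimplicialObject.IsCoskeletal V n] :
    SSet.modelCategoryQuillen.I.rlp f := by
  intro A B i hi
  obtain ⟨k⟩ := hi
  constructor
  intro a b sq
  by_cases hk : k ≤ n
  · have hsurj : Function.Surjective (f.app (op (SimplexCategory.mk k))) := by
      rcases hk.lt_or_eq with h | rfl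
      · exact (h1 k h).2
      · exact h2
    obtain ⟨v, hv⟩ := hsurj (SSet.yonedaEquiv b)
    have hl : SSet.yonedaEquiv.symm v ≫ f = b := by
      apply SSet.yonedaEquiv.injective
      rw [SSet.yonedaEquiv_comp, Equiv.apply_symm_apply, hv]
    refine ⟨⟨{ l := SSet.yonedaEquiv.symm v, fac_left := ?_, fac_right := hl }⟩⟩
    cases k with
    | zero => exact SSet.boundary.hom_ext₀
    | succ j =>
      apply SSet.boundary.hom_ext
      intro t
      have hinj := (h1 j (by omega)).1
      apply SSet.yonedaEquiv.injective
      apply hinj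
      rw [← SSet.yonedaEquiv_comp, ← SSet.yonedaEquiv_comp]
      congr 1
      simp only [Category.assoc, hl, sq.w]
  · have hk' : n < k := by omega
    haveI := isIso_tr_boundary.{u} n k hk'
    let L := (SimplexCategory.Truncated.inclusion n).op
    obtain ⟨l, hl⟩ := exists_lift_cosk (G := Δ[k]) (X := V) n
      (inv (Functor.whiskerLeft L (SSet.boundary.{u} k).ι) ≫ Functor.whiskerLeft L a)
    refine ⟨⟨{ l := l, fac_left := ?_, fac_right := ?_ }⟩⟩
    · apply hom_ext_cosk n
      rw [Functor.whiskerLeft_comp, hl, IsIso.hom_inv_id_assoc]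
    · apply hom_ext_cosk n
      rw [Functor.whiskerLeft_comp, hl, Category.assoc, ← Functor.whiskerLeft_comp, sq.w,
        Functor.whiskerLeft_comp, IsIso.inv_hom_id_assoc]

end Groth.Agent.H23.CoskFib
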