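import Mathlib
import Groth.Agent.Lib.helper23.Cosk
open CategoryTheory CategoryTheory.Limits Opposite Simplicial

namespace Groth.Agent.H23.CoskHG
universe v u

variable {E : Type u} [Category.{v} E]

section agree
variable {X X' : SimplicialObject E} (f g : X ⟶ X') (n : ℕ)
  (hfg : ∀ p : ℕ, p < n → f.app (op (SimplexCategory.mk p)) = g.app (op (SimplexCategory.mk p)))

include hfg in
lemma agree_lt (a : SimplexCategory) (ha : a.len < n) : f.app (op a) = g.app (op a) := by
  induction a using SimplexCategory.rec with
  | _ k => exact hfg k ha

include hfg in
lemma agree_of_not_surj (a a' : SimplexCategory) (ha : a.len ≤ n) (ha' : a'.len ≤ n) (t : a' ⟶ a)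
    (ht : ¬ Function.Surjective t.toOrderHom) :
    X.map t.op ≫ f.app (op a') = X.map t.op ≫ g.app (op a') := by
  rcases ha'.lt_or_eq with h | h
  · rw [agree_lt f g n hfg a' h]
  · -- a'.len = n, t is not injective
    have hninj : ¬ Function.Injective t.toOrderHom := by
      intro hinj
      apply ht
      have hcard : Fintype.card (Fin (a'.len + 1)) ≤ Fintype.card (Fin (a.len + 1)) :=
        Fintype.card_le_of_injective _ hinj
      simp only [Fintype.card_fin] at hcard
      have hlen : a.len = a'.len := by omega
      have hbij := (Fintype.bijective_iff_injective_and_card (t.toOrderHom : Fin (a'.len+1) → Fin (a.len+1))).2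
        ⟨hinj, by simp [hlen]⟩
      exact hbij.2
    induction a' using SimplexCategory.rec with
    | _ k' =>
      have hk' : k' = n := h
      subst hk'
      cases k' with
      | zero =>
        exfalso
        apply hninj
        intro x y _
        exact Subsingleton.elim (α := Fin 1) x y
      | succ j =>
        obtain ⟨i, t', rfl⟩ := SimplexCategory.eq_σ_comp_of_not_injective t hninj
        have e : f.app (op ⦋j⦌) = g.app (op ⦋j⦌) := hfg j (Nat.lt_succ_self j)
        rw [op_comp, X.map_comp, Category.assoc, Category.assoc, f.naturality, g.naturality, e]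

end agree

end Groth.Agent.H23.CoskHG
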