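import Mathlib
import Groth.Agent.Lib.helper23.CoskHG
open CategoryTheory CategoryTheory.Limits Opposite Simplicial

namespace Groth.Agent.H23.CoskHG
universe v u

variable {E : Type u} [Category.{v} E] (n : ℕ)

/-- the inclusion -/
abbrev Ln : (SimplexCategory.Truncated n)ᵒᵖ ⥤ SimplexCategoryᵒᵖ :=
  (SimplexCategory.Truncated.inclusion n).op

variable {n}

/-- the simplex-category morphism underlying a structured arrow -/
def al {q : ℕ} (gs : StructuredArrow (op ⦋q⦌) (Ln n)) : gs.right.unop.obj ⟶ ⦋q⦌ := gs.hom.unop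

/-- all values of the structured arrow lie in `S` -/
def flag {q : ℕ} (S : Set (Fin (q + 1))) (gs : StructuredArrow (op ⦋q⦌) (Ln n)) : Prop :=
  ∀ x, (al gs).toOrderHom x ∈ S

variable {X X' : SimplicialObject E} (f g : X ⟶ X')

open Classical in
/-- `f` or `g` according to the flag -/
noncomputable def Φ {q : ℕ} (S : Set (Fin (q + 1))) (gs : StructuredArrow (op ⦋q⦌) (Ln n)) :
    X.obj ((Ln n).obj gs.right) ⟶ X'.obj ((Ln n).obj gs.right) :=
  if flag S gs then g.app _ else f.app _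

lemma Φ_pos {q : ℕ} (S : Set (Fin (q + 1))) (gs : StructuredArrow (op ⦋q⦌) (Ln n))
    (h : flag S gs) : Φ f g S gs = g.app _ := by
  unfold Φ; rw [if_pos h]

lemma Φ_neg {q : ℕ} (S : Set (Fin (q + 1))) (gs : StructuredArrow (op ⦋q⦌) (Ln n))
    (h : ¬ flag S gs) : Φ f g S gs = f.app _ := by
  unfold Φ; rw [if_neg h]

variable (hfg : ∀ p : ℕ, p < n → f.app (op (SimplexCategory.mk p)) = g.app (op (SimplexCategory.mk p)))

include hfg in
lemma key {q : ℕ} (S : Set (Fin (q + 1))) {gs gs' : StructuredArrow (op ⦋q⦌) (Ln n)} (θ : gs ⟶ gs') :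
    X.map ((Ln n).map θ.right) ≫ Φ f g S gs' = Φ f g S gs ≫ X'.map ((Ln n).map θ.right) := by
  have hw : gs.hom ≫ (Ln n).map θ.right = gs'.hom := StructuredArrow.w θ
  let t : gs'.right.unop.obj ⟶ gs.right.unop.obj :=
    (SimplexCategory.Truncated.inclusion n).map θ.right.unop
  have hal : al gs' = t ≫ al gs := by
    have := congrArg Quiver.Hom.unop hw
    exact this.symm
  by_cases h1 : flag S gs
  · have h2 : flag S gs' := by
      intro x
      rw [hal]
      exact h1 (t.toOrderHom x)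
    rw [Φ_pos f g S gs h1, Φ_pos f g S gs' h2]
    exact g.naturality _
  · by_cases h2 : flag S gs'
    · rw [Φ_neg f g S gs h1, Φ_pos f g S gs' h2, ← f.naturality]
      have hns : ¬ Function.Surjective t.toOrderHom := by
        intro hs
        apply h1
        intro x
        obtain ⟨y, rfl⟩ := hs x
        have := h2 y
        rw [hal] at this
        exact this
      exact (agree_of_not_surj f g n hfg _ _ gs.right.unop.property gs'.right.unop.property t hns).symm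
    · rw [Φ_neg f g S gs h1, Φ_neg f g S gs' h2]
      exact f.naturality _


variable {Y Y' : SimplicialObject E} (ε : Ln n ⋙ Y ⟶ Ln n ⋙ X) (ε' : Ln n ⋙ Y' ⟶ Ln n ⋙ X')
  (hY' : (Functor.RightExtension.mk Y' ε').IsPointwiseRightKanExtension)

/-- the components -/
noncomputable def comp {q m : ℕ} (ρ : ⦋q⦌ ⟶ ⦋m⦌) (S : Set (Fin (q + 1)))
    (gs : StructuredArrow (op ⦋q⦌) (Ln n)) : Y.obj (op ⦋m⦌) ⟶ X'.obj ((Ln n).obj gs.right) :=
  Y.map (ρ.op ≫ gs.hom) ≫ ε.app gs.right ≫ Φ f g S gs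

include hfg in
lemma comp_nat {q m : ℕ} (ρ : ⦋q⦌ ⟶ ⦋m⦌) (S : Set (Fin (q + 1)))
    {gs gs' : StructuredArrow (op ⦋q⦌) (Ln n)} (θ : gs ⟶ gs') :
    comp f g ε ρ S gs' = comp f g ε ρ S gs ≫ X'.map ((Ln n).map θ.right) := by
  have hw : gs.hom ≫ (Ln n).map θ.right = gs'.hom := StructuredArrow.w θ
  have hε : Y.map ((Ln n).map θ.right) ≫ ε.app gs'.right =
      ε.app gs.right ≫ X.map ((Ln n).map θ.right) := ε.naturality θ.right
  unfold comp
  rw [← hw, ← Category.assoc ρ.op, Y.map_comp, Category.assoc, Category.assoc, Category.assoc,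
    ← key f g hfg S θ, ← Category.assoc (ε.app gs.right), ← hε, Category.assoc]

/-- the cone -/
noncomputable def coneH {q m : ℕ} (ρ : ⦋q⦌ ⟶ ⦋m⦌) (S : Set (Fin (q + 1))) :
    Cone (StructuredArrow.proj (op ⦋q⦌) (Ln n) ⋙ (Ln n ⋙ X')) where
  pt := Y.obj (op ⦋m⦌)
  π :=
    { app := fun gs => comp f g ε ρ S gs
      naturality := fun gs gs' θ => by
        have := comp_nat f g hfg ε ρ S θ
        exact (Category.id_comp _).trans this }

/-- the map `H(ρ, S)` -/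
noncomputable def H {q m : ℕ} (ρ : ⦋q⦌ ⟶ ⦋m⦌) (S : Set (Fin (q + 1))) :
    Y.obj (op ⦋m⦌) ⟶ Y'.obj (op ⦋q⦌) :=
  (hY' (op ⦋q⦌)).lift (coneH f g hfg ε ρ S)

lemma H_fac {q m : ℕ} (ρ : ⦋q⦌ ⟶ ⦋m⦌) (S : Set (Fin (q + 1)))
    (gs : StructuredArrow (op ⦋q⦌) (Ln n)) :
    H f g hfg ε ε' hY' ρ S ≫ Y'.map gs.hom ≫ ε'.app gs.right = comp f g ε ρ S gs :=
  (hY' (op ⦋q⦌)).fac (coneH f g hfg ε ρ S) gs

include hY' in
lemma hom_ext_Y' {q : ℕ} {T : E} (a b : T ⟶ Y'.obj (op ⦋q⦌))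
    (h : ∀ gs : StructuredArrow (op ⦋q⦌) (Ln n),
      a ≫ Y'.map gs.hom ≫ ε'.app gs.right = b ≫ Y'.map gs.hom ≫ ε'.app gs.right) : a = b :=
  (hY' (op ⦋q⦌)).hom_ext h

end Groth.Agent.H23.CoskHG
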