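import Mathlib
import Groth.Agent.Lib.helper23.CoskHG2
open CategoryTheory CategoryTheory.Limits Opposite Simplicial

namespace Groth.Agent.H23.CoskHG
universe v u

variable {E : Type u} [Category.{v} E] {n : ℕ}
variable {X X' : SimplicialObject E} (f g : X ⟶ X')
variable (hfg : ∀ p : ℕ, p < n → f.app (op (SimplexCategory.mk p)) = g.app (op (SimplexCategory.mk p)))
variable {Y Y' : SimplicialObject E} (ε : Ln n ⋙ Y ⟶ Ln n ⋙ X) (ε' : Ln n ⋙ Y' ⟶ Ln n ⋙ X')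
  (hY' : (Functor.RightExtension.mk Y' ε').IsPointwiseRightKanExtension)

lemma Φ_congr {q q' : ℕ} (S : Set (Fin (q + 1))) (S' : Set (Fin (q' + 1)))
    (gs : StructuredArrow (op ⦋q⦌) (Ln n)) (gs' : StructuredArrow (op ⦋q'⦌) (Ln n))
    (hr : gs.right = gs'.right) (hfl : flag S gs ↔ flag S' gs') :
    HEq (Φ f g S gs) (Φ f g S' gs') := by
  obtain ⟨l, r, h⟩ := gs
  obtain ⟨l', r', h'⟩ := gs'
  change r = r' at hr
  subst hr
  by_cases h1 : flag S ⟨l, r, h⟩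
  · rw [Φ_pos f g S _ h1, Φ_pos f g S' _ (hfl.1 h1)]
  · rw [Φ_neg f g S _ h1, Φ_neg f g S' _ (fun h2 => h1 (hfl.2 h2))]

lemma H_map_right {q m a : ℕ} (ρ : ⦋q⦌ ⟶ ⦋m⦌) (S : Set (Fin (q + 1))) (τ : ⦋a⦌ ⟶ ⦋q⦌) :
    H f g hfg ε ε' hY' ρ S ≫ Y'.map τ.op =
      H f g hfg ε ε' hY' (τ ≫ ρ) (τ.toOrderHom ⁻¹' S) := by
  apply hom_ext_Y' ε' hY'
  intro gs
  rw [H_fac, Category.assoc, ← Category.assoc (Y'.map τ.op), ← Y'.map_comp]
  have := H_fac f g hfg ε ε' hY' ρ S (StructuredArrow.mk (τ.op ≫ gs.hom))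
  refine this.trans ?_
  unfold comp
  have e1 : Φ f g S (StructuredArrow.mk (τ.op ≫ gs.hom)) = Φ f g (τ.toOrderHom ⁻¹' S) gs :=
    eq_of_heq (Φ_congr f g S _ _ _ rfl Iff.rfl)
  rw [e1]
  simp only [op_comp, Category.assoc]
  rfl

lemma H_map_left {q m m' : ℕ} (ρ : ⦋q⦌ ⟶ ⦋m⦌) (S : Set (Fin (q + 1))) (τ' : ⦋m⦌ ⟶ ⦋m'⦌) :
    Y.map τ'.op ≫ H f g hfg ε ε' hY' ρ S = H f g hfg ε ε' hY' (ρ ≫ τ') S := by
  apply hom_ext_Y' ε' hY'
  intro gs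
  rw [H_fac, Category.assoc, H_fac]
  unfold comp
  rw [← Category.assoc, ← Y.map_comp]
  simp only [op_comp, Category.assoc]

lemma H_id_empty {m : ℕ} (cf : Y ⟶ Y')
    (hcf : Functor.whiskerLeft (Ln n) cf ≫ ε' = ε ≫ Functor.whiskerLeft (Ln n) f) :
    H f g hfg ε ε' hY' (𝟙 ⦋m⦌) ∅ = cf.app (op ⦋m⦌) := by
  apply hom_ext_Y' ε' hY'
  intro gs
  rw [H_fac]
  unfold comp
  have hfl : ¬ flag (∅ : Set (Fin (m + 1))) gs := fun h => h 0
  rw [Φ_neg f g _ gs hfl]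
  have h1 := congrArg (fun t => t.app gs.right) hcf
  have h2 : cf.app ((Ln n).obj gs.right) ≫ ε'.app gs.right = ε.app gs.right ≫ f.app _ := h1
  rw [← Category.assoc (cf.app _), ← cf.naturality, Category.assoc, h2]
  simp

lemma H_id_univ {m : ℕ} (cg : Y ⟶ Y')
    (hcg : Functor.whiskerLeft (Ln n) cg ≫ ε' = ε ≫ Functor.whiskerLeft (Ln n) g) :
    H f g hfg ε ε' hY' (𝟙 ⦋m⦌) Set.univ = cg.app (op ⦋m⦌) := by
  apply hom_ext_Y' ε' hY'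
  intro gs
  rw [H_fac]
  unfold comp
  have hfl : flag (Set.univ : Set (Fin (m + 1))) gs := fun x => Set.mem_univ _
  rw [Φ_pos f g _ gs hfl]
  have h1 := congrArg (fun t => t.app gs.right) hcg
  have h2 : cg.app ((Ln n).obj gs.right) ≫ ε'.app gs.right = ε.app gs.right ≫ g.app _ := h1
  rw [← Category.assoc (cg.app _), ← cg.naturality, Category.assoc, h2]
  simp

end Groth.Agent.H23.CoskHG
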