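import Mathlib
import Groth.Agent.Lib.helper23.CoskHG3
open CategoryTheory CategoryTheory.Limits Opposite Simplicial

namespace Groth.Agent.H23.CoskHG
universe v u

lemma δ_val {m : ℕ} (i : Fin (m + 2)) (x : Fin (m + 1)) :
    ((SimplexCategory.δ i).toOrderHom x).val = if x.val < i.val then x.val else x.val + 1 := by
  show (i.succAbove x).val = _
  unfold Fin.succAbove
  split_ifs with h1 h2 h2
  · rfl
  · exfalso; apply h2; exact h1
  · exfalso; apply h1; exact h2
  · rfl

lemma σ_val {m : ℕ} (i : Fin (m + 1)) (x : Fin (m + 2)) :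
    ((SimplexCategory.σ i).toOrderHom x).val = if i.val < x.val then x.val - 1 else x.val := by
  show (i.predAbove x).val = _
  unfold Fin.predAbove
  split_ifs with h1 h2 h2
  · rfl
  · exfalso; apply h2; exact h1
  · exfalso; apply h1; exact h2
  · rfl

/-- the upper set -/
def up {m : ℕ} (i : Fin (m + 1)) : Set (Fin (m + 2)) := {x | i.val < x.val}

lemma pre1 {m : ℕ} : (SimplexCategory.δ (0 : Fin (m + 2))).toOrderHom ⁻¹' up (0 : Fin (m + 1)) = Set.univ := by
  ext x
  simp only [Set.mem_preimage, up, Set.mem_ofPred_eq, δ_val, Set.mem_univ, iff_true]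
  split_ifs with h <;> simp at h ⊢

lemma pre2 {m : ℕ} : (SimplexCategory.δ (Fin.last (m + 1))).toOrderHom ⁻¹' up (Fin.last m) = ∅ := by
  ext x
  simp only [Set.mem_preimage, up, Set.mem_ofPred_eq, δ_val, Set.mem_empty_iff_false, iff_false]
  have hx : x.val < m + 1 := x.isLt
  simp only [Fin.val_last]
  split_ifs with h <;> omega

lemma pre3 {m : ℕ} (i : Fin (m + 2)) (j : Fin (m + 1)) (hij : i ≤ j.castSucc) :
    (SimplexCategory.δ i.castSucc).toOrderHom ⁻¹' up j.succ = up j := by
  ext x
  have h1 : i.val ≤ j.val := hij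
  simp only [Set.mem_preimage, up, Set.mem_ofPred_eq, δ_val, Fin.val_succ, Fin.val_castSucc]
  split_ifs with h <;> omega

lemma pre4 {m : ℕ} (j : Fin (m + 1)) :
    (SimplexCategory.δ j.castSucc.succ).toOrderHom ⁻¹' up j.succ =
      (SimplexCategory.δ j.castSucc.succ).toOrderHom ⁻¹' up j.castSucc := by
  ext x
  simp only [Set.mem_preimage, up, Set.mem_ofPred_eq, δ_val, Fin.val_succ, Fin.val_castSucc]
  split_ifs with h <;> omega

lemma pre5 {m : ℕ} (i : Fin (m + 2)) (j : Fin (m + 1)) (hji : j.castSucc < i) :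
    (SimplexCategory.δ i.succ).toOrderHom ⁻¹' up j.castSucc = up j := by
  ext x
  have h1 : j.val < i.val := hji
  simp only [Set.mem_preimage, up, Set.mem_ofPred_eq, δ_val, Fin.val_succ, Fin.val_castSucc]
  split_ifs with h <;> omega

lemma pre6 {m : ℕ} (i j : Fin (m + 1)) (hij : i ≤ j) :
    (SimplexCategory.σ i.castSucc).toOrderHom ⁻¹' up j = up j.succ := by
  ext x
  have h1 : i.val ≤ j.val := hij
  simp only [Set.mem_preimage, up, Set.mem_ofPred_eq, σ_val, Fin.val_succ, Fin.val_castSucc]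
  split_ifs with h <;> omega

lemma pre7 {m : ℕ} (i j : Fin (m + 1)) (hji : j ≤ i) :
    (SimplexCategory.σ i.succ).toOrderHom ⁻¹' up j = up j.castSucc := by
  ext x
  have h1 : j.val ≤ i.val := hji
  simp only [Set.mem_preimage, up, Set.mem_ofPred_eq, σ_val, Fin.val_succ, Fin.val_castSucc]
  split_ifs with h <;> omega

end Groth.Agent.H23.CoskHG
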