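import Mathlib
import Groth.Agent.Lib.helper23.CoskHG4
open CategoryTheory CategoryTheory.Limits Opposite Simplicial

namespace Groth.Agent.H23.CoskHG
universe v u

variable {E : Type u} [Category.{v} E] {n : ℕ}
variable {X X' : SimplicialObject E} (f g : X ⟶ X')
variable (hfg : ∀ p : ℕ, p < n → f.app (op (SimplexCategory.mk p)) = g.app (op (SimplexCategory.mk p)))
variable {Y Y' : SimplicialObject E} (ε : Ln n ⋙ Y ⟶ Ln n ⋙ X) (ε' : Ln n ⋙ Y' ⟶ Ln n ⋙ X')
  (hY' : (Functor.RightExtension.mk Y' ε').IsPointwiseRightKanExtension)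

lemma H_congr {q m : ℕ} {ρ ρ' : ⦋q⦌ ⟶ ⦋m⦌} {S S' : Set (Fin (q + 1))} (hρ : ρ = ρ') (hS : S = S') :
    H f g hfg ε ε' hY' ρ S = H f g hfg ε ε' hY' ρ' S' := by
  subst hρ; subst hS; rfl

/-- the homotopy -/
noncomputable def htpy (cf cg : Y ⟶ Y')
    (hcf : Functor.whiskerLeft (Ln n) cf ≫ ε' = ε ≫ Functor.whiskerLeft (Ln n) f)
    (hcg : Functor.whiskerLeft (Ln n) cg ≫ ε' = ε ≫ Functor.whiskerLeft (Ln n) g) :
    SimplicialObject.Homotopy cf cg where
  h {m} i := H f g hfg ε ε' hY' (SimplexCategory.σ i) (up i)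
  h_zero_comp_δ_zero m := by
    show H f g hfg ε ε' hY' _ _ ≫ Y'.map (SimplexCategory.δ 0).op = _
    rw [H_map_right, ← H_id_univ f g hfg ε ε' hY' cg hcg]
    exact H_congr f g hfg ε ε' hY' (SimplexCategory.δ_comp_σ_self' (Fin.castSucc_zero).symm) pre1
  h_last_comp_δ_last m := by
    show H f g hfg ε ε' hY' _ _ ≫ Y'.map (SimplexCategory.δ (Fin.last (m + 1))).op = _
    rw [H_map_right, ← H_id_empty f g hfg ε ε' hY' cf hcf]
    exact H_congr f g hfg ε ε' hY' (SimplexCategory.δ_comp_σ_succ' (Fin.succ_last m).symm) pre2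
  h_succ_comp_δ_castSucc_of_lt {m} i j hij := by
    show H f g hfg ε ε' hY' _ _ ≫ Y'.map (SimplexCategory.δ i.castSucc).op =
      Y.map (SimplexCategory.δ i).op ≫ H f g hfg ε ε' hY' _ _
    rw [H_map_right, H_map_left]
    exact H_congr f g hfg ε ε' hY' (SimplexCategory.δ_comp_σ_of_le hij) (pre3 i j hij)
  h_succ_comp_δ_castSucc_succ {m} j := by
    show H f g hfg ε ε' hY' _ _ ≫ Y'.map (SimplexCategory.δ j.castSucc.succ).op =
      H f g hfg ε ε' hY' _ _ ≫ Y'.map (SimplexCategory.δ j.castSucc.succ).op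
    rw [H_map_right, H_map_right]
    refine H_congr f g hfg ε ε' hY' ?_ (pre4 j)
    rw [SimplexCategory.δ_comp_σ_self' (Fin.succ_castSucc j).symm, SimplexCategory.δ_comp_σ_succ]
  h_castSucc_comp_δ_succ_of_lt {m} i j hji := by
    show H f g hfg ε ε' hY' _ _ ≫ Y'.map (SimplexCategory.δ i.succ).op =
      Y.map (SimplexCategory.δ i).op ≫ H f g hfg ε ε' hY' _ _
    rw [H_map_right, H_map_left]
    exact H_congr f g hfg ε ε' hY' (SimplexCategory.δ_comp_σ_of_gt hji) (pre5 i j hji)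
  h_comp_σ_castSucc_of_le {m} i j hij := by
    show H f g hfg ε ε' hY' _ _ ≫ Y'.map (SimplexCategory.σ i.castSucc).op =
      Y.map (SimplexCategory.σ i).op ≫ H f g hfg ε ε' hY' _ _
    rw [H_map_right, H_map_left]
    exact H_congr f g hfg ε ε' hY' (SimplexCategory.σ_comp_σ hij) (pre6 i j hij)
  h_comp_σ_succ_of_lt {m} i j hji := by
    show H f g hfg ε ε' hY' _ _ ≫ Y'.map (SimplexCategory.σ i.succ).op =
      Y.map (SimplexCategory.σ i).op ≫ H f g hfg ε ε' hY' _ _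
    rw [H_map_right, H_map_left]
    exact H_congr f g hfg ε ε' hY' (SimplexCategory.σ_comp_σ hji).symm (pre7 i j hji)

end Groth.Agent.H23.CoskHG
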