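import Mathlib
import Groth.Agent.Lib.helper23.CoskHG5
import Groth.Agent.Lib.helper23.Cosk
open CategoryTheory CategoryTheory.Limits Opposite Simplicial

namespace Groth.Agent.H23.CoskHG
universe v u

theorem main8565 {E : Type u} [Category.{v} E] [HasFiniteLimits E] (n : ℕ)
    [∀ (F : (SimplexCategory.Truncated n)ᵒᵖ ⥤ E), (SimplexCategory.Truncated.inclusion n).op.HasRightKanExtension F]
    {X X' : SimplicialObject E} (f g : X ⟶ X')
    (hfg : ∀ p : ℕ, p < n → f.app (op (SimplexCategory.mk p)) = g.app (op (SimplexCategory.mk p))) :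
    Nonempty (SimplicialObject.Homotopy ((SimplicialObject.cosk n).map f) ((SimplicialObject.cosk n).map g)) := by
  let ε : Ln n ⋙ (SimplicialObject.cosk n).obj X ⟶ Ln n ⋙ X := (Ln n).ranCounit.app (Ln n ⋙ X)
  let ε' : Ln n ⋙ (SimplicialObject.cosk n).obj X' ⟶ Ln n ⋙ X' := (Ln n).ranCounit.app (Ln n ⋙ X')
  have hY' : (Functor.RightExtension.mk ((SimplicialObject.cosk n).obj X') ε').IsPointwiseRightKanExtension :=
    (Ln n).isPointwiseRightKanExtensionRanCounit (Ln n ⋙ X')
  have hcf : Functor.whiskerLeft (Ln n) ((SimplicialObject.cosk n).map f) ≫ ε' =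
      ε ≫ Functor.whiskerLeft (Ln n) f :=
    (Ln n).ranCounit.naturality (Functor.whiskerLeft (Ln n) f)
  have hcg : Functor.whiskerLeft (Ln n) ((SimplicialObject.cosk n).map g) ≫ ε' =
      ε ≫ Functor.whiskerLeft (Ln n) g :=
    (Ln n).ranCounit.naturality (Functor.whiskerLeft (Ln n) g)
  exact ⟨htpy f g hfg ε ε' hY' _ _ hcf hcg⟩

end Groth.Agent.H23.CoskHG
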