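import Groth.Agent.Lib.helper23.CoskFib
open CategoryTheory CategoryTheory.Limits Opposite Simplicial MonoidalCategory

namespace Groth.Agent.H23.CoskFib

universe u

variable {U V : SSet.{u}}

/-- all vertices zero -/
def zeroP {m : SimplexCategoryᵒᵖ} (α : (Δ[1] : SSet.{u}).obj m) : Prop :=
  ∀ k, SSet.stdSimplex.asOrderHom α k = 0

open Classical in
noncomputable def Hfun (f₀ f₁ : V ⟶ U) (m : SimplexCategoryᵒᵖ) (x : (V ⊗ Δ[1]).obj m) : U.obj m :=
  if zeroP x.2 then f₀.app m x.1 else f₁.app m x.1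

lemma Hfun_nat (f₀ f₁ : V ⟶ U) (n : ℕ)
    (h : ∀ i : ℕ, i < n → f₀.app (op (SimplexCategory.mk i)) = f₁.app (op (SimplexCategory.mk i)))
    {p q : SimplexCategoryᵒᵖ} (t : p ⟶ q) (hp : p.unop.len ≤ n) (x : (V ⊗ Δ[1]).obj p) :
    Hfun f₀ f₁ q ((V ⊗ Δ[1]).map t x) = U.map t (Hfun f₀ f₁ p x) := by
  unfold Hfun
  have hmap : ∀ k, SSet.stdSimplex.asOrderHom ((V ⊗ Δ[1]).map t x).2 k =
      SSet.stdSimplex.asOrderHom x.2 (t.unop.toOrderHom k) := fun k => rfl
  have hfst : ((V ⊗ Δ[1]).map t x).1 = V.map t x.1 := rfl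
  by_cases h1 : zeroP x.2
  · have h2 : zeroP ((V ⊗ Δ[1]).map t x).2 := fun k => (hmap k).trans (h1 _)
    rw [if_pos h1, if_pos h2, hfst]
    exact NatTrans.naturality_apply f₀ t x.1
  · by_cases h2 : zeroP ((V ⊗ Δ[1]).map t x).2
    · rw [if_neg h1, if_pos h2, hfst]
      have hns : ¬ Function.Surjective t.unop.toOrderHom := by
        intro hs
        apply h1
        intro k₀
        obtain ⟨k, rfl⟩ := hs k₀
        exact (hmap k).symm.trans (h2 k)
      induction p using Opposite.rec with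
      | op P =>
        obtain ⟨_ | m'⟩ := P
        · exfalso
          apply hns
          intro y
          exact ⟨0, Subsingleton.elim (α := Fin 1) _ _⟩
        · obtain ⟨i, θ', hθ⟩ := SimplexCategory.eq_comp_δ_of_not_surjective t.unop hns
          have ht : t = (SimplexCategory.δ i).op ≫ θ'.op := by
            rw [← op_comp, ← hθ]; rfl
          have hm' : m' < n := by
            have : m' + 1 ≤ n := hp
            omega
          have hw := h m' hm'
          rw [ht, Functor.map_comp_apply, Functor.map_comp_apply,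
            NatTrans.naturality_apply f₀ θ'.op, hw,
            NatTrans.naturality_apply f₁ (SimplexCategory.δ i).op]
    · rw [if_neg h1, if_neg h2, hfst]
      exact NatTrans.naturality_apply f₁ t x.1

noncomputable def Hβ (f₀ f₁ : V ⟶ U) (n : ℕ)
    (h : ∀ i : ℕ, i < n → f₀.app (op (SimplexCategory.mk i)) = f₁.app (op (SimplexCategory.mk i))) :
    (SimplexCategory.Truncated.inclusion n).op ⋙ (V ⊗ Δ[1]) ⟶
      (SimplexCategory.Truncated.inclusion n).op ⋙ U where
  app a := TypeCat.ofHom (Hfun f₀ f₁ ((SimplexCategory.Truncated.inclusion n).op.obj a))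
  naturality a b t := by
    ext x
    exact Hfun_nat f₀ f₁ n h ((SimplexCategory.Truncated.inclusion n).op.map t)
      a.unop.property x

theorem main6799 (f₀ f₁ : V ⟶ U) (n : ℕ)
    (h : ∀ i : ℕ, i < n → f₀.app (op (SimplexCategory.mk i)) = f₁.app (op (SimplexCategory.mk i)))
    [SimplicialObject.IsCoskeletal U n] [SimplicialObject.IsCoskeletal V n] :
    Nonempty (SSet.Homotopy f₀ f₁) := by
  obtain ⟨hh, hhh⟩ := exists_lift_cosk (G := V ⊗ Δ[1]) (X := U) n (Hβ f₀ f₁ n h)
  refine ⟨{ h := hh, h₀ := ?_, h₁ := ?_, rel := ?_ }⟩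
  · show SSet.ι₀ ≫ hh = f₀
    apply hom_ext_cosk n
    rw [Functor.whiskerLeft_comp, hhh]
    ext a v
    show Hfun f₀ f₁ _ (SSet.ι₀.app _ v) = f₀.app _ v
    unfold Hfun
    rw [if_pos]
    · rfl
    · intro k
      rfl
  · show SSet.ι₁ ≫ hh = f₁
    apply hom_ext_cosk n
    rw [Functor.whiskerLeft_comp, hhh]
    ext a v
    show Hfun f₀ f₁ _ (SSet.ι₁.app _ v) = f₁.app _ v
    unfold Hfun
    rw [if_neg]
    · rfl
    · intro hz
      have h0 := hz 0
      have h1 : SSet.stdSimplex.asOrderHom (SSet.ι₁.app _ v).2 0 = 1 := rfl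
      rw [h1] at h0
      exact absurd h0 (by decide)
  · ext m ⟨⟨x, hx⟩, y⟩
    simp at hx

end Groth.Agent.H23.CoskFib
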