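import Mathlib
import Groth.Prelude.Def_FinCov
import Groth.Prelude.Def_Pic
import Groth.Agent.Lib.helper23.StrPerf

open AlgebraicGeometry CategoryTheory CategoryTheory.Limits Opposite TopologicalSpace

namespace Groth.Agent.H23.DblAlg
universe u

open Scheme.Modules

variable {X : Scheme.{u}}

lemma isIso_of_app_bijective {M N : X.Modules} (φ : M ⟶ N)
    (h : ∀ U : X.Opens, Function.Bijective (φ.app U)) : IsIso φ := by
  have h1 : IsIso ((Scheme.Modules.toPresheaf X).map φ) := by
    have : ∀ U, IsIso (((Scheme.Modules.toPresheaf X).map φ).app U) := fun U =>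
      (ConcreteCategory.isIso_iff_bijective _).mpr (h U.unop)
    exact NatIso.isIso_of_isIso_app _
  exact isIso_of_reflects_iso φ (Scheme.Modules.toPresheaf X)

section
variable (L : X.Modules) (A : RelSpec.QCAlg X) (j : L ⟶ A.toModule)

/-- the comparison map `O ⊞ L ⟶ A` -/
noncomputable def Φ : Coh.structureModule X ⊞ L ⟶ A.toModule :=
  biprod.desc (FinCov.strMod A) j

lemma Φ_app (U : X.Opens) (z : Γ((Coh.structureModule X ⊞ L : X.Modules), U)) :
    (Φ L A j).app U z =
      (FinCov.strMod A).app U ((biprod.fst : Coh.structureModule X ⊞ L ⟶ _).app U z) +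
        j.app U ((biprod.snd : Coh.structureModule X ⊞ L ⟶ _).app U z) := by
  have total := congrArg (fun ψ : (Coh.structureModule X ⊞ L : X.Modules) ⟶ _ =>
    ((ψ ≫ Φ L A j).app U) z) (biprod.total (X := Coh.structureModule X) (Y := L))
  simp only [Preadditive.add_comp, Category.assoc, Category.id_comp, Φ, biprod.inl_desc,
    biprod.inr_desc] at total
  exact total.symm

theorem isIso_Φ (m : CohB1.tensorMod L L ⟶ Coh.structureModule X)
    (h : FinCov.IsDblAlg L m A j) : IsIso (Φ L A j) := by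
  apply isIso_of_app_bijective
  intro U
  obtain ⟨hinj, hsurj⟩ := h.1 U
  constructor
  · intro z z' hzz'
    rw [Φ_app, Φ_app] at hzz'
    have h1 := hinj (a₁ := ((biprod.fst : Coh.structureModule X ⊞ L ⟶ _).app U z,
      (biprod.snd : Coh.structureModule X ⊞ L ⟶ _).app U z))
      (a₂ := ((biprod.fst : Coh.structureModule X ⊞ L ⟶ _).app U z',
      (biprod.snd : Coh.structureModule X ⊞ L ⟶ _).app U z')) hzz'
    have h2 := congrArg Prod.fst h1
    have h3 := congrArg Prod.snd h1
    have tz := congrArg (fun ψ : (Coh.structureModule X ⊞ L : X.Modules) ⟶ _ =>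
      (ψ.app U) z) (biprod.total (X := Coh.structureModule X) (Y := L))
    have tz' := congrArg (fun ψ : (Coh.structureModule X ⊞ L : X.Modules) ⟶ _ =>
      (ψ.app U) z') (biprod.total (X := Coh.structureModule X) (Y := L))
    dsimp only at h2 h3
    have tz2 : (biprod.inl : _ ⟶ (Coh.structureModule X ⊞ L : X.Modules)).app U
        ((biprod.fst : Coh.structureModule X ⊞ L ⟶ _).app U z) +
      (biprod.inr : _ ⟶ (Coh.structureModule X ⊞ L : X.Modules)).app U
        ((biprod.snd : Coh.structureModule X ⊞ L ⟶ _).app U z) = z := tz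
    have tz2' : (biprod.inl : _ ⟶ (Coh.structureModule X ⊞ L : X.Modules)).app U
        ((biprod.fst : Coh.structureModule X ⊞ L ⟶ _).app U z') +
      (biprod.inr : _ ⟶ (Coh.structureModule X ⊞ L : X.Modules)).app U
        ((biprod.snd : Coh.structureModule X ⊞ L ⟶ _).app U z') = z' := tz'
    rw [← tz2, ← tz2', h2, h3]
  · intro y
    obtain ⟨⟨s, l⟩, hsl⟩ := hsurj y
    refine ⟨(biprod.inl : _ ⟶ (Coh.structureModule X ⊞ L : X.Modules)).app U s +
      (biprod.inr : _ ⟶ (Coh.structureModule X ⊞ L : X.Modules)).app U l, ?_⟩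
    rw [map_add]
    have e1 : (Φ L A j).app U ((biprod.inl : _ ⟶ (Coh.structureModule X ⊞ L : X.Modules)).app U s) =
        (FinCov.strMod A).app U s :=
      congrArg (fun ψ : Coh.structureModule X ⟶ A.toModule => (ψ.app U) s)
        (biprod.inl_desc (FinCov.strMod A) j)
    have e2 : (Φ L A j).app U ((biprod.inr : _ ⟶ (Coh.structureModule X ⊞ L : X.Modules)).app U l) =
        j.app U l :=
      congrArg (fun ψ : L ⟶ A.toModule => (ψ.app U) l)
        (biprod.inr_desc (FinCov.strMod A) j)
    rw [e1, e2]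
    exact hsl

end

noncomputable def sigmaOneIso {C : Type*} [Category C] (O : C)
    [HasCoproduct (fun _ : Fin 1 => O)] : O ≅ ∐ (fun _ : Fin 1 => O) where
  hom := Sigma.ι (fun _ : Fin 1 => O) 0
  inv := Sigma.desc (fun _ => 𝟙 O)
  hom_inv_id := by simp
  inv_hom_id := by
    apply Sigma.hom_ext
    intro k
    have : k = 0 := Subsingleton.elim _ _
    subst this
    simp

lemma isFinLocFreeOfRank_of_iso {M N : X.Modules} (e : M ≅ N) {n : ℕ}
    (hM : FlatMod.IsFinLocFreeOfRank n M) : FlatMod.IsFinLocFreeOfRank n N := by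
  intro x
  obtain ⟨U, hx, ⟨i⟩⟩ := hM x
  exact ⟨U, hx, ⟨(restrictFunctor U.ι).mapIso e.symm ≪≫ i⟩⟩

set_option backward.isDefEq.respectTransparency false in
theorem rank_two (L : X.Modules) (hL : PicF.IsInvertible L) :
    FlatMod.IsFinLocFreeOfRank 2 (Coh.structureModule X ⊞ L) := by
  intro x
  obtain ⟨U, hxU, ⟨i⟩⟩ := hL x
  refine ⟨U, hxU, ⟨?_⟩⟩
  haveI : PreservesColimitsOfSize.{0, 0} (restrictFunctor U.ι) :=
    (restrictAdjunction U.ι).leftAdjoint_preservesColimits
  haveI : PreservesBinaryBiproducts (restrictFunctor U.ι) :=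
    preservesBinaryBiproducts_of_preservesBinaryCoproducts _
  exact (restrictFunctor U.ι).mapBiprod _ _ ≪≫ biprod.mapIso (restrictUnitIso U.ι) i ≪≫
    biprod.mapIso (sigmaOneIso _) (sigmaOneIso _) ≪≫
    StrPerf.sigmaAddIso (Coh.structureModule (↑U)) 1 1

theorem main19698 (L : X.Modules) (hL : PicF.IsInvertible L)
    (m : CohB1.tensorMod L L ⟶ Coh.structureModule X) (A : RelSpec.QCAlg X) (j : L ⟶ A.toModule)
    (h : FinCov.IsDblAlg L m A j) : FlatMod.IsFinLocFreeOfRank 2 A.toModule := by
  have := isIso_Φ L A j m h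
  exact isFinLocFreeOfRank_of_iso (asIso (Φ L A j)) (rank_two L hL)

end Groth.Agent.H23.DblAlg
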