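import Groth.Prelude.Def_DeRham
import Mathlib

/-! Helper lemmas for the de Rham rule (`DeRham`). -/

set_option autoImplicit false
universe v u

open exteriorPower

namespace Groth.Agent.Lib.helper23.DeRhamLib

variable {R : Type v} {A M : Type u} [CommRing R] [CommRing A] [Algebra R A]
  [AddCommGroup M] [Module A M] [Module R M]

/-- Induction principle: the elements `b₀ · δb₁ ∧ … ∧ δb_p` generate `⋀^p M` additively when `δ(A)`
spans `M`. -/
theorem gen_induction (δ : Derivation R A M) (hspan : Submodule.span A (Set.range δ) = ⊤) (p : ℕ)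
    (P : ↥(⋀[A]^p M) → Prop) (h0 : P 0) (hadd : ∀ x y, P x → P y → P (x + y))
    (hgen : ∀ b₀ b, P (DeRham.gen δ p b₀ b)) (x : ↥(⋀[A]^p M)) : P x := by
  have hx : x ∈ Submodule.span A (exteriorPower.ιMulti A p '' {a | Set.range a ⊆ Set.range δ}) := by
    rw [exteriorPower.ιMulti_span_of_span A p M hspan]; trivial
  induction hx using Submodule.closure_induction with
  | zero => exact h0
  | add x y _ _ hx hy => exact hadd x y hx hy
  | smul_mem r x h =>
    obtain ⟨a, ha, rfl⟩ := h
    have : ∃ b : Fin p → A, a = fun i => δ (b i) := by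
      choose b hb using fun i => ha (Set.mem_range_self i)
      exact ⟨b, funext fun i => (hb i).symm⟩
    obtain ⟨b, rfl⟩ := this
    exact hgen r b

/-- Kähler case. -/
theorem gen_induction_kaehler (R A : Type u) [CommRing R] [CommRing A] [Algebra R A] (p : ℕ)
    (P : ↥(⋀[A]^p (Ω[A⁄R])) → Prop) (h0 : P 0) (hadd : ∀ x y, P x → P y → P (x + y))
    (hgen : ∀ b₀ b, P (DeRham.gen (KaehlerDifferential.D R A) p b₀ b)) (x : ↥(⋀[A]^p (Ω[A⁄R]))) :
    P x :=
  gen_induction (KaehlerDifferential.D R A) (KaehlerDifferential.span_range_derivation R A) p P h0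
    hadd hgen x

/-- `δb₀ ∧ δb₁ ∧ … ∧ δb_p` as a generator. -/
theorem ιMulti_cons_eq_gen (δ : Derivation R A M) (p : ℕ) (b₀ : A) (b : Fin p → A) :
    ιMulti A (p + 1) (Fin.cons (δ b₀) (fun i => δ (b i))) =
      DeRham.gen δ (p + 1) 1 (Fin.cons b₀ b) := by
  unfold DeRham.gen
  rw [one_smul]
  congr 1
  ext i
  refine Fin.cases ?_ (fun j => ?_) i <;> simp

end Groth.Agent.Lib.helper23.DeRhamLib
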