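import Mathlib
import Groth.Prelude.Def_DeltaF

set_option autoImplicit false
universe w v u
open CategoryTheory CategoryTheory.Limits

namespace Groth.Agent.H23.DeltaCmp

variable {C : Type u} [Category.{v} C] [Abelian C]

/-- the short exact sequence of a mono -/
noncomputable def ses {A M : C} (i : A ⟶ M) : ShortComplex C :=
  ShortComplex.mk i (cokernel.π i) (cokernel.condition i)

lemma ses_exact {A M : C} (i : A ⟶ M) [Mono i] : (ses i).ShortExact where
  exact := ShortComplex.exact_cokernel i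
  mono_f := by dsimp [ses]; infer_instance
  epi_g := by dsimp [ses]; infer_instance

variable {T T' : DeltaF.CohDeltaFunctor C AddCommGrpCat.{w} ℕ} (φ : T ⟶ T')

lemma nat_apply (q : ℕ) {A M : C} (i : A ⟶ M) (x : (T.F q).obj A) :
    (φ.app q).app M ((T.F q).map i x) = (T'.F q).map i ((φ.app q).app A x) := by
  have := ConcreteCategory.congr_hom ((φ.app q).naturality i) x
  simpa using this

lemma comm_apply (S : ShortComplex C) (hS : S.ShortExact) (q : ℕ) (x : (T.F q).obj S.X₃) :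
    (φ.app (q + 1)).app S.X₁ (T.δ S hS q (q + 1) rfl x) =
      T'.δ S hS q (q + 1) rfl ((φ.app q).app S.X₃ x) := by
  have := ConcreteCategory.congr_hom (φ.comm S hS q (q + 1) rfl) x
  simpa using this

lemma ex1 (T : DeltaF.CohDeltaFunctor C AddCommGrpCat.{w} ℕ) (S : ShortComplex C) (hS : S.ShortExact)
    (q : ℕ) (α : (T.F (q + 1)).obj S.X₁) (h : (T.F (q + 1)).map S.f α = 0) :
    ∃ β : (T.F q).obj S.X₃, T.δ S hS q (q + 1) rfl β = α :=
  (ShortComplex.ab_exact_iff _).1 (T.exact₁ S hS q (q + 1) rfl) α h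

lemma ex3 (T : DeltaF.CohDeltaFunctor C AddCommGrpCat.{w} ℕ) (S : ShortComplex C) (hS : S.ShortExact)
    (q : ℕ) (β : (T.F q).obj S.X₃) (h : T.δ S hS q (q + 1) rfl β = 0) :
    ∃ μ : (T.F q).obj S.X₂, (T.F q).map S.g μ = β :=
  (ShortComplex.ab_exact_iff _).1 (T.exact₃ S hS q (q + 1) rfl) β h

lemma ex2 (T : DeltaF.CohDeltaFunctor C AddCommGrpCat.{w} ℕ) (S : ShortComplex C) (hS : S.ShortExact)
    (q : ℕ) (μ : (T.F q).obj S.X₂) (h : (T.F q).map S.g μ = 0) :
    ∃ a : (T.F q).obj S.X₁, (T.F q).map S.f a = μ :=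
  (ShortComplex.ab_exact_iff _).1 (T.exact₂ S hS q) μ h

lemma comp_δ_apply (T : DeltaF.CohDeltaFunctor C AddCommGrpCat.{w} ℕ) (S : ShortComplex C)
    (hS : S.ShortExact) (q : ℕ) (μ : (T.F q).obj S.X₂) :
    T.δ S hS q (q + 1) rfl ((T.F q).map S.g μ) = 0 := by
  have := ConcreteCategory.congr_hom (T.comp_δ S hS q (q + 1) rfl) μ
  simpa using this

lemma map_comp_zero (T : DeltaF.CohDeltaFunctor C AddCommGrpCat.{w} ℕ) (S : ShortComplex C)
    (q : ℕ) (a : (T.F q).obj S.X₁) :
    (T.F q).map S.g ((T.F q).map S.f a) = 0 := by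
  have h : (T.F q).map S.f ≫ (T.F q).map S.g = 0 := by
    rw [← Functor.map_comp, S.zero, Functor.map_zero]
  have := ConcreteCategory.congr_hom h a
  simpa using this

lemma map_comp_apply (T : DeltaF.CohDeltaFunctor C AddCommGrpCat.{w} ℕ) (q : ℕ) {A B D : C}
    (i : A ⟶ B) (j : B ⟶ D) (a : (T.F q).obj A) :
    (T.F q).map (i ≫ j) a = (T.F q).map j ((T.F q).map i a) := by
  rw [Functor.map_comp]
  rfl

/-- element-wise effaceability in degree `q + 1`. -/
def Eff (T : DeltaF.CohDeltaFunctor C AddCommGrpCat.{w} ℕ) (q : ℕ) : Prop :=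
  ∀ (A : C) (α : (T.F (q + 1)).obj A), ∃ (M : C) (u : A ⟶ M), Mono u ∧ (T.F (q + 1)).map u α = 0

lemma inj_succ (q : ℕ) (hT : Eff T q)
    (hsurj : ∀ A, Function.Surjective ((φ.app q).app A))
    (hinj : ∀ A, Function.Injective ((φ.app q).app A)) (A : C) :
    Function.Injective ((φ.app (q + 1)).app A) := by
  refine (injective_iff_map_eq_zero ((φ.app (q + 1)).app A).hom).2 ?_
  intro α hα
  obtain ⟨M, u, hu, h0⟩ := hT A α
  haveI := hu
  have hS := ses_exact u
  obtain ⟨β, hβ⟩ := ex1 T (ses u) hS q α h0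
  have h1 : T'.δ (ses u) hS q (q + 1) rfl ((φ.app q).app _ β) = 0 := by
    rw [← comm_apply, hβ]
    exact hα
  obtain ⟨μ', hμ'⟩ := ex3 T' (ses u) hS q _ h1
  obtain ⟨μ, rfl⟩ := hsurj _ μ'
  have h2 : (T.F q).map (ses u).g μ = β := by
    apply hinj
    rw [nat_apply]
    exact hμ'
  rw [← hβ, ← h2]
  exact comp_δ_apply T (ses u) hS q μ

lemma surj_succ (q : ℕ) (hsurj : ∀ A, Function.Surjective ((φ.app q).app A))
    (hT' : Eff T' q) (A : C) :
    Function.Surjective ((φ.app (q + 1)).app A) := by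
  intro α'
  obtain ⟨M, u, hu, h0⟩ := hT' A α'
  haveI := hu
  have hS := ses_exact u
  obtain ⟨β', hβ'⟩ := ex1 T' (ses u) hS q α' h0
  obtain ⟨β, rfl⟩ := hsurj _ β'
  exact ⟨T.δ (ses u) hS q (q + 1) rfl β, (comm_apply φ (ses u) hS q β).trans hβ'⟩

lemma inj_zero (hT0 : T.ZeroMono) (E : ObjectProperty C)
    (hE : ∀ A : C, ∃ (M : C) (i : A ⟶ M), Mono i ∧ E M)
    (hE0 : ∀ M, E M → Function.Injective ((φ.app 0).app M)) (A : C) :
    Function.Injective ((φ.app 0).app A) := by
  obtain ⟨M, i, hi, hM⟩ := hE A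
  haveI := hi
  have hm : Mono ((T.F 0).map i) := hT0 (ses i) (ses_exact i)
  have hinj := (AddCommGrpCat.mono_iff_injective _).1 hm
  intro x y hxy
  apply hinj
  apply hE0 M hM
  rw [nat_apply, nat_apply, hxy]

lemma surj_zero (hT'0 : T'.ZeroMono) (E : ObjectProperty C)
    (hE : ∀ A : C, ∃ (M : C) (i : A ⟶ M), Mono i ∧ E M)
    (hE0 : ∀ M, E M → Function.Surjective ((φ.app 0).app M))
    (hinj : ∀ A, Function.Injective ((φ.app 0).app A)) (A : C) :
    Function.Surjective ((φ.app 0).app A) := by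
  intro a'
  obtain ⟨M, i, hi, hM⟩ := hE A
  haveI := hi
  have hS := ses_exact i
  have hm : Mono ((T'.F 0).map i) := hT'0 (ses i) hS
  have hinj' := (AddCommGrpCat.mono_iff_injective _).1 hm
  obtain ⟨m, hm'⟩ := hE0 M hM ((T'.F 0).map i a')
  have h1 : (T.F 0).map (ses i).g m = 0 := by
    apply hinj
    rw [nat_apply, map_zero]
    show (T'.F 0).map (ses i).g ((φ.app 0).app M m) = 0
    rw [hm']
    exact map_comp_zero T' (ses i) 0 a'
  obtain ⟨a, ha⟩ := ex2 T (ses i) hS 0 m h1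
  refine ⟨a, hinj' ?_⟩
  rw [← nat_apply]
  show (φ.app 0).app M ((T.F 0).map (ses i).f a) = _
  rw [ha, hm']

lemma bij_of_isIso {X Y : AddCommGrpCat.{w}} (f : X ⟶ Y) : IsIso f ↔ Function.Bijective f :=
  ConcreteCategory.isIso_iff_bijective f

theorem main (hT0 : T.ZeroMono) (hT'0 : T'.ZeroMono) (hT : ∀ q, Eff T q)
    (E : ObjectProperty C) (hE : ∀ A : C, ∃ (M : C) (i : A ⟶ M), Mono i ∧ E M) :
    ((∀ (q : ℕ) (A : C), IsIso ((φ.app q).app A)) ↔
      ((∀ M : C, E M → IsIso ((φ.app 0).app M)) ∧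
        ∀ (q : ℕ) (M : C), E M → Epi ((φ.app (q + 1)).app M))) ∧
    ((∀ (q : ℕ) (A : C), IsIso ((φ.app q).app A)) ↔
      ((∀ A : C, IsIso ((φ.app 0).app A)) ∧ ∀ q, Eff T' q)) := by
  constructor
  · constructor
    · intro h
      exact ⟨fun M _ => h 0 M, fun q M _ => by haveI := h (q + 1) M; infer_instance⟩
    · rintro ⟨h0, h1⟩
      have key : ∀ (q : ℕ) (A : C), Function.Bijective ((φ.app q).app A) := by
        intro q
        induction q with
        | zero =>
          have hi : ∀ A, Function.Injective ((φ.app 0).app A) :=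
            inj_zero φ hT0 E hE (fun M hM => ((bij_of_isIso _).1 (h0 M hM)).1)
          exact fun A => ⟨hi A, surj_zero φ hT'0 E hE
            (fun M hM => ((bij_of_isIso _).1 (h0 M hM)).2) hi A⟩
        | succ q ih =>
          have hT' : Eff T' q := by
            intro A α'
            obtain ⟨M, i, hi, hM⟩ := hE A
            have hs := (AddCommGrpCat.epi_iff_surjective _).1 (h1 q M hM)
            obtain ⟨μ, hμ⟩ := hs ((T'.F (q + 1)).map i α')
            obtain ⟨M'', v, hv, hv0⟩ := hT q M μ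
            haveI := hi
            haveI := hv
            refine ⟨M'', i ≫ v, mono_comp i v, ?_⟩
            rw [map_comp_apply, ← hμ, ← nat_apply, hv0, map_zero]
          exact fun A => ⟨inj_succ φ q (hT q) (fun A => (ih A).2) (fun A => (ih A).1) A,
            surj_succ φ q (fun A => (ih A).2) hT' A⟩
      exact fun q A => (bij_of_isIso _).2 (key q A)
  · constructor
    · intro h
      refine ⟨fun A => h 0 A, ?_⟩
      intro q A α'
      obtain ⟨α, rfl⟩ := ((bij_of_isIso _).1 (h (q + 1) A)).2 α'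
      obtain ⟨M, u, hu, h0⟩ := hT q A α
      refine ⟨M, u, hu, ?_⟩
      rw [← nat_apply, h0, map_zero]
    · rintro ⟨h0, h1⟩
      have key : ∀ (q : ℕ) (A : C), Function.Bijective ((φ.app q).app A) := by
        intro q
        induction q with
        | zero => exact fun A => (bij_of_isIso _).1 (h0 A)
        | succ q ih =>
          exact fun A => ⟨inj_succ φ q (hT q) (fun A => (ih A).2) (fun A => (ih A).1) A,
            surj_succ φ q (fun A => (ih A).2) (h1 q) A⟩
      exact fun q A => (bij_of_isIso _).2 (key q A)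

end Groth.Agent.H23.DeltaCmp
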