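import Mathlib
import Groth.Prelude.Def_DeltaF
import Groth.Agent.Lib.helper23.DeltaCmp

set_option autoImplicit false
universe w v u
open CategoryTheory CategoryTheory.Limits

namespace Groth.Agent.H23.DeltaCmp

/-- filtered colimits of monos are mono in abelian groups (any universes). -/
lemma mono_of_filtered {J : Type v} [SmallCategory J] [IsFiltered J]
    {F1 F2 : J ⥤ AddCommGrpCat.{w}} (α : F1 ⟶ F2) (hα : ∀ j, Mono (α.app j))
    {c1 : Cocone F1} (h1 : IsColimit c1) {c2 : Cocone F2} (h2 : IsColimit c2)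
    (m : c1.pt ⟶ c2.pt) (hm : ∀ j, c1.ι.app j ≫ m = α.app j ≫ c2.ι.app j) : Mono m := by
  let U := AddCommGrpCat.uliftFunctor.{v, w}
  haveI : HasFilteredColimitsOfSize.{v, v} AddCommGrpCat.{max w v} :=
    hasFilteredColimitsOfSize_of_univLE.{v, v, max w v, max w v}
  haveI : AB5OfSize.{v, v} AddCommGrpCat.{max w v} :=
    AB5OfSize_of_univLE.{v, v, max w v, max w v} _
  haveI : HasExactColimitsOfShape J AddCommGrpCat.{max w v} := AB5OfSize.ofShape J
  haveI : Mono (Functor.whiskerRight α U) := by
    haveI : ∀ j, Mono ((Functor.whiskerRight α U).app j) := fun j => by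
      haveI := hα j
      show Mono (U.map (α.app j))
      infer_instance
    exact NatTrans.mono_of_mono_app _
  have : Mono (U.map m) :=
    colim.map_mono' (Functor.whiskerRight α U) (isColimitOfPreserves U h1)
      (isColimitOfPreserves U h2) (U.map m) (fun j => by
        show U.map (c1.ι.app j) ≫ U.map m = U.map (α.app j) ≫ U.map (c2.ι.app j)
        rw [← U.map_comp, ← U.map_comp, hm])
  exact U.mono_of_mono_map this

variable {C : Type u} [Category.{v} C] [Abelian C]
variable {T T' : DeltaF.CohDeltaFunctor C AddCommGrpCat.{w} ℕ} (φ : T ⟶ T')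

section colim

variable [∀ n, PreservesFilteredColimitsOfSize.{v, v} (T.F n)]
  [∀ n, PreservesFilteredColimitsOfSize.{v, v} (T'.F n)]
  (D : ObjectProperty C)
  (hD : ∀ A : C, ∃ (J : Type v) (_ : SmallCategory J) (_ : IsFiltered J) (K : J ⥤ C) (c : Cocone K)
      (_ : IsColimit c), (∀ j, D (K.obj j)) ∧ Nonempty (c.pt ≅ A))

include hD

lemma mono_all (q : ℕ) (h : ∀ A, D A → Mono ((φ.app q).app A)) (A : C) :
    Mono ((φ.app q).app A) := by
  obtain ⟨J, _, _, K, c, hc, hK, ⟨e⟩⟩ := hD A
  haveI : PreservesColimitsOfShape J (T.F q) :=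
    PreservesFilteredColimitsOfSize.preserves_filtered_colimits J
  haveI : PreservesColimitsOfShape J (T'.F q) :=
    PreservesFilteredColimitsOfSize.preserves_filtered_colimits J
  have hm : Mono ((φ.app q).app c.pt) :=
    mono_of_filtered (Functor.whiskerLeft K (φ.app q)) (fun j => h _ (hK j))
      (isColimitOfPreserves (T.F q) hc) (isColimitOfPreserves (T'.F q) hc) _
      (fun j => (φ.app q).naturality (c.ι.app j))
  have e1 : (φ.app q).app A = (T.F q).map e.inv ≫ (φ.app q).app c.pt ≫ (T'.F q).map e.hom := by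
    rw [← Category.assoc, (φ.app q).naturality e.inv, Category.assoc, ← Functor.map_comp,
      e.inv_hom_id, CategoryTheory.Functor.map_id, Category.comp_id]
  rw [e1]
  infer_instance

lemma epi_all (q : ℕ) (h : ∀ A, D A → Epi ((φ.app q).app A)) (A : C) :
    Epi ((φ.app q).app A) := by
  obtain ⟨J, _, _, K, c, hc, hK, ⟨e⟩⟩ := hD A
  haveI : PreservesColimitsOfShape J (T'.F q) :=
    PreservesFilteredColimitsOfSize.preserves_filtered_colimits J
  haveI : ∀ j, Epi ((Functor.whiskerLeft K (φ.app q)).app j) := fun j => h _ (hK j)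
  have hm : Epi ((φ.app q).app c.pt) :=
    colim.map_epi' (Functor.whiskerLeft K (φ.app q)) ((T.F q).mapCocone c)
      (isColimitOfPreserves (T'.F q) hc) _
      (fun j => (φ.app q).naturality (c.ι.app j))
  have e1 : (φ.app q).app A = (T.F q).map e.inv ≫ (φ.app q).app c.pt ≫ (T'.F q).map e.hom := by
    rw [← Category.assoc, (φ.app q).naturality e.inv, Category.assoc, ← Functor.map_comp,
      e.inv_hom_id, CategoryTheory.Functor.map_id, Category.comp_id]
  rw [e1]
  infer_instance

end colim

/-- four lemma, mono part, in degree `q + 1`. -/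
lemma inj_step (q : ℕ) (S : ShortComplex C) (hS : S.ShortExact)
    (h1 : Function.Surjective ((φ.app q).app S.X₂))
    (h2 : Function.Injective ((φ.app q).app S.X₃))
    (h3 : Function.Injective ((φ.app (q + 1)).app S.X₂)) :
    Function.Injective ((φ.app (q + 1)).app S.X₁) := by
  refine (injective_iff_map_eq_zero ((φ.app (q + 1)).app S.X₁).hom).2 ?_
  intro α hα
  have hα' : (φ.app (q + 1)).app S.X₁ α = 0 := hα
  have h0 : (T.F (q + 1)).map S.f α = 0 := by
    apply h3
    rw [nat_apply, hα', map_zero, map_zero]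
  obtain ⟨β, hβ⟩ := ex1 T S hS q α h0
  have h4 : T'.δ S hS q (q + 1) rfl ((φ.app q).app _ β) = 0 := by
    rw [← comm_apply, hβ]
    exact hα
  obtain ⟨μ', hμ'⟩ := ex3 T' S hS q _ h4
  obtain ⟨μ, rfl⟩ := h1 μ'
  have h5 : (T.F q).map S.g μ = β := by
    apply h2
    rw [nat_apply]
    exact hμ'
  rw [← hβ, ← h5]
  exact comp_δ_apply T S hS q μ

/-- four lemma, epi part, in degree `q + 1`. -/
lemma surj_step (q : ℕ) (S : ShortComplex C) (hS : S.ShortExact)
    (h1 : Function.Surjective ((φ.app q).app S.X₃))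
    (h2 : Function.Surjective ((φ.app (q + 1)).app S.X₂))
    (h3 : Function.Injective ((φ.app (q + 1)).app S.X₃)) :
    Function.Surjective ((φ.app (q + 1)).app S.X₁) := by
  intro α'
  obtain ⟨μ, hμ⟩ := h2 ((T'.F (q + 1)).map S.f α')
  have h4 : (T.F (q + 1)).map S.g μ = 0 := by
    apply h3
    rw [nat_apply, map_zero, hμ]
    exact map_comp_zero T' S (q + 1) α'
  obtain ⟨a, ha⟩ := ex2 T S hS (q + 1) μ h4
  have h5 : (T'.F (q + 1)).map S.f (α' - (φ.app (q + 1)).app S.X₁ a) = 0 := by
    rw [map_sub, ← nat_apply, ha, hμ, sub_self]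
  obtain ⟨β', hβ'⟩ := ex1 T' S hS q _ h5
  obtain ⟨β, rfl⟩ := h1 β'
  refine ⟨a + T.δ S hS q (q + 1) rfl β, ?_⟩
  rw [map_add, comm_apply, hβ']
  abel

lemma inj_zero_of (hT0 : T.ZeroMono) (S : ShortComplex C) (hS : S.ShortExact)
    (h : Function.Injective ((φ.app 0).app S.X₂)) :
    Function.Injective ((φ.app 0).app S.X₁) := by
  have hm : Mono ((T.F 0).map S.f) := hT0 S hS
  have hinj := (AddCommGrpCat.mono_iff_injective _).1 hm
  intro x y hxy
  apply hinj
  apply h
  rw [nat_apply, nat_apply, hxy]

lemma surj_zero_of (hT'0 : T'.ZeroMono) (S : ShortComplex C) (hS : S.ShortExact)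
    (h : Function.Surjective ((φ.app 0).app S.X₂))
    (hinj : Function.Injective ((φ.app 0).app S.X₃)) :
    Function.Surjective ((φ.app 0).app S.X₁) := by
  intro a'
  have hm : Mono ((T'.F 0).map S.f) := hT'0 S hS
  have hinj' := (AddCommGrpCat.mono_iff_injective _).1 hm
  obtain ⟨m, hm'⟩ := h ((T'.F 0).map S.f a')
  have h1 : (T.F 0).map S.g m = 0 := by
    apply hinj
    rw [nat_apply, map_zero, hm']
    exact map_comp_zero T' S 0 a'
  obtain ⟨a, ha⟩ := ex2 T S hS 0 m h1
  refine ⟨a, hinj' ?_⟩
  rw [← nat_apply, ha, hm']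

theorem main2 (hT0 : T.ZeroMono) (hT'0 : T'.ZeroMono)
    [∀ n, PreservesFilteredColimitsOfSize.{v, v} (T.F n)]
    [∀ n, PreservesFilteredColimitsOfSize.{v, v} (T'.F n)]
    (D E : ObjectProperty C)
    (hD : ∀ A : C, ∃ (J : Type v) (_ : SmallCategory J) (_ : IsFiltered J) (K : J ⥤ C) (c : Cocone K)
      (_ : IsColimit c), (∀ j, D (K.obj j)) ∧ Nonempty (c.pt ≅ A))
    (hE : ∀ A : C, D A → ∃ (M : C) (i : A ⟶ M), Mono i ∧ E M) :
    (∀ (q : ℕ) (A : C), IsIso ((φ.app q).app A)) ↔
      ∀ (q : ℕ) (M : C), E M → IsIso ((φ.app q).app M) := by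
  constructor
  · exact fun h q M _ => h q M
  · intro h
    have hb : ∀ q M, E M → Function.Bijective ((φ.app q).app M) :=
      fun q M hM => (bij_of_isIso _).1 (h q M hM)
    have key : ∀ (q : ℕ) (A : C), Function.Bijective ((φ.app q).app A) := by
      intro q
      induction q with
      | zero =>
        have hi : ∀ A, Function.Injective ((φ.app 0).app A) := by
          intro A
          refine (AddCommGrpCat.mono_iff_injective _).1 (mono_all φ D hD 0 ?_ A)
          intro A hA
          obtain ⟨M, i, hi, hM⟩ := hE A hA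
          have := hi
          exact (AddCommGrpCat.mono_iff_injective _).2 (inj_zero_of φ hT0 (ses i) (ses_exact i) (hb 0 M hM).1)
        have hs : ∀ A, Function.Surjective ((φ.app 0).app A) := by
          intro A
          refine (AddCommGrpCat.epi_iff_surjective _).1 (epi_all φ D hD 0 ?_ A)
          intro A hA
          obtain ⟨M, i, hi', hM⟩ := hE A hA
          have := hi'
          exact (AddCommGrpCat.epi_iff_surjective _).2
            (surj_zero_of φ hT'0 (ses i) (ses_exact i) (hb 0 M hM).2 (hi _))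
        exact fun A => ⟨hi A, hs A⟩
      | succ q ih =>
        have hi : ∀ A, Function.Injective ((φ.app (q + 1)).app A) := by
          intro A
          refine (AddCommGrpCat.mono_iff_injective _).1 (mono_all φ D hD (q + 1) ?_ A)
          intro A hA
          obtain ⟨M, i, hi, hM⟩ := hE A hA
          have := hi
          exact (AddCommGrpCat.mono_iff_injective _).2
            (inj_step φ q (ses i) (ses_exact i) (ih M).2 (ih _).1 (hb (q + 1) M hM).1)
        have hs : ∀ A, Function.Surjective ((φ.app (q + 1)).app A) := by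
          intro A
          refine (AddCommGrpCat.epi_iff_surjective _).1 (epi_all φ D hD (q + 1) ?_ A)
          intro A hA
          obtain ⟨M, i, hi', hM⟩ := hE A hA
          have := hi'
          exact (AddCommGrpCat.epi_iff_surjective _).2
            (surj_step φ q (ses i) (ses_exact i) (ih _).2 (hb (q + 1) M hM).2 (hi _))
        exact fun A => ⟨hi A, hs A⟩
    exact fun q A => (bij_of_isIso _).2 (key q A)

end Groth.Agent.H23.DeltaCmp
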