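import Mathlib
import Groth.Prelude.Def_RDerDelta

/-!
# Morphisms between injective resolutions of short exact sequences; naturality of `SESRes.delta`
-/

universe v u v' u'

open CategoryTheory CategoryTheory.Limits

noncomputable section

namespace RDer

namespace SESRes

variable {C : Type u} [Category.{v} C] [Abelian C]

variable {S S' : ShortComplex C}

/-- A morphism of short complexes lifts to a (strict) morphism of injective resolutions of short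
complexes. -/
theorem exists_map (φ : S ⟶ S') (T : SESRes S) (T' : SESRes S') :
    ∃ (a₁ : T.I₁.cocomplex ⟶ T'.I₁.cocomplex) (a₂ : T.I₂.cocomplex ⟶ T'.I₂.cocomplex)
      (a₃ : T.I₃.cocomplex ⟶ T'.I₃.cocomplex),
      a₁ ≫ T'.f = T.f ≫ a₂ ∧ a₂ ≫ T'.g = T.g ≫ a₃ ∧
      T.I₁.ι ≫ a₁ = (CochainComplex.single₀ C).map φ.τ₁ ≫ T'.I₁.ι ∧
      T.I₂.ι ≫ a₂ = (CochainComplex.single₀ C).map φ.τ₂ ≫ T'.I₂.ι ∧
      T.I₃.ι ≫ a₃ = (CochainComplex.single₀ C).map φ.τ₃ ≫ T'.I₃.ι := by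
  let a₃ := InjectiveResolution.desc φ.τ₃ T'.I₃ T.I₃
  have ha₃ : T.I₃.ι ≫ a₃ = (CochainComplex.single₀ C).map φ.τ₃ ≫ T'.I₃.ι :=
    InjectiveResolution.desc_commutes _ _ _
  let w := InjectiveResolution.desc φ.τ₂ T'.I₂ T.I₂
  have hw : T.I₂.ι ≫ w = (CochainComplex.single₀ C).map φ.τ₂ ≫ T'.I₂.ι :=
    InjectiveResolution.desc_commutes _ _ _
  have c1 : T.I₂.ι ≫ (w ≫ T'.g) =
      (CochainComplex.single₀ C).map (S.g ≫ φ.τ₃) ≫ T'.I₃.ι := by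
    rw [reassoc_of% hw, T'.ι_g, ← Functor.map_comp_assoc, φ.comm₂₃]
  have c2 : T.I₂.ι ≫ (T.g ≫ a₃) =
      (CochainComplex.single₀ C).map (S.g ≫ φ.τ₃) ≫ T'.I₃.ι := by
    rw [reassoc_of% T.ι_g, ha₃, ← Functor.map_comp_assoc]
  let H : Homotopy (w ≫ T'.g) (T.g ≫ a₃) :=
    InjectiveResolution.descHomotopy (S.g ≫ φ.τ₃) _ _ c1 c2
  let s' : ∀ n, T'.I₃.cocomplex.X n ⟶ T'.I₂.cocomplex.X n := fun n => (T'.splitting n).s
  have hs' : ∀ n, s' n ≫ T'.g.f n = 𝟙 _ := fun n => (T'.splitting n).s_g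
  let N : T.I₂.cocomplex ⟶ T'.I₂.cocomplex :=
    Homotopy.nullHomotopicMap (fun i j => H.hom i j ≫ s' j)
  let a₂ := w - N
  have hN : N ≫ T'.g = Homotopy.nullHomotopicMap H.hom := by
    rw [Homotopy.nullHomotopicMap_comp]
    congr 1
    funext i j
    rw [Category.assoc, hs', Category.comp_id]
  have hH : w ≫ T'.g = Homotopy.nullHomotopicMap H.hom + T.g ≫ a₃ := by
    ext n
    rw [H.comm n]
    rfl
  have ha₂g : a₂ ≫ T'.g = T.g ≫ a₃ := by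
    simp only [a₂, Preadditive.sub_comp, hN, hH, add_sub_cancel_left]
  have hιN : T.I₂.ι ≫ N = 0 := by
    apply HomologicalComplex.from_single_hom_ext
    rw [HomologicalComplex.comp_f, HomologicalComplex.zero_f]
    have h1 : (N.f 0) = T.I₂.cocomplex.d 0 1 ≫ (H.hom 1 0 ≫ s' 0) :=
      Homotopy.nullHomotopicMap_f_of_not_rel_right (c := ComplexShape.up ℕ)
        (k₀ := 1) (k₁ := 0) (by simp) (by simp) _
    rw [h1, ← Category.assoc, T.I₂.ι.comm 0 1]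
    simp
    rfl
  have ha₂ι : T.I₂.ι ≫ a₂ = (CochainComplex.single₀ C).map φ.τ₂ ≫ T'.I₂.ι := by
    simp only [a₂, Preadditive.comp_sub, hιN, sub_zero, hw]
  have : Mono T'.f := T'.shortExact.mono_f
  have hk : (T.f ≫ a₂) ≫ T'.g = 0 := by
    rw [Category.assoc, ha₂g, reassoc_of% T.zero, zero_comp]
  let a₁ : T.I₁.cocomplex ⟶ T'.I₁.cocomplex :=
    T'.shortExact.exact.lift (T.f ≫ a₂) hk
  have ha₁ : a₁ ≫ T'.f = T.f ≫ a₂ := T'.shortExact.exact.lift_f (T.f ≫ a₂) hk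
  refine ⟨a₁, a₂, a₃, ha₁, ha₂g, ?_, ha₂ι, ha₃⟩
  rw [← cancel_mono T'.f, Category.assoc, ha₁, reassoc_of% T.ι_f, ha₂ι, Category.assoc, T'.ι_f,
    ← Functor.map_comp_assoc, ← Functor.map_comp_assoc, φ.comm₁₂]

variable [HasInjectiveResolutions C] {D : Type u'} [Category.{v'} D] [Abelian D]

omit [Abelian D] in
lemma aux_comm {R₃ R₃' H₃ H₃' H₁ H₁' R₁ R₁' : D} (r₃ : R₃ ⟶ R₃') (i₃ : R₃ ≅ H₃) (i₃' : R₃' ≅ H₃')
    (m₃ : H₃ ⟶ H₃') (d : H₃ ⟶ H₁) (d' : H₃' ⟶ H₁') (m₁ : H₁ ⟶ H₁') (i₁ : R₁ ≅ H₁)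
    (i₁' : R₁' ≅ H₁') (r₁ : R₁ ⟶ R₁') (e₃ : r₃ ≫ i₃'.hom = i₃.hom ≫ m₃)
    (e₁ : i₁.inv ≫ r₁ = m₁ ≫ i₁'.inv) (hδ : d ≫ m₁ = m₃ ≫ d') :
    r₃ ≫ i₃'.hom ≫ d' ≫ i₁'.inv = (i₃.hom ≫ d ≫ i₁.inv) ≫ r₁ := by
  rw [reassoc_of% e₃, Category.assoc, Category.assoc, e₁, reassoc_of% hδ]

/-- Naturality of `SESRes.delta` with respect to morphisms of short complexes. -/
theorem delta_natural (F : C ⥤ D) [F.Additive] (φ : S ⟶ S') (T : SESRes S) (T' : SESRes S')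
    (n₀ n₁ : ℕ) (h : n₀ + 1 = n₁) :
    (F.rightDerived n₀).map φ.τ₃ ≫ T'.delta F n₀ n₁ h =
      T.delta F n₀ n₁ h ≫ (F.rightDerived n₁).map φ.τ₁ := by
  obtain ⟨a₁, a₂, a₃, h₁₂, h₂₃, hι₁, hι₂, hι₃⟩ := exists_map φ T T'
  let Φ : T.cx.map (F.mapHomologicalComplex (ComplexShape.up ℕ)) ⟶
      T'.cx.map (F.mapHomologicalComplex (ComplexShape.up ℕ)) :=
    (F.mapHomologicalComplex (ComplexShape.up ℕ)).mapShortComplex.map
      (ShortComplex.homMk a₁ a₂ a₃ h₁₂ h₂₃ : T.cx ⟶ T'.cx)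
  have hδ := HomologicalComplex.HomologySequence.δ_naturality Φ (T.map_shortExact F)
    (T'.map_shortExact F) n₀ n₁ h
  have e₃ := InjectiveResolution.isoRightDerivedObj_hom_naturality φ.τ₃ T.I₃ T'.I₃ a₃
    (by simpa using HomologicalComplex.congr_hom hι₃ 0) F n₀
  have e₁ := InjectiveResolution.isoRightDerivedObj_inv_naturality φ.τ₁ T.I₁ T'.I₁ a₁
    (by simpa using HomologicalComplex.congr_hom hι₁ 0) F n₁
  exact aux_comm _ _ _ _ _ _ _ _ _ _ e₃ e₁ hδ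

end SESRes

end RDer
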