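import Mathlib
import Groth.Agent.Lib.helper23.SESNat

/-!
# The horseshoe lemma
-/

universe v u v' u'

open CategoryTheory CategoryTheory.Limits

noncomputable section

namespace RDer

namespace Horseshoe

variable {C : Type u} [Category.{v} C] [Abelian C]

/-- Data to splice short exact sequences `Z n ⟶ J n ⟶ Z (n+1)` into a resolution. -/
structure Splice (C : Type u) [Category.{v} C] [Abelian C] where
  Z : ℕ → C
  J : ℕ → C
  i : ∀ n, Z n ⟶ J n
  p : ∀ n, J n ⟶ Z (n + 1)
  w : ∀ n, i n ≫ p n = 0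
  se : ∀ n, (ShortComplex.mk (i n) (p n) (w n)).ShortExact
  inj : ∀ n, Injective (J n)

namespace Splice

variable (D : Splice C)

instance (n : ℕ) : Mono (D.i n) := (D.se n).mono_f
instance (n : ℕ) : Epi (D.p n) := (D.se n).epi_g

def cocomplex : CochainComplex C ℕ :=
  CochainComplex.of D.J (fun n => D.p n ≫ D.i (n + 1)) (by
    intro n
    rw [Category.assoc, reassoc_of% (D.w (n + 1)), zero_comp, comp_zero])

lemma d_eq (n : ℕ) : D.cocomplex.d n (n + 1) = D.p n ≫ D.i (n + 1) := by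
  simp [cocomplex]

lemma i_d : (D.i 0 : D.Z 0 ⟶ D.cocomplex.X 0) ≫ D.cocomplex.d 0 1 = 0 := by
  rw [d_eq]
  exact (reassoc_of% (D.w 0)) _ |>.trans zero_comp

def ι : (CochainComplex.single₀ C).obj (D.Z 0) ⟶ D.cocomplex :=
  (CochainComplex.fromSingle₀Equiv _ _).symm ⟨D.i 0, D.i_d⟩

lemma ι_f_zero : D.ι.f 0 = D.i 0 := by
  simp [ι]

lemma exact0 : (ShortComplex.mk (D.i 0) (D.p 0 ≫ D.i 1) (by
    rw [reassoc_of% (D.w 0), zero_comp])).Exact := by
  let α : ShortComplex.mk (D.i 0) (D.p 0) (D.w 0) ⟶ ShortComplex.mk (D.i 0) (D.p 0 ≫ D.i 1) (by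
      rw [reassoc_of% (D.w 0), zero_comp]) :=
    { τ₁ := 𝟙 _
      τ₂ := 𝟙 _
      τ₃ := D.i 1 }
  have : Epi α.τ₁ := by dsimp [α]; infer_instance
  have : IsIso α.τ₂ := by dsimp [α]; infer_instance
  have : Mono α.τ₃ := by dsimp [α]; infer_instance
  rw [← ShortComplex.exact_iff_of_epi_of_isIso_of_mono α]
  exact (D.se 0).exact

lemma exact_succ (n : ℕ) : (ShortComplex.mk (D.p n ≫ D.i (n + 1)) (D.p (n + 1) ≫ D.i (n + 2)) (by
    rw [Category.assoc, reassoc_of% (D.w (n + 1)), zero_comp, comp_zero])).Exact := by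
  let α : ShortComplex.mk (D.p n ≫ D.i (n + 1)) (D.p (n + 1)) (by
      rw [Category.assoc, D.w, comp_zero]) ⟶
      ShortComplex.mk (D.p n ≫ D.i (n + 1)) (D.p (n + 1) ≫ D.i (n + 2)) (by
        rw [Category.assoc, reassoc_of% (D.w (n + 1)), zero_comp, comp_zero]) :=
    { τ₁ := 𝟙 _
      τ₂ := 𝟙 _
      τ₃ := D.i (n + 2) }
  have : Epi α.τ₁ := by dsimp [α]; infer_instance
  have : IsIso α.τ₂ := by dsimp [α]; infer_instance
  have : Mono α.τ₃ := by dsimp [α]; infer_instance
  rw [← ShortComplex.exact_iff_of_epi_of_isIso_of_mono α]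
  let β : ShortComplex.mk (D.p n ≫ D.i (n + 1)) (D.p (n + 1)) (by
      rw [Category.assoc, D.w, comp_zero]) ⟶
      ShortComplex.mk (D.i (n + 1)) (D.p (n + 1)) (D.w (n + 1)) :=
    { τ₁ := D.p n
      τ₂ := 𝟙 _
      τ₃ := 𝟙 _ }
  have : Epi β.τ₁ := by dsimp [β]; infer_instance
  have : IsIso β.τ₂ := by dsimp [β]; infer_instance
  have : Mono β.τ₃ := by dsimp [β]; infer_instance
  rw [ShortComplex.exact_iff_of_epi_of_isIso_of_mono β]
  exact (D.se (n + 1)).exact

set_option backward.isDefEq.respectTransparency false in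
def res : InjectiveResolution (D.Z 0) where
  cocomplex := D.cocomplex
  injective := D.inj
  ι := D.ι
  quasiIso := ⟨fun n => by
    cases n with
    | zero =>
      rw [CochainComplex.quasiIsoAt₀_iff, ShortComplex.quasiIso_iff_of_zeros]
      · refine (ShortComplex.exact_and_mono_f_iff_of_iso ?_).2
          ⟨D.exact0, by dsimp; infer_instance⟩
        exact ShortComplex.isoMk (Iso.refl _) (Iso.refl _) (Iso.refl _) (by simp [ι_f_zero])
          (by simp [d_eq])
      all_goals rfl
    | succ n =>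
      rw [quasiIsoAt_iff_exactAt]
      · rw [HomologicalComplex.exactAt_iff' _ n (n + 1) (n + 1 + 1) (by simp) (by simp)]
        refine (ShortComplex.exact_iff_of_iso ?_).2 (D.exact_succ n)
        exact ShortComplex.isoMk (Iso.refl _) (Iso.refl _) (Iso.refl _) (by simp [d_eq])
          (by simp [d_eq])
      · apply CochainComplex.exactAt_succ_single_obj⟩

end Splice

section

variable [EnoughInjectives C]

/-- The split short exact sequence of injectives attached to a short complex. -/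
def JS (S : ShortComplex C) : ShortComplex C :=
  ShortComplex.mk (biprod.inl : Injective.under S.X₁ ⟶ Injective.under S.X₁ ⊞ Injective.under S.X₃)
    biprod.snd (by simp)

def JSSplitting (S : ShortComplex C) : (JS S).Splitting where
  r := biprod.fst
  s := biprod.inr
  f_r := by simp [JS]
  s_g := by simp [JS]
  id := biprod.total

lemma JS_shortExact (S : ShortComplex C) : (JS S).ShortExact := (JSSplitting S).shortExact

instance (S : ShortComplex C) : Injective (JS S).X₁ := by dsimp [JS]; infer_instance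
instance (S : ShortComplex C) : Injective (JS S).X₂ := by dsimp [JS]; infer_instance
instance (S : ShortComplex C) : Injective (JS S).X₃ := by dsimp [JS]; infer_instance

variable (S : ShortComplex C) (hS : S.ShortExact)

def emb : S ⟶ JS S :=
  haveI := hS.mono_f
  { τ₁ := Injective.ι _
    τ₂ := biprod.lift (Injective.factorThru (Injective.ι S.X₁) S.f) (S.g ≫ Injective.ι S.X₃)
    τ₃ := Injective.ι _
    comm₁₂ := by
      apply biprod.hom_ext <;> simp [JS]
    comm₂₃ := by simp [JS] }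

instance mono_emb_τ₁ : Mono (emb S hS).τ₁ := Injective.ι_mono _
instance mono_emb_τ₃ : Mono (emb S hS).τ₃ := Injective.ι_mono _

instance mono_emb_τ₂ : Mono (emb S hS).τ₂ := by
  have := hS.mono_f
  rw [Preadditive.mono_iff_cancel_zero]
  intro P x hx
  have h1 : x ≫ Injective.factorThru (Injective.ι S.X₁) S.f = 0 := by
    have := hx =≫ (biprod.fst : Injective.under S.X₁ ⊞ Injective.under S.X₃ ⟶ _)
    simp only [emb, zero_comp, Category.assoc] at this
    erw [biprod.lift_fst] at this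
    exact this
  have h2 : x ≫ S.g ≫ Injective.ι S.X₃ = 0 := by
    have := hx =≫ (biprod.snd : Injective.under S.X₁ ⊞ Injective.under S.X₃ ⟶ _)
    simp only [emb, zero_comp, Category.assoc] at this
    erw [biprod.lift_snd] at this
    exact this
  have h3 : x ≫ S.g = 0 := by
    rw [← cancel_mono (Injective.ι S.X₃)]
    simpa using h2
  obtain ⟨y, rfl⟩ := hS.exact.lift' x h3
  have h4 : y ≫ Injective.ι S.X₁ = 0 := by simpa using h1
  have h5 : y = 0 := by
    rw [← cancel_mono (Injective.ι S.X₁)]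
    simpa using h4
  simp [h5]

def snake : ShortComplex.SnakeInput C where
  L₀ := kernel (emb S hS)
  L₁ := S
  L₂ := JS S
  L₃ := cokernel (emb S hS)
  v₀₁ := kernel.ι _
  v₁₂ := emb S hS
  v₂₃ := cokernel.π _
  w₀₂ := kernel.condition _
  w₁₃ := cokernel.condition _
  h₀ := kernelIsKernel _
  h₃ := cokernelIsCokernel _
  L₁_exact := hS.exact
  epi_L₁_g := hS.epi_g
  L₂_exact := (JS_shortExact S).exact
  mono_L₂_f := (JS_shortExact S).mono_f

/-- The next short exact sequence. -/
def next : ShortComplex C := cokernel (emb S hS)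

def proj : JS S ⟶ next S hS := cokernel.π _

lemma emb_proj : emb S hS ≫ proj S hS = 0 := cokernel.condition _

lemma next_shortExact : (next S hS).ShortExact where
  exact := (snake S hS).L₃_exact
  mono_f := by
    have hz : IsZero (snake S hS).L₀.X₃ := by
      have h1 : (snake S hS).v₀₁.τ₃ = 0 := by
        have := (snake S hS).w₀₂_τ₃
        have hm : Mono (snake S hS).v₁₂.τ₃ := mono_emb_τ₃ S hS
        rw [← cancel_mono (snake S hS).v₁₂.τ₃, this, zero_comp]
      exact IsZero.of_mono_eq_zero _ h1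
    exact (snake S hS).L₂'_exact.mono_g (hz.eq_of_src _ _)
  epi_g := by
    have : Epi (snake S hS).L₂.g := (JS_shortExact S).epi_g
    exact (snake S hS).epi_L₃_g

lemma emb_proj_τ₁ : (emb S hS).τ₁ ≫ (proj S hS).τ₁ = 0 := by
  rw [← ShortComplex.comp_τ₁, emb_proj]; rfl

lemma emb_proj_τ₂ : (emb S hS).τ₂ ≫ (proj S hS).τ₂ = 0 := by
  rw [← ShortComplex.comp_τ₂, emb_proj]; rfl

lemma emb_proj_τ₃ : (emb S hS).τ₃ ≫ (proj S hS).τ₃ = 0 := by
  rw [← ShortComplex.comp_τ₃, emb_proj]; rfl

lemma se₁ : (ShortComplex.mk (emb S hS).τ₁ (proj S hS).τ₁ (emb_proj_τ₁ S hS)).ShortExact where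
  exact := (snake S hS).exact_C₁_down
  mono_f := mono_emb_τ₁ S hS
  epi_g := (snake S hS).epi_v₂₃_τ₁

lemma se₂ : (ShortComplex.mk (emb S hS).τ₂ (proj S hS).τ₂ (emb_proj_τ₂ S hS)).ShortExact where
  exact := (snake S hS).exact_C₂_down
  mono_f := mono_emb_τ₂ S hS
  epi_g := (snake S hS).epi_v₂₃_τ₂

lemma se₃ : (ShortComplex.mk (emb S hS).τ₃ (proj S hS).τ₃ (emb_proj_τ₃ S hS)).ShortExact where
  exact := (snake S hS).exact_C₃_down
  mono_f := mono_emb_τ₃ S hS
  epi_g := (snake S hS).epi_v₂₃_τ₃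

/-- The sequence of short exact sequences. -/
def seq : ℕ → {S : ShortComplex C // S.ShortExact}
  | 0 => ⟨S, hS⟩
  | n + 1 => ⟨next (seq n).1 (seq n).2, next_shortExact _ _⟩

def splice₁ : Splice C where
  Z n := (seq S hS n).1.X₁
  J n := (JS (seq S hS n).1).X₁
  i n := (emb _ (seq S hS n).2).τ₁
  p n := (proj _ (seq S hS n).2).τ₁
  w n := emb_proj_τ₁ _ (seq S hS n).2
  se n := se₁ _ (seq S hS n).2
  inj n := inferInstance

def splice₂ : Splice C where
  Z n := (seq S hS n).1.X₂
  J n := (JS (seq S hS n).1).X₂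
  i n := (emb _ (seq S hS n).2).τ₂
  p n := (proj _ (seq S hS n).2).τ₂
  w n := emb_proj_τ₂ _ (seq S hS n).2
  se n := se₂ _ (seq S hS n).2
  inj n := inferInstance

def splice₃ : Splice C where
  Z n := (seq S hS n).1.X₃
  J n := (JS (seq S hS n).1).X₃
  i n := (emb _ (seq S hS n).2).τ₃
  p n := (proj _ (seq S hS n).2).τ₃
  w n := emb_proj_τ₃ _ (seq S hS n).2
  se n := se₃ _ (seq S hS n).2
  inj n := inferInstance

omit [EnoughInjectives C] in
lemma comm_aux₁₂ {A B D : ShortComplex C} (π : A ⟶ B) (e : B ⟶ D) :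
    A.f ≫ π.τ₂ ≫ e.τ₂ = (π.τ₁ ≫ e.τ₁) ≫ D.f := by
  rw [← ShortComplex.comp_τ₂, ← ShortComplex.comp_τ₁, (π ≫ e).comm₁₂]

omit [EnoughInjectives C] in
lemma comm_aux₂₃ {A B D : ShortComplex C} (π : A ⟶ B) (e : B ⟶ D) :
    A.g ≫ π.τ₃ ≫ e.τ₃ = (π.τ₂ ≫ e.τ₂) ≫ D.g := by
  rw [← ShortComplex.comp_τ₂, ← ShortComplex.comp_τ₃, (π ≫ e).comm₂₃]

def fMap : (splice₁ S hS).cocomplex ⟶ (splice₂ S hS).cocomplex :=
  CochainComplex.ofHom (fun n => (JS (seq S hS n).1).f) (by
    intro n
    rw [Splice.d_eq, Splice.d_eq]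
    exact comm_aux₁₂ (proj _ (seq S hS n).2) (emb _ (seq S hS (n + 1)).2))

def gMap : (splice₂ S hS).cocomplex ⟶ (splice₃ S hS).cocomplex :=
  CochainComplex.ofHom (fun n => (JS (seq S hS n).1).g) (by
    intro n
    rw [Splice.d_eq, Splice.d_eq]
    exact comm_aux₂₃ (proj _ (seq S hS n).2) (emb _ (seq S hS (n + 1)).2))

lemma fMap_gMap : fMap S hS ≫ gMap S hS = 0 := by
  ext n
  exact (JS (seq S hS n).1).zero

/-- The horseshoe lemma. -/
def sesRes : SESRes S where
  I₁ := (splice₁ S hS).res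
  I₂ := (splice₂ S hS).res
  I₃ := (splice₃ S hS).res
  f := fMap S hS
  g := gMap S hS
  zero := fMap_gMap S hS
  ι_f := by
    apply HomologicalComplex.from_single_hom_ext
    rw [HomologicalComplex.comp_f, HomologicalComplex.comp_f]
    erw [Splice.ι_f_zero, Splice.ι_f_zero]
    simp only [CochainComplex.single₀_map_f_zero]
    exact (emb S hS).comm₁₂
  ι_g := by
    apply HomologicalComplex.from_single_hom_ext
    rw [HomologicalComplex.comp_f, HomologicalComplex.comp_f]
    erw [Splice.ι_f_zero, Splice.ι_f_zero]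
    simp only [CochainComplex.single₀_map_f_zero]
    exact (emb S hS).comm₂₃
  shortExact := by
    apply HomologicalComplex.shortExact_of_degreewise_shortExact
    intro n
    exact JS_shortExact (seq S hS n).1

end

end Horseshoe

end RDer
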