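import Mathlib
import Groth.Agent.Lib.helper23.Horseshoe

/-!
# The long exact sequence of right derived functors
-/

universe v u v' u'

open CategoryTheory CategoryTheory.Limits

noncomputable section

namespace RDer

namespace SESRes

variable {C : Type u} [Category.{v} C] [Abelian C] [HasInjectiveResolutions C]
  {D : Type u'} [Category.{v'} D] [Abelian D] (F : C ⥤ D) [F.Additive]
  {S : ShortComplex C} (T : SESRes S)

lemma map_f_iso (n : ℕ) :
    (F.rightDerived n).map S.f ≫ (T.I₂.isoRightDerivedObj F n).hom =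
      (T.I₁.isoRightDerivedObj F n).hom ≫
        HomologicalComplex.homologyMap ((F.mapHomologicalComplex _).map T.f) n :=
  InjectiveResolution.isoRightDerivedObj_hom_naturality S.f T.I₁ T.I₂ T.f
    (by simpa using HomologicalComplex.congr_hom T.ι_f 0) F n

lemma map_g_iso (n : ℕ) :
    (F.rightDerived n).map S.g ≫ (T.I₃.isoRightDerivedObj F n).hom =
      (T.I₂.isoRightDerivedObj F n).hom ≫
        HomologicalComplex.homologyMap ((F.mapHomologicalComplex _).map T.g) n :=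
  InjectiveResolution.isoRightDerivedObj_hom_naturality S.g T.I₂ T.I₃ T.g
    (by simpa using HomologicalComplex.congr_hom T.ι_g 0) F n

include T in
lemma exact₂ (n : ℕ) :
    (ShortComplex.mk ((F.rightDerived n).map S.f) ((F.rightDerived n).map S.g)
      (by rw [← Functor.map_comp, S.zero, Functor.map_zero])).Exact := by
  refine (ShortComplex.exact_iff_of_iso (ShortComplex.isoMk (T.I₁.isoRightDerivedObj F n)
    (T.I₂.isoRightDerivedObj F n) (T.I₃.isoRightDerivedObj F n) ?_ ?_)).2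
    ((T.map_shortExact F).homology_exact₂ n)
  · exact (T.map_f_iso F n).symm
  · exact (T.map_g_iso F n).symm

omit [Abelian D] in
lemma zero_aux {R₂ R₃ H₂ H₃ H₁ R₁ : D} (r : R₂ ⟶ R₃) (i₂ : R₂ ≅ H₂) (i₃ : R₃ ≅ H₃)
    (m : H₂ ⟶ H₃) (d : H₃ ⟶ H₁) (i₁ : R₁ ≅ H₁) [Limits.HasZeroMorphisms D]
    (e : r ≫ i₃.hom = i₂.hom ≫ m)
    (hd : m ≫ d = 0) : r ≫ (i₃.hom ≫ d ≫ i₁.inv) = 0 := by
  rw [reassoc_of% e, reassoc_of% hd, zero_comp, comp_zero]

omit [Abelian D] in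
lemma zero_aux' {R₃ H₃ H₁ R₁ R₂ H₂ : D} (i₃ : R₃ ≅ H₃) (d : H₃ ⟶ H₁) (i₁ : R₁ ≅ H₁)
    (r : R₁ ⟶ R₂) (m : H₁ ⟶ H₂) (i₂ : R₂ ≅ H₂) [Limits.HasZeroMorphisms D]
    (e : r ≫ i₂.hom = i₁.hom ≫ m)
    (hd : d ≫ m = 0) : (i₃.hom ≫ d ≫ i₁.inv) ≫ r = 0 := by
  rw [← cancel_mono i₂.hom, zero_comp, Category.assoc, Category.assoc, Category.assoc, e,
    Iso.inv_hom_id_assoc, hd, comp_zero]

lemma comp_delta (n₀ n₁ : ℕ) (h : n₀ + 1 = n₁) :
    (F.rightDerived n₀).map S.g ≫ T.delta F n₀ n₁ h = 0 :=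
  zero_aux _ _ _ _ _ _ (T.map_g_iso F n₀) ((T.map_shortExact F).comp_δ n₀ n₁ h)

lemma delta_comp (n₀ n₁ : ℕ) (h : n₀ + 1 = n₁) :
    T.delta F n₀ n₁ h ≫ (F.rightDerived n₁).map S.f = 0 :=
  zero_aux' _ _ _ _ _ _ (T.map_f_iso F n₁) ((T.map_shortExact F).δ_comp n₀ n₁ h)

lemma exact₃ (n₀ n₁ : ℕ) (h : n₀ + 1 = n₁) :
    (ShortComplex.mk _ _ (T.comp_delta F n₀ n₁ h)).Exact := by
  refine (ShortComplex.exact_iff_of_iso (ShortComplex.isoMk (T.I₂.isoRightDerivedObj F n₀)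
    (T.I₃.isoRightDerivedObj F n₀) (T.I₁.isoRightDerivedObj F n₁) ?_ ?_)).2
    ((T.map_shortExact F).homology_exact₃ n₀ n₁ h)
  · exact (T.map_g_iso F n₀).symm
  · exact (T.delta_comp_isoRightDerivedObj_hom F n₀ n₁ h).symm

lemma exact₁ (n₀ n₁ : ℕ) (h : n₀ + 1 = n₁) :
    (ShortComplex.mk _ _ (T.delta_comp F n₀ n₁ h)).Exact := by
  refine (ShortComplex.exact_iff_of_iso (ShortComplex.isoMk (T.I₃.isoRightDerivedObj F n₀)
    (T.I₁.isoRightDerivedObj F n₁) (T.I₂.isoRightDerivedObj F n₁) ?_ ?_)).2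
    ((T.map_shortExact F).homology_exact₁ n₀ n₁ h)
  · exact (T.delta_comp_isoRightDerivedObj_hom F n₀ n₁ h).symm
  · exact (T.map_f_iso F n₁).symm

end SESRes

variable {C : Type u} [Category.{v} C] [Abelian C] [EnoughInjectives C]
  {D : Type u'} [Category.{v'} D] [Abelian D] (F : C ⥤ D) [F.Additive]

/-- The connecting morphisms of right derived functors. -/
def derivedLES : DerivedLES F where
  δ S hS n₀ n₁ h := (Horseshoe.sesRes S hS).delta F n₀ n₁ h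
  δ_eq S hS T n₀ n₁ h := by
    have := SESRes.delta_natural F (𝟙 S) (Horseshoe.sesRes S hS) T n₀ n₁ h
    simpa using this.symm
  δ_natural {S S'} hS hS' φ n₀ n₁ h :=
    SESRes.delta_natural F φ (Horseshoe.sesRes S hS) (Horseshoe.sesRes S' hS') n₀ n₁ h
  exact₂ S hS n := (Horseshoe.sesRes S hS).exact₂ F n
  comp_δ S hS n₀ n₁ h := (Horseshoe.sesRes S hS).comp_delta F n₀ n₁ h
  exact₃ S hS n₀ n₁ h := (Horseshoe.sesRes S hS).exact₃ F n₀ n₁ h
  δ_comp S hS n₀ n₁ h := (Horseshoe.sesRes S hS).delta_comp F n₀ n₁ h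
  exact₁ S hS n₀ n₁ h := (Horseshoe.sesRes S hS).exact₁ F n₀ n₁ h

end RDer
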