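import Mathlib
import Groth.Prelude.Def_RDer

set_option autoImplicit false
open CategoryTheory CategoryTheory.Limits HomologicalComplex

universe v₁ v₂ v₃ u₁ u₂ u₃

namespace Groth.Agent.H23.EdgeInIso

variable {A : Type u₁} [Category.{v₁} A] [Abelian A] [HasInjectiveResolutions A]
  {B : Type u₂} [Category.{v₂} B] [Abelian B] [HasInjectiveResolutions B]
  {C : Type u₃} [Category.{v₃} C] [Abelian C]
  (Φ : A ⥤ B) [Φ.Additive] [Φ.PreservesInjectiveObjects] [PreservesFiniteLimits Φ]

lemma exactAt_succ {X : A} (I : InjectiveResolution X)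
    (h : ∀ q : ℕ, IsZero ((Φ.rightDerived (q + 1)).obj X)) (n : ℕ) :
    ((Φ.mapHomologicalComplex _).obj I.cocomplex).ExactAt (n + 1) := by
  rw [HomologicalComplex.exactAt_iff_isZero_homology]
  exact (h n).of_iso (I.isoRightDerivedObj Φ (n + 1)).symm

lemma quasiIsoAt_zero {X : A} (I : InjectiveResolution X) :
    QuasiIsoAt (RDer.mapAug Φ I.ι) 0 := by
  rw [CochainComplex.quasiIsoAt₀_iff, ShortComplex.quasiIso_iff_of_zeros]
  · have hex : (ShortComplex.mk (I.ι.f 0) (I.cocomplex.d 0 1) I.ι_f_zero_comp_complex_d).Exact :=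
      ShortComplex.exact_of_f_is_kernel _ I.isLimitKernelFork
    have hmono : Mono (I.ι.f 0) := inferInstance
    have h2 := hex.map_of_mono_of_preservesKernel Φ hmono inferInstance
    refine (ShortComplex.exact_and_mono_f_iff_of_iso ?_).2 ⟨h2, by
      show Mono (Φ.map (I.ι.f 0)); infer_instance⟩
    refine ShortComplex.isoMk
      ((HomologicalComplex.eval _ _ 0).mapIso
        ((HomologicalComplex.singleMapHomologicalComplex Φ (ComplexShape.up ℕ) 0).app X).symm)
      (Iso.refl _) (Iso.refl _) ?_ ?_
    · dsimp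
      erw [Category.comp_id]
      rfl
    · dsimp
      exact (Category.id_comp _).trans (Category.comp_id _).symm
  · show ((CochainComplex.single₀ B).obj (Φ.obj X)).d 0 0 = 0
    simp
  · show ((CochainComplex.single₀ B).obj (Φ.obj X)).d 0 1 = 0
    simp
  · show ((Φ.mapHomologicalComplex _).obj I.cocomplex).d 0 0 = 0
    simp

/-- `Φ I` as an injective resolution of `Φ X` when the higher derived functors of `Φ` vanish at `X`. -/
noncomputable def mapRes {X : A} (I : InjectiveResolution X)
    (h : ∀ q : ℕ, IsZero ((Φ.rightDerived (q + 1)).obj X)) : InjectiveResolution (Φ.obj X) where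
  cocomplex := (Φ.mapHomologicalComplex _).obj I.cocomplex
  injective n := by
    haveI := I.injective n
    exact Φ.injective_obj (I.cocomplex.X n)
  ι := RDer.mapAug Φ I.ι
  quasiIso := ⟨fun n => by
    cases n with
    | zero => exact quasiIsoAt_zero Φ I
    | succ n =>
      rw [quasiIsoAt_iff_exactAt]
      · exact exactAt_succ Φ I h n
      · exact CochainComplex.exactAt_succ_single_obj _ _⟩

theorem isIso_edgeIn (Ψ : B ⥤ C) [Ψ.Additive] (q : ℕ) (X : A)
    (h : ∀ q : ℕ, IsZero ((Φ.rightDerived (q + 1)).obj X)) : IsIso (RDer.edgeIn Φ Ψ q X) := by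
  unfold RDer.edgeIn
  let I := injectiveResolution X
  let J := injectiveResolution (Φ.obj X)
  let R := mapRes Φ I h
  haveI : ∀ n, Injective (R.cocomplex.X n) := R.injective
  let d : J.cocomplex ⟶ R.cocomplex :=
    RDer.descToInjectives (𝟙 (Φ.obj X)) J.cocomplex J.ι R.cocomplex R.ι
  have hcomm : J.ι ≫ d = (CochainComplex.single₀ B).map (𝟙 (Φ.obj X)) ≫ R.ι := by
    apply HomologicalComplex.from_single_hom_ext
    simp only [HomologicalComplex.comp_f]
    rw [RDer.ι_descToInjectives_f_zero]
    simp
  let e := InjectiveResolution.homotopyEquiv J R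
  have hh : Homotopy d e.hom := InjectiveResolution.descHomotopy (𝟙 _) d e.hom hcomm (by simp [e])
  have heq : (HomologicalComplex.homologyFunctor C _ q).map ((Ψ.mapHomologicalComplex _).map d) =
      (HomologicalComplex.homologyFunctor C _ q).map ((Ψ.mapHomologicalComplex _).map e.hom) :=
    (Ψ.mapHomotopy hh).homologyMap_eq q
  haveI : IsIso ((HomologicalComplex.homologyFunctor C _ q).map
      ((Ψ.mapHomologicalComplex _).map d)) := by
    rw [heq]
    exact ((Ψ.mapHomotopyEquiv e).toHomologyIso q).isIso_hom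
  show IsIso (_ ≫ (HomologicalComplex.homologyFunctor C _ q).map
      ((Ψ.mapHomologicalComplex _).map d) ≫ _)
  infer_instance

end Groth.Agent.H23.EdgeInIso
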