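import Mathlib
import Groth.Prelude.Def_EtShriek2
import Groth.Agent.Lib.helper23.FiberTerm

universe u

open CategoryTheory CategoryTheory.Limits Opposite AlgebraicGeometry

namespace EtExtZero

variable {U X : Scheme.{u}} (j : U ⟶ X) [hj : Etale j] (W : X.Etale)

/-- the index category -/
abbrev II := CostructuredArrow (EtShriek.compEtale j).op (op W)

set_option backward.isDefEq.respectTransparency.types false in
/-- the map to `U` determined by an object of the index category -/
noncomputable def phi (A : II j W) : W.left ⟶ U :=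
  A.hom.unop.left ≫ A.left.unop.hom

set_option backward.isDefEq.respectTransparency.types false in
lemma phi_comp (A : II j W) : phi j W A ≫ j = W.hom := by
  have := MorphismProperty.Over.w A.hom.unop
  simpa [phi] using this

set_option backward.isDefEq.respectTransparency.types false in
lemma phi_eq_of_hom {A B : II j W} (f : A ⟶ B) : phi j W A = phi j W B := by
  have h1 : (EtShriek.compEtale j).op.map f.left ≫ B.hom = A.hom := CostructuredArrow.w f
  have h2 : B.hom.unop ≫ (EtShriek.compEtale j).map f.left.unop = A.hom.unop := by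
    have := congrArg Quiver.Hom.unop h1
    simpa using this
  have h3 : B.hom.unop.left ≫ f.left.unop.left = A.hom.unop.left :=
    congrArg (fun k => k.left) h2
  have h4 : f.left.unop.left ≫ A.left.unop.hom = B.left.unop.hom :=
    MorphismProperty.Over.w f.left.unop
  unfold phi
  calc A.hom.unop.left ≫ A.left.unop.hom
      = (B.hom.unop.left ≫ f.left.unop.left) ≫ A.left.unop.hom := congrArg (· ≫ A.left.unop.hom) h3.symm
    _ = B.hom.unop.left ≫ (f.left.unop.left ≫ A.left.unop.hom) := Category.assoc _ _ _
    _ = B.hom.unop.left ≫ B.left.unop.hom := congrArg (B.hom.unop.left ≫ ·) h4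


/-- the functor to the discrete category of maps `W ⟶ U` -/
noncomputable def pp : II j W ⥤ Discrete (ULift.{u + 1} (W.left ⟶ U)) where
  obj A := ⟨⟨phi j W A⟩⟩
  map f := eqToHom (by rw [phi_eq_of_hom j W f])
  map_id _ := Subsingleton.elim _ _
  map_comp _ _ := Subsingleton.elim _ _

set_option backward.isDefEq.respectTransparency.types false in
/-- the étale `U`-scheme attached to a lift `φ` of the structure map of `W` -/
noncomputable def VV (φ : W.left ⟶ U) (hφ : φ ≫ j = W.hom) : U.Etale :=
  MorphismProperty.Over.mk ⊤ φ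
    (EtCoh.etaleMP.of_postcomp (W' := EtCoh.etaleMP) φ j hj (by rw [hφ]; exact W.prop))

set_option backward.isDefEq.respectTransparency.types false in
/-- the canonical map `W ⟶ compEtale (VV φ)` -/
noncomputable def isoHom (φ : W.left ⟶ U) (hφ : φ ≫ j = W.hom) :
    W ⟶ (EtShriek.compEtale j).obj (VV j W φ hφ) :=
  MorphismProperty.Over.homMk (𝟙 W.left) (by
    show 𝟙 W.left ≫ (φ ≫ j) = W.hom
    rw [Category.id_comp, hφ])

/-- the terminal object of the fibre -/
noncomputable def TT (φ : W.left ⟶ U) (hφ : φ ≫ j = W.hom) : II j W :=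
  CostructuredArrow.mk (Y := op (VV j W φ hφ)) (isoHom j W φ hφ).op

set_option backward.isDefEq.respectTransparency.types false in
lemma phi_TT (φ : W.left ⟶ U) (hφ : φ ≫ j = W.hom) : phi j W (TT j W φ hφ) = φ := by
  show 𝟙 W.left ≫ φ = φ
  exact Category.id_comp _


variable (φ : W.left ⟶ U) (hφ : φ ≫ j = W.hom)

/-- the object of the fibre category -/
noncomputable def TTfib : CostructuredArrow (pp j W) ⟨⟨φ⟩⟩ :=
  CostructuredArrow.mk (Y := TT j W φ hφ) (eqToHom (by
    show (⟨⟨phi j W (TT j W φ hφ)⟩⟩ : Discrete (ULift.{u + 1} (W.left ⟶ U))) = ⟨⟨φ⟩⟩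
    rw [phi_TT]))

lemma phi_of_fib (B : CostructuredArrow (pp j W) ⟨⟨φ⟩⟩) : phi j W B.left = φ := by
  have := Discrete.eq_of_hom B.hom
  exact congrArg ULift.down this

set_option backward.isDefEq.respectTransparency.types false in
/-- the map to the terminal object -/
noncomputable def toTT (B : CostructuredArrow (pp j W) ⟨⟨φ⟩⟩) : B.left ⟶ TT j W φ hφ :=
  CostructuredArrow.homMk
    (MorphismProperty.Over.homMk (B.left.hom.unop.left) (phi_of_fib j W φ B) :
      VV j W φ hφ ⟶ B.left.left.unop).op (by
    apply Quiver.Hom.unop_inj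
    apply MorphismProperty.Over.Hom.ext
    show 𝟙 _ ≫ B.left.hom.unop.left = B.left.hom.unop.left
    exact Category.id_comp _)

set_option backward.isDefEq.respectTransparency.types false in
/-- the fibre object is terminal -/
noncomputable def isTerminalTTfib : IsTerminal (TTfib j W φ hφ) :=
  IsTerminal.ofUniqueHom
    (fun B => CostructuredArrow.homMk (toTT j W φ hφ B) (Subsingleton.elim _ _))
    (fun B m => by
      apply CostructuredArrow.hom_ext
      apply CostructuredArrow.hom_ext
      apply Quiver.Hom.unop_inj
      apply MorphismProperty.Over.Hom.ext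
      have h1 := CostructuredArrow.w m.left
      have h2 := congrArg (fun k => k.unop.left) h1
      exact (Category.id_comp _).symm.trans h2)


lemma hp (ψ : Discrete (ULift.{u + 1} (W.left ⟶ U))) :
    IsEmpty (CostructuredArrow (pp j W) ψ) ∨
      ∃ T : CostructuredArrow (pp j W) ψ, Nonempty (IsTerminal T) := by
  by_cases h : Nonempty (CostructuredArrow (pp j W) ψ)
  · right
    obtain ⟨B⟩ := h
    obtain ⟨⟨φ⟩⟩ := ψ
    have hφ : φ ≫ j = W.hom := by
      rw [← phi_of_fib j W φ B]
      exact phi_comp j W B.left
    exact ⟨TTfib j W φ hφ, ⟨isTerminalTTfib j W φ hφ⟩⟩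
  · left
    exact not_nonempty_iff.1 h

theorem lan_preservesFiniteLimits :
    PreservesFiniteLimits ((EtShriek.compEtale j).op.lan :
      (U.Etaleᵒᵖ ⥤ AddCommGrpCat.{u + 1}) ⥤ (X.Etaleᵒᵖ ⥤ AddCommGrpCat.{u + 1})) := by
  apply preservesFiniteLimits_of_preservesFiniteLimitsOfSize.{0}
  intro T _ _
  apply preservesLimitsOfShape_of_evaluation _ T
  intro W'
  obtain ⟨W⟩ := W'
  have e7 := FiberTerm.colim_preservesFiniteLimits (pp j W) (hp j W)
  have e8 : PreservesLimitsOfShape T
      ((Functor.whiskeringLeft _ _ AddCommGrpCat.{u + 1}).obj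
        (CostructuredArrow.proj (EtShriek.compEtale j).op (op W)) ⋙ colim) := inferInstance
  exact preservesLimitsOfShape_of_natIso (FiberTerm.lanEvalIsoColim _ _ _).symm

theorem extZero_preservesFiniteLimits [EtShriek.JCont j] :
    PreservesFiniteLimits (EtShriek.extZero j) := by
  have := lan_preservesFiniteLimits j
  have : PreservesFiniteLimits ((EtShriek.compEtale j).op.lan ⋙
      presheafToSheaf X.smallEtaleTopology AddCommGrpCat.{u + 1}) :=
    comp_preservesFiniteLimits _ _
  have h2 : PreservesFiniteLimits
      (Functor.sheafPullbackConstruction.sheafPullback (EtShriek.compEtale j) AddCommGrpCat.{u + 1}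
        U.smallEtaleTopology X.smallEtaleTopology) := by
    unfold Functor.sheafPullbackConstruction.sheafPullback
    apply comp_preservesFiniteLimits
  exact preservesFiniteLimits_of_natIso
    (Functor.sheafPullbackConstruction.sheafPullbackIso (EtShriek.compEtale j) AddCommGrpCat.{u + 1}
      U.smallEtaleTopology X.smallEtaleTopology).symm

end EtExtZero
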