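import Mathlib
import Groth.Prelude.Def_EtShriek2
import Groth.Agent.Lib.helper23.FlatLan
import Groth.Agent.Lib.helper23.EtExtZero
import Groth.Agent.Lib.helper23.CompEtCont

/-!
# Direct images and étale restrictions of injective sheaves on small étale sites
-/

universe u

open CategoryTheory CategoryTheory.Limits Opposite AlgebraicGeometry

namespace EtAcyc

variable {X Y : Scheme.{u}} (f : X ⟶ Y)

lemma pull_preservesFiniteLimits : PreservesFiniteLimits (EtCoh.pull f) :=
  FlatLan.sheafPullback_preservesFiniteLimits (EtCoh.bc f) Y.smallEtaleTopology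
    X.smallEtaleTopology

lemma injective_push (I : EtCoh.Ab X) [Injective I] : Injective ((EtCoh.push f).obj I) :=
  haveI := pull_preservesFiniteLimits f
  Injective.injective_of_adjoint (EtCoh.pullPushAdj f) I

variable {U : Scheme.{u}} (j : U ⟶ X) [hj : Etale j]

/-- the adjunction `compEtale j ⊣ bc j` -/
noncomputable def siteAdj : EtShriek.compEtale j ⊣ EtCoh.bc j :=
  MorphismProperty.Over.mapPullbackAdj EtCoh.etaleMP.{u} ⊤ j hj trivial

/-- restriction is left adjoint to direct image -/
noncomputable def restrPushAdj [EtShriek.JCont j] : EtShriek.restrAlong j ⊣ EtCoh.push j :=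
  (siteAdj j).sheafPushforwardContinuous U.smallEtaleTopology X.smallEtaleTopology

/-- for étale `j`, `j⁻¹` is restriction -/
noncomputable def pullIsoRestr [EtShriek.JCont j] : EtCoh.pull j ≅ EtShriek.restrAlong j :=
  (EtCoh.pullPushAdj j).leftAdjointUniq (restrPushAdj j)

lemma injective_pull (G : EtCoh.Ab X) [Injective G] : Injective ((EtCoh.pull j).obj G) := by
  haveI := CompEtCont.jCont j
  haveI := EtExtZero.extZero_preservesFiniteLimits j
  haveI : Injective ((EtShriek.restrAlong j).obj G) :=
    Injective.injective_of_adjoint (EtShriek.extZeroAdj j) G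
  exact Injective.of_iso ((pullIsoRestr j).app G).symm inferInstance

lemma H_subsingleton_of_injective (G : EtCoh.Ab X) [Injective G] (q : ℕ) (hq : 1 ≤ q) :
    Subsingleton (EtCoh.H X G q) := by
  obtain ⟨n, rfl⟩ : ∃ n, q = n + 1 := ⟨q - 1, by omega⟩
  exact Abelian.Ext.subsingleton_of_injective _ G n

end EtAcyc
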