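import Mathlib

/-!
# Base change for over categories along a pullback square
-/

universe v u

open CategoryTheory CategoryTheory.Limits

namespace OverBC

variable {𝒮 : Type u} [Category.{v} 𝒮] [HasPullbacks 𝒮] {S T S' T' : 𝒮}
  {f : T ⟶ S} {g : S' ⟶ S} {g' : T' ⟶ T} {f' : T' ⟶ S'} (hsq : IsPullback g' f' f g)

/-- the comparison map `U ×_{S'} T' ⟶ U ×_S T` on underlying objects -/
noncomputable def toL (U : Over S') : pullback U.hom f' ⟶ pullback (U.hom ≫ g) f :=
  pullback.lift (pullback.fst U.hom f') (pullback.snd U.hom f' ≫ g') (by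
    have h1 : pullback.fst U.hom f' ≫ U.hom = pullback.snd U.hom f' ≫ f' := pullback.condition
    rw [Category.assoc, ← Category.assoc, h1, Category.assoc, hsq.w])

/-- the inverse comparison map on underlying objects -/
noncomputable def invL (U : Over S') : pullback (U.hom ≫ g) f ⟶ pullback U.hom f' :=
  pullback.lift (pullback.fst (U.hom ≫ g) f)
    (hsq.lift (pullback.snd (U.hom ≫ g) f) (pullback.fst (U.hom ≫ g) f ≫ U.hom) (by
      have := pullback.condition (f := U.hom ≫ g) (g := f)
      rw [Category.assoc]
      exact this.symm)) (by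
      rw [hsq.lift_snd])

lemma toL_fst (U : Over S') : toL hsq U ≫ pullback.fst (U.hom ≫ g) f = pullback.fst U.hom f' :=
  pullback.lift_fst _ _ _

lemma toL_snd (U : Over S') :
    toL hsq U ≫ pullback.snd (U.hom ≫ g) f = pullback.snd U.hom f' ≫ g' :=
  pullback.lift_snd _ _ _

lemma invL_fst (U : Over S') : invL hsq U ≫ pullback.fst U.hom f' = pullback.fst (U.hom ≫ g) f :=
  pullback.lift_fst _ _ _

lemma invL_snd_g' (U : Over S') :
    invL hsq U ≫ pullback.snd U.hom f' ≫ g' = pullback.snd (U.hom ≫ g) f := by
  unfold invL
  rw [← Category.assoc, pullback.lift_snd, hsq.lift_fst]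

lemma invL_snd_f' (U : Over S') :
    invL hsq U ≫ pullback.snd U.hom f' ≫ f' = pullback.fst (U.hom ≫ g) f ≫ U.hom := by
  unfold invL
  rw [← Category.assoc, pullback.lift_snd, hsq.lift_snd]

lemma toL_invL (U : Over S') : toL hsq U ≫ invL hsq U = 𝟙 _ := by
  apply pullback.hom_ext
  · rw [Category.assoc, invL_fst, toL_fst, Category.id_comp]
  · apply hsq.hom_ext
    · rw [Category.assoc, Category.assoc, invL_snd_g', toL_snd, Category.id_comp]
    · rw [Category.assoc, Category.assoc, invL_snd_f', ← Category.assoc, toL_fst, Category.id_comp]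
      exact pullback.condition

lemma invL_toL (U : Over S') : invL hsq U ≫ toL hsq U = 𝟙 _ := by
  apply pullback.hom_ext
  · rw [Category.assoc, toL_fst, invL_fst, Category.id_comp]
  · rw [Category.assoc, toL_snd, invL_snd_g', Category.id_comp]

/-- the base change isomorphism at an object -/
noncomputable def iso (U : Over S') :
    (Over.map g').obj ((Over.pullback f').obj U) ≅ (Over.pullback f).obj ((Over.map g).obj U) :=
  Over.isoMk
    { hom := toL hsq U
      inv := invL hsq U
      hom_inv_id := toL_invL hsq U
      inv_hom_id := invL_toL hsq U } (toL_snd hsq U)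

lemma pullback_map_left_fst {X Y : 𝒮} (k : X ⟶ Y) {A B : Over Y} (h : A ⟶ B) :
    ((Over.pullback k).map h).left ≫ pullback.fst B.hom k = pullback.fst A.hom k ≫ h.left :=
  pullback.lift_fst _ _ _

lemma pullback_map_left_snd {X Y : 𝒮} (k : X ⟶ Y) {A B : Over Y} (h : A ⟶ B) :
    ((Over.pullback k).map h).left ≫ pullback.snd B.hom k = pullback.snd A.hom k :=
  pullback.lift_snd _ _ _

/-- the base change natural isomorphism -/
noncomputable def natIso :
    Over.pullback f' ⋙ Over.map g' ≅ Over.map g ⋙ Over.pullback f :=
  NatIso.ofComponents (fun U => iso hsq U) (by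
    intro U V h
    apply Over.OverMorphism.ext
    have e1 : ((Over.pullback f' ⋙ Over.map g').map h ≫ (iso hsq V).hom).left =
        ((Over.pullback f').map h).left ≫ toL hsq V := rfl
    have e2 : ((iso hsq U).hom ≫ (Over.map g ⋙ Over.pullback f).map h).left =
        toL hsq U ≫ ((Over.pullback f).map ((Over.map g).map h)).left := rfl
    rw [e1, e2]
    apply pullback.hom_ext
    · rw [Category.assoc, Category.assoc, toL_fst]
      have := pullback_map_left_fst f ((Over.map g).map h)
      erw [this, pullback_map_left_fst f' h]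
      have h3 : toL hsq U ≫ pullback.fst ((Over.map g).obj U).hom f = pullback.fst U.hom f' :=
        toL_fst hsq U
      rw [← Category.assoc, h3]
      rfl
    · rw [Category.assoc, Category.assoc, toL_snd]
      have := pullback_map_left_snd f ((Over.map g).map h)
      erw [this, toL_snd]
      rw [← Category.assoc]
      erw [pullback_map_left_snd f' h])

end OverBC
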