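import Mathlib
import Groth.Prelude.Def_EtShriek2
import Groth.Agent.Lib.helper23.OverBC

/-!
# Base change for extension by zero along an étale morphism
-/

universe u

open CategoryTheory CategoryTheory.Limits Opposite AlgebraicGeometry

namespace EtBCShriek

variable {X Y V U : Scheme.{u}} {f : X ⟶ Y} {j : V ⟶ Y} {j' : U ⟶ X} {f' : U ⟶ V}
  (hsq : IsPullback j' f' f j) [hj : Etale j] [hj' : Etale j']

set_option backward.isDefEq.respectTransparency.types false in
/-- Beck–Chevalley for the small étale sites, after forgetting to `Over X` -/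
noncomputable def siteIsoForget :
    (EtShriek.compEtale j ⋙ EtCoh.bc f) ⋙ Scheme.Etale.forget X ≅
      (EtCoh.bc f' ⋙ EtShriek.compEtale j') ⋙ Scheme.Etale.forget X :=
  (Iso.refl _ : (EtShriek.compEtale j ⋙ EtCoh.bc f) ⋙ Scheme.Etale.forget X ≅
    Scheme.Etale.forget V ⋙ Over.map j ⋙ Over.pullback f) ≪≫
  Functor.isoWhiskerLeft (Scheme.Etale.forget V) (OverBC.natIso hsq).symm ≪≫
  (Iso.refl _ : Scheme.Etale.forget V ⋙ Over.pullback f' ⋙ Over.map j' ≅
    (EtCoh.bc f' ⋙ EtShriek.compEtale j') ⋙ Scheme.Etale.forget X)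

/-- Beck–Chevalley for the small étale sites -/
noncomputable def siteIso :
    EtShriek.compEtale j ⋙ EtCoh.bc f ≅ EtCoh.bc f' ⋙ EtShriek.compEtale j' :=
  Functor.fullyFaithfulCancelRight (Scheme.Etale.forget X) (siteIsoForget hsq)

variable [EtShriek.JCont j] [EtShriek.JCont j']

set_option backward.isDefEq.respectTransparency.types false in
/-- the right adjoints agree -/
noncomputable def rightIso :
    EtCoh.push f ⋙ EtShriek.restrAlong j ≅ EtShriek.restrAlong j' ⋙ EtCoh.push f' := by
  haveI h1 : (EtShriek.compEtale j ⋙ EtCoh.bc f).IsContinuous V.smallEtaleTopology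
      X.smallEtaleTopology :=
    Functor.isContinuous_comp (EtShriek.compEtale j) (EtCoh.bc f) V.smallEtaleTopology
      Y.smallEtaleTopology X.smallEtaleTopology
  haveI h2 : (EtCoh.bc f' ⋙ EtShriek.compEtale j').IsContinuous V.smallEtaleTopology
      X.smallEtaleTopology :=
    Functor.isContinuous_comp (EtCoh.bc f') (EtShriek.compEtale j') V.smallEtaleTopology
      U.smallEtaleTopology X.smallEtaleTopology
  exact Functor.sheafPushforwardContinuousComp' (F := EtShriek.compEtale j) (G := EtCoh.bc f)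
      (FG := EtCoh.bc f' ⋙ EtShriek.compEtale j') (siteIso hsq) AddCommGrpCat.{u + 1}
      V.smallEtaleTopology Y.smallEtaleTopology X.smallEtaleTopology ≪≫
    (Functor.sheafPushforwardContinuousComp (EtCoh.bc f') (EtShriek.compEtale j')
      AddCommGrpCat.{u + 1} V.smallEtaleTopology U.smallEtaleTopology
      X.smallEtaleTopology).symm

/-- `f⁻¹ j_! ≅ j'_! f'⁻¹` -/
noncomputable def natIso :
    EtShriek.extZero j ⋙ EtCoh.pull f ≅ EtCoh.pull f' ⋙ EtShriek.extZero j' :=
  (((EtShriek.extZeroAdj j).comp (EtCoh.pullPushAdj f)).ofNatIsoRight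
    (rightIso hsq)).leftAdjointUniq ((EtCoh.pullPushAdj f').comp (EtShriek.extZeroAdj j'))

end EtBCShriek
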