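import Mathlib

/-!
# For a monomorphism `f`, the unit of `Over.map f ⊣ Over.pullback f` is an isomorphism,
and consequences for sheaves.
-/

open CategoryTheory CategoryTheory.Limits Opposite

namespace OverMono

universe v u v' u'

variable {𝒮 : Type u} [Category.{v} 𝒮] [HasPullbacks 𝒮] {X Y : 𝒮} (f : X ⟶ Y) [Mono f]

lemma isIso_lift (U : Over X) :
    IsIso (pullback.lift (𝟙 U.left) U.hom (by simp) : U.left ⟶ pullback (U.hom ≫ f) f) := by
  refine ⟨pullback.fst _ _, pullback.lift_fst _ _ _, ?_⟩
  apply pullback.hom_ext
  · rw [Category.assoc, pullback.lift_fst, Category.comp_id, Category.id_comp]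
  · rw [Category.assoc, pullback.lift_snd, Category.id_comp]
    rw [← cancel_mono f, Category.assoc]
    exact pullback.condition

lemma isIso_unit_app (U : Over X) : IsIso ((Over.mapPullbackAdj f).unit.app U) := by
  have h : IsIso ((Over.forget X).map ((Over.mapPullbackAdj f).unit.app U)) := by
    rw [Over.mapPullbackAdj_unit_app]
    exact isIso_lift f U
  exact isIso_of_reflects_iso _ (Over.forget X)

variable (A : Type u') [Category.{v'} A] (J : GrothendieckTopology (Over X))
  (K : GrothendieckTopology (Over Y)) [(Over.map f).IsContinuous J K]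
  [(Over.pullback f).IsContinuous K J]

lemma isIso_counit_app (F : Sheaf J A) :
    IsIso (((Over.mapPullbackAdj f).sheafPushforwardContinuous (E := A) J K).counit.app F) := by
  have h2 : IsIso ((sheafToPresheaf J A).map
      (((Over.mapPullbackAdj f).sheafPushforwardContinuous (E := A) J K).counit.app F)) := by
    show IsIso (((Over.mapPullbackAdj f).op.whiskerLeft A).counit.app F.obj)
    haveI : ∀ U : (Over X)ᵒᵖ,
        IsIso ((((Over.mapPullbackAdj f).op.whiskerLeft A).counit.app F.obj).app U) := by
      intro U
      rw [Adjunction.whiskerLeft_counit_app_app]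
      haveI : IsIso ((Over.mapPullbackAdj f).op.counit.app U) := by
        have := isIso_unit_app f U.unop
        show IsIso ((Over.mapPullbackAdj f).unit.app U.unop).op
        infer_instance
      infer_instance
    exact NatIso.isIso_of_isIso_app _
  exact isIso_of_reflects_iso _ (sheafToPresheaf J A)

end OverMono
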