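import Mathlib
import Groth.Prelude.Def_EtShriek2
import Groth.Agent.Lib.helper23.OverMono
import Groth.Agent.Lib.helper23.FFSite
import Groth.Agent.Lib.helper23.CompEtCocont

/-!
# Unit / counit isomorphisms for étale monomorphisms (e.g. open immersions)
-/

universe u

open CategoryTheory CategoryTheory.Limits Opposite AlgebraicGeometry

namespace EtOpenImm

variable {U X : Scheme.{u}} (j : U ⟶ X) [hj : Etale j] [Mono j]

/-- the adjunction `compEtale j ⊣ bc j` -/
noncomputable def siteAdj : EtShriek.compEtale j ⊣ EtCoh.bc j :=
  MorphismProperty.Over.mapPullbackAdj EtCoh.etaleMP.{u} ⊤ j hj trivial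

lemma isIso_lift' {W : Scheme.{u}} (h : W ⟶ U) :
    IsIso (pullback.lift (𝟙 W) h (by simp) : W ⟶ pullback (h ≫ j) j) :=
  OverMono.isIso_lift j (Over.mk h)

set_option backward.isDefEq.respectTransparency.types false in
lemma isIso_unit_app (A : U.Etale) : IsIso ((siteAdj j).unit.app A) := by
  have h : IsIso ((Over.forget U).map ((Scheme.Etale.forget U).map
      ((siteAdj j).unit.app A))) := by
    show IsIso ((siteAdj j).unit.app A).left
    unfold siteAdj
    rw [MorphismProperty.Over.mapPullbackAdj_unit_app]
    exact isIso_lift' j A.hom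
  have h' : IsIso ((Scheme.Etale.forget U).map
      ((siteAdj j).unit.app A)) := isIso_of_reflects_iso _ (Over.forget U)
  exact isIso_of_reflects_iso _ (Scheme.Etale.forget U)

/-- restriction is left adjoint to direct image -/
noncomputable def restrPushAdj : EtShriek.restrAlong j ⊣ EtCoh.push j :=
  (siteAdj j).sheafPushforwardContinuous U.smallEtaleTopology X.smallEtaleTopology

lemma isIso_restrPush_counit_app (F : EtCoh.Ab U) : IsIso ((restrPushAdj j).counit.app F) := by
  have h2 : IsIso ((sheafToPresheaf U.smallEtaleTopology AddCommGrpCat.{u + 1}).map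
      ((restrPushAdj j).counit.app F)) := by
    show IsIso (((siteAdj j).op.whiskerLeft AddCommGrpCat.{u + 1}).counit.app F.obj)
    have : ∀ V : (U.Etale)ᵒᵖ,
        IsIso ((((siteAdj j).op.whiskerLeft AddCommGrpCat.{u + 1}).counit.app F.obj).app V) := by
      intro V
      rw [Adjunction.whiskerLeft_counit_app_app]
      have : IsIso ((siteAdj j).op.counit.app V) := by
        have := isIso_unit_app j V.unop
        show IsIso ((siteAdj j).unit.app V.unop).op
        infer_instance
      infer_instance
    exact NatIso.isIso_of_isIso_app _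
  exact isIso_of_reflects_iso _ (sheafToPresheaf U.smallEtaleTopology AddCommGrpCat.{u + 1})

lemma isIso_restrPush_counit : IsIso (restrPushAdj j).counit :=
  haveI := isIso_restrPush_counit_app j
  NatIso.isIso_of_isIso_app _

/-- `j_*` is fully faithful -/
noncomputable def pushFullyFaithful : (EtCoh.push j).FullyFaithful :=
  haveI := isIso_restrPush_counit j
  (restrPushAdj j).fullyFaithfulROfIsIsoCounit

lemma isIso_pullPush_counit : IsIso (EtCoh.pullPushAdj j).counit :=
  haveI := (pushFullyFaithful j).full
  haveI := (pushFullyFaithful j).faithful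
  inferInstance

lemma isIso_extZero_unit : IsIso (EtShriek.extZeroAdj j).unit :=
  haveI := CompEtCocont.cocont_compEtale j
  FFSite.isIso_unit (EtShriek.compEtale j) AddCommGrpCat.{u + 1} U.smallEtaleTopology
    X.smallEtaleTopology

end EtOpenImm
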