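import Mathlib
import Groth.Prelude.Def_EtShriek2
import Groth.Agent.Lib.helper23.EtAcyc

/-!
# Restriction along a surjective étale morphism is faithful
-/

universe u

open CategoryTheory CategoryTheory.Limits Opposite AlgebraicGeometry

namespace EtSurjFaithful

variable {X Y : Scheme.{u}} (u : X ⟶ Y) [hu : Etale u]

/-- the projection `W ×_Y X ⟶ W` in the small étale site of `Y` -/
noncomputable def cW (W : Y.Etale) :
    (EtShriek.compEtale u).obj ((EtCoh.bc u).obj W) ⟶ W :=
  (EtAcyc.siteAdj u).counit.app W

set_option backward.isDefEq.respectTransparency.types false in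
lemma cW_left (W : Y.Etale) : (cW u W).left = pullback.fst W.hom u := by
  unfold cW EtAcyc.siteAdj
  rw [MorphismProperty.Over.mapPullbackAdj_counit_app]
  rfl

set_option backward.isDefEq.respectTransparency.types false in
lemma cover [Surjective u] (W : Y.Etale) :
    Sieve.generate (Presieve.singleton (cW u W)) ∈ Y.smallEtaleTopology W := by
  have eY : Y.smallEtaleTopology =
      (Y.smallPretopology (P := EtCoh.etaleMP) (Q := EtCoh.etaleMP)).toGrothendieck :=
    Scheme.smallGrothendieckTopology_eq_toGrothendieck_smallPretopology Y le_rfl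
  rw [eY]
  refine (Scheme.mem_toGrothendieck_smallPretopology W _).2 ?_
  intro x
  have hs : Function.Surjective (pullback.fst W.hom u).base :=
    (inferInstance : Surjective (pullback.fst W.hom u)).surj
  obtain ⟨z, hz⟩ := hs x
  refine ⟨_, cW u W, z, Sieve.le_generate _ _ _ (Presieve.singleton.mk), ?_, ?_⟩
  · rw [cW_left]
    show Etale (pullback.fst W.hom u)
    infer_instance
  · rw [cW_left]
    exact hz

variable [EtShriek.JCont u]

lemma restr_map_eq_zero_imp [Surjective u] {F G : EtCoh.Ab Y} (φ : F ⟶ G)
    (h : (EtShriek.restrAlong u).map φ = 0) : φ = 0 := by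
  apply Sheaf.hom_ext
  apply NatTrans.ext
  funext W
  obtain ⟨W⟩ := W
  apply AddCommGrpCat.hom_ext
  apply AddMonoidHom.ext
  intro s
  have hsep := ((isSheaf_iff_isSheaf_of_type _ _).1
    ((Presheaf.isSheaf_iff_isSheaf_forget _ _ (forget AddCommGrpCat.{u + 1})).1
      G.property)).isSeparated _ (cover u W)
  apply hsep.ext
  intro V f hf
  obtain ⟨V', a, b, hb, rfl⟩ := hf
  obtain ⟨⟩ := hb
  -- reduce to the generator
  have key : G.obj.map (cW u W).op (φ.hom.app (op W) s) = G.obj.map (cW u W).op (0 : _) := by
    have nat := congrArg (fun k => k.hom s) (φ.hom.naturality (cW u W).op)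
    have hz : φ.hom.app (op ((EtShriek.compEtale u).obj ((EtCoh.bc u).obj W))) = 0 := by
      have := congrArg (fun k => k.hom.app (op ((EtCoh.bc u).obj W))) h
      exact this
    have nat' : G.obj.map (cW u W).op (φ.hom.app (op W) s) =
        φ.hom.app (op ((EtShriek.compEtale u).obj ((EtCoh.bc u).obj W)))
          (F.obj.map (cW u W).op s) := nat.symm
    rw [nat', hz, map_zero]
    rfl
  show (G.obj ⋙ forget _).map (a ≫ cW u W).op _ = (G.obj ⋙ forget _).map (a ≫ cW u W).op _
  rw [op_comp, Functor.map_comp]
  exact congrArg ((G.obj ⋙ forget _).map a.op) key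

lemma restr_faithful [Surjective u] : (EtShriek.restrAlong u).Faithful where
  map_injective {F G} φ ψ h := by
    haveI : (EtShriek.restrAlong u).Additive := {}
    have h0 : (EtShriek.restrAlong u).map (φ - ψ) = 0 := by
      rw [Functor.map_sub, h, sub_self]
    exact sub_eq_zero.1 (restr_map_eq_zero_imp u _ h0)

end EtSurjFaithful
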