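import Mathlib

set_option autoImplicit false
open CategoryTheory CategoryTheory.Limits Opposite
universe w v u

namespace Groth.Agent.H23.GalSheaf

variable {C : Type u} [Category.{v} C] {T Y : C} (hT : IsTerminal T) [HasBinaryProduct Y Y]
  {G : Type*} [Group G] (σ : G →* Aut Y) (P : Cᵒᵖ ⥤ Type w)

include hT in
lemma compat_iff
    (hP : Function.Injective (fun s : P.obj (op (Y ⨯ Y)) => fun g : G =>
      P.map (prod.lift (𝟙 Y) (σ g).hom).op s)) (x : P.obj (op Y)) :
    (∀ {Z : C} (p₁ p₂ : Z ⟶ Y), p₁ ≫ hT.from Y = p₂ ≫ hT.from Y →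
        P.map p₁.op x = P.map p₂.op x) ↔ ∀ g : G, P.map (σ g).hom.op x = x := by
  constructor
  · intro h g
    have := h (σ g).hom (𝟙 Y) (hT.hom_ext _ _)
    simpa using this
  · intro h Z p₁ p₂ _
    have key : P.map (prod.fst : Y ⨯ Y ⟶ Y).op x = P.map (prod.snd : Y ⨯ Y ⟶ Y).op x := by
      apply hP
      funext g
      show P.map (prod.lift (𝟙 Y) (σ g).hom).op (P.map (prod.fst : Y ⨯ Y ⟶ Y).op x) =
        P.map (prod.lift (𝟙 Y) (σ g).hom).op (P.map (prod.snd : Y ⨯ Y ⟶ Y).op x)
      rw [← Functor.map_comp_apply, ← Functor.map_comp_apply, ← op_comp, ← op_comp,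
        prod.lift_fst, prod.lift_snd, h g]
      simp
    have e1 : P.map p₁.op x = P.map (prod.lift p₁ p₂).op (P.map (prod.fst : Y ⨯ Y ⟶ Y).op x) := by
      rw [← Functor.map_comp_apply, ← op_comp, prod.lift_fst]
    have e2 : P.map p₂.op x = P.map (prod.lift p₁ p₂).op (P.map (prod.snd : Y ⨯ Y ⟶ Y).op x) := by
      rw [← Functor.map_comp_apply, ← op_comp, prod.lift_snd]
    rw [e1, e2, key]

include hT in
theorem main
    (hP : Function.Injective (fun s : P.obj (op (Y ⨯ Y)) => fun g : G =>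
      P.map (prod.lift (𝟙 Y) (σ g).hom).op s)) :
    Presieve.IsSheafFor P (Presieve.singleton (hT.from Y)) ↔
      (Function.Injective (P.map (hT.from Y).op) ∧
        Set.range (P.map (hT.from Y).op) = {s | ∀ g : G, P.map (σ g).hom.op s = s}) := by
  rw [Presieve.isSheafFor_singleton]
  have hinv : ∀ (y : P.obj (op T)) (g : G),
      P.map (σ g).hom.op (P.map (hT.from Y).op y) = P.map (hT.from Y).op y := by
    intro y g
    rw [← Functor.map_comp_apply, ← op_comp]
    have e : (σ g).hom ≫ hT.from Y = hT.from Y := hT.hom_ext _ _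
    rw [e]
  constructor
  · intro h
    refine ⟨?_, ?_⟩
    · intro y1 y2 hy
      obtain ⟨y, -, huniq⟩ := h (P.map (hT.from Y).op y1)
        ((compat_iff hT σ P hP _).2 (hinv y1))
      exact (huniq y1 rfl).trans (huniq y2 hy.symm).symm
    · ext x
      constructor
      · rintro ⟨y, rfl⟩
        exact hinv y
      · intro hx
        obtain ⟨y, hy, -⟩ := h x ((compat_iff hT σ P hP x).2 hx)
        exact ⟨y, hy⟩
  · rintro ⟨hinj, hrange⟩ x hx
    have hx' : x ∈ Set.range (P.map (hT.from Y).op) := by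
      rw [hrange]
      exact (compat_iff hT σ P hP x).1 hx
    obtain ⟨y, rfl⟩ := hx'
    exact ⟨y, rfl, fun y' hy' => hinj hy'⟩

end Groth.Agent.H23.GalSheaf
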