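import Mathlib
import Groth.Prelude.Def_EtCore
import Groth.Agent.Lib.helper23.Glue
import Groth.Agent.Lib.helper23.PropALib
import Groth.Agent.Lib.helper23.GalSheaf

set_option autoImplicit false
open CategoryTheory CategoryTheory.Limits AlgebraicGeometry Opposite
universe u

namespace Groth.Agent.H23.GalSheaf

open Groth.Agent.H23.EtOpenSub Groth.Agent.H23.Glue

variable {X : Scheme.{u}}

lemma etale_left {Z U : X.Etale} (k : Z ⟶ U) : Etale k.left := by
  have h1 : Etale (hm Z) := Z.prop
  have hw : k.left ≫ hm U = hm Z := MorphismProperty.Over.w k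
  have : Etale (k.left ≫ hm U) := by rw [hw]; exact h1
  exact Etale.of_comp k.left (hm U)

/-- lifting through an open subobject, on schemes -/
noncomputable def liftL {Z U : X.Etale} (k : Z ⟶ U) (W : U.left.Opens)
    (h : Set.range k.left.base ⊆ (W : Set U.left)) : Z.left ⟶ (W : Scheme) :=
  IsOpenImmersion.lift (W.ι : (W : Scheme) ⟶ U.left) (k.left : Z.left ⟶ U.left) (by
    rw [Scheme.Opens.range_ι]; exact h)

lemma liftL_fac {Z U : X.Etale} (k : Z ⟶ U) (W : U.left.Opens)
    (h : Set.range k.left.base ⊆ (W : Set U.left)) : liftL k W h ≫ W.ι = k.left :=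
  IsOpenImmersion.lift_fac _ _ _

/-- lifting through an open subobject -/
noncomputable def liftOpn {Z U : X.Etale} (k : Z ⟶ U) (W : U.left.Opens)
    (h : Set.range k.left.base ⊆ (W : Set U.left)) : Z ⟶ opn U W :=
  MorphismProperty.Over.homMk (liftL k W h) (by
    show liftL k W h ≫ W.ι ≫ hm U = hm Z
    rw [← Category.assoc, liftL_fac]
    exact MorphismProperty.Over.w k)

lemma liftOpn_incl {Z U : X.Etale} (k : Z ⟶ U) (W : U.left.Opens)
    (h : Set.range k.left.base ⊆ (W : Set U.left)) : liftOpn k W h ≫ incl U W = k := by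
  apply MorphismProperty.Over.Hom.ext
  exact liftL_fac k W h

/-- the cofan maps of a colimit cofan in the small étale site are jointly surjective. -/
lemma jointly_surjective {ι : Type*} {Z : ι → X.Etale} (c : Cofan Z) (hc : IsColimit c)
    (v : c.pt.left) : ∃ (i : ι) (z : (Z i).left), (c.inj i).left.base z = v := by
  let O : c.pt.left.Opens := ⟨⋃ i, Set.range (c.inj i).left.base, isOpen_iUnion (fun i => by
    haveI := etale_left (c.inj i)
    exact (c.inj i).left.isOpenMap.isOpen_range)⟩
  have hO : ∀ i, Set.range (c.inj i).left.base ⊆ (O : Set c.pt.left) :=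
    fun i => Set.subset_iUnion (fun i => Set.range (c.inj i).left.base) i
  let d : c.pt ⟶ opn c.pt O := Cofan.IsColimit.desc hc (fun i => liftOpn (c.inj i) O (hO i))
  have hd : d ≫ incl c.pt O = 𝟙 _ := by
    apply Cofan.IsColimit.hom_ext hc
    intro i
    rw [Cofan.IsColimit.fac_assoc, liftOpn_incl, Category.comp_id]
  have h1 := congrArg (fun φ => φ.left.base v) hd
  have h2 : O.ι.base (d.left.base v) = v := h1
  have h3 : O.ι.base (d.left.base v) ∈ (O : Set c.pt.left) := (d.left.base v).2
  rw [h2] at h3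
  obtain ⟨i, z, hz⟩ := Set.mem_iUnion.1 h3
  exact ⟨i, z, hz⟩

lemma cofan_cover {ι : Type*} {Z : ι → X.Etale} (c : Cofan Z) (hc : IsColimit c) :
    Sieve.generate (Presieve.ofArrows Z c.inj) ∈ X.smallEtaleTopology c.pt := by
  apply mem_cov
  intro v
  obtain ⟨i, z, hz⟩ := jointly_surjective c hc v
  exact ⟨Z i, c.inj i, z, Sieve.le_generate _ _ _ (Presieve.ofArrows.mk i), hz⟩

lemma inj_of_cofan (F : EtCoh.Ab X) {ι : Type*} {Z : ι → X.Etale} (U : X.Etale)
    (k : ∀ i, Z i ⟶ U) (hc : IsColimit (Cofan.mk U k)) :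
    Function.Injective (fun s : (PropALib.ty F).obj (op U) => fun i =>
      (PropALib.ty F).map (k i).op s) := by
  intro s1 s2 h
  apply ((PropALib.ty_isSheaf F).isSeparated _ (cofan_cover (Cofan.mk U k) hc)).ext
  rintro W f ⟨W', a, b, ⟨i⟩, rfl⟩
  have e : ∀ s : (PropALib.ty F).obj (op U), (PropALib.ty F).map (a ≫ k i).op s =
      (PropALib.ty F).map a.op ((PropALib.ty F).map (k i).op s) := fun s => by
    rw [op_comp, Functor.map_comp_apply]
  exact (e s1).trans ((congrArg ((PropALib.ty F).map a.op) (congrFun h i)).trans (e s2).symm)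

lemma top_cover (Y : X.Etale) (hY : Function.Surjective Y.hom.base) :
    Sieve.generate (Presieve.singleton ((EtCore.topIsTerminal X).from Y)) ∈
      X.smallEtaleTopology (EtCoh.top X) := by
  apply mem_cov
  intro v
  obtain ⟨y, hy⟩ := hY v
  refine ⟨Y, (EtCore.topIsTerminal X).from Y, y,
    Sieve.le_generate _ _ _ (Presieve.singleton.mk), ?_⟩
  have hw : ((EtCore.topIsTerminal X).from Y).left ≫ hm (EtCoh.top X) = hm Y :=
    MorphismProperty.Over.w _
  have hw' : ((EtCore.topIsTerminal X).from Y).left = hm Y :=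
    (Category.comp_id _).symm.trans hw
  have h2 := congrArg (fun φ => φ.base y) hw'
  exact h2.trans hy

theorem galois_sections (Y : X.Etale) (hY : Function.Surjective Y.hom.base)
    {G : Type u} [Group G] (σ : G →* Aut Y)
    (hgal : Nonempty (IsColimit (Cofan.mk (Y ⨯ Y) (fun g : G => prod.lift (𝟙 Y) (σ g).hom))))
    (F : EtCoh.Ab X) :
    Function.Injective (F.obj.map ((EtCore.topIsTerminal X).from Y).op) ∧
      Set.range (F.obj.map ((EtCore.topIsTerminal X).from Y).op) =
        {s : EtCoh.sect F Y | ∀ g : G, F.obj.map (σ g).hom.op s = s} := by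
  obtain ⟨hc⟩ := hgal
  have hsheaf : Presieve.IsSheafFor (PropALib.ty F)
      (Presieve.singleton ((EtCore.topIsTerminal X).from Y)) :=
    (Presieve.isSheafFor_iff_generate _).2 ((PropALib.ty_isSheaf F) _ (top_cover Y hY))
  exact (main (EtCore.topIsTerminal X) σ (PropALib.ty F)
    (inj_of_cofan F (Y ⨯ Y) (fun g : G => prod.lift (𝟙 Y) (σ g).hom) hc)).1 hsheaf

end Groth.Agent.H23.GalSheaf
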