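import Mathlib
import Groth.Prelude.Def_EtShriek2
import Groth.Agent.Lib.helper23.PropALib
import Groth.Agent.Lib.helper23.GalSheaf2

set_option autoImplicit false
open CategoryTheory CategoryTheory.Limits AlgebraicGeometry Opposite
universe u

namespace Groth.Agent.H23.Excision
open Groth.Agent.H23.EtOpenSub Groth.Agent.H23.Glue

variable {X : Scheme.{u}}

instance etl {Z U : X.Etale} (k : Z ⟶ U) : Etale k.left := Groth.Agent.H23.GalSheaf.etale_left k

lemma hm_w {Z U : X.Etale} (k : Z ⟶ U) : k.left ≫ hm U = hm Z := MorphismProperty.Over.w k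

section fp
variable {W V U : X.Etale} (g : W ⟶ U) (k : V ⟶ U)

/-- fibre product in the small etale site -/
noncomputable def fp : X.Etale :=
  Scheme.Etale.mk (pullback.fst g.left k.left ≫ hm W)

noncomputable def fpFst : fp g k ⟶ W :=
  MorphismProperty.Over.homMk (pullback.fst g.left k.left) rfl

noncomputable def fpSnd : fp g k ⟶ V :=
  MorphismProperty.Over.homMk (pullback.snd g.left k.left) (by
    show pullback.snd g.left k.left ≫ hm V = pullback.fst g.left k.left ≫ hm W
    rw [← hm_w g, ← hm_w k, ← Category.assoc, ← Category.assoc, pullback.condition])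

lemma fp_comm : fpFst g k ≫ g = fpSnd g k ≫ k := by
  apply MorphismProperty.Over.Hom.ext
  exact pullback.condition

lemma fp_point (w : W.left) (v : V.left) (h : g.left.base w = k.left.base v) :
    ∃ p : (fp g k).left, (fpFst g k).left.base p = w ∧ (fpSnd g k).left.base p = v :=
  Scheme.Pullback.exists_preimage_pullback (f := g.left) (g := k.left) w v h

end fp

variable (F : EtCoh.Ab X)

lemma map_comp_apply {A B C : X.Etale} (f : A ⟶ B) (g : B ⟶ C) (s : F.obj.obj (op C)) :
    F.obj.map (f ≫ g).op s = F.obj.map f.op (F.obj.map g.op s) := by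
  rw [op_comp, F.obj.map_comp]
  rfl

lemma eq_of_locally (U : X.Etale) (s t : F.obj.obj (op U))
    (h : ∀ v : U.left, ∃ (V : X.Etale) (ψ : V ⟶ U) (z : V.left), ψ.left.base z = v ∧
      F.obj.map ψ.op s = F.obj.map ψ.op t) : s = t := by
  have hS : Presheaf.equalizerSieve (F := F.obj) (X := op U) s t ∈ X.smallEtaleTopology U := by
    apply mem_cov
    intro v
    obtain ⟨V, ψ, z, hz, he⟩ := h v
    exact ⟨V, ψ, z, he, hz⟩
  exact ((PropALib.ty_isSheaf F).isSeparated _ hS).ext (fun _ _ hf => hf)

/-- the section vanishes on an etale neighbourhood of the point -/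
def VanNear (U : X.Etale) (s : F.obj.obj (op U)) (x : U.left) : Prop :=
  ∃ (W : X.Etale) (g : W ⟶ U) (w : W.left), g.left.base w = x ∧ F.obj.map g.op s = 0

lemma supp_subset_iff (U : X.Etale) (s : F.obj.obj (op U)) (Z : Set U.left) :
    EtShriek.sectSupp F U s ⊆ Z ↔ ∀ x, x ∉ Z → VanNear F U s x := by
  constructor
  · intro h x hx
    have hx' : x ∉ EtShriek.sectSupp F U s := fun h' => hx (h h')
    by_contra hcon
    apply hx'
    intro W g hw h0
    obtain ⟨w, hw⟩ := hw
    exact hcon ⟨W, g, w, hw, h0⟩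
  · intro h x hx
    by_contra hxZ
    obtain ⟨W, g, w, hw, h0⟩ := h x hxZ
    exact hx W g ⟨w, hw⟩ h0

lemma vanNear_pullback {U V : X.Etale} (k : V ⟶ U) (s : F.obj.obj (op U)) (v : V.left)
    (h : VanNear F U s (k.left.base v)) : VanNear F V (F.obj.map k.op s) v := by
  obtain ⟨W, g, w, hw, h0⟩ := h
  obtain ⟨p, hp1, hp2⟩ := fp_point g k w v hw
  refine ⟨fp g k, fpSnd g k, p, hp2, ?_⟩
  rw [← map_comp_apply, ← fp_comm, map_comp_apply, h0, map_zero]

lemma eq_zero_of_vanNear (V : X.Etale) (t : F.obj.obj (op V)) (h : ∀ v, VanNear F V t v) : t = 0 := by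
  apply eq_of_locally
  intro v
  obtain ⟨W, g, w, hw, h0⟩ := h v
  exact ⟨W, g, w, hw, by rw [h0, map_zero]⟩


open AlgebraicGeometry.Scheme.Pullback in
lemma pt_unique {A B : Scheme.{u}} (f : A ⟶ B) (p q : ↑(pullback f f))
    (h1 : pullback.fst f f p = pullback.fst f f q) (h2 : pullback.snd f f p = pullback.snd f f q)
    (hb : Function.Bijective (f.residueFieldMap (pullback.fst f f q))) : p = q := by
  apply (carrierEquiv (f := f) (g := f)).injective
  have hT : Triplet.ofPoint p = Triplet.ofPoint q := Triplet.ext h1 h2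
  apply carrierEquiv_eq_iff.2
  refine ⟨hT, ?_⟩
  -- the tensor of q is a field
  have hiso : IsIso ((B.residueFieldCongr (Triplet.ofPoint q).hx).inv ≫
      f.residueFieldMap (Triplet.ofPoint q).x) := by
    have : IsIso (f.residueFieldMap (Triplet.ofPoint q).x) := by
      apply (ConcreteCategory.isIso_iff_bijective _).2
      exact hb
    infer_instance
  have hinr : IsIso (Triplet.ofPoint q).tensorInr := by
    unfold Triplet.tensorInr
    exact pushout_inr_iso_of_left_iso _ _
  let e : (Triplet.ofPoint q).tensor ≃+* A.residueField (Triplet.ofPoint q).y :=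
    (asIso (Triplet.ofPoint q).tensorInr).symm.commRingCatIsoToRingEquiv
  have hsub : Subsingleton (PrimeSpectrum (Triplet.ofPoint q).tensor) :=
    (PrimeSpectrum.comapEquiv e).toEquiv.subsingleton
  exact hsub.elim _ _


end Groth.Agent.H23.Excision
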