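import Mathlib
import Groth.Prelude.Def_EtShriek2
import Groth.Agent.Lib.helper23.Excision

set_option autoImplicit false
open CategoryTheory CategoryTheory.Limits AlgebraicGeometry Opposite
universe u

namespace Groth.Agent.H23.Excision
open Groth.Agent.H23.EtOpenSub Groth.Agent.H23.Glue

variable {X : Scheme.{u}} (F : EtCoh.Ab X)

/-- local agreement of two maps near a point where residue fields agree -/
lemma agree_near {U U' Y : X.Etale} (φ : U' ⟶ U) (g1 g2 : Y ⟶ U') (hg : g1 ≫ φ = g2 ≫ φ)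
    (y : Y.left) (hy : g1.left.base y = g2.left.base y)
    (hres : Function.Bijective (φ.left.residueFieldMap (g1.left.base y))) :
    ∃ Ω : Y.left.Opens, y ∈ Ω ∧ incl Y Ω ≫ g1 = incl Y Ω ≫ g2 := by
  have hgl : g1.left ≫ φ.left = g2.left ≫ φ.left := congrArg (fun t => t.left) hg
  let L : Y.left ⟶ pullback φ.left φ.left := pullback.lift g1.left g2.left hgl
  let Δ : U'.left ⟶ pullback φ.left φ.left := pullback.diagonal φ.left
  haveI : IsOpenImmersion Δ := inferInstance
  let Ω : Y.left.Opens := L ⁻¹ᵁ Δ.opensRange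
  have hL1 : L ≫ pullback.fst _ _ = g1.left := pullback.lift_fst _ _ _
  have hL2 : L ≫ pullback.snd _ _ = g2.left := pullback.lift_snd _ _ _
  have hΔ1 : Δ ≫ pullback.fst _ _ = 𝟙 _ := pullback.diagonal_fst _
  have hΔ2 : Δ ≫ pullback.snd _ _ = 𝟙 _ := pullback.diagonal_snd _
  refine ⟨Ω, ?_, ?_⟩
  · show L.base y ∈ Set.range Δ.base
    refine ⟨g1.left.base y, ?_⟩
    apply pt_unique φ.left
    · have e1 : (pullback.fst φ.left φ.left).base (Δ.base (g1.left.base y)) = g1.left.base y := by
        rw [← Scheme.Hom.comp_apply, hΔ1]; rfl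
      have e2 : (pullback.fst φ.left φ.left).base (L.base y) = g1.left.base y := by
        rw [← Scheme.Hom.comp_apply, hL1]
      exact e1.trans e2.symm
    · have e1 : (pullback.snd φ.left φ.left).base (Δ.base (g1.left.base y)) = g1.left.base y := by
        rw [← Scheme.Hom.comp_apply, hΔ2]; rfl
      have e2 : (pullback.snd φ.left φ.left).base (L.base y) = g2.left.base y := by
        rw [← Scheme.Hom.comp_apply, hL2]
      exact e1.trans (hy.trans e2.symm)
    · have e2 : (pullback.fst φ.left φ.left).base (L.base y) = g1.left.base y := by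
        rw [← Scheme.Hom.comp_apply, hL1]
      rw [e2]
      exact hres
  · apply MorphismProperty.Over.Hom.ext
    show Ω.ι ≫ g1.left = Ω.ι ≫ g2.left
    have hr : Set.range (Ω.ι ≫ L).base ⊆ Set.range Δ.base := by
      rintro _ ⟨z, rfl⟩
      exact z.2
    let ℓ := IsOpenImmersion.lift Δ (Ω.ι ≫ L) hr
    have hℓ : ℓ ≫ Δ = Ω.ι ≫ L := IsOpenImmersion.lift_fac _ _ _
    calc Ω.ι ≫ g1.left = (Ω.ι ≫ L) ≫ pullback.fst _ _ := by rw [Category.assoc, hL1]
      _ = ℓ := by rw [← hℓ, Category.assoc, hΔ1, Category.comp_id]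
      _ = (Ω.ι ≫ L) ≫ pullback.snd _ _ := by rw [← hℓ, Category.assoc, hΔ2, Category.comp_id]
      _ = Ω.ι ≫ g2.left := by rw [Category.assoc, hL2]

end Groth.Agent.H23.Excision
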