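import Mathlib
import Groth.Prelude.Def_EtShriek2
import Groth.Agent.Lib.helper23.Excision
import Groth.Agent.Lib.helper23.Excision2

set_option autoImplicit false
open CategoryTheory CategoryTheory.Limits AlgebraicGeometry Opposite
universe u

namespace Groth.Agent.H23.Excision
open Groth.Agent.H23.EtOpenSub Groth.Agent.H23.Glue

variable {X : Scheme.{u}} (F : EtCoh.Ab X)

section
variable {U U' : X.Etale} (φ : U' ⟶ U) (Z : Set ↥U.left)
    (hbij : Set.BijOn φ.left.base (φ.left.base ⁻¹' Z) Z)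
    (hres : ∀ x ∈ φ.left.base ⁻¹' Z, Function.Bijective (φ.left.residueFieldMap x))

include hbij hres in
lemma compat_UU (s' : F.obj.obj (op U'))
    (hs' : ∀ x, x ∉ φ.left.base ⁻¹' Z → VanNear F U' s' x)
    {Y : X.Etale} (g1 g2 : Y ⟶ U') (hg : g1 ≫ φ = g2 ≫ φ) :
    F.obj.map g1.op s' = F.obj.map g2.op s' := by
  apply eq_of_locally
  intro y
  have hφ : φ.left.base (g1.left.base y) = φ.left.base (g2.left.base y) := by
    have := congrArg (fun t => t.left.base y) hg
    exact this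
  by_cases hZ : g1.left.base y ∈ φ.left.base ⁻¹' Z
  · have hZ2 : g2.left.base y ∈ φ.left.base ⁻¹' Z := by
      show φ.left.base (g2.left.base y) ∈ Z
      rw [← hφ]
      exact hZ
    have hy : g1.left.base y = g2.left.base y := hbij.injOn hZ hZ2 hφ
    obtain ⟨Ω, hyΩ, hΩ⟩ := agree_near φ g1 g2 hg y hy (hres _ hZ)
    refine ⟨opn Y Ω, incl Y Ω, ⟨y, hyΩ⟩, rfl, ?_⟩
    rw [← map_comp_apply, ← map_comp_apply, hΩ]
  · have hZ2 : g2.left.base y ∉ φ.left.base ⁻¹' Z := by
      intro h
      apply hZ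
      show φ.left.base (g1.left.base y) ∈ Z
      rw [hφ]
      exact h
    obtain ⟨W1, h1, w1, hw1, h01⟩ := vanNear_pullback F g1 s' y (hs' _ hZ)
    obtain ⟨W2, h2, w2, hw2, h02⟩ := vanNear_pullback F g2 s' y (hs' _ hZ2)
    obtain ⟨p, hp1, hp2⟩ := fp_point h1 h2 w1 w2 (hw1.trans hw2.symm)
    refine ⟨fp h1 h2, fpFst h1 h2 ≫ h1, p, ?_, ?_⟩
    · show h1.left.base ((fpFst h1 h2).left.base p) = y
      rw [hp1, hw1]
    · rw [map_comp_apply, h01, map_zero, fp_comm, map_comp_apply, h02, map_zero]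

end

theorem main0728 {U U' : X.Etale}
    (φ : U' ⟶ U) (Z : Set ↥U.left) (hZ : IsClosed Z)
    (hbij : Set.BijOn φ.left.base (φ.left.base ⁻¹' Z) Z)
    (hres : ∀ x ∈ φ.left.base ⁻¹' Z, Function.Bijective (φ.left.residueFieldMap x)) :
    Set.BijOn (F.obj.map φ.op) {s | EtShriek.sectSupp F U s ⊆ Z}
      {s' | EtShriek.sectSupp F U' s' ⊆ φ.left.base ⁻¹' Z} := by
  refine ⟨?_, ?_, ?_⟩
  · -- MapsTo
    intro s hs
    have hs1 := (supp_subset_iff F U s Z).1 hs
    apply (supp_subset_iff F U' _ _).2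
    intro x' hx'
    exact vanNear_pullback F φ s x' (hs1 _ hx')
  · -- InjOn
    intro s hs t ht hst
    have hs1 := (supp_subset_iff F U s Z).1 hs
    have ht1 := (supp_subset_iff F U t Z).1 ht
    apply eq_of_locally
    intro v
    by_cases hv : v ∈ Z
    · obtain ⟨x', hx', hx'v⟩ := hbij.surjOn hv
      exact ⟨U', φ, x', hx'v, hst⟩
    · obtain ⟨W1, g1, w1, hw1, h01⟩ := hs1 v hv
      obtain ⟨W2, g2, w2, hw2, h02⟩ := ht1 v hv
      obtain ⟨p, hp1, hp2⟩ := fp_point g1 g2 w1 w2 (hw1.trans hw2.symm)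
      refine ⟨fp g1 g2, fpFst g1 g2 ≫ g1, p, ?_, ?_⟩
      · show g1.left.base ((fpFst g1 g2).left.base p) = v
        rw [hp1, hw1]
      · rw [map_comp_apply, h01, map_zero, fp_comm, map_comp_apply, h02, map_zero]
  · -- SurjOn
    intro s' hs'
    have hs1 := (supp_subset_iff F U' s' _).1 hs'
    let Vo : U.left.Opens := ⟨Zᶜ, hZ.isOpen_compl⟩
    let Yb : Bool → X.Etale := fun b => cond b U' (opn U Vo)
    let πb : ∀ b, Yb b ⟶ U := fun b => Bool.rec (motive := fun b => Yb b ⟶ U) (incl U Vo) φ b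
    have hcov : Sieve.generate (Presieve.ofArrows Yb πb) ∈ X.smallEtaleTopology U := by
      apply mem_cov
      intro v
      by_cases hv : v ∈ Z
      · obtain ⟨x', hx', hx'v⟩ := hbij.surjOn hv
        exact ⟨U', φ, x', Sieve.le_generate _ _ _ (Presieve.ofArrows.mk true), hx'v⟩
      · exact ⟨opn U Vo, incl U Vo, ⟨v, hv⟩,
          Sieve.le_generate _ _ _ (Presieve.ofArrows.mk false), rfl⟩
    have h1 := (PropALib.ty_isSheaf F) _ hcov
    rw [← Presieve.isSheafFor_iff_generate, Presieve.isSheafFor_arrows_iff] at h1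
    let xb : ∀ b, (PropALib.ty F).obj (op (Yb b)) := fun b =>
      Bool.rec (motive := fun b => (PropALib.ty F).obj (op (Yb b)))
        (0 : F.obj.obj (op (opn U Vo))) s' b
    have key : ∀ {Y : X.Etale} (g1 : Y ⟶ U') (g2 : Y ⟶ opn U Vo), g1 ≫ φ = g2 ≫ incl U Vo →
        F.obj.map g1.op s' = 0 := by
      intro Y g1 g2 hg
      apply eq_zero_of_vanNear
      intro y
      apply vanNear_pullback
      apply hs1
      intro hmem
      have e : φ.left.base (g1.left.base y) = (incl U Vo).left.base (g2.left.base y) :=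
        congrArg (fun t => t.left.base y) hg
      have hmem' : φ.left.base (g1.left.base y) ∈ Z := hmem
      rw [e] at hmem'
      exact (g2.left.base y).2 hmem'
    obtain ⟨t, ht, -⟩ := h1 xb (by
      intro i j Y gi gj hij
      cases i <;> cases j
      · show F.obj.map gi.op (0 : F.obj.obj (op (opn U Vo))) = F.obj.map gj.op 0
        rw [map_zero, map_zero]
      · show F.obj.map gi.op (0 : F.obj.obj (op (opn U Vo))) = F.obj.map gj.op s'
        rw [map_zero]
        exact (key gj gi hij.symm).symm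
      · show F.obj.map gi.op s' = F.obj.map gj.op (0 : F.obj.obj (op (opn U Vo)))
        rw [map_zero]
        exact key gi gj hij
      · exact compat_UU F φ Z hbij hres s' hs1 gi gj hij)
    have ht1 : F.obj.map φ.op t = s' := ht true
    have ht0 : F.obj.map (incl U Vo).op t = 0 := ht false
    refine ⟨t, ?_, ht1⟩
    apply (supp_subset_iff F U t Z).2
    intro x hx
    exact ⟨opn U Vo, incl U Vo, ⟨x, hx⟩, rfl, ht0⟩

end Groth.Agent.H23.Excision
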