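import Mathlib
import Groth.Agent.Lib.helper23.ClEmb

/-!
# Extension by the empty set for sheaves of sets
-/

universe u

open CategoryTheory CategoryTheory.Limits TopologicalSpace Opposite Topology

namespace ExtEmpty

variable {X : TopCat.{u}} (U : Opens X)

/-- the inclusion of the open subspace -/
abbrev j : TopCat.of U ⟶ X := TopCat.ofHom ⟨Subtype.val, continuous_subtype_val⟩

lemma hj : IsOpenEmbedding (j U) := U.isOpenEmbedding

/-- restriction is left adjoint to the direct image -/
noncomputable def adj₂ : U.sheafRestrict (C := Type u) ⊣ TopCat.Sheaf.pushforward (Type u) (j U) :=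
  (TopCat.Sheaf.pullbackPushforwardAdjunction (Type u) (j U)).ofNatIsoLeft
    ((hj U).sheafPullbackIso (Type u))

variable {U} {L : (TopCat.of U).Sheaf (Type u) ⥤ X.Sheaf (Type u)}
  (adj : L ⊣ U.sheafRestrict (C := Type u))

/-- the left adjoint of restriction is fully faithful -/
noncomputable def fullyFaithfulL : L.FullyFaithful := by
  have h1 : (TopCat.Sheaf.pushforward (Type u) (j U)).Full :=
    ClEmb.full_pushforward (Type u) (hj U).isInducing
  have h2 : (TopCat.Sheaf.pushforward (Type u) (j U)).Faithful :=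
    ClEmb.faithful_pushforward (Type u) (hj U).isInducing
  let t : Adjunction.Triple L (U.sheafRestrict (C := Type u))
      (TopCat.Sheaf.pushforward (Type u) (j U)) := ⟨adj, adj₂ U⟩
  exact t.fullyFaithfulEquiv.symm (Functor.FullyFaithful.ofFullyFaithful _)

variable (U) in
/-- the subsheaf of the terminal sheaf attached to `U` -/
def prE : TopCat.Presheaf (Type u) X where
  obj V := ULift.{u} (PLift (V.unop ≤ U))
  map {V V'} f := ↾(fun (h : ULift.{u} (PLift (V.unop ≤ U))) =>
    (ULift.up (PLift.up (le_trans (leOfHom f.unop) h.down.down)) : ULift.{u} (PLift (V'.unop ≤ U))))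
  map_id V := by
    ext h
    exact Subsingleton.elim _ _
  map_comp {V V' V''} f g := by
    ext h
    exact Subsingleton.elim _ _

variable (U) in
lemma prE_isSheaf : (prE U).IsSheaf := by
  rw [TopCat.Presheaf.isSheaf_iff_isSheafUniqueGluing]
  intro ι W sf hsf
  have hle : iSup W ≤ U := iSup_le (fun k => (sf k : ULift.{u} (PLift (W k ≤ U))).down.down)
  refine ⟨(ULift.up (PLift.up hle) : ULift.{u} (PLift (iSup W ≤ U))), fun k => ?_, fun s' _ => ?_⟩
  · exact Subsingleton.elim (α := ULift.{u} (PLift (W k ≤ U))) _ _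
  · exact Subsingleton.elim (α := ULift.{u} (PLift (iSup W ≤ U))) _ _

variable (U) in
/-- the subsheaf of the terminal sheaf attached to `U` -/
def shE : X.Sheaf (Type u) := ⟨prE U, prE_isSheaf U⟩

/-- the unique map to the restriction of `shE` -/
def toRestrE (F : (TopCat.of U).Sheaf (Type u)) : F ⟶ (U.sheafRestrict (C := Type u)).obj (shE U) :=
  ⟨{ app := fun W => ↾(fun _ =>
        (ULift.up (PLift.up (by
          rintro x ⟨y, -, rfl⟩
          exact y.2)) : ULift.{u} (PLift ((hj U).isOpenMap.functor.obj W.unop ≤ U))))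
     naturality := fun W W' _ => by
        ext s
        exact Subsingleton.elim (α := ULift.{u} (PLift ((hj U).isOpenMap.functor.obj W'.unop ≤ U))) _ _ }⟩

include adj in
lemma isEmpty_L (F : (TopCat.of U).Sheaf (Type u)) (V : Opens X) (hV : ¬ V ≤ U) :
    IsEmpty ((L.obj F).obj.obj (op V)) := by
  constructor
  intro s
  let φ : L.obj F ⟶ shE U := (adj.homEquiv F (shE U)).symm (toRestrE F)
  exact hV (φ.hom.app (op V) s : ULift.{u} (PLift (V ≤ U))).down.down

lemma isEmpty_of_stalk {G : X.Sheaf (Type u)}
    (h : ∀ x : X, x ∉ U → IsEmpty (G.presheaf.stalk x)) (V : Opens X) (hV : ¬ V ≤ U) :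
    IsEmpty (G.obj.obj (op V)) := by
  constructor
  intro s
  obtain ⟨x, hxV, hxU⟩ := Set.not_subset.1 hV
  exact (h x hxU).false (G.presheaf.germ V x hxV s)

lemma isEmpty_stalk {G : X.Sheaf (Type u)}
    (h : ∀ V : Opens X, ¬ V ≤ U → IsEmpty (G.obj.obj (op V))) (x : X) (hx : x ∉ U) :
    IsEmpty (G.presheaf.stalk x) := by
  constructor
  intro t
  obtain ⟨V, m, s, -⟩ := TopCat.Presheaf.exists_germ_eq G.presheaf t
  exact (h V (fun hV => hx (hV m))).false s

lemma image_preimage {V : Opens X} (hV : V ≤ U) :
    (hj U).isOpenMap.functor.obj ((Opens.map (j U)).obj V) = V := by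
  ext x
  constructor
  · rintro ⟨y, hy, rfl⟩
    exact hy
  · intro hx
    exact ⟨⟨x, hV hx⟩, hx, rfl⟩

include adj in
lemma isIso_counit {G : X.Sheaf (Type u)}
    (h : ∀ x : X, x ∉ U → IsEmpty (G.presheaf.stalk x)) : IsIso (adj.counit.app G) := by
  have hff := fullyFaithfulL adj
  have := hff.full
  have := hff.faithful
  have hη : IsIso adj.unit := inferInstance
  have hη' : IsIso (adj.unit.app ((U.sheafRestrict (C := Type u)).obj G)) :=
    (NatTrans.isIso_iff_isIso_app _).1 hη _
  have hR : IsIso ((U.sheafRestrict (C := Type u)).map (adj.counit.app G)) := by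
    have h1 := adj.right_triangle_components G
    have h2 : IsIso (𝟙 ((U.sheafRestrict (C := Type u)).obj G)) := inferInstance
    exact @IsIso.of_isIso_fac_left _ _ _ _ _ _ _ _ hη' h2 h1
  have hRW : ∀ W : Opens (TopCat.of U),
      IsIso ((adj.counit.app G).hom.app (op ((hj U).isOpenMap.functor.obj W))) := by
    intro W
    have h1 : IsIso ((sheafToPresheaf _ _).map
      ((U.sheafRestrict (C := Type u)).map (adj.counit.app G))) := inferInstance
    have h2 := (NatTrans.isIso_iff_isIso_app _).1 h1 (op W)
    exact h2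
  have hall : ∀ V : (Opens X)ᵒᵖ, IsIso ((adj.counit.app G).hom.app V) := by
    intro V
    by_cases hV : V.unop ≤ U
    · have h1 := hRW ((Opens.map (j U)).obj V.unop)
      have h2 : ∀ (V' : Opens X), V' = V.unop → IsIso ((adj.counit.app G).hom.app (op V')) →
          IsIso ((adj.counit.app G).hom.app V) := by
        intro V' e hV'
        subst e
        exact hV'
      exact h2 _ (image_preimage hV) h1
    · have e1 := isEmpty_L adj ((U.sheafRestrict (C := Type u)).obj G) V.unop hV
      have e2 := isEmpty_of_stalk h V.unop hV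
      rw [isIso_iff_bijective]
      constructor
      · intro a
        exact e1.elim a
      · intro b
        exact e2.elim b
  have h3 : IsIso ((sheafToPresheaf _ _).map (adj.counit.app G)) :=
    (NatTrans.isIso_iff_isIso_app _).2 hall
  exact (fullyFaithfulSheafToPresheaf _ _).isIso_of_isIso_map (adj.counit.app G)

include adj in
theorem essImage_iff (G : X.Sheaf (Type u)) :
    L.essImage G ↔ ∀ x : X, x ∉ U → IsEmpty (G.presheaf.stalk x) := by
  constructor
  · rintro ⟨F, ⟨e⟩⟩
    apply isEmpty_stalk
    intro V hV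
    have h1 := isEmpty_L adj F V hV
    let e' : (L.obj F).obj.obj (op V) ≅ G.obj.obj (op V) :=
      ((sheafToPresheaf _ _).mapIso e).app (op V)
    exact ⟨fun s => h1.false (e'.inv s)⟩
  · intro h
    have := isIso_counit adj h
    exact ⟨_, ⟨asIso (adj.counit.app G)⟩⟩

end ExtEmpty
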