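import Mathlib

/-! Flat epimorphisms of commutative rings: faithfully flat epimorphisms are bijective, and a flat
epimorphism induces isomorphisms on local rings. -/

set_option autoImplicit false
universe u

open TensorProduct

namespace Groth.Agent.Lib.helper23.FlatEpi

/-- ring epimorphism tested against rings of the same universe -/
def IsEpiHom {A B : Type u} [CommRing A] [CommRing B] (f : A →+* B) : Prop :=
  ∀ (T : Type u) [CommRing T] (g₁ g₂ : B →+* T), g₁.comp f = g₂.comp f → g₁ = g₂

theorem exists_tmul_one {R S : Type u} [CommRing R] [CommRing S] [Algebra R S]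
    (hepi : ∀ s : S, (1 : S) ⊗ₜ[R] s = s ⊗ₜ[R] 1) (x : S ⊗[R] S) : ∃ a : S, x = a ⊗ₜ[R] 1 := by
  induction x using TensorProduct.induction_on with
  | zero => exact ⟨0, by simp⟩
  | tmul u v =>
    refine ⟨u * v, ?_⟩
    calc u ⊗ₜ[R] v = u ⊗ₜ[R] 1 * 1 ⊗ₜ[R] v := by simp
      _ = u ⊗ₜ[R] 1 * v ⊗ₜ[R] 1 := by rw [hepi]
      _ = (u * v) ⊗ₜ[R] 1 := by simp
  | add u v hu hv =>
    obtain ⟨u, rfl⟩ := hu
    obtain ⟨v, rfl⟩ := hv
    exact ⟨u + v, by simp [add_tmul]⟩

theorem bijective_of_faithfullyFlat_of_epi (R S : Type u) [CommRing R] [CommRing S] [Algebra R S]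
    [Module.FaithfullyFlat R S] (hepi : ∀ s : S, (1 : S) ⊗ₜ[R] s = s ⊗ₜ[R] 1) :
    Function.Bijective (algebraMap R S) := by
  have hb : Function.Bijective (Algebra.linearMap R S) := by
    rw [← Module.FaithfullyFlat.lTensor_bijective_iff_bijective R S]
    constructor
    · have hcomp : (TensorProduct.lift (LinearMap.mul R S)) ∘ₗ ((Algebra.linearMap R S).lTensor S) =
          (TensorProduct.rid R S).toLinearMap := by
        ext s
        simp
      intro x y hxy
      apply (TensorProduct.rid R S).injective
      have hx := congrArg (fun φ => φ x) hcomp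
      have hy := congrArg (fun φ => φ y) hcomp
      simp only [LinearMap.comp_apply, LinearEquiv.coe_coe] at hx hy
      rw [← hx, ← hy, hxy]
    · intro z
      obtain ⟨a, rfl⟩ := exists_tmul_one hepi z
      exact ⟨a ⊗ₜ[R] 1, by simp⟩
  exact hb

theorem bijective_localRingHom_of_flat_epi {A B : Type u} [CommRing A] [CommRing B] (f : A →+* B)
    (hflat : f.Flat) (hepi : IsEpiHom f) (P : Ideal B) [P.IsPrime] :
    Function.Bijective (Localization.localRingHom (P.comap f) P f rfl) := by
  letI : Algebra A B := f.toAlgebra
  haveI : Module.Flat A B := hflat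
  letI : Algebra (Localization.AtPrime (P.comap f)) (Localization.AtPrime P) :=
    (Localization.localRingHom (P.comap f) P f rfl).toAlgebra
  haveI : IsScalarTower A (Localization.AtPrime (P.comap f)) (Localization.AtPrime P) :=
    IsScalarTower.of_algebraMap_eq fun a => by
      rw [IsScalarTower.algebraMap_apply A B (Localization.AtPrime P)]
      exact (Localization.localRingHom_to_map (P.comap f) P f rfl a).symm
  haveI : Module.Flat A (Localization.AtPrime P) := Module.Flat.trans A B _
  haveI : Module.Flat (Localization.AtPrime (P.comap f)) (Localization.AtPrime P) :=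
    (Module.flat_iff_of_isLocalization (Localization.AtPrime (P.comap f)) (P.comap f).primeCompl _).2
      inferInstance
  haveI : IsLocalHom (algebraMap (Localization.AtPrime (P.comap f)) (Localization.AtPrime P)) :=
    Localization.isLocalHom_localRingHom (P.comap f) P f rfl
  haveI : Module.FaithfullyFlat (Localization.AtPrime (P.comap f)) (Localization.AtPrime P) :=
    Module.FaithfullyFlat.of_flat_of_isLocalHom
  have hepi' : ∀ s : Localization.AtPrime P,
      (1 : Localization.AtPrime P) ⊗ₜ[Localization.AtPrime (P.comap f)] s = s ⊗ₜ 1 := by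
    have heq : (Algebra.TensorProduct.includeRight :
          Localization.AtPrime P →ₐ[Localization.AtPrime (P.comap f)] _).toRingHom =
        (Algebra.TensorProduct.includeLeft :
          Localization.AtPrime P →ₐ[Localization.AtPrime (P.comap f)]
            Localization.AtPrime P ⊗[Localization.AtPrime (P.comap f)] Localization.AtPrime P).toRingHom := by
      apply IsLocalization.ringHom_ext P.primeCompl
      apply hepi
      ext a
      simp only [RingHom.comp_apply]
      have h1 : algebraMap B (Localization.AtPrime P) (f a) =
          algebraMap (Localization.AtPrime (P.comap f)) (Localization.AtPrime P)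
            (algebraMap A (Localization.AtPrime (P.comap f)) a) :=
        (Localization.localRingHom_to_map (P.comap f) P f rfl a).symm
      rw [h1]
      simp only [AlgHom.toRingHom_eq_coe, RingHom.coe_coe, AlgHom.commutes]
    intro s
    exact RingHom.congr_fun heq s
  exact bijective_of_faithfullyFlat_of_epi _ _ hepi'

end Groth.Agent.Lib.helper23.FlatEpi
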