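import Mathlib
import Groth.Prelude.Def_SchFin2

open TensorProduct

universe u v w

namespace Groth.Agent.Lib.helper23.SchFinLib

/-- Primes of `S` and `T` lying over the same prime of `R` come from a prime of `S ⊗[R] T`. -/
theorem exists_prime_tensor {R : Type u} {S : Type v} {T : Type w} [CommRing R] [CommRing S]
    [CommRing T] [Algebra R S] [Algebra R T]
    (P : PrimeSpectrum S) (Q : PrimeSpectrum T)
    (h : PrimeSpectrum.comap (algebraMap R S) P = PrimeSpectrum.comap (algebraMap R T) Q) :
    ∃ r : PrimeSpectrum (S ⊗[R] T),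
      PrimeSpectrum.comap (Algebra.TensorProduct.includeLeftRingHom : S →+* S ⊗[R] T) r = P ∧
      PrimeSpectrum.comap (Algebra.TensorProduct.includeRight : T →ₐ[R] S ⊗[R] T).toRingHom r = Q := by
  classical
  set p : Ideal R := P.asIdeal.comap (algebraMap R S) with hp
  have hpQ : p = Q.asIdeal.comap (algebraMap R T) := congrArg PrimeSpectrum.asIdeal h
  haveI : p.IsPrime := Ideal.IsPrime.comap _
  let K := p.ResidueField
  let fP : K →+* P.asIdeal.ResidueField :=
    Ideal.ResidueField.map p P.asIdeal (algebraMap R S) rfl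
  let fQ : K →+* Q.asIdeal.ResidueField :=
    Ideal.ResidueField.map p Q.asIdeal (algebraMap R T) hpQ
  letI : Algebra K P.asIdeal.ResidueField := fP.toAlgebra
  letI : Algebra K Q.asIdeal.ResidueField := fQ.toAlgebra
  let TT := P.asIdeal.ResidueField ⊗[K] Q.asIdeal.ResidueField
  haveI : Nontrivial TT :=
    Algebra.TensorProduct.nontrivial_of_algebraMap_injective_of_flat_left
      (R := K) P.asIdeal.ResidueField Q.asIdeal.ResidueField fQ.injective
  let gS : S →+* TT := (Algebra.TensorProduct.includeLeftRingHom).comp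
    (algebraMap S P.asIdeal.ResidueField)
  let gT : T →+* TT := (Algebra.TensorProduct.includeRight :
    Q.asIdeal.ResidueField →ₐ[K] TT).toRingHom.comp (algebraMap T Q.asIdeal.ResidueField)
  letI : Algebra R TT := (gS.comp (algebraMap R S)).toAlgebra
  have hcomm : ∀ a : R, gT (algebraMap R T a) = gS (algebraMap R S a) := by
    intro a
    have h1 : algebraMap S P.asIdeal.ResidueField (algebraMap R S a) =
        algebraMap K P.asIdeal.ResidueField (algebraMap R K a) :=
      (Ideal.ResidueField.map_algebraMap p P.asIdeal (algebraMap R S) rfl a).symm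
    have h2 : algebraMap T Q.asIdeal.ResidueField (algebraMap R T a) =
        algebraMap K Q.asIdeal.ResidueField (algebraMap R K a) :=
      (Ideal.ResidueField.map_algebraMap p Q.asIdeal (algebraMap R T) hpQ a).symm
    show (1 : P.asIdeal.ResidueField) ⊗ₜ[K] algebraMap T Q.asIdeal.ResidueField (algebraMap R T a) =
      algebraMap S P.asIdeal.ResidueField (algebraMap R S a) ⊗ₜ[K] (1 : Q.asIdeal.ResidueField)
    rw [h1, h2, Algebra.algebraMap_eq_smul_one, Algebra.algebraMap_eq_smul_one (A := P.asIdeal.ResidueField),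
      TensorProduct.tmul_smul, TensorProduct.smul_tmul']
  let aS : S →ₐ[R] TT := { gS with commutes' := fun a => rfl }
  let aT : T →ₐ[R] TT := { gT with commutes' := fun a => hcomm a }
  let Φ : S ⊗[R] T →ₐ[R] TT := Algebra.TensorProduct.productMap aS aT
  obtain ⟨m, hm⟩ := Ideal.exists_maximal TT
  let mm : PrimeSpectrum TT := ⟨m, hm.isPrime⟩
  refine ⟨PrimeSpectrum.comap Φ.toRingHom mm, ?_, ?_⟩
  · apply PrimeSpectrum.ext
    ext s
    show Φ (s ⊗ₜ 1) ∈ m ↔ s ∈ P.asIdeal
    have h1 : Φ (s ⊗ₜ 1) = gS s := by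
      simp [Φ, aS, aT]
    rw [h1]
    constructor
    · intro hs
      by_contra hsP
      have hne : algebraMap S P.asIdeal.ResidueField s ≠ 0 := by
        rw [Ne, Ideal.algebraMap_residueField_eq_zero]
        exact hsP
      have hu : IsUnit (gS s) := (IsUnit.mk0 _ hne).map
        (Algebra.TensorProduct.includeLeftRingHom : P.asIdeal.ResidueField →+* TT)
      exact hm.ne_top (Ideal.eq_top_of_isUnit_mem _ hs hu)
    · intro hs
      have h0 : algebraMap S P.asIdeal.ResidueField s = 0 :=
        Ideal.algebraMap_residueField_eq_zero.2 hs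
      show (Algebra.TensorProduct.includeLeftRingHom) (algebraMap S P.asIdeal.ResidueField s) ∈ m
      rw [h0, map_zero]
      exact m.zero_mem
  · apply PrimeSpectrum.ext
    ext t
    show Φ (1 ⊗ₜ t) ∈ m ↔ t ∈ Q.asIdeal
    have h1 : Φ (1 ⊗ₜ t) = gT t := by
      simp [Φ, aS, aT]
    rw [h1]
    constructor
    · intro hs
      by_contra hsP
      have hne : algebraMap T Q.asIdeal.ResidueField t ≠ 0 := by
        rw [Ne, Ideal.algebraMap_residueField_eq_zero]
        exact hsP
      have hu : IsUnit (gT t) := (IsUnit.mk0 _ hne).map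
        (Algebra.TensorProduct.includeRight : Q.asIdeal.ResidueField →ₐ[K] TT)
      exact hm.ne_top (Ideal.eq_top_of_isUnit_mem _ hs hu)
    · intro hs
      have h0 : algebraMap T Q.asIdeal.ResidueField t = 0 :=
        Ideal.algebraMap_residueField_eq_zero.2 hs
      show (Algebra.TensorProduct.includeRight : Q.asIdeal.ResidueField →ₐ[K] TT)
        (algebraMap T Q.asIdeal.ResidueField t) ∈ m
      rw [h0, map_zero]
      exact m.zero_mem

section Deg0

open SchFin

variable {X : RSpace.{u}} {U : Set X.pt}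

/-- the 0-chain at a point -/
def pointChain (p : U) : Chain U 0 :=
  OrderEmbedding.ofMapLEIff (fun _ => p) (fun a b => by
    have hab : a = b := Fin.ext (by have := a.isLt; have := b.isLt; omega)
    simp [hab])

@[simp] lemma pointChain_apply (p : U) (i : Fin 1) : pointChain p i = p := rfl

lemma chain0_eq (σ : Chain U 0) : σ = pointChain (σ (Fin.last 0)) := by
  apply DFunLike.ext
  intro i
  have hi : i = Fin.last 0 := Fin.ext (by have := i.isLt; simp)
  subst hi
  rfl

/-- the 1-chain `p < q` -/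
def chain2 (p q : U) (h : p.1 < q.1) : Chain U 1 :=
  OrderEmbedding.ofStrictMono ![p, q] (by
    intro a b hab
    fin_cases a <;> fin_cases b
    · exact absurd hab (lt_irrefl _)
    · exact h
    · exact absurd hab (by decide)
    · exact absurd hab (lt_irrefl _))

lemma chain2_face_zero (p q : U) (h : p.1 < q.1) : (chain2 p q h).face 0 = pointChain q := by
  apply DFunLike.ext
  intro i
  have hi : i = 0 := Fin.ext (by have := i.isLt; simp)
  subst hi
  rfl

lemma chain2_face_one (p q : U) (h : p.1 < q.1) : (chain2 p q h).face 1 = pointChain p := by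
  apply DFunLike.ext
  intro i
  have hi : i = 0 := Fin.ext (by have := i.isLt; simp)
  subst hi
  rfl

lemma chain2_last (p q : U) (h : p.1 < q.1) : (chain2 p q h) (Fin.last 1) = q := rfl

variable {R : Type u} [CommRing R] (φ : Coef X U R) (M : OMod X)

lemma cocycle0_faceVal (c : Cochain φ M 0) (hc : c ∈ cocycles φ M 0) (τ : Chain U 1) :
    c.faceVal τ 0 = c.faceVal τ 1 := by
  have h := congrFun (show diff φ M 0 c = 0 from hc) τ
  change (∑ j : Fin 2, ((-1 : ℤ) ^ (j : ℕ)) • c.faceVal τ j) = 0 at h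
  rw [Fin.sum_univ_two] at h
  have h' : c.faceVal τ 0 - c.faceVal τ 1 = 0 := by
    simpa [sub_eq_add_neg] using h
  exact sub_eq_zero.1 h'

lemma faceVal_of_face_eq (c : Cochain φ M 0) (τ : Chain U 1) (j : Fin 2) (p : U)
    (hp : τ.face j = pointChain p) (hle : p.1 ≤ (τ (Fin.last 1)).1) :
    c.faceVal τ j = M.res hle (c (pointChain p)) := by
  unfold Cochain.faceVal
  have key : ∀ (σ : Chain U 0) (h1 : (σ (Fin.last 0)).1 ≤ (τ (Fin.last 1)).1), σ = pointChain p →
      M.res h1 (c σ) = M.res hle (c (pointChain p)) := by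
    intro σ h1 hσ
    subst hσ
    rfl
  exact key _ _ hp

lemma cocycle0_compat (c : Cochain φ M 0) (hc : c ∈ cocycles φ M 0) (p q : U) (h : p.1 ≤ q.1) :
    M.res h (c (pointChain p)) = c (pointChain q) := by
  by_cases hpq : p = q
  · subst hpq
    exact M.res_self _ _
  · have h' : p.1 < q.1 := lt_of_le_of_ne h (fun e => hpq (Subtype.ext e))
    have h1 := cocycle0_faceVal φ M c hc (chain2 p q h')
    rw [faceVal_of_face_eq φ M c (chain2 p q h') 0 q (chain2_face_zero p q h') (le_refl _),
      faceVal_of_face_eq φ M c (chain2 p q h') 1 p (chain2_face_one p q h') h] at h1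
    exact h1.symm.trans (M.res_self _ _)

lemma mem_cocycles0_of_compat (c : Cochain φ M 0)
    (h : ∀ (p q : U) (h : p.1 ≤ q.1), M.res h (c (pointChain p)) = c (pointChain q)) :
    c ∈ cocycles φ M 0 := by
  show diff φ M 0 c = 0
  funext τ
  show (∑ j : Fin 2, ((-1 : ℤ) ^ (j : ℕ)) • c.faceVal τ j) = 0
  have key : ∀ j : Fin 2, c.faceVal τ j = c (pointChain (τ (Fin.last 1))) := by
    intro j
    rw [faceVal_of_face_eq φ M c τ j ((τ.face j) (Fin.last 0)) (chain0_eq _)
      (Chain.face_last_le j τ)]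
    exact h _ _ _
  rw [Fin.sum_univ_two, key, key]
  simp

/-- the ring map from coefficients to sections -/
def Coef.toSect : R →+* X.sectRing U where
  toFun a := ⟨fun q => φ.map q a, fun q q' h => φ.compat q q' h a⟩
  map_one' := by ext q; simp only [map_one]; rfl
  map_mul' a b := by ext q; simp only [map_mul]; rfl
  map_zero' := by ext q; simp only [map_zero]; rfl
  map_add' a b := by ext q; simp only [map_add]; rfl

/-- the section of the rings attached to a degree 0 cocycle -/
def secOfCocycle (c : cocycles φ X.str 0) : X.sectRing U :=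
  ⟨fun q => c.1 (pointChain q), fun q q' h => cocycle0_compat φ X.str c.1 c.2 q q' h⟩

/-- the degree 0 cocycle attached to a section of the rings -/
def cocycleOfSec (s : X.sectRing U) : cocycles φ X.str 0 :=
  ⟨fun σ => s.1 (σ (Fin.last 0)), mem_cocycles0_of_compat φ X.str _ (fun p q h => s.2 p q h)⟩

lemma secOfCocycle_cocycleOfSec (s : X.sectRing U) : secOfCocycle φ (cocycleOfSec φ s) = s := rfl

lemma cocycleOfSec_secOfCocycle (c : cocycles φ X.str 0) : cocycleOfSec φ (secOfCocycle φ c) = c := by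
  apply Subtype.ext
  funext σ
  show c.1 (pointChain (σ (Fin.last 0))) = c.1 σ
  have key : ∀ σ' : Chain U 0, σ = σ' → HEq (c.1 σ') (c.1 σ) := by
    intro σ' h
    subst h
    rfl
  exact eq_of_heq (key _ (chain0_eq σ))

lemma secOfCocycle_bijective : Function.Bijective (secOfCocycle φ) :=
  ⟨fun a b h => by rw [← cocycleOfSec_secOfCocycle φ a, h, cocycleOfSec_secOfCocycle],
    fun s => ⟨cocycleOfSec φ s, rfl⟩⟩

lemma secOfCocycle_add (c c' : cocycles φ X.str 0) :
    secOfCocycle φ (c + c') = secOfCocycle φ c + secOfCocycle φ c' := rfl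

lemma secOfCocycle_smul (a : R) (c : cocycles φ X.str 0) :
    secOfCocycle φ (a • c) = Coef.toSect φ a * secOfCocycle φ c := rfl

/-- degree 0 cohomology is the module of degree 0 cocycles -/
noncomputable def eH0 : H φ M 0 ≃ₗ[R] cocycles φ M 0 :=
  Submodule.quotEquivOfEqBot _ (by
    show (⊥ : Submodule R (Cochain φ M 0)).comap (cocycles φ M 0).subtype = ⊥
    rw [Submodule.comap_bot, Submodule.ker_subtype])

lemma eH0_mk (c : cocycles φ M 0) : eH0 φ M (H.mk φ M 0 c) = c :=
  Submodule.quotEquivOfEqBot_apply_mk _ _ c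

/-- sections from degree 0 cohomology classes -/
noncomputable def secOfH (h : H φ X.str 0) : X.sectRing U := secOfCocycle φ (eH0 φ X.str h)

lemma secOfH_mk (c : cocycles φ X.str 0) : secOfH φ (H.mk φ X.str 0 c) = secOfCocycle φ c := by
  unfold secOfH
  rw [eH0_mk]

lemma secOfH_bijective : Function.Bijective (secOfH φ) :=
  (secOfCocycle_bijective φ).comp (eH0 φ X.str).bijective

lemma secOfH_add (h h' : H φ X.str 0) : secOfH φ (h + h') = secOfH φ h + secOfH φ h' := by
  unfold secOfH
  rw [map_add, secOfCocycle_add]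

lemma secOfH_smul (a : R) (h : H φ X.str 0) :
    secOfH φ (a • h) = Coef.toSect φ a * secOfH φ h := by
  unfold secOfH
  rw [map_smul, secOfCocycle_smul]

end Deg0

section Main

open SchFin

lemma secOfH_zero {X : RSpace.{u}} {U : Set X.pt} {R : Type u} [CommRing R] (φ : Coef X U R) :
    secOfH φ (0 : H φ X.str 0) = 0 := by
  unfold secOfH
  rw [map_zero]
  rfl

/-- `resSect` is bijective when the base point belongs to the set -/
lemma resSect_bijective (X : RSpace.{u}) (y : X.pt) (U : Set X.pt) (hU : U ⊆ X.up y) (hy : y ∈ U) :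
    Function.Bijective (X.resSect y U hU) := by
  constructor
  · intro a b hab
    have h1 := congrArg (fun s : X.sectRing U => s.1 ⟨y, hy⟩) hab
    have h2 : X.res (le_refl y) a = X.res (le_refl y) b := h1
    rwa [X.res_self, X.res_self] at h2
  · intro s
    refine ⟨s.1 ⟨y, hy⟩, ?_⟩
    apply Subtype.ext
    funext q
    exact s.2 ⟨y, hy⟩ q (hU q.2)

theorem pairRel_of_comap_eq (X : RSpace.{u}) (hX : X.IsSchematic)
    (hff : ∀ s a b : X.pt, s ≤ a → s ≤ b → (X.up a ∩ X.up b).Nonempty →
      Module.FaithfullyFlat (X.sectRing (X.up a ∩ X.up b)) ((q : ↥(X.up a ∩ X.up b)) → X.ring q.1))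
    {s x y : X.pt} (hx : s ≤ x) (hy : s ≤ y) (P : PrimeSpectrum (X.ring x))
    (Q : PrimeSpectrum (X.ring y))
    (hPQ : PrimeSpectrum.comap (X.res hx) P = PrimeSpectrum.comap (X.res hy) Q) :
    X.PairRel ⟨x, P⟩ ⟨y, Q⟩ := by
  classical
  obtain ⟨_, _, hall⟩ := hX
  have hbc := (hall 0 s x hx y y (le_refl y)).1
  set U : Set X.pt := (Hom.id X).wedge s y with hUdef
  set U' : Set X.pt := (Hom.id X).wedge x y with hU'def
  have hUy : U ⊆ X.up y := fun q hq => hq.2
  have hyU : y ∈ U := ⟨hy, le_refl y⟩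
  have hU'y : U' ⊆ X.up y := fun q hq => hq.2
  have hU'x : U' ⊆ X.up x := fun q hq => hq.1
  set φ : Coef X U (X.ring s) := Coef.ofLE s U ((Hom.id X).wedge_subset_up s y) with hφ
  set φ' : Coef X U' (X.ring x) := Coef.ofLE x U' ((Hom.id X).wedge_subset_up x y) with hφ'
  unfold IsBCAlong at hbc
  letI : Algebra (X.ring s) (X.ring x) := (X.res hx).toAlgebra
  letI : Algebra (X.ring s) (X.ring y) := (X.res hy).toAlgebra
  letI : Module (X.ring s) (H φ' X.str 0) := Module.compHom (H φ' X.str 0) (X.res hx)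
  haveI : IsScalarTower (X.ring s) (X.ring x) (H φ' X.str 0) :=
    IsScalarTower.of_algebraMap_smul fun _ _ => rfl
  -- the identification of the ring of `y` with degree zero cohomology over `U`
  let α : X.ring y → H φ X.str 0 := fun b =>
    H.mk φ X.str 0 (cocycleOfSec φ (X.resSect y U hUy b))
  have hα : ∀ b, secOfH φ (α b) = X.resSect y U hUy b := by
    intro b
    show secOfH φ (H.mk φ X.str 0 _) = _
    rw [secOfH_mk]
    rfl
  have htoSect : ∀ r : X.ring s, Coef.toSect φ r = X.resSect y U hUy (X.res hy r) := by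
    intro r
    apply Subtype.ext
    funext q
    exact (X.res_comp hy (hUy q.2) r).symm
  let αlin : X.ring y →ₗ[X.ring s] H φ X.str 0 :=
    { toFun := α
      map_add' := fun a b => by
        apply (secOfH_bijective φ).1
        rw [secOfH_add, hα, hα, hα, map_add]
      map_smul' := fun r b => by
        apply (secOfH_bijective φ).1
        rw [RingHom.id_apply, secOfH_smul, hα, hα, htoSect, ← map_mul]
        rfl }
  have hαbij : Function.Bijective αlin := by
    constructor
    · intro a b hab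
      apply (resSect_bijective X y U hUy hyU).1
      rw [← hα, ← hα]
      exact congrArg (secOfH φ) hab
    · intro h
      obtain ⟨b, hb⟩ := (resSect_bijective X y U hUy hyU).2 (secOfH φ h)
      refine ⟨b, ?_⟩
      apply (secOfH_bijective φ).1
      show secOfH φ (α b) = _
      rw [hα, hb]
  let αe : X.ring y ≃ₗ[X.ring s] H φ X.str 0 := LinearEquiv.ofBijective αlin hαbij
  -- the assembled bijection
  let Ψ : X.ring x ⊗[X.ring s] X.ring y → X.sectRing U' := fun t =>
    secOfH φ' (hbc.equiv (LinearEquiv.lTensor (X.ring x) αe t))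
  have hΨbij : Function.Bijective Ψ :=
    (secOfH_bijective φ').comp (hbc.equiv.bijective.comp (LinearEquiv.lTensor (X.ring x) αe).bijective)
  -- the ring map
  letI : Algebra (X.ring s) (X.sectRing U') := ((X.resSect x U' hU'x).comp (X.res hx)).toAlgebra
  let f : X.ring x →ₐ[X.ring s] X.sectRing U' :=
    { X.resSect x U' hU'x with commutes' := fun a => rfl }
  let g : X.ring y →ₐ[X.ring s] X.sectRing U' :=
    { X.resSect y U' hU'y with
      commutes' := fun a => by
        apply Subtype.ext
        funext q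
        show X.res (hU'y q.2) (X.res hy a) = X.res (hU'x q.2) (X.res hx a)
        rw [X.res_comp, X.res_comp] }
  let ψ : X.ring x ⊗[X.ring s] X.ring y →ₐ[X.ring s] X.sectRing U' :=
    Algebra.TensorProduct.productMap f g
  have hΨψ : ∀ t, Ψ t = ψ t := by
    intro t
    induction t using TensorProduct.induction_on with
    | zero =>
        show secOfH φ' (hbc.equiv (LinearEquiv.lTensor (X.ring x) αe 0)) = ψ 0
        rw [map_zero, map_zero, map_zero, secOfH_zero]
    | tmul a b =>
        show secOfH φ' (hbc.equiv (LinearEquiv.lTensor (X.ring x) αe (a ⊗ₜ b))) = ψ (a ⊗ₜ b)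
        rw [LinearEquiv.lTensor_tmul, IsBaseChange.equiv_tmul, secOfH_smul,
          Algebra.TensorProduct.productMap_apply_tmul]
        rfl
    | add t t' ht ht' =>
        have h1 : Ψ (t + t') = Ψ t + Ψ t' := by
          show secOfH φ' (hbc.equiv (LinearEquiv.lTensor (X.ring x) αe (t + t'))) = _
          rw [map_add, map_add, secOfH_add]
        rw [h1, ht, ht', map_add]
  have hψbij : Function.Bijective ψ := by
    have : (ψ : _ → _) = Ψ := funext fun t => (hΨψ t).symm
    rw [this]
    exact hΨbij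
  -- the prime of the tensor product
  obtain ⟨r, hrP, hrQ⟩ := exists_prime_tensor (R := X.ring s) P Q hPQ
  let e : (X.ring x ⊗[X.ring s] X.ring y) ≃+* X.sectRing U' := RingEquiv.ofBijective ψ hψbij
  let 𝔟 : PrimeSpectrum (X.sectRing U') := PrimeSpectrum.comap (e.symm : _ →+* _) r
  have h𝔟 : PrimeSpectrum.comap (ψ : _ →+* _) 𝔟 = r := by
    apply PrimeSpectrum.ext
    ext t
    show e.symm (ψ t) ∈ r.asIdeal ↔ t ∈ r.asIdeal
    have : e.symm (ψ t) = t := e.symm_apply_apply t
    rw [this]
  have hne : (X.up x ∩ X.up y).Nonempty := by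
    by_contra hemp
    have h10 : (1 : X.sectRing U') = 0 :=
      Subtype.ext (funext fun q => absurd ⟨q.1, q.2⟩ hemp)
    exact 𝔟.2.ne_top ((Ideal.eq_top_iff_one _).2 (h10 ▸ 𝔟.asIdeal.zero_mem))
  haveI hffU : Module.FaithfullyFlat (X.sectRing U') ((q : ↥U') → X.ring q.1) := hff s x y hx hy hne
  obtain ⟨𝔠, h𝔠⟩ := PrimeSpectrum.comap_surjective_of_faithfullyFlat
    (A := X.sectRing U') (B := (q : ↥U') → X.ring q.1) 𝔟
  obtain ⟨z, rz, hrz⟩ := PrimeSpectrum.exists_comap_evalRingHom_eq 𝔠
  refine ⟨z.1, hU'x z.2, hU'y z.2, rz, ?_, ?_⟩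
  · rw [← hrP, ← h𝔟, ← h𝔠, ← hrz]
    apply PrimeSpectrum.ext
    ext a
    show X.res (hU'x z.2) a ∈ rz.asIdeal ↔ (ψ (a ⊗ₜ 1)).1 z ∈ rz.asIdeal
    have : (ψ (a ⊗ₜ 1)).1 z = X.res (hU'x z.2) a := by
      rw [Algebra.TensorProduct.productMap_apply_tmul, map_one, mul_one]
      rfl
    rw [this]
  · rw [← hrQ, ← h𝔟, ← h𝔠, ← hrz]
    apply PrimeSpectrum.ext
    ext b
    show X.res (hU'y z.2) b ∈ rz.asIdeal ↔ (ψ (1 ⊗ₜ b)).1 z ∈ rz.asIdeal
    have : (ψ (1 ⊗ₜ b)).1 z = X.res (hU'y z.2) b := by
      rw [Algebra.TensorProduct.productMap_apply_tmul, map_one, one_mul]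
      rfl
    rw [this]

end Main

end Groth.Agent.Lib.helper23.SchFinLib
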