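import Mathlib
import Groth.Agent.Lib.helper23.SchFinLib
import Groth.Agent.Lib.helper23.FlatEpi
import Groth.Agent.S15634

/-! Base change lemmas for `IsBCAlong` and geometric points of finite ringed posets. -/

set_option autoImplicit false

open TensorProduct

universe u v w

namespace Groth.Agent.Lib.helper23.SchFinLib

open Groth.Agent.Lib.helper23.FlatEpi

section Algebra

theorem tmul_comm_of_epi {R S : Type u} [CommRing R] [CommRing S] [Algebra R S]
    (hepi : IsEpiHom (algebraMap R S)) (s : S) : (1 : S) ⊗ₜ[R] s = s ⊗ₜ[R] 1 := by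
  have heq : (Algebra.TensorProduct.includeRight : S →ₐ[R] S ⊗[R] S).toRingHom =
      (Algebra.TensorProduct.includeLeft : S →ₐ[R] S ⊗[R] S).toRingHom := by
    apply hepi
    ext a
    simp only [RingHom.comp_apply, AlgHom.toRingHom_eq_coe, RingHom.coe_coe, AlgHom.commutes]
  exact RingHom.congr_fun heq s

/-- the canonical map `S ⊗[R] M → N` attached to a linear map `M → N` into an `S`-module -/
noncomputable def liftBC (R S : Type*) {M N : Type*} [CommRing R] [CommRing S] [Algebra R S]
    [AddCommGroup M] [AddCommGroup N] [Module R M] [Module R N] [Module S N] [IsScalarTower R S N]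
    (f : M →ₗ[R] N) : S ⊗[R] M →ₗ[R] N :=
  TensorProduct.lift (((Algebra.linearMap S (Module.End S (M →ₗ[R] N))).flip f).restrictScalars R)

lemma liftBC_tmul {R S M N : Type*} [CommRing R] [CommRing S] [Algebra R S]
    [AddCommGroup M] [AddCommGroup N] [Module R M] [Module R N] [Module S N] [IsScalarTower R S N]
    (f : M →ₗ[R] N) (s : S) (m : M) : liftBC R S f (s ⊗ₜ m) = s • f m := by
  simp [liftBC]

lemma isBaseChange_iff_liftBC {R S M N : Type*} [CommRing R] [CommRing S] [Algebra R S]
    [AddCommGroup M] [AddCommGroup N] [Module R M] [Module R N] [Module S N] [IsScalarTower R S N]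
    (f : M →ₗ[R] N) : IsBaseChange S f ↔ Function.Bijective (liftBC R S f) := Iff.rfl

lemma isBaseChange_of_subsingleton {R S M N : Type*} [CommRing R] [CommRing S] [Algebra R S]
    [AddCommGroup M] [AddCommGroup N] [Module R M] [Module R N] [Module S N] [IsScalarTower R S N]
    (f : M →ₗ[R] N) [Subsingleton (S ⊗[R] M)] [Subsingleton N] : IsBaseChange S f := by
  rw [isBaseChange_iff_liftBC]
  exact ⟨fun a b _ => Subsingleton.elim a b, fun b => ⟨0, Subsingleton.elim _ _⟩⟩

lemma isBaseChange_of_bijective_of_epi {R S : Type u} {M N : Type*} [CommRing R] [CommRing S]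
    [Algebra R S]
    [AddCommGroup M] [AddCommGroup N] [Module R M] [Module R N] [Module S N] [IsScalarTower R S N]
    (hepi : IsEpiHom (algebraMap R S)) (f : M →ₗ[R] N) (hf : Function.Bijective f) :
    IsBaseChange S f := by
  rw [isBaseChange_iff_liftBC]
  let fe : M ≃ₗ[R] N := LinearEquiv.ofBijective f hf
  have hfe : ∀ m, fe m = f m := fun m => rfl
  have key : ∀ z : S ⊗[R] M, z = (1 : S) ⊗ₜ[R] fe.symm (liftBC R S f z) := by
    intro z
    induction z using TensorProduct.induction_on with
    | zero => simp
    | tmul s m =>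
        rw [liftBC_tmul]
        let ℓ : S →ₗ[R] M := fe.symm.toLinearMap ∘ₗ
          ((LinearMap.toSpanSingleton S N (f m)).restrictScalars R)
        have hℓ : ∀ s' : S, ℓ s' = fe.symm (s' • f m) := fun s' => rfl
        have h1 := congrArg (LinearMap.lTensor S ℓ) (tmul_comm_of_epi hepi s)
        rw [LinearMap.lTensor_tmul, LinearMap.lTensor_tmul, hℓ, hℓ, one_smul, ← hfe,
          LinearEquiv.symm_apply_apply] at h1
        exact h1.symm
    | add a b ha hb =>
        rw [map_add, map_add, TensorProduct.tmul_add, ← ha, ← hb]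
  constructor
  · intro z z' hzz
    rw [key z, key z', hzz]
  · intro n
    refine ⟨(1 : S) ⊗ₜ[R] fe.symm n, ?_⟩
    rw [liftBC_tmul, one_smul, ← hfe, LinearEquiv.apply_symm_apply]

/-- A nontrivial fibre ring produces a prime in the fibre. -/
theorem exists_prime_of_nontrivial_tensor {R S Ω : Type*} [CommRing R] [CommRing S] [Field Ω]
    [Algebra R S] [Algebra R Ω] [Nontrivial (S ⊗[R] Ω)] :
    ∃ r : PrimeSpectrum S, (r.asIdeal.comap (algebraMap R S)) = RingHom.ker (algebraMap R Ω) := by
  obtain ⟨m, hm⟩ := Ideal.exists_maximal (S ⊗[R] Ω)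
  haveI := hm.isPrime
  refine ⟨⟨m.comap (Algebra.TensorProduct.includeLeftRingHom : S →+* S ⊗[R] Ω), inferInstance⟩, ?_⟩
  ext a
  show (algebraMap R S a) ⊗ₜ[R] (1 : Ω) ∈ m ↔ algebraMap R Ω a = 0
  have h1 : (algebraMap R S a) ⊗ₜ[R] (1 : Ω) = (1 : S) ⊗ₜ[R] (algebraMap R Ω a) := by
    rw [Algebra.algebraMap_eq_smul_one, Algebra.algebraMap_eq_smul_one, TensorProduct.smul_tmul]
  rw [h1]
  constructor
  · intro hmem
    by_contra hne
    have hu : IsUnit ((1 : S) ⊗ₜ[R] (algebraMap R Ω a)) :=
      (IsUnit.mk0 _ hne).map (Algebra.TensorProduct.includeRight : Ω →ₐ[R] S ⊗[R] Ω)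
    exact hm.ne_top (Ideal.eq_top_of_isUnit_mem _ hmem hu)
  · intro h0
    rw [h0, TensorProduct.tmul_zero]
    exact m.zero_mem

end Algebra

section Restr

open SchFin

variable {X : RSpace.{u}}

/-- restriction of sections of the rings to a smaller subset -/
def restrictSect {U U' : Set X.pt} (h : U' ⊆ U) (t : X.sectRing U) : X.sectRing U' :=
  ⟨fun q => t.1 ⟨q.1, h q.2⟩, fun q q' hqq => t.2 ⟨q.1, h q.2⟩ ⟨q'.1, h q'.2⟩ hqq⟩

lemma restrictSect_bijective {U U' : Set X.pt} (h : U' ⊆ U) (h' : U ⊆ U') :
    Function.Bijective (restrictSect (X := X) h) := by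
  constructor
  · intro t t' htt
    apply Subtype.ext
    funext q
    have := congrArg (fun r : X.sectRing U' => r.1 ⟨q.1, h' q.2⟩) htt
    exact this
  · intro r
    exact ⟨restrictSect h' r, rfl⟩

lemma secOfH_resH {U U' : Set X.pt} {R R' : Type u} [CommRing R] [CommRing R']
    {φ : Coef X U R} {φ' : Coef X U' R'} (s : Coef.Sub φ φ') (h : H φ X.str 0) :
    secOfH φ' (resH X.str s 0 h) = restrictSect s.le (secOfH φ h) := by
  obtain ⟨c, rfl⟩ := Submodule.mkQ_surjective _ h
  rfl

lemma resH_zero_bijective {U U' : Set X.pt} {R R' : Type u} [CommRing R] [CommRing R']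
    {φ : Coef X U R} {φ' : Coef X U' R'} (s : Coef.Sub φ φ') (hUU : U ⊆ U') :
    Function.Bijective (resH X.str s 0) := by
  have h1 : (secOfH φ') ∘ (resH X.str s 0) = (restrictSect s.le) ∘ (secOfH φ) :=
    funext fun h => secOfH_resH s h
  have h2 : Function.Bijective ((secOfH φ') ∘ (resH X.str s 0)) := by
    rw [h1]
    exact (restrictSect_bijective s.le hUU).comp (secOfH_bijective φ)
  exact (Function.Bijective.of_comp_iff' (secOfH_bijective φ') _).1 h2

lemma isEmpty_chain_of_isEmpty {U : Set X.pt} (hU : IsEmpty U) (n : ℕ) : IsEmpty (Chain U n) :=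
  ⟨fun σ => hU.elim (σ 0)⟩

lemma isEmpty_chain_succ_of_subsingleton {U : Set X.pt} (hU : Subsingleton U) (n : ℕ) :
    IsEmpty (Chain U (n + 1)) :=
  ⟨fun σ => by
    have h01 : σ 0 = σ 1 := Subsingleton.elim _ _
    have h := σ.injective h01
    exact absurd h (by simp)⟩

lemma subsingleton_H_of_isEmpty_chain {U : Set X.pt} {R : Type u} [CommRing R] (φ : Coef X U R)
    (M : OMod X) (n : ℕ) (hE : IsEmpty (Chain U n)) : Subsingleton (H φ M n) := by
  have h1 : Subsingleton (Cochain φ M n) := by
    unfold Cochain
    infer_instance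
  have h2 : Subsingleton (cocycles φ M n) := inferInstance
  unfold H
  infer_instance

lemma isBCAlong_of_subsingleton {R S : Type u} [CommRing R] [CommRing S] (g : R →+* S)
    {M N : Type u} [AddCommGroup M] [AddCommGroup N] [Module R M] [Module S N] (f : M →ₛₗ[g] N)
    [Subsingleton M] [Subsingleton N] : IsBCAlong g f := by
  unfold IsBCAlong
  letI : Algebra R S := g.toAlgebra
  letI : Module R N := Module.compHom N g
  haveI : IsScalarTower R S N := IsScalarTower.of_algebraMap_smul fun _ _ => rfl
  haveI : Subsingleton (S ⊗[R] M) := by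
    constructor
    intro a b
    have h0 : ∀ z : S ⊗[R] M, z = 0 := by
      intro z
      induction z using TensorProduct.induction_on with
      | zero => rfl
      | tmul x m => rw [Subsingleton.elim m 0, TensorProduct.tmul_zero]
      | add z z' hz hz' => rw [hz, hz', add_zero]
    rw [h0 a, h0 b]
  exact isBaseChange_of_subsingleton _

lemma isBCAlong_of_bijective_of_epi {R S : Type u} [CommRing R] [CommRing S] (g : R →+* S)
    (hepi : IsEpiHom g)
    {M N : Type u} [AddCommGroup M] [AddCommGroup N] [Module R M] [Module S N] (f : M →ₛₗ[g] N)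
    (hf : Function.Bijective f) : IsBCAlong g f := by
  unfold IsBCAlong
  letI : Algebra R S := g.toAlgebra
  letI : Module R N := Module.compHom N g
  haveI : IsScalarTower R S N := IsScalarTower.of_algebraMap_smul fun _ _ => rfl
  exact isBaseChange_of_bijective_of_epi (R := R) (S := S) hepi _ hf

end Restr

section GeomPtSec

open SchFin

variable {X : RSpace.{u}} {Ω : Type u} [Field Ω]

/-- the morphism from the one-point space given by a point and a ring map -/
def homOf (x : X.pt) (t : X.ring x →+* Ω) : Hom (RSpace.point Ω) X where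
  fn := fun _ => x
  mono := fun _ _ _ => le_refl x
  app := fun _ => t
  compat := fun h b => by
    show t b = t (X.res (le_refl x) b)
    rw [X.res_self]

theorem homOf_isSchematic (hX : X.IsSchematic)
    (hff : ∀ s a b : X.pt, s ≤ a → s ≤ b → (X.up a ∩ X.up b).Nonempty →
      Module.FaithfullyFlat (X.sectRing (X.up a ∩ X.up b)) ((q : ↥(X.up a ∩ X.up b)) → X.ring q.1))
    (a : X.Pair) (ha : ∀ b : X.Pair, X.PairRel a b → b.1 ≤ a.1)
    (t₀ : X.ring a.1 →+* Ω) (hker : RingHom.ker t₀ = a.2.asIdeal) :
    (homOf a.1 t₀).IsSchematic := by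
  classical
  have hsubPt : ∀ U : Set (RSpace.point Ω).pt, Subsingleton U := by
    intro U
    constructor
    rintro ⟨⟨⟩, _⟩ ⟨⟨⟩, _⟩
    rfl
  have hHsucc : ∀ (U : Set (RSpace.point Ω).pt) (R : Type u) [CommRing R]
      (φ : Coef (RSpace.point Ω) U R) (n : ℕ), Subsingleton (H φ (RSpace.point Ω).str (n + 1)) :=
    fun U R _ φ n => subsingleton_H_of_isEmpty_chain φ _ _
      (isEmpty_chain_succ_of_subsingleton (hsubPt U) n)
  have hHempty : ∀ (U : Set (RSpace.point Ω).pt) (R : Type u) [CommRing R]
      (φ : Coef (RSpace.point Ω) U R), IsEmpty U → Subsingleton (H φ (RSpace.point Ω).str 0) :=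
    fun U R _ φ hU => subsingleton_H_of_isEmpty_chain φ _ _ (isEmpty_chain_of_isEmpty hU 0)
  refine ⟨⟨fun _ => (inferInstance : IsNoetherianRing Ω), fun _ _ _ => RingHom.Flat.id Ω⟩, hX.1, ?_⟩
  intro n x x' hx y y' hy
  set f₀ := homOf a.1 t₀ with hf₀
  constructor
  · cases n with
    | zero =>
        apply isBCAlong_of_bijective_of_epi
        · intro T _ g₁ g₂ hg
          exact hg
        · exact resH_zero_bijective _ (fun q hq => ⟨trivial, hq.2⟩)
    | succ n =>
        haveI := hHsucc (f₀.wedge x y) _ (Coef.ofLE x (f₀.wedge x y) (f₀.wedge_subset_up x y)) n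
        haveI := hHsucc (f₀.wedge x' y) _ (Coef.ofLE x' (f₀.wedge x' y) (f₀.wedge_subset_up x' y)) n
        exact isBCAlong_of_subsingleton _ _
  · cases n with
    | zero =>
        by_cases hya' : y' ≤ a.1
        · apply isBCAlong_of_bijective_of_epi
          · intro T _ g₁ g₂ hg
            exact Groth.Agent.S15634.result X hX hy g₁ g₂ hg
          · exact resH_zero_bijective _ (fun q hq => ⟨hq.1, hya'⟩)
        · have hE' : IsEmpty (f₀.wedge x y') := ⟨fun q => hya' q.2.2⟩
          haveI hN := hHempty (f₀.wedge x y') _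
            (Coef.ofHom f₀ y' (f₀.wedge x y') (f₀.wedge_subset_pre x y')) hE'
          by_cases hya : y ≤ a.1
          · set φy := Coef.ofHom f₀ y (f₀.wedge x y) (f₀.wedge_subset_pre x y) with hφy
            unfold IsBCAlong
            letI : Algebra (X.ring y) (X.ring y') := (X.res hy).toAlgebra
            letI : Module (X.ring y) (H (Coef.ofHom f₀ y' (f₀.wedge x y') (f₀.wedge_subset_pre x y'))
                (RSpace.point Ω).str 0) := Module.compHom _ (X.res hy)
            haveI : IsScalarTower (X.ring y) (X.ring y')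
                (H (Coef.ofHom f₀ y' (f₀.wedge x y') (f₀.wedge_subset_pre x y'))
                  (RSpace.point Ω).str 0) :=
              IsScalarTower.of_algebraMap_smul fun _ _ => rfl
            letI : Algebra (X.ring y) Ω := (t₀.comp (X.res hya)).toAlgebra
            have hTΩ : Subsingleton (X.ring y' ⊗[X.ring y] Ω) := by
              by_contra hns
              haveI : Nontrivial (X.ring y' ⊗[X.ring y] Ω) := not_subsingleton_iff_nontrivial.1 hns
              obtain ⟨r', hr'⟩ := exists_prime_of_nontrivial_tensor
                (R := X.ring y) (S := X.ring y') (Ω := Ω)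
              have hPQ : PrimeSpectrum.comap (X.res hya) a.2 = PrimeSpectrum.comap (X.res hy) r' := by
                apply PrimeSpectrum.ext
                show a.2.asIdeal.comap (X.res hya) = r'.asIdeal.comap (X.res hy)
                rw [← hker]
                exact hr'.symm
              have hrel := pairRel_of_comap_eq X hX hff hya hy a.2 r' hPQ
              exact hya' (ha ⟨y', r'⟩ hrel)
            have hu : (PUnit.unit : (RSpace.point Ω).pt) ∈ f₀.wedge x y := ⟨trivial, hya⟩
            let ev : H φy (RSpace.point Ω).str 0 →ₗ[X.ring y] Ω :=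
              { toFun := fun h => (secOfH φy h).1 ⟨PUnit.unit, hu⟩
                map_add' := fun h h' => by
                  rw [secOfH_add]
                  rfl
                map_smul' := fun r h => by
                  rw [secOfH_smul]
                  rfl }
            have hevbij : Function.Bijective ev := by
              constructor
              · intro h h' hhh
                apply (secOfH_bijective φy).1
                apply Subtype.ext
                funext q
                have hq : q = ⟨PUnit.unit, hu⟩ := Subsingleton.elim _ _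
                rw [hq]
                exact hhh
              · intro ω
                obtain ⟨h, hh⟩ := (secOfH_bijective φy).2
                  ⟨fun _ => ω, fun q q' hqq => rfl⟩
                refine ⟨h, ?_⟩
                show (secOfH φy h).1 ⟨PUnit.unit, hu⟩ = ω
                rw [hh]
            let eve : H φy (RSpace.point Ω).str 0 ≃ₗ[X.ring y] Ω := LinearEquiv.ofBijective ev hevbij
            haveI : Subsingleton (X.ring y' ⊗[X.ring y] H φy (RSpace.point Ω).str 0) :=
              (LinearEquiv.lTensor (X.ring y') eve).toEquiv.subsingleton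
            exact isBaseChange_of_subsingleton _
          · have hE : IsEmpty (f₀.wedge x y) := ⟨fun q => hya q.2.2⟩
            haveI hM := hHempty (f₀.wedge x y) _
              (Coef.ofHom f₀ y (f₀.wedge x y) (f₀.wedge_subset_pre x y)) hE
            exact isBCAlong_of_subsingleton _ _
    | succ n =>
        haveI := hHsucc (f₀.wedge x y) _
          (Coef.ofHom f₀ y (f₀.wedge x y) (f₀.wedge_subset_pre x y)) n
        haveI := hHsucc (f₀.wedge x y') _
          (Coef.ofHom f₀ y' (f₀.wedge x y') (f₀.wedge_subset_pre x y')) n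
        exact isBCAlong_of_subsingleton _ _

end GeomPtSec

end Groth.Agent.Lib.helper23.SchFinLib
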