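import Mathlib
import Groth.Prelude.Def_SchFin2
import Groth.Agent.Lib.helper23.BCRing
import Groth.Agent.Lib.helper23.SchFinLib2

/-! Étale covers of finite ringed posets: quasi-coherence in ring form, pushouts. -/

set_option autoImplicit false

open TensorProduct CategoryTheory

universe u

namespace Groth.Agent.Lib.helper23.FEtLib

open SchFin
open Groth.Agent.Lib.helper23.PushoutAlg Groth.Agent.Lib.helper23.BCRing
open Groth.Agent.Lib.helper23.SchFinLib

variable {X : RSpace.{u}}

/-- quasi-coherence of an algebra along `p ≤ q` in ring form -/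
theorem isBCAlong_iff_isBCRing (A : Alg X) {p q : X.pt} (h : p ≤ q) :
    IsBCAlong (X.res h) (A.toMod.res h) ↔ IsBCRing (X.res h) (A.res h) := by
  have hσ : ∀ r, algebraMap (X.ring q) (A.carrier q) (X.res h r) =
      A.res h (algebraMap (X.ring p) (A.carrier p) r) := fun r => (A.res_algebraMap h r).symm
  unfold IsBCAlong
  letI : Algebra (X.ring p) (X.ring q) := (X.res h).toAlgebra
  letI : Module (X.ring p) (A.carrier q) := Module.compHom (A.carrier q) (X.res h)
  haveI : IsScalarTower (X.ring p) (X.ring q) (A.carrier q) :=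
    IsScalarTower.of_algebraMap_smul fun _ _ => rfl
  let lin' : A.carrier p →ₗ[X.ring p] A.carrier q :=
    { toFun := A.res h
      map_add' := map_add _
      map_smul' := fun r a => by
        rw [Algebra.smul_def, map_mul, A.res_algebraMap]
        show _ = (X.res h r) • A.res h a
        rw [Algebra.smul_def] }
  change IsBaseChange (X.ring q) lin' ↔ _
  rw [isBaseChange_iff_liftBC]
  let F₁ : BCT (X.res h) (A.carrier p) → A.carrier q :=
    fun z => liftBC (X.ring p) (X.ring q) lin' z
  let F₂ : BCT (X.res h) (A.carrier p) → A.carrier q :=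
    fun z => BCT.desc (ρ := X.res h) (algebraMap (X.ring q) (A.carrier q)) (A.res h) hσ z
  have hfun : ∀ z : BCT (X.res h) (A.carrier p), F₁ z = F₂ z := by
    intro z
    induction z using BCT.induction_on with
    | zero =>
        have h1 : F₁ 0 = 0 := (liftBC (X.ring p) (X.ring q) lin').map_zero
        have h2 : F₂ 0 = 0 := map_zero _
        rw [h1, h2]
    | mul b a =>
        have e : (BCT.inl (X.res h) (A.carrier p) b * BCT.inr (X.res h) (A.carrier p) a :
            BCT (X.res h) (A.carrier p)) =
            (b ⊗ₜ[X.ring p] a : X.ring q ⊗[X.ring p] A.carrier p) := by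
          show (b ⊗ₜ[X.ring p] (1 : A.carrier p)) * ((1 : X.ring q) ⊗ₜ[X.ring p] a) = b ⊗ₜ[X.ring p] a
          rw [Algebra.TensorProduct.tmul_mul_tmul, mul_one, one_mul]
        have h1 : F₁ (BCT.inl (X.res h) (A.carrier p) b * BCT.inr (X.res h) (A.carrier p) a) =
            algebraMap (X.ring q) (A.carrier q) b * A.res h a :=
          calc F₁ (BCT.inl (X.res h) (A.carrier p) b * BCT.inr (X.res h) (A.carrier p) a)
              = F₁ (b ⊗ₜ[X.ring p] a : X.ring q ⊗[X.ring p] A.carrier p) := congrArg F₁ e
            _ = b • lin' a := liftBC_tmul lin' b a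
            _ = algebraMap (X.ring q) (A.carrier q) b * A.res h a := Algebra.smul_def _ _
        have h2 : F₂ (BCT.inl (X.res h) (A.carrier p) b * BCT.inr (X.res h) (A.carrier p) a) =
            algebraMap (X.ring q) (A.carrier q) b * A.res h a := by
          show BCT.desc (ρ := X.res h) (algebraMap (X.ring q) (A.carrier q)) (A.res h) hσ _ = _
          rw [map_mul, BCT.desc_inl, BCT.desc_inr]
        rw [h1, h2]
    | add x y hx hy =>
        have h1 : F₁ (x + y) = F₁ x + F₁ y := (liftBC (X.ring p) (X.ring q) lin').map_add x y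
        have h2 : F₂ (x + y) = F₂ x + F₂ y := map_add _ x y
        rw [h1, h2, hx, hy]
  have hfun' : F₁ = F₂ := funext hfun
  constructor
  · intro hb
    refine ⟨hσ, ?_⟩
    change Function.Bijective F₂
    rw [← hfun']
    exact hb
  · rintro ⟨hσ', hb⟩
    change Function.Bijective F₁
    rw [hfun']
    exact hb

theorem isQcoh_iff (A : Alg X) :
    A.IsQcoh ↔ ∀ (p q : X.pt) (h : p ≤ q), IsBCRing (X.res h) (A.res h) := by
  constructor
  · intro hA p q h
    exact (isBCAlong_iff_isBCRing A h).1 (hA p q h)
  · intro hA p q h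
    exact (isBCAlong_iff_isBCRing A h).2 (hA p q h)

section Pushout

variable {C A B : Alg X} (f : C ⟶ A) (g : C ⟶ B)

/-- the pointwise pushout of algebras -/
noncomputable def poAlg : Alg X where
  carrier p := PO (f.app p).toRingHom (g.app p).toRingHom
  instRing p := inferInstance
  instAlg p := inferInstance
  res {p q} h := POmap (f.app p).toRingHom (g.app p).toRingHom (f.app q).toRingHom
    (g.app q).toRingHom (C.res h) (A.res h) (B.res h)
    (fun c => (f.compat h c).symm) (fun c => (g.compat h c).symm)
  res_algebraMap {p q} h a := by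
    rw [algebraMap_eq, algebraMap_eq, POmap_inl, A.res_algebraMap]
  res_self p b := by
    have : POmap (f.app p).toRingHom (g.app p).toRingHom (f.app p).toRingHom
        (g.app p).toRingHom (C.res (le_refl p)) (A.res (le_refl p)) (B.res (le_refl p))
        (fun c => (f.compat (le_refl p) c).symm) (fun c => (g.compat (le_refl p) c).symm) =
        RingHom.id _ := by
      apply hom_ext
      · ext a
        simp only [RingHom.comp_apply, RingHom.id_apply]
        rw [POmap_inl, A.res_self]
      · ext b
        simp only [RingHom.comp_apply, RingHom.id_apply]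
        rw [POmap_inr, B.res_self]
    exact RingHom.congr_fun this b
  res_comp {p q s} h h' b := by
    have : (POmap (f.app q).toRingHom (g.app q).toRingHom (f.app s).toRingHom
        (g.app s).toRingHom (C.res h') (A.res h') (B.res h')
        (fun c => (f.compat h' c).symm) (fun c => (g.compat h' c).symm)).comp
        (POmap (f.app p).toRingHom (g.app p).toRingHom (f.app q).toRingHom
        (g.app q).toRingHom (C.res h) (A.res h) (B.res h)
        (fun c => (f.compat h c).symm) (fun c => (g.compat h c).symm)) =
        POmap (f.app p).toRingHom (g.app p).toRingHom (f.app s).toRingHom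
        (g.app s).toRingHom (C.res (h.trans h')) (A.res (h.trans h')) (B.res (h.trans h'))
        (fun c => (f.compat (h.trans h') c).symm) (fun c => (g.compat (h.trans h') c).symm) := by
      apply hom_ext
      · ext a
        simp only [RingHom.comp_apply]
        rw [POmap_inl, POmap_inl, POmap_inl, A.res_comp]
      · ext b
        simp only [RingHom.comp_apply]
        rw [POmap_inr, POmap_inr, POmap_inr, B.res_comp]
    exact RingHom.congr_fun this b

lemma poAlg_isQcoh (hC : C.IsQcoh) (hA : A.IsQcoh) (hB : B.IsQcoh) : (poAlg f g).IsQcoh := by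
  rw [isQcoh_iff] at hC hA hB ⊢
  intro p q h
  exact isBCRing_POmap (X.res h) (f.app p).toRingHom (g.app p).toRingHom (f.app q).toRingHom
    (g.app q).toRingHom (C.res h) (A.res h) (B.res h)
    (fun r => (f.app p).commutes r) (fun r => (g.app p).commutes r)
    (fun r => (f.app q).commutes r) (fun r => (g.app q).commutes r)
    (fun c => (f.compat h c).symm) (fun c => (g.compat h c).symm) (hC p q h) (hA p q h) (hB p q h)

lemma poAlg_isEtCover (hC : C.IsEtCover) (hA : A.IsEtCover) (hB : B.IsEtCover) :
    (poAlg f g).IsEtCover := by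
  refine ⟨poAlg_isQcoh f g hC.1 hA.1 hB.1, fun p => ?_⟩
  haveI := (hA.2 p).1
  haveI := (hB.2 p).1
  haveI := (hA.2 p).2
  haveI := (hB.2 p).2
  haveI := (hC.2 p).2
  exact ⟨finite_PO (R := X.ring p) (f.app p).toRingHom (g.app p).toRingHom
      (fun r => (f.app p).commutes r) (fun r => (g.app p).commutes r),
    etale_PO (R := X.ring p) (f.app p).toRingHom (g.app p).toRingHom
      (fun r => (f.app p).commutes r) (fun r => (g.app p).commutes r)⟩

lemma poRes_inl {p q : X.pt} (h : p ≤ q) (a : A.carrier p) :
    (poAlg f g).res h (inl (f.app p).toRingHom (g.app p).toRingHom a) =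
      inl (f.app q).toRingHom (g.app q).toRingHom (A.res h a) :=
  POmap_inl (f.app p).toRingHom (g.app p).toRingHom (f.app q).toRingHom
    (g.app q).toRingHom (C.res h) (A.res h) (B.res h)
    (fun c => (f.compat h c).symm) (fun c => (g.compat h c).symm) a

lemma poRes_inr {p q : X.pt} (h : p ≤ q) (b : B.carrier p) :
    (poAlg f g).res h (inr (f.app p).toRingHom (g.app p).toRingHom b) =
      inr (f.app q).toRingHom (g.app q).toRingHom (B.res h b) :=
  POmap_inr (f.app p).toRingHom (g.app p).toRingHom (f.app q).toRingHom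
    (g.app q).toRingHom (C.res h) (A.res h) (B.res h)
    (fun c => (f.compat h c).symm) (fun c => (g.compat h c).symm) b

/-- the left inclusion into the pushout -/
noncomputable def poInl : A ⟶ poAlg f g where
  app p := inlₐ (f.app p).toRingHom (g.app p).toRingHom
  compat {p q} h a := poRes_inl f g h a

/-- the right inclusion into the pushout -/
noncomputable def poInr : B ⟶ poAlg f g where
  app p := inrₐ (f.app p).toRingHom (g.app p).toRingHom
    (fun r => (f.app p).commutes r) (fun r => (g.app p).commutes r)
  compat {p q} h b := poRes_inr f g h b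

lemma poInl_app (p : X.pt) (a : A.carrier p) :
    (poInl f g).app p a = inl (f.app p).toRingHom (g.app p).toRingHom a := rfl

lemma poInr_app (p : X.pt) (b : B.carrier p) :
    (poInr f g).app p b = inr (f.app p).toRingHom (g.app p).toRingHom b := rfl

lemma comp_app {A₁ A₂ A₃ : Alg X} (u : A₁ ⟶ A₂) (v : A₂ ⟶ A₃) (p : X.pt) (a : A₁.carrier p) :
    (u ≫ v).app p a = v.app p (u.app p a) := rfl

lemma po_condition : f ≫ poInl f g = g ≫ poInr f g := by
  apply Alg.hom_ext
  intro p
  apply AlgHom.ext
  intro c
  rw [comp_app, comp_app, poInl_app, poInr_app]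
  exact inl_f_apply (f.app p).toRingHom (g.app p).toRingHom c

lemma app_congr {A₁ A₂ : Alg X} {u v : A₁ ⟶ A₂} (h : u = v) (p : X.pt) (a : A₁.carrier p) :
    u.app p a = v.app p a := by rw [h]

lemma po_cond {T : Alg X} (u : A ⟶ T) (v : B ⟶ T) (h : f ≫ u = g ≫ v) (p : X.pt)
    (c : C.carrier p) :
    (u.app p) ((f.app p).toRingHom c) = (v.app p) ((g.app p).toRingHom c) :=
  app_congr h p c

lemma po_cond' {T : Alg X} (u : A ⟶ T) (v : B ⟶ T) (h : f ≫ u = g ≫ v) (p : X.pt) :
    (u.app p : A.carrier p →+* T.carrier p).comp (f.app p).toRingHom =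
      (v.app p : B.carrier p →+* T.carrier p).comp (g.app p).toRingHom :=
  RingHom.ext fun c => po_cond f g u v h p c

/-- the universal map out of the pushout -/
noncomputable def poDesc {T : Alg X} (u : A ⟶ T) (v : B ⟶ T) (h : f ≫ u = g ≫ v) : poAlg f g ⟶ T where
  app p := descₐ (f.app p).toRingHom (g.app p).toRingHom (u.app p) (v.app p)
    (fun c => po_cond f g u v h p c)
  compat {p q} hpq z := by
    have hcomp : (T.res hpq).comp (desc (f := (f.app p).toRingHom) (g := (g.app p).toRingHom)
          (u.app p : A.carrier p →+* T.carrier p) (v.app p : B.carrier p →+* T.carrier p)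
          (po_cond' f g u v h p)) =
        (desc (f := (f.app q).toRingHom) (g := (g.app q).toRingHom)
          (u.app q : A.carrier q →+* T.carrier q) (v.app q : B.carrier q →+* T.carrier q)
          (po_cond' f g u v h q)).comp
          (POmap (f.app p).toRingHom (g.app p).toRingHom (f.app q).toRingHom
            (g.app q).toRingHom (C.res hpq) (A.res hpq) (B.res hpq)
            (fun c => (f.compat hpq c).symm) (fun c => (g.compat hpq c).symm)) := by
      apply hom_ext
      · ext a
        rw [RingHom.comp_apply, RingHom.comp_apply, RingHom.comp_apply, RingHom.comp_apply,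
          desc_inl, POmap_inl, desc_inl]
        exact u.compat hpq a
      · ext b
        rw [RingHom.comp_apply, RingHom.comp_apply, RingHom.comp_apply, RingHom.comp_apply,
          desc_inr, POmap_inr, desc_inr]
        exact v.compat hpq b
    exact RingHom.congr_fun hcomp z

lemma poDesc_app_inl {T : Alg X} (u : A ⟶ T) (v : B ⟶ T) (h : f ≫ u = g ≫ v) (p : X.pt)
    (a : A.carrier p) :
    (poDesc f g u v h).app p (inl (f.app p).toRingHom (g.app p).toRingHom a) = u.app p a :=
  descₐ_inl (f.app p).toRingHom (g.app p).toRingHom (u.app p) (v.app p)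
    (fun c => po_cond f g u v h p c) a

lemma poDesc_app_inr {T : Alg X} (u : A ⟶ T) (v : B ⟶ T) (h : f ≫ u = g ≫ v) (p : X.pt)
    (b : B.carrier p) :
    (poDesc f g u v h).app p (inr (f.app p).toRingHom (g.app p).toRingHom b) = v.app p b :=
  descₐ_inr (f.app p).toRingHom (g.app p).toRingHom (u.app p) (v.app p)
    (fun c => po_cond f g u v h p c) b

lemma poInl_desc {T : Alg X} (u : A ⟶ T) (v : B ⟶ T) (h : f ≫ u = g ≫ v) :
    poInl f g ≫ poDesc f g u v h = u := by
  apply Alg.hom_ext
  intro p
  apply AlgHom.ext
  intro a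
  rw [comp_app, poInl_app, poDesc_app_inl]

lemma poInr_desc {T : Alg X} (u : A ⟶ T) (v : B ⟶ T) (h : f ≫ u = g ≫ v) :
    poInr f g ≫ poDesc f g u v h = v := by
  apply Alg.hom_ext
  intro p
  apply AlgHom.ext
  intro b
  rw [comp_app, poInr_app, poDesc_app_inr]

lemma po_hom_ext {T : Alg X} {m m' : poAlg f g ⟶ T} (h1 : poInl f g ≫ m = poInl f g ≫ m')
    (h2 : poInr f g ≫ m = poInr f g ≫ m') : m = m' := by
  apply Alg.hom_ext
  intro p
  apply algHom_ext (R := X.ring p) (f.app p).toRingHom (g.app p).toRingHom
  · intro a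
    have := app_congr h1 p a
    rw [comp_app, comp_app, poInl_app] at this
    exact this
  · intro b
    have := app_congr h2 p b
    rw [comp_app, comp_app, poInr_app] at this
    exact this

end Pushout

section Initial

lemma str_isEtCover (X : RSpace.{u}) : (Alg.str X).IsEtCover := by
  refine ⟨?_, fun p => ⟨?_, ?_⟩⟩
  · rw [isQcoh_iff]
    intro p q h
    apply isBCRing_of_universal (ρ := X.res h) (σ := (Alg.str X).res h) (fun r => rfl)
    · exact ⟨BCT.inl (X.res h) (X.ring p), fun b => rfl,
        fun a => BCT.inl_rho (X.res h) (X.ring p) a⟩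
    · intro w w' h1 _
      exact RingHom.ext h1
  · show Module.Finite (X.ring p) (X.ring p)
    infer_instance
  · show Algebra.Etale (X.ring p) (X.ring p)
    infer_instance

/-- the unique morphism from the structure algebra -/
def strHom (A : Alg X) : Alg.str X ⟶ A where
  app p := Algebra.ofId (X.ring p) (A.carrier p)
  compat h a := A.res_algebraMap h a

lemma strHom_unique (A : Alg X) (m : Alg.str X ⟶ A) : m = strHom A := by
  apply Alg.hom_ext
  intro p
  apply AlgHom.ext
  intro a
  exact (m.app p).commutes a

theorem hasInitial_FEt (X : RSpace.{u}) : Limits.HasInitial (FEt X) := by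
  let I : FEt X := ⟨Alg.str X, str_isEtCover X⟩
  haveI : ∀ Y : FEt X, Nonempty (I ⟶ Y) := fun Y => ⟨ObjectProperty.homMk (strHom Y.obj)⟩
  haveI : ∀ Y : FEt X, Subsingleton (I ⟶ Y) := fun Y =>
    ⟨fun m m' => ObjectProperty.hom_ext _
      ((strHom_unique Y.obj m.hom).trans (strHom_unique Y.obj m'.hom).symm)⟩
  exact Limits.hasInitial_of_unique I

theorem hasColimit_span_FEt {C A B : FEt X} (f : C ⟶ A) (g : C ⟶ B) :
    Limits.HasColimit (Limits.span f g) := by
  let D : FEt X := ⟨poAlg f.hom g.hom, poAlg_isEtCover f.hom g.hom C.property A.property B.property⟩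
  let il : A ⟶ D := ObjectProperty.homMk (poInl f.hom g.hom)
  let ir : B ⟶ D := ObjectProperty.homMk (poInr f.hom g.hom)
  have hcond : f ≫ il = g ≫ ir := ObjectProperty.hom_ext _ (po_condition f.hom g.hom)
  have hs : ∀ s : Limits.PushoutCocone f g, f.hom ≫ s.inl.hom = g.hom ≫ s.inr.hom := fun s =>
    congrArg (fun w => w.hom) s.condition
  refine ⟨⟨⟨Limits.PushoutCocone.mk il ir hcond, Limits.PushoutCocone.IsColimit.mk hcond
    (fun s => ObjectProperty.homMk (poDesc f.hom g.hom s.inl.hom s.inr.hom (hs s))) ?_ ?_ ?_⟩⟩⟩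
  · intro s
    exact ObjectProperty.hom_ext _ (poInl_desc f.hom g.hom s.inl.hom s.inr.hom (hs s))
  · intro s
    exact ObjectProperty.hom_ext _ (poInr_desc f.hom g.hom s.inl.hom s.inr.hom (hs s))
  · intro s m h1 h2
    apply ObjectProperty.hom_ext
    apply po_hom_ext f.hom g.hom
    · refine Eq.trans ?_ (poInl_desc f.hom g.hom s.inl.hom s.inr.hom (hs s)).symm
      exact congrArg (fun w => w.hom) h1
    · refine Eq.trans ?_ (poInr_desc f.hom g.hom s.inl.hom s.inr.hom (hs s)).symm
      exact congrArg (fun w => w.hom) h2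

theorem hasPushouts_FEt (X : RSpace.{u}) : Limits.HasPushouts (FEt X) := by
  haveI : ∀ {C A B : FEt X} {f : C ⟶ A} {g : C ⟶ B}, Limits.HasColimit (Limits.span f g) := by
    intro C A B f g
    exact hasColimit_span_FEt f g
  exact Limits.hasPushouts_of_hasColimit_span (FEt X)

end Initial

end Groth.Agent.Lib.helper23.FEtLib
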