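import Mathlib
import Groth.Agent.Lib.helper23.BCRing

/-! Products of étale algebras and their base change. -/

set_option autoImplicit false

open TensorProduct

universe u

namespace Groth.Agent.Lib.helper23.ProdAlg

open Groth.Agent.Lib.helper23.BCRing

section Etale

variable (R : Type u) [CommRing R] (A B : Type u) [CommRing A] [CommRing B] [Algebra R A] [Algebra R B]

/-- the two-element family -/
def Fam : Bool → Type u := fun b => cond b A B

instance instCommRingFam : ∀ b, CommRing (Fam A B b)
  | true => (inferInstance : CommRing A)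
  | false => (inferInstance : CommRing B)

instance instAlgebraFam : ∀ b, Algebra R (Fam A B b)
  | true => (inferInstance : Algebra R A)
  | false => (inferInstance : Algebra R B)

/-- the product as a product over `Bool` -/
def piEquivProd : (Π b, Fam A B b) ≃ₐ[R] A × B where
  toFun x := (x true, x false)
  invFun y := fun b => match b with
    | true => y.1
    | false => y.2
  left_inv x := by
    funext b
    cases b <;> rfl
  right_inv y := rfl
  map_mul' x y := rfl
  map_add' x y := rfl
  commutes' r := rfl

theorem etale_prod [Algebra.Etale R A] [Algebra.Etale R B] : Algebra.Etale R (A × B) := by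
  haveI : ∀ b, Algebra.Etale R (Fam A B b) := fun b => by
    cases b
    · exact (inferInstance : Algebra.Etale R B)
    · exact (inferInstance : Algebra.Etale R A)
  exact Algebra.Etale.of_equiv (piEquivProd R A B)

/-- the zero algebra is étale -/
theorem etale_punit : Algebra.Etale R PUnit.{u+1} := by
  let e : (Π _ : PEmpty.{1}, R) ≃ₐ[R] PUnit.{u+1} :=
    { toFun := fun _ => PUnit.unit
      invFun := fun _ i => i.elim
      left_inv := fun x => by funext i; exact i.elim
      right_inv := fun y => rfl
      map_mul' := fun _ _ => rfl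
      map_add' := fun _ _ => rfl
      commutes' := fun _ => rfl }
  exact Algebra.Etale.of_equiv e

end Etale

section BC

variable {R R' : Type u} [CommRing R] [CommRing R'] (ρ : R →+* R')
variable {A B A' B' : Type u} [CommRing A] [CommRing B] [CommRing A'] [CommRing B']
  [Algebra R A] [Algebra R B] [Algebra R' A'] [Algebra R' B']
variable (σA : A →+* A') (σB : B →+* B')

theorem isBCRing_prod (hA : IsBCRing ρ σA) (hB : IsBCRing ρ σB) :
    IsBCRing ρ (RingHom.prodMap σA σB) := by
  obtain ⟨hσA, hbA⟩ := hA
  obtain ⟨hσB, hbB⟩ := hB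
  have hσ : ∀ r, algebraMap R' (A' × B') (ρ r) =
      (RingHom.prodMap σA σB) (algebraMap R (A × B) r) := by
    intro r
    show (algebraMap R' A' (ρ r), algebraMap R' B' (ρ r)) =
      (σA (algebraMap R A r), σB (algebraMap R B r))
    rw [hσA, hσB]
  refine ⟨hσ, ?_⟩
  letI : Algebra R R' := ρ.toAlgebra
  set θA := BCT.desc (ρ := ρ) (algebraMap R' A') σA hσA with hθA
  set θB := BCT.desc (ρ := ρ) (algebraMap R' B') σB hσB with hθB
  set θ := BCT.desc (ρ := ρ) (algebraMap R' (A' × B')) (RingHom.prodMap σA σB) hσ with hθ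
  let E : R' ⊗[R] (A × B) ≃ₗ[R'] (R' ⊗[R] A) × (R' ⊗[R] B) := TensorProduct.prodRight R R' R' A B
  let G : BCT ρ (A × B) → A' × B' := fun z => (θA (E z).1, θB (E z).2)
  have hG : ∀ z, θ z = G z := by
    intro z
    induction z using BCT.induction_on with
    | zero =>
        show θ 0 = (θA (E 0).1, θB (E 0).2)
        rw [map_zero, map_zero]
        show (0 : A' × B') = (θA 0, θB 0)
        rw [map_zero, map_zero]
        rfl
    | mul b x =>
        have e : (BCT.inl ρ (A × B) b * BCT.inr ρ (A × B) x : BCT ρ (A × B)) =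
            (b ⊗ₜ[R] x : R' ⊗[R] (A × B)) := by
          show (b ⊗ₜ[R] (1 : A × B)) * ((1 : R') ⊗ₜ[R] x) = b ⊗ₜ[R] x
          rw [Algebra.TensorProduct.tmul_mul_tmul, mul_one, one_mul]
        have h1 : θ (BCT.inl ρ (A × B) b * BCT.inr ρ (A × B) x) =
            algebraMap R' (A' × B') b * (RingHom.prodMap σA σB) x := by
          rw [map_mul, hθ, BCT.desc_inl, BCT.desc_inr]
        have h2 : G (BCT.inl ρ (A × B) b * BCT.inr ρ (A × B) x) =
            (algebraMap R' A' b * σA x.1, algebraMap R' B' b * σB x.2) := by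
          have h3 : G (BCT.inl ρ (A × B) b * BCT.inr ρ (A × B) x) =
              G (b ⊗ₜ[R] x : R' ⊗[R] (A × B)) := congrArg G e
          rw [h3]
          show (θA (E (b ⊗ₜ[R] x)).1, θB (E (b ⊗ₜ[R] x)).2) = _
          have hE : E (b ⊗ₜ[R] x) = (b ⊗ₜ[R] x.1, b ⊗ₜ[R] x.2) :=
            TensorProduct.prodRight_tmul R R' R' A B b x
          rw [hE]
          have eA : (b ⊗ₜ[R] x.1 : R' ⊗[R] A) = BCT.inl ρ A b * BCT.inr ρ A x.1 := by
            show b ⊗ₜ[R] x.1 = (b ⊗ₜ[R] (1 : A)) * ((1 : R') ⊗ₜ[R] x.1)
            rw [Algebra.TensorProduct.tmul_mul_tmul, mul_one, one_mul]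
          have eB : (b ⊗ₜ[R] x.2 : R' ⊗[R] B) = BCT.inl ρ B b * BCT.inr ρ B x.2 := by
            show b ⊗ₜ[R] x.2 = (b ⊗ₜ[R] (1 : B)) * ((1 : R') ⊗ₜ[R] x.2)
            rw [Algebra.TensorProduct.tmul_mul_tmul, mul_one, one_mul]
          have hA1 : θA (b ⊗ₜ[R] x.1 : R' ⊗[R] A) = algebraMap R' A' b * σA x.1 := by
            have := congrArg θA eA
            rw [this, map_mul, hθA, BCT.desc_inl, BCT.desc_inr]
          have hB1 : θB (b ⊗ₜ[R] x.2 : R' ⊗[R] B) = algebraMap R' B' b * σB x.2 := by
            have := congrArg θB eB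
            rw [this, map_mul, hθB, BCT.desc_inl, BCT.desc_inr]
          exact Prod.ext hA1 hB1
        rw [h1, h2]
        rfl
    | add x y hx hy =>
        have hE1 : (E (x + y)).1 = (E x).1 + (E y).1 := congrArg Prod.fst (E.map_add x y)
        have hE2 : (E (x + y)).2 = (E x).2 + (E y).2 := congrArg Prod.snd (E.map_add x y)
        have h1 : G (x + y) = G x + G y := by
          show (θA (E (x + y)).1, θB (E (x + y)).2) =
            (θA (E x).1 + θA (E y).1, θB (E x).2 + θB (E y).2)
          rw [hE1, hE2, map_add, map_add]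
        rw [map_add, hx, hy, h1]
  have hGbij : Function.Bijective G := by
    have : G = (Prod.map θA θB) ∘ E := rfl
    rw [this]
    exact (Function.Bijective.prodMap hbA hbB).comp E.bijective
  have : (θ : _ → _) = G := funext hG
  rw [this]
  exact hGbij

theorem isBCRing_punit : IsBCRing ρ (RingHom.id PUnit.{u+1}) := by
  refine ⟨fun r => rfl, ?_⟩
  constructor
  · intro z z' _
    have h0 : ∀ z : BCT ρ PUnit.{u+1}, z = 0 := by
      intro z
      induction z using BCT.induction_on with
      | zero => rfl
      | mul b a =>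
          have : a = 0 := rfl
          rw [this, map_zero, mul_zero]
      | add x y hx hy => rw [hx, hy, add_zero]
    rw [h0 z, h0 z']
  · intro y
    exact ⟨0, rfl⟩

end BC

end Groth.Agent.Lib.helper23.ProdAlg
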