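import Mathlib
import Groth.Prelude.Def_SchFin2
import Groth.Agent.Lib.helper23.FEtLib
import Groth.Agent.Lib.helper23.ProdAlg

/-! Étale covers of finite ringed posets: terminal object and binary products. -/

set_option autoImplicit false

open TensorProduct CategoryTheory

universe u

namespace Groth.Agent.Lib.helper23.FEtLib

open SchFin
open Groth.Agent.Lib.helper23.BCRing Groth.Agent.Lib.helper23.ProdAlg

variable {X : RSpace.{u}}

section Prod

variable (A B : Alg X)

/-- the pointwise product of algebras -/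
def prodAlg : Alg X where
  carrier p := A.carrier p × B.carrier p
  instRing p := inferInstance
  instAlg p := inferInstance
  res h := RingHom.prodMap (A.res h) (B.res h)
  res_algebraMap h a := Prod.ext (A.res_algebraMap h a) (B.res_algebraMap h a)
  res_self p b := Prod.ext (A.res_self p b.1) (B.res_self p b.2)
  res_comp h h' b := Prod.ext (A.res_comp h h' b.1) (B.res_comp h h' b.2)

lemma prodAlg_isEtCover (hA : A.IsEtCover) (hB : B.IsEtCover) : (prodAlg A B).IsEtCover := by
  refine ⟨?_, fun p => ?_⟩
  · have hA1 := hA.1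
    have hB1 := hB.1
    rw [isQcoh_iff] at hA1 hB1 ⊢
    intro p q h
    exact isBCRing_prod (X.res h) (A.res h) (B.res h) (hA1 p q h) (hB1 p q h)
  · haveI := (hA.2 p).1
    haveI := (hB.2 p).1
    haveI := (hA.2 p).2
    haveI := (hB.2 p).2
    exact ⟨(inferInstance : Module.Finite (X.ring p) (A.carrier p × B.carrier p)),
      etale_prod (X.ring p) (A.carrier p) (B.carrier p)⟩

/-- first projection -/
def prodFst : prodAlg A B ⟶ A where
  app p := AlgHom.fst (X.ring p) (A.carrier p) (B.carrier p)
  compat _ _ := rfl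

/-- second projection -/
def prodSnd : prodAlg A B ⟶ B where
  app p := AlgHom.snd (X.ring p) (A.carrier p) (B.carrier p)
  compat _ _ := rfl

variable {A B}

/-- the universal map into the product -/
def prodLift {T : Alg X} (u : T ⟶ A) (v : T ⟶ B) : T ⟶ prodAlg A B where
  app p := AlgHom.prod (u.app p) (v.app p)
  compat h t := Prod.ext (u.compat h t) (v.compat h t)

lemma prodLift_fst {T : Alg X} (u : T ⟶ A) (v : T ⟶ B) : prodLift u v ≫ prodFst A B = u := by
  apply Alg.hom_ext
  intro p
  apply AlgHom.ext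
  intro t
  rfl

lemma prodLift_snd {T : Alg X} (u : T ⟶ A) (v : T ⟶ B) : prodLift u v ≫ prodSnd A B = v := by
  apply Alg.hom_ext
  intro p
  apply AlgHom.ext
  intro t
  rfl

lemma prod_hom_ext {T : Alg X} {m m' : T ⟶ prodAlg A B} (h1 : m ≫ prodFst A B = m' ≫ prodFst A B)
    (h2 : m ≫ prodSnd A B = m' ≫ prodSnd A B) : m = m' := by
  apply Alg.hom_ext
  intro p
  apply AlgHom.ext
  intro t
  exact Prod.ext (app_congr h1 p t) (app_congr h2 p t)

end Prod

section Terminal

/-- the zero algebra -/
def termAlg (X : RSpace.{u}) : Alg X where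
  carrier _ := PUnit.{u+1}
  instRing _ := inferInstance
  instAlg _ := inferInstance
  res _ := RingHom.id _
  res_algebraMap _ _ := rfl
  res_self _ _ := rfl
  res_comp _ _ _ := rfl

lemma termAlg_isEtCover (X : RSpace.{u}) : (termAlg X).IsEtCover := by
  refine ⟨?_, fun p => ?_⟩
  · rw [isQcoh_iff]
    intro p q h
    exact isBCRing_punit (X.res h)
  · exact ⟨(inferInstance : Module.Finite (X.ring p) PUnit.{u+1}), etale_punit (X.ring p)⟩

/-- the unique morphism to the zero algebra -/
def termHom (A : Alg X) : A ⟶ termAlg X where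
  app p :=
    { toFun := fun _ => PUnit.unit
      map_one' := rfl
      map_mul' := fun _ _ => rfl
      map_zero' := rfl
      map_add' := fun _ _ => rfl
      commutes' := fun _ => rfl }
  compat _ _ := rfl

lemma termHom_unique (A : Alg X) (m m' : A ⟶ termAlg X) : m = m' := by
  apply Alg.hom_ext
  intro p
  apply AlgHom.ext
  intro a
  rfl

end Terminal

theorem hasTerminal_FEt (X : RSpace.{u}) : Limits.HasTerminal (FEt X) := by
  let T : FEt X := ⟨termAlg X, termAlg_isEtCover X⟩
  haveI : ∀ Y : FEt X, Nonempty (Y ⟶ T) := fun Y => ⟨ObjectProperty.homMk (termHom Y.obj)⟩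
  haveI : ∀ Y : FEt X, Subsingleton (Y ⟶ T) := fun Y =>
    ⟨fun m m' => ObjectProperty.hom_ext _ (termHom_unique Y.obj m.hom m'.hom)⟩
  exact Limits.hasTerminal_of_unique T

theorem hasLimit_pair_FEt (A B : FEt X) : Limits.HasLimit (Limits.pair A B) := by
  let P : FEt X := ⟨prodAlg A.obj B.obj, prodAlg_isEtCover A.obj B.obj A.property B.property⟩
  let p1 : P ⟶ A := ObjectProperty.homMk (prodFst A.obj B.obj)
  let p2 : P ⟶ B := ObjectProperty.homMk (prodSnd A.obj B.obj)
  refine ⟨⟨⟨Limits.BinaryFan.mk p1 p2, Limits.BinaryFan.isLimitMk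
    (fun s => ObjectProperty.homMk (prodLift s.fst.hom s.snd.hom)) ?_ ?_ ?_⟩⟩⟩
  · intro s
    exact ObjectProperty.hom_ext _ (prodLift_fst s.fst.hom s.snd.hom)
  · intro s
    exact ObjectProperty.hom_ext _ (prodLift_snd s.fst.hom s.snd.hom)
  · intro s m h1 h2
    apply ObjectProperty.hom_ext
    apply prod_hom_ext
    · refine Eq.trans ?_ (prodLift_fst s.fst.hom s.snd.hom).symm
      exact congrArg (fun w => w.hom) h1
    · refine Eq.trans ?_ (prodLift_snd s.fst.hom s.snd.hom).symm
      exact congrArg (fun w => w.hom) h2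

theorem hasBinaryProducts_FEt (X : RSpace.{u}) : Limits.HasBinaryProducts (FEt X) := by
  haveI : ∀ {A B : FEt X}, Limits.HasLimit (Limits.pair A B) := fun {A B} => hasLimit_pair_FEt A B
  exact Limits.hasBinaryProducts_of_hasLimit_pair (FEt X)

end Groth.Agent.Lib.helper23.FEtLib
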