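import Mathlib
import Groth.Agent.Lib.helper23.BCRing

/-! The kernel of a morphism of finite étale algebras is generated by an idempotent. -/

set_option autoImplicit false

open TensorProduct

universe u

namespace Groth.Agent.Lib.helper23.KerIdem

open Groth.Agent.Lib.helper23.BCRing

/-- The annihilator of a finite projective module is generated by an idempotent. -/
theorem exists_idempotent_annihilator (A : Type u) [CommRing A] (P : Type u) [AddCommGroup P]
    [Module A P] [Module.Finite A P] [Module.Projective A P] :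
    ∃ e : A, IsIdempotentElem e ∧ (∀ x : P, e • x = 0) ∧
      ∀ a : A, (∀ x : P, a • x = 0) → a = a * e := by
  obtain ⟨n, f, g, -, -, hfg⟩ := Module.Finite.exists_comp_eq_id_of_projective A P
  let x : Fin n → P := fun i => f (Pi.single i 1)
  let φ : Fin n → P →ₗ[A] A := fun i => (LinearMap.proj i).comp g
  have hdual : ∀ y : P, y = ∑ i, φ i y • x i := by
    intro y
    have h1 : f (g y) = y := LinearMap.congr_fun hfg y
    have h2 : g y = ∑ i, (g y i) • (Pi.single i (1 : A) : Fin n → A) := by
      funext j
      simp [Finset.sum_apply, Pi.single_apply]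
    have h3 : f (g y) = ∑ i, g y i • f (Pi.single i 1) := by
      conv_lhs => rw [h2]
      rw [map_sum]
      simp only [map_smul]
    exact h1.symm.trans h3
  let T : Ideal A := Ideal.span (Set.range fun ij : Fin n × Fin n => φ ij.1 (x ij.2))
  have hφT : ∀ i y, φ i y ∈ T := by
    intro i y
    have h1 : φ i y = ∑ j, φ j y * φ i (x j) := by
      conv_lhs => rw [hdual y]
      rw [map_sum]
      refine Finset.sum_congr rfl fun j _ => ?_
      rw [map_smul, smul_eq_mul]
    rw [h1]
    refine T.sum_mem fun j _ => ?_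
    exact T.mul_mem_left _ (Ideal.subset_span ⟨(i, j), rfl⟩)
  have hTfg : T.FG := Submodule.fg_span (Set.finite_range _)
  have hTT : IsIdempotentElem T := by
    apply le_antisymm
    · exact Ideal.mul_le_right
    · rw [Ideal.span_le]
      rintro _ ⟨⟨i, j⟩, rfl⟩
      show φ i (x j) ∈ T * T
      have h1 : φ i (x j) = ∑ k, φ k (x j) * φ i (x k) := by
        conv_lhs => rw [hdual (x j)]
        rw [map_sum]
        refine Finset.sum_congr rfl fun k _ => ?_
        rw [map_smul, smul_eq_mul]
      rw [h1]
      refine (T * T).sum_mem fun k _ => ?_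
      exact Ideal.mul_mem_mul (hφT k _) (hφT i _)
  obtain ⟨ε, hε, hTε⟩ := (Ideal.isIdempotentElem_iff_of_fg T hTfg).1 hTT
  have hεmem : ∀ t ∈ T, t * ε = t := by
    intro t ht
    rw [hTε] at ht
    obtain ⟨c, rfl⟩ := Ideal.mem_span_singleton'.1 ht
    rw [mul_assoc, hε.eq]
  refine ⟨1 - ε, hε.one_sub, ?_, ?_⟩
  · intro y
    rw [hdual y, Finset.smul_sum]
    refine Finset.sum_eq_zero fun i _ => ?_
    rw [smul_smul]
    have : (1 - ε) * φ i y = 0 := by
      have := hεmem _ (hφT i y)
      rw [sub_mul, one_mul, mul_comm ε, this, sub_self]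
    rw [this, zero_smul]
  · intro a ha
    have haε : a * ε = 0 := by
      have hεT : ε ∈ T := by
        rw [hTε]
        exact Ideal.mem_span_singleton_self ε
      have haT : ∀ t ∈ T, a * t = 0 := by
        intro t ht
        refine Submodule.span_induction (p := fun t _ => a * t = 0) ?_ ?_ ?_ ?_ ht
        · rintro _ ⟨⟨i, j⟩, rfl⟩
          show a * φ i (x j) = 0
          rw [← smul_eq_mul, ← map_smul, ha, map_zero]
        · exact mul_zero a
        · intro u v _ _ hu hv
          rw [mul_add, hu, hv, add_zero]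
        · intro c u _ hu
          rw [smul_eq_mul, mul_left_comm, hu, mul_zero]
      exact haT ε hεT
    rw [mul_sub, mul_one, haε, sub_zero]

/-- The kernel of a morphism of finite étale algebras is generated by an idempotent. -/
theorem exists_idempotent_ker {R A B : Type u} [CommRing R] [CommRing A] [CommRing B]
    [Algebra R A] [Algebra R B] [Algebra.Etale R A] [Algebra.Etale R B] [Module.Finite R B]
    (f : A →ₐ[R] B) :
    ∃ e : A, IsIdempotentElem e ∧ f e = 0 ∧ ∀ a : A, f a = 0 → a = a * e := by
  letI : Algebra A B := f.toRingHom.toAlgebra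
  haveI : IsScalarTower R A B := IsScalarTower.of_algebraMap_eq (fun r => (f.commutes r).symm)
  haveI : Algebra.Etale A B := Algebra.Etale.of_restrictScalars (R := R) (A := A) (B := B)
  haveI : Module.Finite A B := Module.Finite.of_restrictScalars_finite R A B
  haveI : Module.FinitePresentation A B :=
    Module.FinitePresentation.of_finite_of_finitePresentation A B
  haveI : Module.Projective A B := Module.Flat.projective_of_finitePresentation
  obtain ⟨e, he, h1, h2⟩ := exists_idempotent_annihilator A B
  refine ⟨e, he, ?_, ?_⟩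
  · have := h1 1
    rw [Algebra.smul_def, mul_one] at this
    exact this
  · intro a ha
    apply h2
    intro x
    rw [Algebra.smul_def]
    show f a * x = 0
    rw [ha, zero_mul]

/-- idempotent generators are unique -/
theorem idempotent_unique {A : Type u} [CommRing A] {e e' : A} (he : IsIdempotentElem e)
    (he' : IsIdempotentElem e') (h1 : e = e * e') (h2 : e' = e' * e) : e = e' := by
  rw [h1, mul_comm, ← h2]

section BC

variable {R R' : Type u} [CommRing R] [CommRing R'] (ρ : R →+* R')
variable {A B A' B' : Type u} [CommRing A] [CommRing B] [CommRing A'] [CommRing B']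
  [Algebra R A] [Algebra R B] [Algebra R' A'] [Algebra R' B']
variable (σA : A →+* A') (σB : B →+* B')

lemma desc_tmul {T : Type u} [CommRing T] (u : R' →+* T) (v : A →+* T)
    (h : ∀ r, u (ρ r) = v (algebraMap R A r)) (b : R') (a : A) :
    letI := ρ.toAlgebra
    BCT.desc (ρ := ρ) u v h (b ⊗ₜ[R] a) = u b * v a := by
  letI := ρ.toAlgebra
  have e : (b ⊗ₜ[R] a : BCT ρ A) = BCT.inl ρ A b * BCT.inr ρ A a := by
    show b ⊗ₜ[R] a = (b ⊗ₜ[R] (1 : A)) * ((1 : R') ⊗ₜ[R] a)
    rw [Algebra.TensorProduct.tmul_mul_tmul, mul_one, one_mul]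
  rw [e, map_mul, BCT.desc_inl, BCT.desc_inr]

/-- the idempotent generating the kernel is compatible with flat base change -/
theorem ker_baseChange (hflat : ρ.Flat) (hA : IsBCRing ρ σA) (hB : IsBCRing ρ σB)
    (f : A →ₐ[R] B) (f' : A' →ₐ[R'] B') (hff : ∀ a, f' (σA a) = σB (f a))
    (e : A) (h2 : ∀ a : A, f a = 0 → a = a * e) (a' : A') (ha' : f' a' = 0) :
    a' = a' * σA e := by
  letI : Algebra R R' := ρ.toAlgebra
  haveI : Module.Flat R R' := hflat
  obtain ⟨hσA, hbA⟩ := hA
  obtain ⟨hσB, hbB⟩ := hB
  set θA := BCT.desc (ρ := ρ) (algebraMap R' A') σA hσA with hθA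
  set θB := BCT.desc (ρ := ρ) (algebraMap R' B') σB hσB with hθB
  let K : Submodule R A := LinearMap.ker f.toLinearMap
  have hex : Function.Exact K.subtype f.toLinearMap := LinearMap.exact_subtype_ker_map _
  have hex' : Function.Exact (LinearMap.lTensor R' K.subtype) (LinearMap.lTensor R' f.toLinearMap) :=
    Module.Flat.lTensor_exact R' hex
  have hnat : ∀ z : R' ⊗[R] A, θB (LinearMap.lTensor R' f.toLinearMap z) = f' (θA z) := by
    intro z
    induction z using TensorProduct.induction_on with
    | zero => rw [map_zero, map_zero, map_zero, map_zero]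
    | tmul b a =>
        rw [LinearMap.lTensor_tmul, hθA, hθB, desc_tmul, desc_tmul, map_mul]
        show _ = f' (algebraMap R' A' b) * f' (σA a)
        rw [f'.commutes, hff]
        rfl
    | add x y hx hy => rw [map_add, map_add, map_add, map_add, hx, hy]
  have hK : ∀ w : R' ⊗[R] K, (LinearMap.lTensor R' K.subtype w) * ((1 : R') ⊗ₜ[R] e) =
      LinearMap.lTensor R' K.subtype w := by
    intro w
    induction w using TensorProduct.induction_on with
    | zero => rw [map_zero, zero_mul]
    | tmul b k =>
        rw [LinearMap.lTensor_tmul, Algebra.TensorProduct.tmul_mul_tmul, mul_one]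
        have hk : f (k : A) = 0 := k.2
        have := h2 _ hk
        show b ⊗ₜ[R] ((k : A) * e) = b ⊗ₜ[R] (k : A)
        rw [← this]
    | add x y hx hy => rw [map_add, add_mul, hx, hy]
  obtain ⟨z, rfl⟩ := hbA.2 a'
  have hz0 : LinearMap.lTensor R' f.toLinearMap z = 0 := by
    apply hbB.1
    rw [hnat, ha', map_zero]
  obtain ⟨w, hw⟩ := (hex' z).1 hz0
  have hze : z * ((1 : R') ⊗ₜ[R] e) = z := by
    rw [← hw]
    exact hK w
  have h1 : θA ((1 : R') ⊗ₜ[R] e) = σA e := by
    rw [hθA, desc_tmul, map_one, one_mul]
  calc θA z = θA (z * ((1 : R') ⊗ₜ[R] e)) := by rw [hze]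
    _ = θA z * σA e := by rw [map_mul, h1]

end BC

end Groth.Agent.Lib.helper23.KerIdem
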