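import Mathlib
import Groth.Prelude.Def_SchFin2
import Groth.Agent.Lib.helper23.FEtProd
import Groth.Agent.Lib.helper23.KerIdem

/-! Étale covers of finite ringed posets: kernels of morphisms are generated by idempotents. -/

set_option autoImplicit false

open TensorProduct CategoryTheory

universe u

namespace Groth.Agent.Lib.helper23.FEtLib

open SchFin
open Groth.Agent.Lib.helper23.BCRing Groth.Agent.Lib.helper23.KerIdem

variable {X : RSpace.{u}}

/-- the compatible family of idempotents generating the kernels of a morphism of étale covers -/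
theorem exists_kerIdem (hX : X.IsFinSp) {A B : Alg X} (hA : A.IsEtCover) (hB : B.IsEtCover)
    (f : A ⟶ B) :
    ∃ e : ∀ p, A.carrier p, (∀ p, IsIdempotentElem (e p)) ∧ (∀ p, f.app p (e p) = 0) ∧
      (∀ p a, f.app p a = 0 → a = a * e p) ∧ ∀ {p q : X.pt} (h : p ≤ q), A.res h (e p) = e q := by
  have hex : ∀ p, ∃ e : A.carrier p, IsIdempotentElem e ∧ f.app p e = 0 ∧
      ∀ a : A.carrier p, f.app p a = 0 → a = a * e := by
    intro p
    haveI := (hA.2 p).2
    haveI := (hB.2 p).2
    haveI := (hB.2 p).1
    exact exists_idempotent_ker (f.app p)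
  choose e he h1 h2 using hex
  refine ⟨e, he, h1, h2, ?_⟩
  intro p q h
  have hA1 := (isQcoh_iff A).1 hA.1 p q h
  have hB1 := (isQcoh_iff B).1 hB.1 p q h
  have hidem : IsIdempotentElem (A.res h (e p)) := (he p).map (A.res h)
  apply idempotent_unique hidem (he q)
  · apply h2 q
    rw [← f.compat h, h1 p, map_zero]
  · exact ker_baseChange (X.res h) (A.res h) (B.res h) (hX.2 p q h) hA1 hB1 (f.app p) (f.app q)
      (fun a => (f.compat h a).symm) (e p) (h2 p) (e q) (h1 q)

/-- a monomorphism of étale covers is injective at every point -/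
theorem injective_of_mono (hX : X.IsFinSp) {A B : FEt X} (f : A ⟶ B) [Mono f] (p : X.pt) :
    Function.Injective (f.hom.app p) := by
  obtain ⟨e, he, h1, h2, hres⟩ := exists_kerIdem hX A.property B.property f.hom
  let P : FEt X := ⟨prodAlg A.obj A.obj, prodAlg_isEtCover A.obj A.obj A.property A.property⟩
  let hm : prodAlg A.obj A.obj ⟶ A.obj :=
    { app := fun p =>
        { toFun := fun x => x.1 * (1 - e p) + x.2 * e p
          map_one' := by
            show (1 : A.obj.carrier p) * (1 - e p) + 1 * e p = 1
            ring
          map_mul' := fun x y => by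
            show (x.1 * y.1) * (1 - e p) + (x.2 * y.2) * e p =
              (x.1 * (1 - e p) + x.2 * e p) * (y.1 * (1 - e p) + y.2 * e p)
            have hee : e p * e p = e p := (he p).eq
            linear_combination (-(x.1 * y.1 - x.1 * y.2 - x.2 * y.1 + x.2 * y.2)) * hee
          map_zero' := by
            show (0 : A.obj.carrier p) * (1 - e p) + 0 * e p = 0
            ring
          map_add' := fun x y => by
            show (x.1 + y.1) * (1 - e p) + (x.2 + y.2) * e p =
              (x.1 * (1 - e p) + x.2 * e p) + (y.1 * (1 - e p) + y.2 * e p)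
            ring
          commutes' := fun r => by
            show algebraMap (X.ring p) (A.obj.carrier p) r * (1 - e p) +
              algebraMap (X.ring p) (A.obj.carrier p) r * e p = algebraMap _ _ r
            ring }
      compat := fun {p q} h x => by
        show A.obj.res h (x.1 * (1 - e p) + x.2 * e p) =
          (A.obj.res h x.1) * (1 - e q) + (A.obj.res h x.2) * e q
        rw [map_add, map_mul, map_mul, map_sub, map_one, hres h] }
  let H : P ⟶ A := ObjectProperty.homMk hm
  let G : P ⟶ A := ObjectProperty.homMk (prodFst A.obj A.obj)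
  have hHG : H ≫ f = G ≫ f := by
    apply ObjectProperty.hom_ext
    apply Alg.hom_ext
    intro p
    apply AlgHom.ext
    intro x
    show f.hom.app p (x.1 * (1 - e p) + x.2 * e p) = f.hom.app p x.1
    rw [map_add, map_mul, map_mul, map_sub, map_one, h1 p, sub_zero, mul_one, mul_zero, add_zero]
  have hHG' : H = G := (cancel_mono f).1 hHG
  have hep : e p = 0 := by
    have h3 := app_congr (congrArg (fun w => w.hom) hHG') p ((0, 1) : A.obj.carrier p × A.obj.carrier p)
    have h4 : (0 : A.obj.carrier p) * (1 - e p) + 1 * e p = 0 := h3
    rw [zero_mul, zero_add, one_mul] at h4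
    exact h4
  rw [injective_iff_map_eq_zero]
  intro a ha
  have := h2 p a ha
  rw [hep, mul_zero] at this
  exact this

end Groth.Agent.Lib.helper23.FEtLib
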