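import Mathlib
import Groth.Prelude.Def_SchFin2
import Groth.Agent.Lib.helper23.FEtKer

/-! Étale covers of finite ringed posets: quotient by a compatible family of idempotents. -/

set_option autoImplicit false

open TensorProduct CategoryTheory

universe u

namespace Groth.Agent.Lib.helper23.FEtLib

open SchFin
open Groth.Agent.Lib.helper23.BCRing Groth.Agent.Lib.helper23.KerIdem

variable {X : RSpace.{u}}

section Quot

variable (A : Alg X) (e : ∀ p, A.carrier p)
  (hres : ∀ {p q : X.pt} (h : p ≤ q), A.res h (e p) = e q)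

lemma span_le_comap {p q : X.pt} (h : p ≤ q) (hpq : A.res h (e p) = e q) :
    Ideal.span {e p} ≤ Ideal.comap (A.res h) (Ideal.span {e q}) := by
  rw [Ideal.span_le]
  intro x hx
  rw [Set.mem_singleton_iff] at hx
  subst hx
  show A.res h (e p) ∈ Ideal.span {e q}
  rw [hpq]
  exact Ideal.subset_span rfl

/-- the quotient of an algebra by a compatible family of elements -/
@[reducible] def quotAlg : Alg X where
  carrier p := A.carrier p ⧸ Ideal.span {e p}
  instRing p := inferInstance
  instAlg p := inferInstance
  res {p q} h := Ideal.quotientMap (Ideal.span {e q}) (A.res h) (span_le_comap A e h (hres h))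
  res_algebraMap {p q} h a := by
    show Ideal.quotientMap (Ideal.span {e q}) (A.res h) _
      (Ideal.Quotient.mk _ (algebraMap (X.ring p) (A.carrier p) a)) =
      Ideal.Quotient.mk _ (algebraMap (X.ring q) (A.carrier q) (X.res h a))
    rw [Ideal.quotientMap_mk, A.res_algebraMap]
  res_self p b := by
    obtain ⟨a, rfl⟩ := Ideal.Quotient.mk_surjective b
    rw [Ideal.quotientMap_mk, A.res_self]
  res_comp {p q s} h h' b := by
    obtain ⟨a, rfl⟩ := Ideal.Quotient.mk_surjective b
    rw [Ideal.quotientMap_mk, Ideal.quotientMap_mk, Ideal.quotientMap_mk, A.res_comp]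

/-- the quotient map -/
def quotMk : A ⟶ quotAlg A e hres where
  app p := Ideal.Quotient.mkₐ (X.ring p) (Ideal.span {e p})
  compat {p q} h b := by
    exact Ideal.quotientMap_mk (I := Ideal.span {e q}) (f := A.res h)
      (H := span_le_comap A e h (hres h)) (x := b)

lemma quotMk_surjective (p : X.pt) : Function.Surjective ((quotMk A e hres).app p) :=
  Ideal.Quotient.mk_surjective

lemma quotMk_apply (p : X.pt) (a : A.carrier p) :
    (quotMk A e hres).app p a = Ideal.Quotient.mk (Ideal.span {e p}) a := rfl

lemma quotMk_eq_zero_iff (p : X.pt) (a : A.carrier p) :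
    (quotMk A e hres).app p a = 0 ↔ ∃ c, a = c * e p := by
  rw [quotMk_apply, Ideal.Quotient.eq_zero_iff_mem, Ideal.mem_span_singleton']
  constructor
  · rintro ⟨c, hc⟩
    exact ⟨c, hc.symm⟩
  · rintro ⟨c, hc⟩
    exact ⟨c, hc.symm⟩

variable {A e hres}

/-- the induced map out of the quotient -/
def quotLift {B : Alg X} (f : A ⟶ B) (hf : ∀ p, f.app p (e p) = 0) : quotAlg A e hres ⟶ B where
  app p := Ideal.Quotient.liftₐ (Ideal.span {e p}) (f.app p) (by
    intro a ha
    rw [Ideal.mem_span_singleton'] at ha
    obtain ⟨c, rfl⟩ := ha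
    rw [map_mul, hf p, mul_zero])
  compat {p q} h b := by
    obtain ⟨a, rfl⟩ := Ideal.Quotient.mk_surjective b
    exact f.compat h a

lemma quotLift_mk {B : Alg X} (f : A ⟶ B) (hf : ∀ p, f.app p (e p) = 0) (p : X.pt)
    (a : A.carrier p) :
    (quotLift (hres := hres) f hf).app p ((quotMk A e hres).app p a) = f.app p a := rfl

lemma quotMk_quotLift {B : Alg X} (f : A ⟶ B) (hf : ∀ p, f.app p (e p) = 0) :
    quotMk A e hres ≫ quotLift f hf = f := by
  apply Alg.hom_ext
  intro p
  apply AlgHom.ext
  intro a
  rfl

variable (A e hres)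

lemma quotAlg_isEtCover (hA : A.IsEtCover) (he : ∀ p, IsIdempotentElem (e p)) :
    (quotAlg A e hres).IsEtCover := by
  refine ⟨?_, fun p => ?_⟩
  · have hA1 := hA.1
    rw [isQcoh_iff] at hA1 ⊢
    intro p q h
    have hBC := hA1 p q h
    apply isBCRing_of_universal
    · intro r
      exact ((quotAlg A e hres).res_algebraMap h r).symm
    · obtain ⟨w, hw1, hw2⟩ := hBC.exists_desc
        (BCT.inl (X.res h) ((quotAlg A e hres).carrier p))
        ((BCT.inr (X.res h) ((quotAlg A e hres).carrier p)).comp
          (Ideal.Quotient.mk (Ideal.span {e p})))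
        (by
          intro r
          rw [BCT.inl_rho]
          rfl)
      have hw0 : ∀ a ∈ Ideal.span {e q}, w a = 0 := by
        intro a ha
        rw [Ideal.mem_span_singleton'] at ha
        obtain ⟨c, rfl⟩ := ha
        rw [map_mul, ← hres h, hw2, RingHom.comp_apply]
        have : Ideal.Quotient.mk (Ideal.span {e p}) (e p) = 0 :=
          Ideal.Quotient.eq_zero_iff_mem.2 (Ideal.subset_span rfl)
        rw [this, map_zero, mul_zero]
      refine ⟨Ideal.Quotient.lift (Ideal.span {e q}) w hw0, ?_, ?_⟩
      · intro b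
        exact hw1 b
      · intro a
        obtain ⟨a, rfl⟩ := Ideal.Quotient.mk_surjective a
        exact hw2 a
    · intro w w' h1 h2
      apply Ideal.Quotient.ringHom_ext
      apply hBC.hom_ext
      · intro b
        exact h1 b
      · intro a
        exact h2 (Ideal.Quotient.mk _ a)
  · haveI := (hA.2 p).1
    haveI := (hA.2 p).2
    refine ⟨(inferInstance : Module.Finite (X.ring p) (A.carrier p ⧸ Ideal.span {e p})), ?_⟩
    haveI : IsLocalization.Away (1 - e p) (A.carrier p ⧸ Ideal.span {e p}) :=
      IsLocalization.away_of_isIdempotentElem (he p).one_sub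
        (by rw [sub_sub_cancel]; exact Ideal.mk_ker) Ideal.Quotient.mk_surjective
    haveI : Algebra.Etale (A.carrier p) (A.carrier p ⧸ Ideal.span {e p}) :=
      Algebra.Etale.of_isLocalizationAway (1 - e p)
    exact Algebra.Etale.comp (X.ring p) (A.carrier p) (A.carrier p ⧸ Ideal.span {e p})

end Quot

end Groth.Agent.Lib.helper23.FEtLib
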