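import Mathlib
import Groth.Prelude.Def_SchFin2
import Groth.Agent.Lib.helper23.FEtQuot

/-! Étale covers of finite ringed posets: pointwise bijective morphisms are isomorphisms;
pointwise surjective morphisms split off a direct factor. -/

set_option autoImplicit false

open TensorProduct CategoryTheory

universe u

namespace Groth.Agent.Lib.helper23.FEtLib

open SchFin
open Groth.Agent.Lib.helper23.BCRing Groth.Agent.Lib.helper23.KerIdem

variable {X : RSpace.{u}}

section Inv

variable {A B : Alg X} (f : A ⟶ B) (hf : ∀ p, Function.Bijective (f.app p))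

/-- the inverse of a pointwise bijective morphism -/
noncomputable def invOfBijective : B ⟶ A where
  app p := ((AlgEquiv.ofBijective (f.app p) (hf p)).symm : B.carrier p →ₐ[X.ring p] A.carrier p)
  compat {p q} h b := by
    apply (hf q).1
    have e1 : f.app p ((AlgEquiv.ofBijective (f.app p) (hf p)).symm b) = b :=
      (AlgEquiv.ofBijective (f.app p) (hf p)).apply_symm_apply b
    have e2 : f.app q ((AlgEquiv.ofBijective (f.app q) (hf q)).symm (B.res h b)) = B.res h b :=
      (AlgEquiv.ofBijective (f.app q) (hf q)).apply_symm_apply (B.res h b)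
    have e3 := f.compat h ((AlgEquiv.ofBijective (f.app p) (hf p)).symm b)
    rw [e1] at e3
    exact e3.symm.trans e2.symm

lemma comp_invOfBijective : f ≫ invOfBijective f hf = 𝟙 A := by
  apply Alg.hom_ext
  intro p
  apply AlgHom.ext
  intro a
  exact (AlgEquiv.ofBijective (f.app p) (hf p)).symm_apply_apply a

lemma invOfBijective_comp : invOfBijective f hf ≫ f = 𝟙 B := by
  apply Alg.hom_ext
  intro p
  apply AlgHom.ext
  intro b
  exact (AlgEquiv.ofBijective (f.app p) (hf p)).apply_symm_apply b

end Inv

section Split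

variable {A B : Alg X} (f : A ⟶ B) (e : ∀ p, A.carrier p)
  (he : ∀ p, IsIdempotentElem (e p)) (h1 : ∀ p, f.app p (e p) = 0)
  (h2 : ∀ p a, f.app p a = 0 → a = a * e p)
  (hres : ∀ {p q : X.pt} (h : p ≤ q), A.res h (e p) = e q)

lemma hres_one_sub {p q : X.pt} (h : p ≤ q) (hpq : A.res h (e p) = e q) :
    A.res h (1 - e p) = 1 - e q := by
  rw [map_sub, map_one, hpq]

include he h1 h2 in
lemma pair_bijective (hres' : ∀ {p q : X.pt} (h : p ≤ q), A.res h (1 - e p) = 1 - e q)
    (hf : ∀ p, Function.Surjective (f.app p)) (p : X.pt) :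
    Function.Bijective ((prodLift f (quotMk A (fun p => 1 - e p) hres')).app p) := by
  have hee : e p * e p = e p := (he p).eq
  constructor
  · rw [injective_iff_map_eq_zero]
    intro a ha
    have ha1 : f.app p a = 0 := congrArg Prod.fst ha
    have ha2 : (quotMk A (fun p => 1 - e p) hres').app p a = 0 := congrArg Prod.snd ha
    rw [quotMk_eq_zero_iff] at ha2
    obtain ⟨c, hc⟩ := ha2
    have h3 := h2 p a ha1
    rw [h3, hc]
    linear_combination (-c) * hee
  · rintro ⟨b, d⟩
    obtain ⟨a1, rfl⟩ := hf p b
    obtain ⟨a2, rfl⟩ := quotMk_surjective A (fun p => 1 - e p) hres' p d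
    refine ⟨a1 * (1 - e p) + a2 * e p, ?_⟩
    apply Prod.ext
    · show f.app p (a1 * (1 - e p) + a2 * e p) = f.app p a1
      rw [map_add, map_mul, map_mul, map_sub, map_one, h1 p, sub_zero, mul_one, mul_zero, add_zero]
    · show (quotMk A (fun p => 1 - e p) hres').app p (a1 * (1 - e p) + a2 * e p) =
        (quotMk A (fun p => 1 - e p) hres').app p a2
      rw [← sub_eq_zero, ← map_sub, quotMk_eq_zero_iff]
      exact ⟨a1 - a2, by ring⟩

end Split

end Groth.Agent.Lib.helper23.FEtLib
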