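import Mathlib
import Groth.Agent.Lib.helper23.SchFinLib

/-! Points of the base change of a finite algebra to an algebraically closed field. -/

set_option autoImplicit false

open TensorProduct

universe u

namespace Groth.Agent.Lib.helper23.FibLib

open Groth.Agent.Lib.helper23.SchFinLib

section Pts

variable {R : Type u} [CommRing R] {Ω : Type u} [Field Ω] [Algebra R Ω]
variable {A : Type u} [CommRing A] [Algebra R A]
variable {B : Type u} [CommRing B] [Algebra R B]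

/-- the map `Ω ⊗ A → Ω` induced by a point of `A` with values in `Ω` -/
noncomputable def ptMap (φ : A →ₐ[R] Ω) : Ω ⊗[R] A →ₐ[Ω] Ω :=
  Algebra.TensorProduct.lift (AlgHom.id Ω Ω) φ (fun _ _ => Commute.all _ _)

lemma ptMap_tmul (φ : A →ₐ[R] Ω) (c : Ω) (a : A) : ptMap φ (c ⊗ₜ[R] a) = c * φ a := rfl

/-- the prime of `Ω ⊗ A` attached to a point of `A` with values in `Ω` -/
noncomputable def ptSpec (φ : A →ₐ[R] Ω) : PrimeSpectrum (Ω ⊗[R] A) :=
  ⟨RingHom.ker (ptMap φ), RingHom.ker_isPrime _⟩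

lemma mem_ptSpec (φ : A →ₐ[R] Ω) (z : Ω ⊗[R] A) : z ∈ (ptSpec φ).asIdeal ↔ ptMap φ z = 0 :=
  Iff.rfl

lemma ptSpec_injective : Function.Injective (ptSpec : (A →ₐ[R] Ω) → PrimeSpectrum (Ω ⊗[R] A)) := by
  intro φ ψ h
  apply AlgHom.ext
  intro a
  have h1 : ((1 : Ω) ⊗ₜ[R] a - (φ a) ⊗ₜ[R] (1 : A)) ∈ (ptSpec φ).asIdeal := by
    rw [mem_ptSpec, map_sub, ptMap_tmul, ptMap_tmul, map_one, one_mul, mul_one, sub_self]
  rw [h, mem_ptSpec, map_sub, ptMap_tmul, ptMap_tmul, map_one, one_mul, mul_one, sub_eq_zero] at h1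
  exact h1.symm

lemma ptMap_comp (f : A →ₐ[R] B) (ψ : B →ₐ[R] Ω) (z : Ω ⊗[R] A) :
    ptMap ψ (Algebra.TensorProduct.map (AlgHom.id Ω Ω) f z) = ptMap (ψ.comp f) z := by
  induction z using TensorProduct.induction_on with
  | zero => rw [map_zero, map_zero, map_zero]
  | tmul c a =>
      rw [Algebra.TensorProduct.map_tmul, ptMap_tmul, ptMap_tmul]
      rfl
  | add x y hx hy => rw [map_add, map_add, map_add, hx, hy]

lemma ptSpec_comap (f : A →ₐ[R] B) (ψ : B →ₐ[R] Ω) :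
    PrimeSpectrum.comap (Algebra.TensorProduct.map (AlgHom.id Ω Ω) f).toRingHom (ptSpec ψ) =
      ptSpec (ψ.comp f) := by
  apply PrimeSpectrum.ext
  ext z
  show ptMap ψ (Algebra.TensorProduct.map (AlgHom.id Ω Ω) f z) = 0 ↔ ptMap (ψ.comp f) z = 0
  rw [ptMap_comp]

lemma ptSpec_surjective [IsAlgClosed Ω] [Module.Finite R A] :
    Function.Surjective (ptSpec : (A →ₐ[R] Ω) → PrimeSpectrum (Ω ⊗[R] A)) := by
  intro P
  haveI : P.asIdeal.IsPrime := P.isPrime
  haveI : Module.Finite Ω (Ω ⊗[R] A) := inferInstance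
  haveI : Algebra.IsIntegral Ω ((Ω ⊗[R] A) ⧸ P.asIdeal) := inferInstance
  have hbij : Function.Bijective (algebraMap Ω ((Ω ⊗[R] A) ⧸ P.asIdeal)) :=
    IsAlgClosed.algebraMap_bijective_of_isIntegral
  let σ : Ω ≃ₐ[Ω] ((Ω ⊗[R] A) ⧸ P.asIdeal) :=
    AlgEquiv.ofBijective (Algebra.ofId Ω ((Ω ⊗[R] A) ⧸ P.asIdeal)) hbij
  let φ' : Ω ⊗[R] A →ₐ[Ω] Ω :=
    (σ.symm : ((Ω ⊗[R] A) ⧸ P.asIdeal) →ₐ[Ω] Ω).comp (Ideal.Quotient.mkₐ Ω P.asIdeal)
  let φ : A →ₐ[R] Ω := (φ'.restrictScalars R).comp Algebra.TensorProduct.includeRight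
  have hφ : ∀ z, ptMap φ z = φ' z := by
    intro z
    induction z using TensorProduct.induction_on with
    | zero => rw [map_zero, map_zero]
    | tmul c a =>
        rw [ptMap_tmul]
        have h1 : (c ⊗ₜ[R] a : Ω ⊗[R] A) = c • ((1 : Ω) ⊗ₜ[R] a) := by
          rw [TensorProduct.smul_tmul', smul_eq_mul, mul_one]
        rw [h1, map_smul, smul_eq_mul]
        rfl
    | add x y hx hy => rw [map_add, map_add, hx, hy]
  refine ⟨φ, ?_⟩
  apply PrimeSpectrum.ext
  ext z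
  rw [mem_ptSpec, hφ]
  show σ.symm (Ideal.Quotient.mk P.asIdeal z) = 0 ↔ z ∈ P.asIdeal
  rw [map_eq_zero_iff _ σ.symm.injective, Ideal.Quotient.eq_zero_iff_mem]

lemma ptSpec_bijective [IsAlgClosed Ω] [Module.Finite R A] :
    Function.Bijective (ptSpec : (A →ₐ[R] Ω) → PrimeSpectrum (Ω ⊗[R] A)) :=
  ⟨ptSpec_injective, ptSpec_surjective⟩

end Pts

section Ext

/-- points with values in an algebraically closed field extend along finite injective maps -/
theorem exists_algHom_of_finite_injective {A B Ω : Type u} [CommRing A] [CommRing B] [Field Ω]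
    [IsAlgClosed Ω] [Algebra A B] [Algebra A Ω] [Module.Finite A B]
    (hinj : Function.Injective (algebraMap A B)) : Nonempty (B →ₐ[A] Ω) := by
  let p : Ideal A := RingHom.ker (algebraMap A Ω)
  haveI : p.IsPrime := RingHom.ker_isPrime _
  haveI : Algebra.IsIntegral A B := inferInstance
  obtain ⟨Q, -, hQ, hQp⟩ := Ideal.exists_ideal_over_prime_of_isIntegral p (⊥ : Ideal B) (by
    intro a ha
    have : algebraMap A B a = 0 := ha
    rw [← map_zero (algebraMap A B)] at this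
    rw [hinj this]
    exact p.zero_mem)
  obtain ⟨r, -, -⟩ := exists_prime_tensor (R := A) (S := Ω) (T := B) (⊥ : PrimeSpectrum Ω) ⟨Q, hQ⟩ (by
    apply PrimeSpectrum.ext
    show Ideal.comap (algebraMap A Ω) (⊥ : Ideal Ω) = Ideal.comap (algebraMap A B) Q
    rw [hQp]
    rfl)
  obtain ⟨ψ, -⟩ := ptSpec_surjective (R := A) (Ω := Ω) (A := B) r
  exact ⟨ψ⟩

end Ext

end Groth.Agent.Lib.helper23.FibLib
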