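import Mathlib

/-! Elementary criteria for limits and colimits in the category of finite types. -/

set_option autoImplicit false

open CategoryTheory CategoryTheory.Limits

universe u

namespace Groth.Agent.Lib.helper23.FinCatLib

lemma epi_of_surjective {A B : FintypeCat.{u}} (f : A ⟶ B) (hf : Function.Surjective f) :
    Epi f := by
  constructor
  intro Z g h hgh
  ext b
  obtain ⟨a, rfl⟩ := hf b
  exact ConcreteCategory.congr_hom hgh a

/-- a one-element finite type is terminal -/
noncomputable def isTerminalOfUnique (W : FintypeCat.{u}) [Unique W] : IsTerminal W :=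
  IsTerminal.ofUniqueHom (fun Y => FintypeCat.homMk (fun _ => (default : W)))
    (fun Y m => by
      ext y
      exact Subsingleton.elim _ _)

/-- an empty finite type is initial -/
noncomputable def isInitialOfIsEmpty (W : FintypeCat.{u}) [IsEmpty W] : IsInitial W :=
  IsInitial.ofUniqueHom (fun Y => FintypeCat.homMk (fun w => isEmptyElim w))
    (fun Y m => by
      ext w
      exact isEmptyElim w)

/-- pullback criterion in finite types -/
noncomputable def isLimitPullbackCone {W A B C : FintypeCat.{u}} (f : A ⟶ C) (g : B ⟶ C)
    (h : W ⟶ A) (k : W ⟶ B) (comm : h ≫ f = k ≫ g)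
    (H : ∀ a b, f a = g b → ∃! w, h w = a ∧ k w = b) : IsLimit (PullbackCone.mk h k comm) :=
  PullbackCone.IsLimit.mk comm
    (fun s => FintypeCat.homMk (fun t => Classical.choose
      (H (s.fst t) (s.snd t) (ConcreteCategory.congr_hom s.condition t)).exists))
    (fun s => by
      ext t
      exact (Classical.choose_spec
        (H (s.fst t) (s.snd t) (ConcreteCategory.congr_hom s.condition t)).exists).1)
    (fun s => by
      ext t
      exact (Classical.choose_spec
        (H (s.fst t) (s.snd t) (ConcreteCategory.congr_hom s.condition t)).exists).2)
    (fun s m h1 h2 => by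
      ext t
      have hx := H (s.fst t) (s.snd t) (ConcreteCategory.congr_hom s.condition t)
      apply hx.unique
      · exact ⟨ConcreteCategory.congr_hom h1 t, ConcreteCategory.congr_hom h2 t⟩
      · exact Classical.choose_spec hx.exists)

open Classical in
/-- binary coproduct criterion in finite types -/
noncomputable def isColimitBinaryCofan {W A B : FintypeCat.{u}} (h : A ⟶ W) (k : B ⟶ W)
    (hinj : Function.Injective h) (kinj : Function.Injective k) (hdisj : ∀ a b, h a ≠ k b)
    (hsurj : ∀ w, (∃ a, h a = w) ∨ (∃ b, k b = w)) : IsColimit (BinaryCofan.mk h k) :=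
  BinaryCofan.IsColimit.mk _
    (fun {T} u v => FintypeCat.homMk (fun w =>
      if hw : ∃ a, h a = w then u (Classical.choose hw)
      else v (Classical.choose ((hsurj w).resolve_left hw))))
    (fun {T} u v => by
      ext a
      have hw : ∃ a', h a' = h a := ⟨a, rfl⟩
      show (if hw : ∃ a', h a' = h a then u (Classical.choose hw)
        else v (Classical.choose ((hsurj (h a)).resolve_left hw))) = u a
      rw [dif_pos hw]
      exact congrArg u (hinj (Classical.choose_spec hw)))
    (fun {T} u v => by
      ext b
      have hw : ¬ ∃ a', h a' = k b := fun ⟨a', ha'⟩ => hdisj a' b ha'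
      show (if hw : ∃ a', h a' = k b then u (Classical.choose hw)
        else v (Classical.choose ((hsurj (k b)).resolve_left hw))) = v b
      rw [dif_neg hw]
      exact congrArg v (kinj (Classical.choose_spec ((hsurj (k b)).resolve_left hw))))
    (fun {T} u v m h1 h2 => by
      ext w
      show m w = (if hw : ∃ a, h a = w then u (Classical.choose hw)
        else v (Classical.choose ((hsurj w).resolve_left hw)))
      by_cases hw : ∃ a, h a = w
      · rw [dif_pos hw]
        have := ConcreteCategory.congr_hom h1 (Classical.choose hw)
        have e : m w = m (h (Classical.choose hw)) :=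
          congrArg (fun z => m z) (Classical.choose_spec hw).symm
        exact e.trans this
      · rw [dif_neg hw]
        have := ConcreteCategory.congr_hom h2 (Classical.choose ((hsurj w).resolve_left hw))
        have e : m w = m (k (Classical.choose ((hsurj w).resolve_left hw))) :=
          congrArg (fun z => m z) (Classical.choose_spec ((hsurj w).resolve_left hw)).symm
        exact e.trans this)

end Groth.Agent.Lib.helper23.FinCatLib
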