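import Mathlib
import Groth.Prelude.Def_SchFin2
import Groth.Agent.Lib.helper23.FEtSplit
import Groth.Agent.Lib.helper23.FibLib
import Groth.Agent.Lib.helper23.FinCatLib

/-! The fibre functor of a geometric point on étale covers of a finite ringed poset. -/

set_option autoImplicit false

open TensorProduct CategoryTheory CategoryTheory.Limits

universe u

namespace Groth.Agent.Lib.helper23.FEtLib

open SchFin
open Groth.Agent.Lib.helper23.FibLib Groth.Agent.Lib.helper23.FinCatLib

section ProdPts

variable {R : Type u} [CommRing R] {K : Type u} [Field K] [Algebra R K]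
variable {A B : Type u} [CommRing A] [CommRing B] [Algebra R A] [Algebra R B]

/-- a point of a product with value `1` at `(1, 0)` comes from the first factor -/
noncomputable def ptFst (χ : (A × B) →ₐ[R] K) (h : χ ((1, 0) : A × B) = 1) : A →ₐ[R] K where
  toFun a := χ ((a, 0) : A × B)
  map_one' := h
  map_mul' a a' := by
    rw [← map_mul]
    congr 1
    exact Prod.ext rfl (mul_zero 0).symm
  map_zero' := map_zero χ
  map_add' a a' := by
    rw [← map_add]
    congr 1
    exact Prod.ext rfl (add_zero 0).symm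
  commutes' r := by
    have h1 : ((algebraMap R A r, 0) : A × B) = algebraMap R (A × B) r * (1, 0) :=
      Prod.ext (mul_one _).symm (mul_zero _).symm
    show χ ((algebraMap R A r, 0) : A × B) = _
    rw [h1, map_mul, h, mul_one]
    exact χ.commutes r

/-- a point of a product with value `1` at `(0, 1)` comes from the second factor -/
noncomputable def ptSnd (χ : (A × B) →ₐ[R] K) (h : χ ((0, 1) : A × B) = 1) : B →ₐ[R] K where
  toFun b := χ ((0, b) : A × B)
  map_one' := h
  map_mul' b b' := by
    rw [← map_mul]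
    congr 1
    exact Prod.ext (mul_zero 0).symm rfl
  map_zero' := map_zero χ
  map_add' b b' := by
    rw [← map_add]
    congr 1
    exact Prod.ext (add_zero 0).symm rfl
  commutes' r := by
    have h1 : ((0, algebraMap R B r) : A × B) = algebraMap R (A × B) r * (0, 1) :=
      Prod.ext (mul_zero _).symm (mul_one _).symm
    show χ ((0, algebraMap R B r) : A × B) = _
    rw [h1, map_mul, h, mul_one]
    exact χ.commutes r

lemma pt_prod_cases (χ : (A × B) →ₐ[R] K) :
    (χ ((1, 0) : A × B) = 1 ∧ χ ((0, 1) : A × B) = 0) ∨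
    (χ ((1, 0) : A × B) = 0 ∧ χ ((0, 1) : A × B) = 1) := by
  have hsum : χ ((1, 0) : A × B) + χ ((0, 1) : A × B) = 1 := by
    rw [← map_add, ← map_one χ]
    congr 1
    exact Prod.ext (add_zero 1) (zero_add 1)
  have hmul : χ ((1, 0) : A × B) * χ ((0, 1) : A × B) = 0 := by
    rw [← map_mul, ← map_zero χ]
    congr 1
    exact Prod.ext (mul_zero 1) (zero_mul 1)
  rcases mul_eq_zero.1 hmul with h | h
  · right
    rw [h, zero_add] at hsum
    exact ⟨h, hsum⟩
  · left
    rw [h, add_zero] at hsum
    exact ⟨hsum, h⟩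

lemma ptFst_comp_fst (χ : (A × B) →ₐ[R] K) (h : χ ((1, 0) : A × B) = 1)
    (h' : χ ((0, 1) : A × B) = 0) : (ptFst χ h).comp (AlgHom.fst R A B) = χ := by
  apply AlgHom.ext
  intro x
  show χ ((x.1, 0) : A × B) = χ x
  have h1 : x = ((x.1, 0) : A × B) + x * ((0, 1) : A × B) :=
    Prod.ext (by simp) (by simp)
  conv_rhs => rw [h1, map_add, map_mul, h', mul_zero, add_zero]

lemma ptSnd_comp_snd (χ : (A × B) →ₐ[R] K) (h : χ ((0, 1) : A × B) = 1)
    (h' : χ ((1, 0) : A × B) = 0) : (ptSnd χ h).comp (AlgHom.snd R A B) = χ := by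
  apply AlgHom.ext
  intro x
  show χ ((0, x.2) : A × B) = χ x
  have h1 : x = ((0, x.2) : A × B) + x * ((1, 0) : A × B) :=
    Prod.ext (by simp) (by simp)
  conv_rhs => rw [h1, map_add, map_mul, h', mul_zero, add_zero]

end ProdPts

variable {X : RSpace.{u}} {Ω : Type u} [Field Ω] [IsAlgClosed Ω] (ξ : GeomPt X Ω)

/-- the algebra structure of the field over the ring of the base point -/
@[reducible] noncomputable def algΩ : Algebra (X.ring ξ.base) Ω := ξ.toField.toAlgebra

attribute [local instance] algΩ

/-- the point of the fibre attached to an algebra map to the field -/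
noncomputable def fibPt (A : Alg X) (φ : A.carrier ξ.base →ₐ[X.ring ξ.base] Ω) : ξ.Fib A :=
  ptSpec φ

lemma fibPt_injective (A : Alg X) : Function.Injective (fibPt ξ A) := ptSpec_injective

lemma fibPt_surjective (A : Alg X) (hA : Module.Finite (X.ring ξ.base) (A.carrier ξ.base)) :
    Function.Surjective (fibPt ξ A) := ptSpec_surjective

lemma fibMap_fibPt {A B : Alg X} (f : A ⟶ B) (ψ : B.carrier ξ.base →ₐ[X.ring ξ.base] Ω) :
    ξ.fibMap f (fibPt ξ B ψ) = fibPt ξ A (ψ.comp (f.app ξ.base)) :=
  ptSpec_comap (f.app ξ.base) ψ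

lemma fibFunctor_map_apply {A B : (FEt X)ᵒᵖ} (f : A ⟶ B) (z : ξ.Fib A.unop.obj) :
    (ξ.fibFunctor.map f) z = ξ.fibMap f.unop.hom z := rfl

section Terminal

/-- the structure algebra as an étale cover -/
def strFEt (X : RSpace.{u}) : FEt X := ⟨Alg.str X, str_isEtCover X⟩

/-- the structure algebra is initial among étale covers -/
def strFEt_isInitial (X : RSpace.{u}) : IsInitial (strFEt X) :=
  IsInitial.ofUniqueHom (fun Y => ObjectProperty.homMk (strHom Y.obj))
    (fun Y m => ObjectProperty.hom_ext _ (strHom_unique Y.obj m.hom))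

lemma fib_str_unique (z z' : ξ.Fib (Alg.str X)) : z = z' := by
  have hfin : Module.Finite (X.ring ξ.base) ((Alg.str X).carrier ξ.base) :=
    ((str_isEtCover X).2 ξ.base).1
  obtain ⟨φ, rfl⟩ := fibPt_surjective ξ (Alg.str X) hfin z
  obtain ⟨φ', rfl⟩ := fibPt_surjective ξ (Alg.str X) hfin z'
  congr 1
  apply AlgHom.ext
  intro a
  have h1 := φ.commutes a
  have h2 := φ'.commutes a
  exact h1.trans h2.symm

lemma fib_str_nonempty : Nonempty (ξ.Fib (Alg.str X)) :=
  ⟨fibPt ξ (Alg.str X) (Algebra.ofId (X.ring ξ.base) Ω)⟩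

theorem preservesTerminal_fibFunctor :
    PreservesLimitsOfShape (Discrete PEmpty.{1}) ξ.fibFunctor := by
  have hT : IsTerminal (Opposite.op (strFEt X)) := terminalOpOfInitial (strFEt_isInitial X)
  haveI : Unique (ξ.fibFunctor.obj (Opposite.op (strFEt X))) :=
    { default := (fib_str_nonempty ξ).some
      uniq := fun z => fib_str_unique ξ z _ }
  have hFT : IsTerminal (ξ.fibFunctor.obj (Opposite.op (strFEt X))) := isTerminalOfUnique _
  haveI : PreservesLimit (Functor.empty.{0} (FEt X)ᵒᵖ) ξ.fibFunctor :=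
    preservesLimit_of_preserves_limit_cone hT
      ((isLimitMapConeEmptyConeEquiv ξ.fibFunctor (Opposite.op (strFEt X))).symm hFT)
  exact preservesLimitsOfShape_pempty_of_preservesTerminal ξ.fibFunctor

end Terminal

section Coprod

/-- the zero algebra as an étale cover -/
def termFEt (X : RSpace.{u}) : FEt X := ⟨termAlg X, termAlg_isEtCover X⟩

/-- the zero algebra is terminal among étale covers -/
def termFEt_isTerminal (X : RSpace.{u}) : IsTerminal (termFEt X) :=
  IsTerminal.ofUniqueHom (fun Y => ObjectProperty.homMk (termHom Y.obj))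
    (fun Y m => ObjectProperty.hom_ext _ (termHom_unique Y.obj m.hom _))

lemma fib_term_isEmpty : IsEmpty (ξ.Fib (termAlg X)) := by
  constructor
  intro z
  have hfin : Module.Finite (X.ring ξ.base) ((termAlg X).carrier ξ.base) :=
    ((termAlg_isEtCover X).2 ξ.base).1
  obtain ⟨φ, rfl⟩ := fibPt_surjective ξ (termAlg X) hfin z
  have h1 : φ 1 = 1 := map_one φ
  have h0 : φ 0 = 0 := map_zero φ
  have : (1 : (termAlg X).carrier ξ.base) = 0 := rfl
  rw [this, h0] at h1
  exact zero_ne_one h1

theorem preservesInitial_fibFunctor :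
    PreservesColimitsOfShape (Discrete PEmpty.{1}) ξ.fibFunctor := by
  have hT : IsInitial (Opposite.op (termFEt X)) := initialOpOfTerminal (termFEt_isTerminal X)
  haveI : IsEmpty (ξ.fibFunctor.obj (Opposite.op (termFEt X))) := fib_term_isEmpty ξ
  have hFT : IsInitial (ξ.fibFunctor.obj (Opposite.op (termFEt X))) := isInitialOfIsEmpty _
  haveI : PreservesColimit (Functor.empty.{0} (FEt X)ᵒᵖ) ξ.fibFunctor :=
    preservesColimit_of_preserves_colimit_cocone hT
      ((isColimitMapCoconeEmptyCoconeEquiv ξ.fibFunctor (Opposite.op (termFEt X))).symm hFT)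
  exact preservesColimitsOfShape_pempty_of_preservesInitial ξ.fibFunctor

end Coprod

section BinCoprod

variable (A B : Alg X)

lemma fibMap_prodFst_injective (hA : Module.Finite (X.ring ξ.base) (A.carrier ξ.base)) :
    Function.Injective (ξ.fibMap (prodFst A B)) := by
  intro z z' h
  obtain ⟨φ, rfl⟩ := fibPt_surjective ξ A hA z
  obtain ⟨φ', rfl⟩ := fibPt_surjective ξ A hA z'
  rw [fibMap_fibPt, fibMap_fibPt] at h
  have h2 := fibPt_injective ξ (prodAlg A B) h
  congr 1
  apply AlgHom.ext
  intro a
  exact AlgHom.congr_fun h2 ((a, 0) : A.carrier ξ.base × B.carrier ξ.base)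

lemma fibMap_prodSnd_injective (hB : Module.Finite (X.ring ξ.base) (B.carrier ξ.base)) :
    Function.Injective (ξ.fibMap (prodSnd A B)) := by
  intro z z' h
  obtain ⟨φ, rfl⟩ := fibPt_surjective ξ B hB z
  obtain ⟨φ', rfl⟩ := fibPt_surjective ξ B hB z'
  rw [fibMap_fibPt, fibMap_fibPt] at h
  have h2 := fibPt_injective ξ (prodAlg A B) h
  congr 1
  apply AlgHom.ext
  intro b
  exact AlgHom.congr_fun h2 ((0, b) : A.carrier ξ.base × B.carrier ξ.base)

lemma fibMap_prod_disjoint (hA : Module.Finite (X.ring ξ.base) (A.carrier ξ.base))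
    (hB : Module.Finite (X.ring ξ.base) (B.carrier ξ.base)) (z : ξ.Fib A) (z' : ξ.Fib B) :
    ξ.fibMap (prodFst A B) z ≠ ξ.fibMap (prodSnd A B) z' := by
  intro h
  obtain ⟨φ, rfl⟩ := fibPt_surjective ξ A hA z
  obtain ⟨φ', rfl⟩ := fibPt_surjective ξ B hB z'
  rw [fibMap_fibPt, fibMap_fibPt] at h
  have h2 := fibPt_injective ξ (prodAlg A B) h
  have h3 := AlgHom.congr_fun h2 ((1, 0) : A.carrier ξ.base × B.carrier ξ.base)
  have h4 : φ 1 = φ' 0 := h3
  rw [map_one, map_zero] at h4
  exact one_ne_zero h4

lemma fibMap_prod_cover (hA : Module.Finite (X.ring ξ.base) (A.carrier ξ.base))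
    (hB : Module.Finite (X.ring ξ.base) (B.carrier ξ.base)) (w : ξ.Fib (prodAlg A B)) :
    (∃ z, ξ.fibMap (prodFst A B) z = w) ∨ ∃ z', ξ.fibMap (prodSnd A B) z' = w := by
  have hP : Module.Finite (X.ring ξ.base) ((prodAlg A B).carrier ξ.base) :=
    (inferInstance : Module.Finite (X.ring ξ.base) (A.carrier ξ.base × B.carrier ξ.base))
  obtain ⟨χ, rfl⟩ := fibPt_surjective ξ (prodAlg A B) hP w
  let χ' : (A.carrier ξ.base × B.carrier ξ.base) →ₐ[X.ring ξ.base] Ω := χ
  rcases pt_prod_cases χ' with ⟨h1, h0⟩ | ⟨h0, h1⟩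
  · left
    refine ⟨fibPt ξ A (ptFst χ' h1), ?_⟩
    rw [fibMap_fibPt]
    congr 1
    exact ptFst_comp_fst χ' h1 h0
  · right
    refine ⟨fibPt ξ B (ptSnd χ' h1), ?_⟩
    rw [fibMap_fibPt]
    congr 1
    exact ptSnd_comp_snd χ' h1 h0

end BinCoprod

section BinCoprodCat

variable (A B : FEt X)

/-- the product of two étale covers -/
def prodFEt : FEt X := ⟨prodAlg A.obj B.obj, prodAlg_isEtCover A.obj B.obj A.property B.property⟩

/-- first projection -/
def prodFEtFst : prodFEt A B ⟶ A := ObjectProperty.homMk (prodFst A.obj B.obj)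

/-- second projection -/
def prodFEtSnd : prodFEt A B ⟶ B := ObjectProperty.homMk (prodSnd A.obj B.obj)

/-- the product of étale covers is a coproduct in the opposite category -/
def opCofanIsColimit :
    IsColimit (BinaryCofan.mk (prodFEtFst A B).op (prodFEtSnd A B).op) :=
  BinaryCofan.IsColimit.mk _
    (fun {T} u v => (ObjectProperty.homMk (prodLift u.unop.hom v.unop.hom) :
      T.unop ⟶ prodFEt A B).op)
    (fun {T} u v => by
      apply Quiver.Hom.unop_inj
      apply ObjectProperty.hom_ext
      exact prodLift_fst u.unop.hom v.unop.hom)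
    (fun {T} u v => by
      apply Quiver.Hom.unop_inj
      apply ObjectProperty.hom_ext
      exact prodLift_snd u.unop.hom v.unop.hom)
    (fun {T} u v m h1 h2 => by
      apply Quiver.Hom.unop_inj
      apply ObjectProperty.hom_ext
      apply prod_hom_ext
      · refine Eq.trans ?_ (prodLift_fst u.unop.hom v.unop.hom).symm
        exact congrArg (fun w => w.unop.hom) h1
      · refine Eq.trans ?_ (prodLift_snd u.unop.hom v.unop.hom).symm
        exact congrArg (fun w => w.unop.hom) h2)

theorem preservesColimit_pair_fibFunctor :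
    PreservesColimit (pair (Opposite.op A) (Opposite.op B)) ξ.fibFunctor := by
  have hA : Module.Finite (X.ring ξ.base) (A.obj.carrier ξ.base) := (A.property.2 ξ.base).1
  have hB : Module.Finite (X.ring ξ.base) (B.obj.carrier ξ.base) := (B.property.2 ξ.base).1
  apply preservesColimit_of_preserves_colimit_cocone (opCofanIsColimit A B)
  apply (isColimitMapCoconeBinaryCofanEquiv _ _ _).symm _
  apply isColimitBinaryCofan
  · exact fibMap_prodFst_injective ξ A.obj B.obj hA
  · exact fibMap_prodSnd_injective ξ A.obj B.obj hB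
  · exact fibMap_prod_disjoint ξ A.obj B.obj hA hB
  · exact fibMap_prod_cover ξ A.obj B.obj hA hB

theorem preservesBinaryCoproducts_fibFunctor :
    PreservesColimitsOfShape (Discrete WalkingPair) ξ.fibFunctor := by
  constructor
  intro K
  haveI := preservesColimit_pair_fibFunctor ξ (K.obj ⟨WalkingPair.left⟩).unop
    (K.obj ⟨WalkingPair.right⟩).unop
  exact preservesColimit_of_iso_diagram ξ.fibFunctor (diagramIsoPair K).symm

end BinCoprodCat

theorem hasFiniteProducts_FEt (X : RSpace.{u}) : HasFiniteProducts (FEt X) := by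
  haveI := hasTerminal_FEt X
  haveI := hasBinaryProducts_FEt X
  exact hasFiniteProducts_of_has_binary_and_terminal

theorem preservesFiniteCoproducts_fibFunctor : PreservesFiniteCoproducts ξ.fibFunctor := by
  haveI := hasFiniteProducts_FEt X
  haveI : HasFiniteCoproducts (FEt X)ᵒᵖ := hasFiniteCoproducts_opposite
  haveI := preservesBinaryCoproducts_fibFunctor ξ
  haveI := preservesInitial_fibFunctor ξ
  exact ⟨fun n => preservesShape_fin_of_preserves_binary_and_initial ξ.fibFunctor n⟩

section PullbackFib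

open Groth.Agent.Lib.helper23.PushoutAlg

variable {C A B : Alg X} (f : C ⟶ A) (g : C ⟶ B)

lemma fib_po_existsUnique (hA : Module.Finite (X.ring ξ.base) (A.carrier ξ.base))
    (hB : Module.Finite (X.ring ξ.base) (B.carrier ξ.base))
    (hP : Module.Finite (X.ring ξ.base) ((poAlg f g).carrier ξ.base))
    (a : ξ.Fib A) (b : ξ.Fib B) (hab : ξ.fibMap f a = ξ.fibMap g b) :
    ∃! w : ξ.Fib (poAlg f g), ξ.fibMap (poInl f g) w = a ∧ ξ.fibMap (poInr f g) w = b := by
  obtain ⟨φ, rfl⟩ := fibPt_surjective ξ A hA a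
  obtain ⟨ψ, rfl⟩ := fibPt_surjective ξ B hB b
  rw [fibMap_fibPt, fibMap_fibPt] at hab
  have h2 := fibPt_injective ξ C hab
  have hc : ∀ c, φ ((f.app ξ.base).toRingHom c) = ψ ((g.app ξ.base).toRingHom c) :=
    fun c => AlgHom.congr_fun h2 c
  let χ : (poAlg f g).carrier ξ.base →ₐ[X.ring ξ.base] Ω :=
    descₐ (f.app ξ.base).toRingHom (g.app ξ.base).toRingHom φ ψ hc
  refine ⟨fibPt ξ (poAlg f g) χ, ⟨?_, ?_⟩, ?_⟩
  · rw [fibMap_fibPt]
    congr 1
    apply AlgHom.ext
    intro a'
    exact descₐ_inl (f.app ξ.base).toRingHom (g.app ξ.base).toRingHom φ ψ hc a'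
  · rw [fibMap_fibPt]
    congr 1
    apply AlgHom.ext
    intro b'
    exact descₐ_inr (f.app ξ.base).toRingHom (g.app ξ.base).toRingHom φ ψ hc b'
  · rintro w ⟨hw1, hw2⟩
    obtain ⟨χ', rfl⟩ := fibPt_surjective ξ (poAlg f g) hP w
    rw [fibMap_fibPt] at hw1 hw2
    have e1 := fibPt_injective ξ A hw1
    have e2 := fibPt_injective ξ B hw2
    congr 1
    apply algHom_ext (R := X.ring ξ.base) (f.app ξ.base).toRingHom (g.app ξ.base).toRingHom
    · intro a'
      have := AlgHom.congr_fun e1 a'
      refine this.trans ?_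
      exact (descₐ_inl (f.app ξ.base).toRingHom (g.app ξ.base).toRingHom φ ψ hc a').symm
    · intro b'
      have := AlgHom.congr_fun e2 b'
      refine this.trans ?_
      exact (descₐ_inr (f.app ξ.base).toRingHom (g.app ξ.base).toRingHom φ ψ hc b').symm

end PullbackFib

section PullbackCat

variable {C A B : FEt X} (f : C ⟶ A) (g : C ⟶ B)

/-- the pushout of étale covers -/
noncomputable def poFEt : FEt X :=
  ⟨poAlg f.hom g.hom, poAlg_isEtCover f.hom g.hom C.property A.property B.property⟩

/-- left inclusion -/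
noncomputable def poFEtInl : A ⟶ poFEt f g := ObjectProperty.homMk (poInl f.hom g.hom)

/-- right inclusion -/
noncomputable def poFEtInr : B ⟶ poFEt f g := ObjectProperty.homMk (poInr f.hom g.hom)

lemma poFEt_condition : f ≫ poFEtInl f g = g ≫ poFEtInr f g :=
  ObjectProperty.hom_ext _ (po_condition f.hom g.hom)

lemma poFEt_op_condition : (poFEtInl f g).op ≫ f.op = (poFEtInr f g).op ≫ g.op := by
  rw [← op_comp, ← op_comp, poFEt_condition]

lemma cone_cond (s : PullbackCone f.op g.op) :
    f.hom ≫ s.fst.unop.hom = g.hom ≫ s.snd.unop.hom :=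
  congrArg (fun w => w.unop.hom) s.condition

/-- the pushout of étale covers is a pullback in the opposite category -/
noncomputable def opPullbackIsLimit :
    IsLimit (PullbackCone.mk (poFEtInl f g).op (poFEtInr f g).op (poFEt_op_condition f g)) :=
  PullbackCone.IsLimit.mk (poFEt_op_condition f g)
    (fun s => (ObjectProperty.homMk
      (poDesc f.hom g.hom s.fst.unop.hom s.snd.unop.hom (cone_cond f g s)) :
      poFEt f g ⟶ s.pt.unop).op)
    (fun s => by
      apply Quiver.Hom.unop_inj
      apply ObjectProperty.hom_ext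
      exact poInl_desc f.hom g.hom s.fst.unop.hom s.snd.unop.hom (cone_cond f g s))
    (fun s => by
      apply Quiver.Hom.unop_inj
      apply ObjectProperty.hom_ext
      exact poInr_desc f.hom g.hom s.fst.unop.hom s.snd.unop.hom (cone_cond f g s))
    (fun s m h1 h2 => by
      apply Quiver.Hom.unop_inj
      apply ObjectProperty.hom_ext
      apply po_hom_ext f.hom g.hom
      · refine Eq.trans ?_
          (poInl_desc f.hom g.hom s.fst.unop.hom s.snd.unop.hom (cone_cond f g s)).symm
        exact congrArg (fun w => w.unop.hom) h1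
      · refine Eq.trans ?_
          (poInr_desc f.hom g.hom s.fst.unop.hom s.snd.unop.hom (cone_cond f g s)).symm
        exact congrArg (fun w => w.unop.hom) h2)

theorem preservesLimit_cospan_fibFunctor :
    PreservesLimit (cospan f.op g.op) ξ.fibFunctor := by
  have hA : Module.Finite (X.ring ξ.base) (A.obj.carrier ξ.base) := (A.property.2 ξ.base).1
  have hB : Module.Finite (X.ring ξ.base) (B.obj.carrier ξ.base) := (B.property.2 ξ.base).1
  have hP : Module.Finite (X.ring ξ.base) ((poAlg f.hom g.hom).carrier ξ.base) :=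
    ((poFEt f g).property.2 ξ.base).1
  apply preservesLimit_of_preserves_limit_cone (opPullbackIsLimit f g)
  apply (isLimitMapConePullbackConeEquiv _ _).symm _
  apply isLimitPullbackCone
  intro a b hab
  exact fib_po_existsUnique ξ f.hom g.hom hA hB hP a b hab

theorem preservesPullbacks_fibFunctor :
    PreservesLimitsOfShape WalkingCospan ξ.fibFunctor := by
  constructor
  intro K
  haveI : PreservesLimit (cospan (K.map WalkingCospan.Hom.inl) (K.map WalkingCospan.Hom.inr))
      ξ.fibFunctor :=
    preservesLimit_cospan_fibFunctor ξ (K.map WalkingCospan.Hom.inl).unop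
      (K.map WalkingCospan.Hom.inr).unop
  exact preservesLimit_of_iso_diagram ξ.fibFunctor (diagramIsoCospan K).symm

end PullbackCat

section Epi

/-- points extend along injective maps of finite algebras -/
lemma exists_extension {R A B K : Type u} [CommRing R] [CommRing A] [CommRing B] [Field K]
    [IsAlgClosed K] [Algebra R A] [Algebra R B] [Algebra R K] [Module.Finite R B]
    (f : A →ₐ[R] B) (hf : Function.Injective f) (φ : A →ₐ[R] K) :
    ∃ ψ : B →ₐ[R] K, ψ.comp f = φ := by
  letI : Algebra A B := f.toRingHom.toAlgebra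
  letI : Algebra A K := φ.toRingHom.toAlgebra
  haveI : IsScalarTower R A B := IsScalarTower.of_algebraMap_eq fun r => (f.commutes r).symm
  haveI : Module.Finite A B := Module.Finite.of_restrictScalars_finite R A B
  obtain ⟨ψ⟩ := exists_algHom_of_finite_injective (A := A) (B := B) (Ω := K) hf
  have hψ : ∀ a, ψ (f a) = φ a := fun a => ψ.commutes a
  refine ⟨{ ψ.toRingHom with
    commutes' := fun r => by
      show ψ (algebraMap R B r) = algebraMap R K r
      rw [← f.commutes r, hψ, φ.commutes] }, ?_⟩
  apply AlgHom.ext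
  intro a
  exact hψ a

lemma fibMap_surjective_of_injective {A B : Alg X} (f : A ⟶ B)
    (hinj : Function.Injective (f.app ξ.base))
    (hA : Module.Finite (X.ring ξ.base) (A.carrier ξ.base))
    (hB : Module.Finite (X.ring ξ.base) (B.carrier ξ.base)) :
    Function.Surjective (ξ.fibMap f) := by
  intro z
  obtain ⟨φ, rfl⟩ := fibPt_surjective ξ A hA z
  obtain ⟨ψ, hψ⟩ := exists_extension (f.app ξ.base) hinj φ
  refine ⟨fibPt ξ B ψ, ?_⟩
  rw [fibMap_fibPt, hψ]

theorem preservesEpimorphisms_fibFunctor (hX : X.IsFinSp) :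
    ξ.fibFunctor.PreservesEpimorphisms := by
  constructor
  intro A B f hf
  haveI : Mono f.unop := unop_mono_of_epi f
  apply epi_of_surjective
  exact fibMap_surjective_of_injective ξ f.unop.hom (injective_of_mono hX f.unop ξ.base)
    (B.unop.property.2 ξ.base).1 (A.unop.property.2 ξ.base).1

end Epi

end Groth.Agent.Lib.helper23.FEtLib
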