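import Mathlib
import Groth.Prelude.Def_FibCat2
open CategoryTheory CategoryTheory.Limits

namespace Groth.Agent.H23.FibGrpdPB
universe v₁ u₁ v₂ u₂ v₃ u₃

section
variable {C : Type u₁} [Category.{v₁} C] {𝒳 : Type u₂} [Category.{v₂} 𝒳] (p : 𝒳 ⥤ C)

lemma isSC (h : FibCat.IsFibGrpd p) {R S : C} (f : R ⟶ S) {a b : 𝒳} (φ : a ⟶ b) [p.IsHomLift f φ] :
    p.IsStronglyCartesian f φ := by
  subst_hom_lift p f φ
  exact h.isStronglyCartesian φ

variable {𝒴 : Type u₃} [Category.{v₃} 𝒴] (q : 𝒴 ⥤ 𝒳)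

lemma isHomLift_comp {R S : C} (f : R ⟶ S) {a b : 𝒴} (φ : a ⟶ b) [(q ⋙ p).IsHomLift f φ] :
    p.IsHomLift f (q.map φ) := by
  subst_hom_lift (q ⋙ p) f φ
  show p.IsHomLift (p.map (q.map φ)) (q.map φ)
  infer_instance

lemma isHomLift_of_comp {R S : C} (f : R ⟶ S) {a b : 𝒴} (φ : a ⟶ b) [p.IsHomLift f (q.map φ)] :
    (q ⋙ p).IsHomLift f φ := by
  subst_hom_lift p f (q.map φ)
  show (q ⋙ p).IsHomLift ((q ⋙ p).map φ) φ
  infer_instance

lemma isHomLift_comp2 {R S : C} (f : R ⟶ S) {a b : 𝒳} (φ : a ⟶ b) {c d : 𝒴} (ψ : c ⟶ d)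
    [p.IsHomLift f φ] [q.IsHomLift φ ψ] : (q ⋙ p).IsHomLift f ψ := by
  subst_hom_lift q φ ψ
  exact isHomLift_of_comp p q f ψ

theorem comp_fibGrpd (hp : FibCat.IsFibGrpd p) (hq : FibCat.IsFibGrpd q) :
    FibCat.IsFibGrpd (q ⋙ p) := by
  constructor
  · intro x V f
    obtain ⟨y, φ, hφ⟩ := hp.exists_lift (x := q.obj x) f
    obtain ⟨z, ψ, hψ⟩ := hq.exists_lift φ
    exact ⟨z, ψ, isHomLift_comp2 p q f φ ψ⟩
  · intro y x φ
    refine { toIsHomLift := inferInstance, universal_property' := ?_ }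
    intro a' g φ' hφ'
    have hSCp : p.IsStronglyCartesian (p.map (q.map φ)) (q.map φ) := hp.isStronglyCartesian _
    have h0 : (q ⋙ p).IsHomLift (g ≫ p.map (q.map φ)) φ' := hφ'
    have : p.IsHomLift (g ≫ p.map (q.map φ)) (q.map φ') := isHomLift_comp p q _ φ'
    obtain ⟨χ', ⟨hχ'l, hχ'f⟩, hχ'u⟩ :=
      Functor.IsStronglyCartesian.universal_property' (p := p) (f := p.map (q.map φ))
        (φ := q.map φ) g (q.map φ')
    have hSCq : q.IsStronglyCartesian (q.map φ) φ := hq.isStronglyCartesian _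
    have : q.IsHomLift (χ' ≫ q.map φ) φ' := by
      rw [hχ'f]
      infer_instance
    obtain ⟨χ, ⟨hχl, hχf⟩, hχu⟩ :=
      Functor.IsStronglyCartesian.universal_property' (p := q) (f := q.map φ)
        (φ := φ) χ' φ'
    refine ⟨χ, ⟨isHomLift_comp2 p q g χ' χ, hχf⟩, ?_⟩
    rintro χ₂ ⟨h₂l, h₂f⟩
    have : p.IsHomLift g (q.map χ₂) := isHomLift_comp p q g χ₂
    have e : q.map χ₂ = χ' := hχ'u _ ⟨inferInstance, by rw [← q.map_comp, h₂f]⟩
    apply hχu
    refine ⟨?_, h₂f⟩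
    rw [← e]
    infer_instance

end


section
universe v u

variable {S : Type u} [Category.{v} S] {X : Type u} [Category.{v} X]
    {Y : Type u} [Category.{v} Y] (πX : X ⥤ S) (F : Y ⥤ X)

lemma iso_aux (z : CategoricalPullback F (𝟭 X)) {W : X} (a : W ⟶ z.snd) :
    (a ≫ z.iso.inv) ≫ z.iso.hom = a :=
  (Category.assoc _ _ _).trans ((congrArg (a ≫ ·) z.iso.inv_hom_id).trans (Category.comp_id a))

theorem part1 (hX : FibCat.IsFibGrpd πX) (hY : FibCat.IsFibGrpd (F ⋙ πX)) :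
    FibCat.IsFibGrpd (CategoricalPullback.π₂ F (𝟭 X)) := by
  constructor
  · intro z V a
    let b : V ⟶ F.obj z.fst := a ≫ z.iso.inv
    obtain ⟨y', ψ, hψ⟩ := hY.exists_lift (x := z.fst) (πX.map b)
    have h1 : πX.IsHomLift (πX.map b) (F.map ψ) := isHomLift_comp πX F _ ψ
    have h2 : πX.IsStronglyCartesian (πX.map b) b := isSC πX hX _ b
    have h3 : πX.IsStronglyCartesian (πX.map b) (F.map ψ) := isSC πX hX _ _
    let χ : F.obj y' ≅ V := Functor.IsCartesian.domainUniqueUpToIso πX (πX.map b) b (F.map ψ)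
    have hχ : χ.hom ≫ b = F.map ψ := Functor.IsCartesian.fac πX (πX.map b) b (F.map ψ)
    let z' : CategoricalPullback F (𝟭 X) := ⟨y', V, χ⟩
    let m : z' ⟶ z := ⟨ψ, a, by
      show F.map ψ ≫ z.iso.hom = χ.hom ≫ a
      rw [← hχ, Category.assoc]
      exact congrArg (χ.hom ≫ ·) (iso_aux F z a)⟩
    refine ⟨z', m, ?_⟩
    show (CategoricalPullback.π₂ F (𝟭 X)).IsHomLift ((CategoricalPullback.π₂ F (𝟭 X)).map m) m
    infer_instance
  · intro z' z m
    refine { toIsHomLift := inferInstance, universal_property' := ?_ }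
    intro a' g m'' hm''
    have eg : g ≫ m.snd = m''.snd :=
      @IsHomLift.eq_of_isHomLift _ _ _ _ (CategoricalPullback.π₂ F (𝟭 X)) a' z (g ≫ m.snd) m'' hm''
    let k : F.obj a'.fst ⟶ F.obj z'.fst := a'.iso.hom ≫ g ≫ z'.iso.inv
    have hk : k ≫ F.map m.fst = F.map m''.fst := by
      have w1 : F.map m.fst ≫ z.iso.hom = z'.iso.hom ≫ m.snd := m.w
      have w2 : F.map m''.fst ≫ z.iso.hom = a'.iso.hom ≫ m''.snd := m''.w
      apply (cancel_mono z.iso.hom).1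
      calc (k ≫ F.map m.fst) ≫ z.iso.hom = k ≫ (z'.iso.hom ≫ m.snd) := by rw [Category.assoc, w1]
        _ = ((a'.iso.hom ≫ g) ≫ z'.iso.inv) ≫ (z'.iso.hom ≫ m.snd) := by
            simp only [k, Category.assoc]
        _ = (((a'.iso.hom ≫ g) ≫ z'.iso.inv) ≫ z'.iso.hom) ≫ m.snd := (Category.assoc _ _ _).symm
        _ = (a'.iso.hom ≫ g) ≫ m.snd := congrArg (· ≫ m.snd) (iso_aux F z' (a'.iso.hom ≫ g))
        _ = a'.iso.hom ≫ (g ≫ m.snd) := Category.assoc _ _ _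
        _ = a'.iso.hom ≫ m''.snd := congrArg (a'.iso.hom ≫ ·) eg
        _ = F.map m''.fst ≫ z.iso.hom := w2.symm
    have : (F ⋙ πX).IsHomLift (πX.map k ≫ (F ⋙ πX).map m.fst) m''.fst := by
      have : πX.map k ≫ (F ⋙ πX).map m.fst = (F ⋙ πX).map m''.fst := by
        show πX.map k ≫ πX.map (F.map m.fst) = πX.map (F.map m''.fst)
        rw [← πX.map_comp, hk]
      rw [this]
      infer_instance
    have hSC : (F ⋙ πX).IsStronglyCartesian ((F ⋙ πX).map m.fst) m.fst := hY.isStronglyCartesian _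
    obtain ⟨χ₁, ⟨hχl, hχf⟩, hχu⟩ :=
      Functor.IsStronglyCartesian.universal_property' (p := F ⋙ πX) (f := (F ⋙ πX).map m.fst)
        (φ := m.fst) (πX.map k) m''.fst
    have hSCX : πX.IsStronglyCartesian (πX.map (F.map m.fst)) (F.map m.fst) :=
      hX.isStronglyCartesian _
    have hl1 : πX.IsHomLift (πX.map k) (F.map χ₁) := isHomLift_comp πX F _ χ₁
    have claim : F.map χ₁ = k := by
      apply Functor.IsStronglyCartesian.ext πX (πX.map (F.map m.fst)) (F.map m.fst) (πX.map k)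
      rw [hk, ← F.map_comp, hχf]
    let χ : a' ⟶ z' := ⟨χ₁, g, by
      show F.map χ₁ ≫ z'.iso.hom = a'.iso.hom ≫ g
      rw [claim]
      show (a'.iso.hom ≫ g ≫ z'.iso.inv) ≫ z'.iso.hom = a'.iso.hom ≫ g
      exact (congrArg (· ≫ z'.iso.hom) (Category.assoc a'.iso.hom g z'.iso.inv).symm).trans
        (iso_aux F z' (a'.iso.hom ≫ g))⟩
    refine ⟨χ, ⟨?_, ?_⟩, ?_⟩
    · show (CategoricalPullback.π₂ F (𝟭 X)).IsHomLift ((CategoricalPullback.π₂ F (𝟭 X)).map χ) χ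
      infer_instance
    · exact CategoricalPullback.Hom.ext hχf eg
    · rintro χ' ⟨h'l, h'f⟩
      have e2 : g = χ'.snd :=
        @IsHomLift.eq_of_isHomLift _ _ _ _ (CategoricalPullback.π₂ F (𝟭 X)) a' z' g χ' h'l
      have w' : F.map χ'.fst ≫ z'.iso.hom = a'.iso.hom ≫ χ'.snd := χ'.w
      have e3 : F.map χ'.fst = k := by
        rw [← cancel_mono z'.iso.hom, w', ← e2]
        show a'.iso.hom ≫ g = (a'.iso.hom ≫ g ≫ z'.iso.inv) ≫ z'.iso.hom
        exact ((congrArg (· ≫ z'.iso.hom) (Category.assoc a'.iso.hom g z'.iso.inv).symm).trans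
          (iso_aux F z' (a'.iso.hom ≫ g))).symm
      have : (F ⋙ πX).IsHomLift (πX.map k) χ'.fst := by
        rw [← e3]
        show (F ⋙ πX).IsHomLift ((F ⋙ πX).map χ'.fst) χ'.fst
        infer_instance
      have e1 : χ'.fst = χ₁ := hχu _ ⟨this, congrArg CategoricalPullback.Hom.fst h'f⟩
      exact CategoricalPullback.Hom.ext e1 e2.symm

theorem main16361 {πY : Y ⥤ S} (hX : FibCat.IsFibGrpd πX) (hY : FibCat.IsFibGrpd πY)
    (hF : F ⋙ πX = πY) :
    FibCat.IsFibGrpd (CategoricalPullback.π₂ F (𝟭 X)) ∧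
      FibCat.IsFibGrpd (CategoricalPullback.π₂ F (𝟭 X) ⋙ πX) := by
  subst hF
  have h1 := part1 πX F hX hY
  exact ⟨h1, comp_fibGrpd πX _ hX h1⟩

end

end Groth.Agent.H23.FibGrpdPB
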