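import Mathlib
import Groth.Agent.Lib.helper23.FibLib

/-! The number of geometric points of a finite étale algebra equals its rank. -/

set_option autoImplicit false

open TensorProduct

universe u

namespace Groth.Agent.Lib.helper23.FibLib

section Card

variable (R : Type u) [CommRing R] (Ω : Type u) [Field Ω] [IsAlgClosed Ω] [Algebra R Ω]
variable (A : Type u) [CommRing A] [Algebra R A] [Module.Finite R A] [Algebra.Etale R A]

/-- the kernel of the map to the field, as a point of the spectrum -/
noncomputable def kerPt : PrimeSpectrum R := ⟨RingHom.ker (algebraMap R Ω), RingHom.ker_isPrime _⟩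

lemma card_primeSpectrum_baseChange :
    Nat.card (PrimeSpectrum (Ω ⊗[R] A)) = Module.rankAtStalk (R := R) A (kerPt R Ω) := by
  classical
  haveI : Algebra.Etale Ω (Ω ⊗[R] A) := inferInstance
  haveI : Module.Finite Ω (Ω ⊗[R] A) := inferInstance
  haveI : Algebra.EssFiniteType Ω (Ω ⊗[R] A) := inferInstance
  haveI : Algebra.FormallyEtale Ω (Ω ⊗[R] A) := inferInstance
  let e := Algebra.FormallyEtale.equivPiOfIsSepClosed Ω (Ω ⊗[R] A)
  haveI : IsArtinianRing (Ω ⊗[R] A) := IsArtinianRing.of_finite Ω _
  haveI : Finite (PrimeSpectrum (Ω ⊗[R] A)) := inferInstance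
  letI : Fintype (PrimeSpectrum (Ω ⊗[R] A)) := Fintype.ofFinite _
  have h1 : Module.finrank Ω (Ω ⊗[R] A) = Nat.card (PrimeSpectrum (Ω ⊗[R] A)) := by
    rw [e.toLinearEquiv.finrank_eq, Module.finrank_fintype_fun_eq_card, Nat.card_eq_fintype_card]
  haveI : Module.Flat R A := inferInstance
  let b : PrimeSpectrum Ω := ⊥
  have h2 := Module.rankAtStalk_baseChange (R := R) (M := A) (S := Ω) b
  have h3 : Module.rankAtStalk (R := Ω) (Ω ⊗[R] A) b = Module.finrank Ω (Ω ⊗[R] A) := by
    rw [Module.rankAtStalk_eq_finrank_of_free]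
    rfl
  have h4 : b.comap (algebraMap R Ω) = kerPt R Ω := by
    apply PrimeSpectrum.ext
    rfl
  rw [← h1, ← h3, h2, h4]

lemma card_algHom_eq_rankAtStalk :
    Nat.card (A →ₐ[R] Ω) = Module.rankAtStalk (R := R) A (kerPt R Ω) := by
  rw [← card_primeSpectrum_baseChange R Ω A]
  exact Nat.card_eq_of_bijective _ (ptSpec_bijective (R := R) (Ω := Ω) (A := A))

end Card

section Ext2

/-- points extend along injective maps of finite algebras -/
lemma exists_extension' {R A B K : Type u} [CommRing R] [CommRing A] [CommRing B] [Field K]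
    [IsAlgClosed K] [Algebra R A] [Algebra R B] [Algebra R K] [Module.Finite R B]
    (f : A →ₐ[R] B) (hf : Function.Injective f) (φ : A →ₐ[R] K) :
    ∃ ψ : B →ₐ[R] K, ψ.comp f = φ := by
  letI : Algebra A B := f.toRingHom.toAlgebra
  letI : Algebra A K := φ.toRingHom.toAlgebra
  haveI : IsScalarTower R A B := IsScalarTower.of_algebraMap_eq fun r => (f.commutes r).symm
  haveI : Module.Finite A B := Module.Finite.of_restrictScalars_finite R A B
  obtain ⟨ψ⟩ := exists_algHom_of_finite_injective (A := A) (B := B) (Ω := K) hf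
  have hψ : ∀ a, ψ (f a) = φ a := fun a => ψ.commutes a
  refine ⟨{ ψ.toRingHom with
    commutes' := fun r => by
      show ψ (algebraMap R B r) = algebraMap R K r
      rw [← f.commutes r, hψ, φ.commutes] }, ?_⟩
  apply AlgHom.ext
  intro a
  exact hψ a

lemma finite_algHom (R : Type u) [CommRing R] (Ω : Type u) [Field Ω] [Algebra R Ω]
    (A : Type u) [CommRing A] [Algebra R A] [Module.Finite R A] : Finite (A →ₐ[R] Ω) := by
  haveI : Module.Finite Ω (Ω ⊗[R] A) := inferInstance
  haveI : IsArtinianRing (Ω ⊗[R] A) := IsArtinianRing.of_finite Ω _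
  haveI : Finite (PrimeSpectrum (Ω ⊗[R] A)) := inferInstance
  exact Finite.of_injective _ (ptSpec_injective (R := R) (Ω := Ω) (A := A))

end Ext2

section RankBij

lemma exists_algClosed_point (A : Type u) [CommRing A] (Q : PrimeSpectrum A) :
    ∃ (Ω : Type u) (_ : Field Ω) (_ : IsAlgClosed Ω) (φ : A →+* Ω), RingHom.ker φ = Q.asIdeal := by
  refine ⟨AlgebraicClosure Q.asIdeal.ResidueField, inferInstance, inferInstance,
    (algebraMap Q.asIdeal.ResidueField (AlgebraicClosure Q.asIdeal.ResidueField)).comp
      (algebraMap A Q.asIdeal.ResidueField), ?_⟩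
  ext a
  rw [RingHom.mem_ker, RingHom.comp_apply, map_eq_zero, Ideal.algebraMap_residueField_eq_zero]

variable {R A B : Type u} [CommRing R] [CommRing A] [CommRing B] [Algebra R A] [Algebra R B]
  [Module.Finite R A] [Module.Finite R B] [Algebra.Etale R A] [Algebra.Etale R B]

/-- an injective map of finite étale algebras of the same rank is bijective -/
theorem bijective_of_injective_of_rank_eq (f : A →ₐ[R] B) (hf : Function.Injective f)
    (hrank : ∀ P : PrimeSpectrum R,
      Module.rankAtStalk (R := R) A P = Module.rankAtStalk (R := R) B P) :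
    Function.Bijective f := by
  letI : Algebra A B := f.toRingHom.toAlgebra
  haveI : IsScalarTower R A B := IsScalarTower.of_algebraMap_eq fun r => (f.commutes r).symm
  haveI : Algebra.Etale A B := Algebra.Etale.of_restrictScalars R A B
  haveI : Module.Finite A B := Module.Finite.of_restrictScalars_finite R A B
  haveI : Module.Flat A B := inferInstance
  suffices h : Module.rankAtStalk (R := A) B = 1 from
    Module.algebraMap_bijective_of_rankAtStalk h
  funext Q
  obtain ⟨Ω, _, _, φ, hφ⟩ := exists_algClosed_point A Q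
  letI : Algebra A Ω := φ.toAlgebra
  letI : Algebra R Ω := ((algebraMap A Ω).comp (algebraMap R A)).toAlgebra
  haveI : IsScalarTower R A Ω := IsScalarTower.of_algebraMap_eq fun r => rfl
  have hQ : kerPt A Ω = Q := by
    apply PrimeSpectrum.ext
    exact hφ
  have hcardA := card_algHom_eq_rankAtStalk R Ω A
  have hcardB := card_algHom_eq_rankAtStalk R Ω B
  have hcardBA := card_algHom_eq_rankAtStalk A Ω B
  rw [hQ] at hcardBA
  show Module.rankAtStalk (R := A) B Q = 1
  rw [← hcardBA]
  haveI := finite_algHom R Ω A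
  haveI := finite_algHom R Ω B
  haveI := finite_algHom A Ω B
  let ρ : (B →ₐ[R] Ω) → (A →ₐ[R] Ω) := fun ψ => ψ.comp f
  have hρ : Function.Surjective ρ := fun φ => exists_extension' f hf φ
  have hρb : Function.Bijective ρ := by
    apply hρ.bijective_of_nat_card_le
    rw [hcardA, hcardB, hrank]
  haveI : Subsingleton (B →ₐ[A] Ω) := by
    constructor
    intro χ χ'
    have h1 : ρ (χ.restrictScalars R) = ρ (χ'.restrictScalars R) := by
      apply AlgHom.ext
      intro a
      show χ (f a) = χ' (f a)
      exact (χ.commutes a).trans (χ'.commutes a).symm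
    have h2 := hρb.1 h1
    apply AlgHom.ext
    intro b
    exact AlgHom.congr_fun h2 b
  haveI : Nonempty (B →ₐ[A] Ω) := exists_algHom_of_finite_injective (A := A) (B := B) (Ω := Ω) hf
  exact Nat.card_unique

end RankBij

end Groth.Agent.Lib.helper23.FibLib
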