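import Mathlib
import Groth.Prelude.Def_SchFin2
import Groth.Agent.Lib.helper23.FEtLib

/-! On a well-connected finite ringed poset the rank of an étale cover is constant. -/

set_option autoImplicit false

open TensorProduct CategoryTheory

universe u

namespace Groth.Agent.Lib.helper23.FEtLib

open SchFin
open Groth.Agent.Lib.helper23.BCRing

lemma idem_eq_zero_of_basicOpen_eq_empty {R : Type*} [CommRing R] {e : R}
    (he : IsIdempotentElem e) (h : (PrimeSpectrum.basicOpen e : Set (PrimeSpectrum R)) = ∅) :
    e = 0 := by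
  have h1 : PrimeSpectrum.basicOpen e = ⊥ := by
    apply TopologicalSpace.Opens.ext
    exact h
  rw [PrimeSpectrum.basicOpen_eq_bot_iff] at h1
  obtain ⟨n, hn⟩ := h1
  cases n with
  | zero =>
      rw [pow_zero] at hn
      rw [← mul_one e, hn, mul_zero]
  | succ n =>
      rw [he.pow_succ_eq] at hn
      exact hn

lemma idem_eq_zero_or_one {R : Type*} [CommRing R] [PreconnectedSpace (PrimeSpectrum R)] {e : R}
    (he : IsIdempotentElem e) : e = 0 ∨ e = 1 := by
  have hcl : IsClopen (PrimeSpectrum.basicOpen e : Set (PrimeSpectrum R)) :=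
    PrimeSpectrum.isClopen_iff.2 ⟨e, he, rfl⟩
  rcases isClopen_iff.1 hcl with h | h
  · left
    exact idem_eq_zero_of_basicOpen_eq_empty he h
  · right
    have h2 : (PrimeSpectrum.basicOpen (1 - e) : Set (PrimeSpectrum R)) = ∅ := by
      have h3 := PrimeSpectrum.zeroLocus_eq_basicOpen_of_isIdempotentElem e he
      rw [← h3]
      ext P
      simp only [Set.mem_empty_iff_false, iff_false]
      intro hP
      have hP' : P ∈ (PrimeSpectrum.basicOpen e : Set (PrimeSpectrum R)) := by rw [h]; trivial
      rw [PrimeSpectrum.mem_zeroLocus, Set.singleton_subset_iff] at hP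
      exact hP' hP
    have := idem_eq_zero_of_basicOpen_eq_empty he.one_sub h2
    exact (sub_eq_zero.1 this).symm

variable {X : RSpace.{u}}

section Rank

variable (A : Alg X) (hA : A.IsEtCover)

include hA in
lemma rank_const_pt (hpw : X.IsPwConnected) (p : X.pt) (P P' : PrimeSpectrum (X.ring p)) :
    Module.rankAtStalk (R := X.ring p) (A.carrier p) P =
      Module.rankAtStalk (R := X.ring p) (A.carrier p) P' := by
  haveI := (hA.2 p).1
  haveI := (hA.2 p).2
  haveI : Module.FinitePresentation (X.ring p) (A.carrier p) :=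
    Module.FinitePresentation.of_finite_of_finitePresentation (X.ring p) (A.carrier p)
  haveI : Module.Flat (X.ring p) (A.carrier p) := inferInstance
  haveI : ConnectedSpace (PrimeSpectrum (X.ring p)) := hpw p
  exact (Module.isLocallyConstant_rankAtStalk (R := X.ring p)
    (M := A.carrier p)).apply_eq_of_preconnectedSpace P P'

include hA in
lemma rank_res {p q : X.pt} (h : p ≤ q) (P' : PrimeSpectrum (X.ring q)) :
    Module.rankAtStalk (R := X.ring q) (A.carrier q) P' =
      Module.rankAtStalk (R := X.ring p) (A.carrier p) (PrimeSpectrum.comap (X.res h) P') := by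
  haveI := (hA.2 p).1
  haveI := (hA.2 p).2
  haveI : Module.Flat (X.ring p) (A.carrier p) := inferInstance
  have hq := hA.1 p q h
  unfold IsBCAlong at hq
  letI : Algebra (X.ring p) (X.ring q) := (X.res h).toAlgebra
  letI : Module (X.ring p) (A.toMod.carrier q) := Module.compHom (A.toMod.carrier q) (X.res h)
  haveI : IsScalarTower (X.ring p) (X.ring q) (A.toMod.carrier q) :=
    IsScalarTower.of_algebraMap_smul fun _ _ => rfl
  haveI : Module.Flat (X.ring p) (A.toMod.carrier p) :=
    (inferInstance : Module.Flat (X.ring p) (A.carrier p))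
  haveI : Module.Finite (X.ring p) (A.toMod.carrier p) :=
    (inferInstance : Module.Finite (X.ring p) (A.carrier p))
  exact Module.rankAtStalk_isBaseChange (M := A.toMod.carrier p) (Mₛ := A.toMod.carrier q) hq P'

end Rank

section Global

variable (A : Alg X) (hA : A.IsEtCover)

include hA in
open Classical in
theorem rank_const (hwc : X.IsWellConnected) (p q : X.pt) (P : PrimeSpectrum (X.ring p))
    (Q : PrimeSpectrum (X.ring q)) :
    Module.rankAtStalk (R := X.ring p) (A.carrier p) P =
      Module.rankAtStalk (R := X.ring q) (A.carrier q) Q := by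
  have hne : ∀ p : X.pt, Nonempty (PrimeSpectrum (X.ring p)) := fun p =>
    (hwc.2 p).toNonempty
  let P0 : ∀ p : X.pt, PrimeSpectrum (X.ring p) := fun p => (hne p).some
  let n : X.pt → ℕ := fun p => Module.rankAtStalk (R := X.ring p) (A.carrier p) (P0 p)
  have h1 : ∀ (p : X.pt) (P : PrimeSpectrum (X.ring p)),
      Module.rankAtStalk (R := X.ring p) (A.carrier p) P = n p := fun p P =>
    rank_const_pt A hA hwc.2 p P (P0 p)
  have h2 : ∀ {p q : X.pt}, p ≤ q → n q = n p := by
    intro p q h
    show Module.rankAtStalk (R := X.ring q) (A.carrier q) (P0 q) = n p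
    rw [rank_res A hA h (P0 q), h1]
  have h01 : ∀ p : X.pt, (1 : X.ring p) ≠ 0 := by
    intro p h
    have hP := (P0 p).isPrime.ne_top
    apply hP
    rw [Ideal.eq_top_iff_one, h]
    exact (P0 p).asIdeal.zero_mem
  rw [h1 p P, h1 q Q]
  let s : X.sectRing Set.univ :=
    ⟨fun r => if n r.1 = n p then 1 else 0, by
      intro r r' h
      show X.res h (if n r.1 = n p then 1 else 0) = (if n r'.1 = n p then 1 else 0)
      rw [h2 h]
      split_ifs
      · exact map_one _
      · exact map_zero _⟩
  have hs : IsIdempotentElem s := by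
    apply Subtype.ext
    funext r
    show (if n r.1 = n p then (1 : X.ring r.1) else 0) * (if n r.1 = n p then 1 else 0) =
      (if n r.1 = n p then 1 else 0)
    split_ifs
    · exact mul_one 1
    · exact mul_zero 0
  haveI : ConnectedSpace (PrimeSpectrum (X.sectRing Set.univ)) := hwc.1
  rcases idem_eq_zero_or_one hs with h | h
  · exfalso
    have h3 : s.1 ⟨p, trivial⟩ = 0 := by rw [h]; rfl
    have h4 : s.1 ⟨p, trivial⟩ = 1 := if_pos rfl
    rw [h4] at h3
    exact h01 p h3
  · by_contra hne'
    have h3 : s.1 ⟨q, trivial⟩ = 1 := by rw [h]; rfl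
    have h4 : s.1 ⟨q, trivial⟩ = 0 := if_neg (fun hh => hne' hh.symm)
    rw [h4] at h3
    exact h01 q h3.symm

end Global

end Groth.Agent.Lib.helper23.FEtLib
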