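import Mathlib
import Groth.Prelude.Def_SchFin2
import Groth.Agent.Lib.helper23.FibFun
import Groth.Agent.Lib.helper23.RankPts
import Groth.Agent.Lib.helper23.WellConn

/-! The fibre functor of a geometric point of a well-connected space reflects isomorphisms. -/

set_option autoImplicit false

open TensorProduct CategoryTheory CategoryTheory.Limits

universe u

namespace Groth.Agent.Lib.helper23.FEtLib

open SchFin
open Groth.Agent.Lib.helper23.FibLib Groth.Agent.Lib.helper23.FinCatLib

variable {X : RSpace.{u}} {Ω : Type u} [Field Ω] [IsAlgClosed Ω] (ξ : GeomPt X Ω)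

attribute [local instance] algΩ

/-- the prime of the ring of the base point cut out by the geometric point -/
noncomputable def basePrime : PrimeSpectrum (X.ring ξ.base) := kerPt (X.ring ξ.base) Ω

lemma card_fib (A : Alg X) (hA : A.IsEtCover) :
    Nat.card (ξ.Fib A) =
      Module.rankAtStalk (R := X.ring ξ.base) (A.carrier ξ.base) (basePrime ξ) := by
  haveI := (hA.2 ξ.base).1
  haveI := (hA.2 ξ.base).2
  exact card_primeSpectrum_baseChange (X.ring ξ.base) Ω (A.carrier ξ.base)

lemma finite_fib (A : Alg X) (hA : A.IsEtCover) : Finite (ξ.Fib A) := by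
  haveI := (hA.2 ξ.base).1
  haveI : Module.Finite Ω (Ω ⊗[X.ring ξ.base] A.carrier ξ.base) := inferInstance
  haveI : IsArtinianRing (Ω ⊗[X.ring ξ.base] A.carrier ξ.base) := IsArtinianRing.of_finite Ω _
  exact (inferInstance : Finite (PrimeSpectrum (Ω ⊗[X.ring ξ.base] A.carrier ξ.base)))

/-- an étale cover with empty fibre over a well-connected space is zero -/
lemma subsingleton_of_fib_isEmpty (hwc : X.IsWellConnected) (A : Alg X) (hA : A.IsEtCover)
    (hemp : IsEmpty (ξ.Fib A)) (p : X.pt) : Subsingleton (A.carrier p) := by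
  haveI := (hA.2 p).1
  haveI := (hA.2 p).2
  haveI : Module.Flat (X.ring p) (A.carrier p) := inferInstance
  rw [← Module.rankAtStalk_eq_zero_iff_subsingleton (R := X.ring p)]
  funext P
  rw [rank_const A hA hwc p ξ.base P (basePrime ξ), ← card_fib ξ A hA]
  exact Nat.card_of_isEmpty

section Main

variable {P Q : Alg X} (hP : P.IsEtCover) (hQ : Q.IsEtCover) (φ : P ⟶ Q)

include hP hQ in
theorem bijective_of_fibMap_bijective (hX : X.IsFinSp) (hwc : X.IsWellConnected)
    (hφ : Function.Bijective (ξ.fibMap φ)) (p : X.pt) : Function.Bijective (φ.app p) := by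
  obtain ⟨e, he, h1, h2, hres⟩ := exists_kerIdem hX hP hQ φ
  have hres' : ∀ {p q : X.pt} (h : p ≤ q), P.res h (1 - e p) = 1 - e q := fun h =>
    hres_one_sub e h (hres h)
  have hD : (quotAlg P (fun p => 1 - e p) hres').IsEtCover :=
    quotAlg_isEtCover P (fun p => 1 - e p) hres' hP (fun p => (he p).one_sub)
  have hPfin : Module.Finite (X.ring ξ.base) (P.carrier ξ.base) := (hP.2 ξ.base).1
  have hQfin : Module.Finite (X.ring ξ.base) (Q.carrier ξ.base) := (hQ.2 ξ.base).1
  have hDfin : Module.Finite (X.ring ξ.base)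
      ((quotAlg P (fun p => 1 - e p) hres').carrier ξ.base) := (hD.2 ξ.base).1
  -- the fibre of the complementary factor is empty
  have hemp : IsEmpty (ξ.Fib (quotAlg P (fun p => 1 - e p) hres')) := by
    constructor
    intro z
    obtain ⟨δ, rfl⟩ := fibPt_surjective ξ _ hDfin z
    let χ : P.carrier ξ.base →ₐ[X.ring ξ.base] Ω :=
      δ.comp ((quotMk P (fun p => 1 - e p) hres').app ξ.base)
    obtain ⟨w, hw⟩ := hφ.2 (fibPt ξ P χ)
    obtain ⟨ψ, rfl⟩ := fibPt_surjective ξ Q hQfin w
    rw [fibMap_fibPt] at hw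
    have hχ := fibPt_injective ξ P hw
    have e1 : χ (e ξ.base) = 0 := by
      rw [← hχ]
      show ψ (φ.app ξ.base (e ξ.base)) = 0
      rw [h1, map_zero]
    have e2 : (quotMk P (fun p => 1 - e p) hres').app ξ.base (e ξ.base) = 1 := by
      rw [← sub_eq_zero, ← map_one ((quotMk P (fun p => 1 - e p) hres').app ξ.base), ← map_sub,
        quotMk_eq_zero_iff]
      exact ⟨-1, by ring⟩
    have e3 : χ (e ξ.base) = 1 := by
      show δ ((quotMk P (fun p => 1 - e p) hres').app ξ.base (e ξ.base)) = 1
      rw [e2, map_one]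
    rw [e3] at e1
    exact one_ne_zero e1
  -- hence the kernel idempotents vanish
  have hzero : ∀ p, e p = 0 := by
    intro p
    haveI := subsingleton_of_fib_isEmpty ξ hwc _ hD hemp p
    have h3 : (quotMk P (fun p => 1 - e p) hres').app p 1 = 0 := Subsingleton.elim _ _
    rw [quotMk_eq_zero_iff] at h3
    obtain ⟨c, hc⟩ := h3
    have hee : e p * e p = e p := (he p).eq
    calc e p = e p * 1 := (mul_one _).symm
      _ = e p * (c * (1 - e p)) := by rw [← hc]
      _ = 0 := by linear_combination (-c) * hee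
  have hinj : ∀ p, Function.Injective (φ.app p) := by
    intro p
    rw [injective_iff_map_eq_zero]
    intro a ha
    have := h2 p a ha
    rw [hzero p, mul_zero] at this
    exact this
  -- the ranks agree
  haveI := finite_fib ξ P hP
  haveI := finite_fib ξ Q hQ
  have hcard : Nat.card (ξ.Fib P) = Nat.card (ξ.Fib Q) :=
    (Nat.card_eq_of_bijective _ hφ).symm
  have hrank : ∀ R' : PrimeSpectrum (X.ring p),
      Module.rankAtStalk (R := X.ring p) (P.carrier p) R' =
        Module.rankAtStalk (R := X.ring p) (Q.carrier p) R' := by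
    intro R'
    rw [rank_const P hP hwc p ξ.base R' (basePrime ξ), rank_const Q hQ hwc p ξ.base R' (basePrime ξ),
      ← card_fib ξ P hP, ← card_fib ξ Q hQ, hcard]
  haveI := (hP.2 p).1
  haveI := (hP.2 p).2
  haveI := (hQ.2 p).1
  haveI := (hQ.2 p).2
  exact bijective_of_injective_of_rank_eq (φ.app p) (hinj p) hrank

end Main

theorem reflectsIsomorphisms_fibFunctor (hX : X.IsFinSp) (hwc : X.IsWellConnected) :
    ξ.fibFunctor.ReflectsIsomorphisms := by
  constructor
  intro A B f hf
  have hb : Function.Bijective (ξ.fibMap f.unop.hom) :=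
    ConcreteCategory.bijective_of_isIso (ξ.fibFunctor.map f)
  have hbij : ∀ p, Function.Bijective (f.unop.hom.app p) := fun p =>
    bijective_of_fibMap_bijective ξ B.unop.property A.unop.property f.unop.hom hX hwc hb p
  have hiso : IsIso f.unop :=
    ⟨⟨ObjectProperty.homMk (invOfBijective f.unop.hom hbij),
      ObjectProperty.hom_ext _ (comp_invOfBijective f.unop.hom hbij),
      ObjectProperty.hom_ext _ (invOfBijective_comp f.unop.hom hbij)⟩⟩
  exact (isIso_unop_iff f).1 hiso

end Groth.Agent.Lib.helper23.FEtLib
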