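import Mathlib
import Groth.Prelude.Def_SpSeq
import Groth.Agent.Lib.helper23.SkSub
open CategoryTheory CategoryTheory.Limits

namespace Groth.Agent.H23.FilPB
universe v u
open Groth.Agent.H23.SkSub

variable {A : Type u} [Category.{v} A] [Abelian A]

/-- a map factors through the image iff it lifts after an epi refinement -/
lemma image_factors_iff {X Y T : A} (h : X ⟶ Y) (t : T ⟶ Y) :
    (imageSubobject h).Factors t ↔
      ∃ (T' : A) (π : T' ⟶ T) (_ : Epi π) (x : T' ⟶ X), π ≫ t = x ≫ h := by
  constructor
  · intro hf
    let t' := (imageSubobject h).factorThru t hf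
    have ht' : t' ≫ (imageSubobject h).arrow = t := Subobject.factorThru_arrow _ _ _
    refine ⟨pullback t' (factorThruImageSubobject h), pullback.fst _ _, inferInstance,
      pullback.snd _ _, ?_⟩
    rw [← ht', ← Category.assoc, pullback.condition, Category.assoc, imageSubobject_arrow_comp]
  · rintro ⟨T', π, hπ, x, hx⟩
    rw [factors_iff_comp_cokernel]
    have h1 : (imageSubobject h).Factors (π ≫ t) := by
      rw [hx]
      exact Subobject.factors_of_factors_right x (image_factors h)
    rw [factors_iff_comp_cokernel, Category.assoc] at h1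
    exact (cancel_epi π).1 (h1.trans comp_zero.symm)

lemma le_of_factors {Y : A} (S S' : Subobject Y)
    (h : ∀ (T : A) (t : T ⟶ Y), S.Factors t → S'.Factors t) : S ≤ S' := by
  have := h _ S.arrow (self_factors S)
  exact Subobject.le_of_comm (S'.factorThru _ this) (Subobject.factorThru_arrow _ _ _)

end Groth.Agent.H23.FilPB
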