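import Mathlib
import Groth.Prelude.Def_SpSeq
import Groth.Agent.Lib.helper23.FilPB
open CategoryTheory CategoryTheory.Limits

namespace Groth.Agent.H23.FilPB
universe v u
open Groth.Agent.H23.SkSub SpSeq

variable {A : Type u} [Category.{v} A] [Abelian A]

section
variable {K L M : FilObj A} (f : L ⟶ K) (g : M ⟶ K)

/-- the pullback filtered object -/
noncomputable def P0 : FilObj A where
  obj := pullback f.hom g.hom
  fil p := (Subobject.pullback (pullback.fst f.hom g.hom)).obj (L.fil p) ⊓
    (Subobject.pullback (pullback.snd f.hom g.hom)).obj (M.fil p)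
  anti := by
    intro p q h
    exact inf_le_inf ((Subobject.pullback _).monotone (L.anti h))
      ((Subobject.pullback _).monotone (M.anti h))

noncomputable def fst0 : P0 f g ⟶ L := ⟨pullback.fst f.hom g.hom, fun _ => inf_le_left⟩
noncomputable def snd0 : P0 f g ⟶ M := ⟨pullback.snd f.hom g.hom, fun _ => inf_le_right⟩

lemma cond0 : fst0 f g ≫ f = snd0 f g ≫ g := FilObj.Hom.ext pullback.condition

lemma hom_comp_hom {X Y Z : FilObj A} (a : X ⟶ Y) (b : Y ⟶ Z) : (a ≫ b).hom = a.hom ≫ b.hom := rfl

noncomputable def lift0 {T : FilObj A} (a : T ⟶ L) (b : T ⟶ M) (w : a ≫ f = b ≫ g) : T ⟶ P0 f g :=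
  ⟨pullback.lift a.hom b.hom (congrArg FilObj.Hom.hom w), fun p => by
    have hw : a.hom ≫ f.hom = b.hom ≫ g.hom := congrArg FilObj.Hom.hom w
    have e1 : pullback.lift a.hom b.hom hw ≫ pullback.fst f.hom g.hom = a.hom :=
      pullback.lift_fst _ _ _
    have e2 : pullback.lift a.hom b.hom hw ≫ pullback.snd f.hom g.hom = b.hom :=
      pullback.lift_snd _ _ _
    have h1 : T.fil p ≤ (Subobject.pullback (pullback.lift a.hom b.hom hw)).obj
        ((Subobject.pullback (pullback.fst f.hom g.hom)).obj (L.fil p)) := by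
      rw [← Subobject.pullback_comp, e1]
      exact a.compat p
    have h2 : T.fil p ≤ (Subobject.pullback (pullback.lift a.hom b.hom hw)).obj
        ((Subobject.pullback (pullback.snd f.hom g.hom)).obj (M.fil p)) := by
      rw [← Subobject.pullback_comp, e2]
      exact b.compat p
    have h3 := le_inf h1 h2
    rw [← Subobject.inf_pullback] at h3
    exact h3⟩

noncomputable def isLimit0 : IsLimit (PullbackCone.mk (fst0 f g) (snd0 f g) (cond0 f g)) :=
  PullbackCone.IsLimit.mk _ (fun s => lift0 f g s.fst s.snd s.condition)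
    (fun s => FilObj.Hom.ext (pullback.lift_fst _ _ _))
    (fun s => FilObj.Hom.ext (pullback.lift_snd _ _ _))
    (fun s m h1 h2 => by
      apply FilObj.Hom.ext
      apply pullback.hom_ext
      · exact (congrArg FilObj.Hom.hom h1).trans (pullback.lift_fst _ _ _).symm
      · exact (congrArg FilObj.Hom.hom h2).trans (pullback.lift_snd _ _ _).symm)

lemma hasPullback0 : HasPullback f g := ⟨⟨⟨_, isLimit0 f g⟩⟩⟩

end

end Groth.Agent.H23.FilPB
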