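import Mathlib
import Groth.Prelude.Def_SpSeq
import Groth.Agent.Lib.helper23.FilPB2
open CategoryTheory CategoryTheory.Limits

namespace Groth.Agent.H23.FilPB
universe v u
open Groth.Agent.H23.SkSub SpSeq

variable {A : Type u} [Category.{v} A] [Abelian A]

section
variable {K L M : FilObj A} (f : L ⟶ K) (g : M ⟶ K)

lemma compat_factors {X Y : FilObj A} (a : X ⟶ Y) (p : ℤ) {T : A} (t : T ⟶ X.obj)
    (ht : (X.fil p).Factors t) : (Y.fil p).Factors (t ≫ a.hom) := by
  exact (Limits.pullback_factors_iff a.hom (Y.fil p) t).1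
    (Subobject.factors_of_le _ (a.compat p) ht)

lemma strict_snd0 (hf : FilObj.IsStrict f) : FilObj.IsStrict (snd0 f g) := by
  intro p
  apply le_antisymm
  · apply le_inf
    · exact imageSubobject_comp_le _ _
    · have hfac : (M.fil p).Factors (((P0 f g).fil p).arrow ≫ (snd0 f g).hom) :=
        compat_factors (snd0 f g) p _ (self_factors _)
      exact imageSubobject_le _ ((M.fil p).factorThru _ hfac) (Subobject.factorThru_arrow _ _ _)
  · apply le_of_factors
    intro T t ht
    rw [Subobject.inf_factors] at ht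
    obtain ⟨ht1, ht2⟩ := ht
    obtain ⟨T', π, hπ, (x : T' ⟶ pullback f.hom g.hom), hx⟩ := (image_factors_iff _ _).1 ht1
    -- x : T' ⟶ pullback, π ≫ t = x ≫ snd
    have hx' : π ≫ t = x ≫ pullback.snd f.hom g.hom := hx
    let l : T' ⟶ L.obj := x ≫ pullback.fst f.hom g.hom
    have hlm : l ≫ f.hom = (π ≫ t) ≫ g.hom :=
      calc l ≫ f.hom = x ≫ (pullback.fst f.hom g.hom ≫ f.hom) := Category.assoc _ _ _
        _ = x ≫ (pullback.snd f.hom g.hom ≫ g.hom) := congrArg (x ≫ ·) pullback.condition
        _ = (x ≫ pullback.snd f.hom g.hom) ≫ g.hom := (Category.assoc _ _ _).symm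
        _ = (π ≫ t) ≫ g.hom := by rw [← hx']
    -- (π ≫ t) factors through M.fil p
    have hm : (M.fil p).Factors (π ≫ t) := Subobject.factors_of_factors_right π ht2
    have hK : (K.fil p).Factors (l ≫ f.hom) := by
      rw [hlm]
      exact compat_factors g p _ hm
    have hI : (imageSubobject f.hom).Factors (l ≫ f.hom) :=
      Subobject.factors_of_factors_right l (image_factors f.hom)
    have hboth : (imageSubobject ((L.fil p).arrow ≫ f.hom)).Factors (l ≫ f.hom) := by
      rw [hf p, Subobject.inf_factors]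
      exact ⟨hI, hK⟩
    obtain ⟨T'', π', hπ', y, hy⟩ := (image_factors_iff _ _).1 hboth
    let l' : T'' ⟶ L.obj := y ≫ (L.fil p).arrow
    have hl' : l' ≫ f.hom = (π' ≫ π ≫ t) ≫ g.hom := by
      show (y ≫ (L.fil p).arrow) ≫ f.hom = _
      rw [Category.assoc, ← hy, hlm]
      simp only [Category.assoc]
    let x' : T'' ⟶ pullback f.hom g.hom := pullback.lift l' (π' ≫ π ≫ t) hl'
    have hx1 : x' ≫ pullback.fst f.hom g.hom = l' := pullback.lift_fst _ _ _
    have hx2 : x' ≫ pullback.snd f.hom g.hom = π' ≫ π ≫ t := pullback.lift_snd _ _ _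
    have hfacx : ((P0 f g).fil p).Factors x' := by
      show ((Subobject.pullback (pullback.fst f.hom g.hom)).obj (L.fil p) ⊓
        (Subobject.pullback (pullback.snd f.hom g.hom)).obj (M.fil p)).Factors x'
      rw [Subobject.inf_factors, Limits.pullback_factors_iff, Limits.pullback_factors_iff,
        hx1, hx2]
      refine ⟨Subobject.factors_comp_arrow y, ?_⟩
      exact Subobject.factors_of_factors_right π' hm
    apply (image_factors_iff _ _).2
    have : Epi (π' ≫ π) := epi_comp π' π
    refine ⟨T'', π' ≫ π, inferInstance, ((P0 f g).fil p).factorThru x' hfacx, ?_⟩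
    rw [← Category.assoc, Subobject.factorThru_arrow]
    show (π' ≫ π) ≫ t = x' ≫ pullback.snd f.hom g.hom
    rw [hx2, Category.assoc]

end

end Groth.Agent.H23.FilPB
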