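import Mathlib
import Groth.Prelude.Def_SpSeq
import Groth.Agent.Lib.helper23.FilPB3
open CategoryTheory CategoryTheory.Limits

namespace Groth.Agent.H23.FilPB
universe v u
open Groth.Agent.H23.SkSub SpSeq

variable {A : Type u} [Category.{v} A] [Abelian A]

lemma image_comp_le_of_fac {X X' Y : A} (a : X ⟶ Y) (b : X' ⟶ Y) (z : X ⟶ X') (h : z ≫ b = a) :
    imageSubobject a ≤ imageSubobject b := by
  subst h
  exact imageSubobject_comp_le z b

lemma strict_of_iso_comp {P P₀ M : FilObj A} (e : P ≅ P₀) (s : P₀ ⟶ M)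
    (hs : FilObj.IsStrict s) : FilObj.IsStrict (e.hom ≫ s) := by
  intro p
  have hiso : IsIso e.hom.hom := (FilObj.forget.mapIso e).isIso_hom
  have h1 : imageSubobject (e.hom ≫ s).hom = imageSubobject s.hom :=
    imageSubobject_iso_comp e.hom.hom s.hom
  rw [h1, ← hs p]
  have einv : e.inv.hom ≫ e.hom.hom = 𝟙 _ := congrArg FilObj.Hom.hom e.inv_hom_id
  apply le_antisymm
  · have hfac : (P₀.fil p).Factors ((P.fil p).arrow ≫ e.hom.hom) :=
      compat_factors e.hom p _ (self_factors _)
    refine image_comp_le_of_fac _ _ ((P₀.fil p).factorThru _ hfac) ?_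
    rw [← Category.assoc, Subobject.factorThru_arrow]
    exact Category.assoc _ _ _
  · have hfac : (P.fil p).Factors ((P₀.fil p).arrow ≫ e.inv.hom) :=
      compat_factors e.inv p _ (self_factors _)
    refine image_comp_le_of_fac _ _ ((P.fil p).factorThru _ hfac) ?_
    rw [← Category.assoc, Subobject.factorThru_arrow]
    show ((P₀.fil p).arrow ≫ e.inv.hom) ≫ e.hom.hom ≫ s.hom = _
    rw [Category.assoc, ← Category.assoc e.inv.hom, einv, Category.id_comp]

theorem main6804 {K L M : FilObj A} (f : L ⟶ K) (g : M ⟶ K) :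
    HasPullback f g ∧ ∀ (P : FilObj A) (g' : P ⟶ L) (f' : P ⟶ M), IsPullback g' f' f g →
      FilObj.IsStrict f → FilObj.IsStrict f' := by
  refine ⟨hasPullback0 f g, ?_⟩
  intro P g' f' hP hf
  let e : P ≅ P0 f g := hP.isLimit.conePointUniqueUpToIso (isLimit0 f g)
  have he : e.hom ≫ snd0 f g = f' :=
    IsLimit.conePointUniqueUpToIso_hom_comp hP.isLimit (isLimit0 f g) WalkingCospan.right
  rw [← he]
  exact strict_of_iso_comp e _ (strict_snd0 f g hf)

end Groth.Agent.H23.FilPB
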