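import Mathlib
import Groth.Prelude.Def_SpSeq
import Groth.Agent.Lib.helper23.FilPB4
open CategoryTheory CategoryTheory.Limits

namespace Groth.Agent.H23.FilPB
universe v u
open Groth.Agent.H23.SkSub SpSeq

variable {A : Type u} [Category.{v} A] [Abelian A]

/-- factoring through the image, from vanishing on a cokernel cofork -/
lemma image_factors_of_cokernel {X Y T : A} (h : X ⟶ Y) (c : CokernelCofork h) (hc : IsColimit c)
    (t : T ⟶ Y) (ht : t ≫ c.π = 0) : (imageSubobject h).Factors t := by
  rw [factors_iff_comp_cokernel]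
  have h0 : h ≫ cokernel.π (imageSubobject h).arrow = 0 := by
    have e : factorThruImageSubobject h ≫ (imageSubobject h).arrow = h := imageSubobject_arrow_comp h
    calc h ≫ cokernel.π (imageSubobject h).arrow
        = (factorThruImageSubobject h ≫ (imageSubobject h).arrow) ≫
            cokernel.π (imageSubobject h).arrow := by rw [e]
      _ = 0 := by rw [Category.assoc, cokernel.condition, comp_zero]
  obtain ⟨d, hd⟩ := CokernelCofork.IsColimit.desc' hc _ h0
  have hd' : c.π ≫ d = cokernel.π (imageSubobject h).arrow := hd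
  rw [← hd', ← Category.assoc, ht, zero_comp]

lemma image_sup {X X' Y : A} (a : X ⟶ Y) (b : X' ⟶ Y) :
    imageSubobject a ⊔ imageSubobject b = imageSubobject (biprod.desc a b) := by
  apply le_antisymm
  · apply sup_le
    · exact image_comp_le_of_fac _ _ biprod.inl (biprod.inl_desc _ _)
    · exact image_comp_le_of_fac _ _ biprod.inr (biprod.inr_desc _ _)
  · have hfac : (imageSubobject a ⊔ imageSubobject b).Factors (biprod.desc a b) := by
      rw [factors_iff_comp_cokernel]
      apply biprod.hom_ext'
      · rw [← Category.assoc, biprod.inl_desc, comp_zero]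
        exact (factors_iff_comp_cokernel _ _).1
          (Subobject.factors_of_le _ le_sup_left (image_factors a))
      · rw [← Category.assoc, biprod.inr_desc, comp_zero]
        exact (factors_iff_comp_cokernel _ _).1
          (Subobject.factors_of_le _ le_sup_right (image_factors b))
    exact imageSubobject_le _ (Subobject.factorThru _ _ hfac) (Subobject.factorThru_arrow _ _ _)

lemma sup_image_factors {X X' Y T : A} (a : X ⟶ Y) (b : X' ⟶ Y) (t : T ⟶ Y)
    (h : (imageSubobject a ⊔ imageSubobject b).Factors t) :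
    ∃ (T' : A) (π : T' ⟶ T) (_ : Epi π) (u : T' ⟶ X) (v : T' ⟶ X'), π ≫ t = u ≫ a + v ≫ b := by
  rw [image_sup] at h
  obtain ⟨T', π, hπ, w, hw⟩ := (image_factors_iff _ _).1 h
  refine ⟨T', π, hπ, w ≫ biprod.fst, w ≫ biprod.snd, ?_⟩
  rw [hw]
  have : w = biprod.lift (w ≫ biprod.fst) (w ≫ biprod.snd) := by
    apply biprod.hom_ext <;> simp
  conv_lhs => rw [this]
  rw [biprod.lift_desc]

/-- exactness of the pushout square up to refinements -/
lemma pushout_refine {K L M T : A} (f : K ⟶ L) (g : K ⟶ M) (l : T ⟶ L) (m : T ⟶ M)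
    (h : l ≫ pushout.inl f g = m ≫ pushout.inr f g) :
    ∃ (T' : A) (π : T' ⟶ T) (_ : Epi π) (k : T' ⟶ K), π ≫ l = k ≫ f := by
  have hx : biprod.lift l (-m) ≫ (Abelian.BiproductToPushoutIsCokernel.biproductToPushoutCofork f g).π = 0 := by
    show biprod.lift l (-m) ≫ biprod.desc (pushout.inl f g) (pushout.inr f g) = 0
    rw [biprod.lift_desc, Preadditive.neg_comp, h, add_neg_cancel]
  have hfac := image_factors_of_cokernel (biprod.lift f (-g)) _
    (Abelian.BiproductToPushoutIsCokernel.isColimitBiproductToPushout f g) _ hx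
  obtain ⟨T', π, hπ, k, hk⟩ := (image_factors_iff _ _).1 hfac
  refine ⟨T', π, hπ, k, ?_⟩
  have := congrArg (· ≫ biprod.fst) hk
  simpa using this

end Groth.Agent.H23.FilPB
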