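import Mathlib
import Groth.Prelude.Def_SpSeq
import Groth.Agent.Lib.helper23.FilPO
open CategoryTheory CategoryTheory.Limits

namespace Groth.Agent.H23.FilPB
universe v u
open Groth.Agent.H23.SkSub SpSeq

variable {A : Type u} [Category.{v} A] [Abelian A]

section
variable {K L M : FilObj A} (f : K ⟶ L) (g : K ⟶ M)

/-- the pushout filtered object -/
noncomputable def Q0 : FilObj A where
  obj := pushout f.hom g.hom
  fil p := imageSubobject ((L.fil p).arrow ≫ pushout.inl f.hom g.hom) ⊔
    imageSubobject ((M.fil p).arrow ≫ pushout.inr f.hom g.hom)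
  anti := by
    intro p q h
    apply sup_le_sup
    · refine image_comp_le_of_fac _ _ ((L.fil q).ofLE (L.fil p) (L.anti h)) ?_
      rw [← Category.assoc, Subobject.ofLE_arrow]
    · refine image_comp_le_of_fac _ _ ((M.fil q).ofLE (M.fil p) (M.anti h)) ?_
      rw [← Category.assoc, Subobject.ofLE_arrow]

lemma factors_comp_image {X Z T : A} (S : Subobject X) (a : X ⟶ Z) (t : T ⟶ X)
    (ht : S.Factors t) : (imageSubobject (S.arrow ≫ a)).Factors (t ≫ a) := by
  have e : t ≫ a = S.factorThru t ht ≫ (S.arrow ≫ a) := by
    rw [← Category.assoc, Subobject.factorThru_arrow]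
  rw [e]
  exact Subobject.factors_of_factors_right _ (image_factors _)

noncomputable def inl0 : L ⟶ Q0 f g := ⟨pushout.inl f.hom g.hom, fun p => by
  apply le_of_factors
  intro T t ht
  apply (Limits.pullback_factors_iff _ _ _).2
  exact Subobject.factors_of_le _ le_sup_left (factors_comp_image _ _ t ht)⟩

noncomputable def inr0 : M ⟶ Q0 f g := ⟨pushout.inr f.hom g.hom, fun p => by
  apply le_of_factors
  intro T t ht
  apply (Limits.pullback_factors_iff _ _ _).2
  exact Subobject.factors_of_le _ le_sup_right (factors_comp_image _ _ t ht)⟩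

lemma condQ : f ≫ inl0 f g = g ≫ inr0 f g := FilObj.Hom.ext pushout.condition

noncomputable def desc0 {T : FilObj A} (a : L ⟶ T) (b : M ⟶ T) (w : f ≫ a = g ≫ b) : Q0 f g ⟶ T :=
  ⟨pushout.desc a.hom b.hom (congrArg FilObj.Hom.hom w), fun p => by
    have hw : f.hom ≫ a.hom = g.hom ≫ b.hom := congrArg FilObj.Hom.hom w
    show imageSubobject ((L.fil p).arrow ≫ pushout.inl f.hom g.hom) ⊔
      imageSubobject ((M.fil p).arrow ≫ pushout.inr f.hom g.hom) ≤ _
    apply sup_le
    · have hfac : ((Subobject.pullback (pushout.desc a.hom b.hom hw)).obj (T.fil p)).Factors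
          ((L.fil p).arrow ≫ pushout.inl f.hom g.hom) := by
        apply (Limits.pullback_factors_iff _ _ _).2
        rw [Category.assoc, pushout.inl_desc]
        exact compat_factors a p _ (self_factors _)
      exact imageSubobject_le _ (Subobject.factorThru _ _ hfac) (Subobject.factorThru_arrow _ _ _)
    · have hfac : ((Subobject.pullback (pushout.desc a.hom b.hom hw)).obj (T.fil p)).Factors
          ((M.fil p).arrow ≫ pushout.inr f.hom g.hom) := by
        apply (Limits.pullback_factors_iff _ _ _).2
        rw [Category.assoc, pushout.inr_desc]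
        exact compat_factors b p _ (self_factors _)
      exact imageSubobject_le _ (Subobject.factorThru _ _ hfac) (Subobject.factorThru_arrow _ _ _)⟩

noncomputable def isColimit0 : IsColimit (PushoutCocone.mk (inl0 f g) (inr0 f g) (condQ f g)) :=
  PushoutCocone.IsColimit.mk _ (fun s => desc0 f g s.inl s.inr s.condition)
    (fun s => FilObj.Hom.ext (pushout.inl_desc _ _ _))
    (fun s => FilObj.Hom.ext (pushout.inr_desc _ _ _))
    (fun s m h1 h2 => by
      apply FilObj.Hom.ext
      apply pushout.hom_ext
      · exact (congrArg FilObj.Hom.hom h1).trans (pushout.inl_desc _ _ _).symm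
      · exact (congrArg FilObj.Hom.hom h2).trans (pushout.inr_desc _ _ _).symm)

lemma hasPushout0 : HasPushout f g := ⟨⟨⟨_, isColimit0 f g⟩⟩⟩

end

end Groth.Agent.H23.FilPB
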