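import Mathlib
import Groth.Prelude.Def_SpSeq
import Groth.Agent.Lib.helper23.FilPO2
open CategoryTheory CategoryTheory.Limits

namespace Groth.Agent.H23.FilPB
universe v u
open Groth.Agent.H23.SkSub SpSeq

variable {A : Type u} [Category.{v} A] [Abelian A]

section
variable {K L M : FilObj A} (f : K ⟶ L) (g : K ⟶ M)

lemma strict_core (hf : FilObj.IsStrict f) (p : ℤ) {T : A} (t : T ⟶ pushout f.hom g.hom)
  (ht1 : (imageSubobject (pushout.inr f.hom g.hom)).Factors t)
  (ht2 : (imageSubobject ((L.fil p).arrow ≫ pushout.inl f.hom g.hom) ⊔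
    imageSubobject ((M.fil p).arrow ≫ pushout.inr f.hom g.hom)).Factors t) :
  (imageSubobject ((M.fil p).arrow ≫ pushout.inr f.hom g.hom)).Factors t := by
  -- t = m' ≫ inr after refinement
  obtain ⟨T1, π1, hπ1, m', hm''⟩ := (image_factors_iff _ _).1 ht1
  -- t = u ≫ L_p ≫ inl + v ≫ M_p ≫ inr after refinement
  obtain ⟨T2, π2, hπ2, u, v, huv⟩ := sup_image_factors _ _ t ht2
  -- common refinement
  let T3 := pullback π1 π2
  let ρ1 : T3 ⟶ T1 := pullback.fst π1 π2
  let ρ2 : T3 ⟶ T2 := pullback.snd π1 π2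
  have hρ : ρ1 ≫ π1 = ρ2 ≫ π2 := pullback.condition
  have hρ1 : Epi ρ1 := inferInstance
  have hρ2 : Epi ρ2 := inferInstance
  let lp : T3 ⟶ L.obj := (ρ2 ≫ u) ≫ (L.fil p).arrow
  let mp : T3 ⟶ M.obj := (ρ2 ≫ v) ≫ (M.fil p).arrow
  have e1 : (ρ2 ≫ π2) ≫ t = lp ≫ pushout.inl f.hom g.hom + mp ≫ pushout.inr f.hom g.hom := by
    rw [Category.assoc, huv, Preadditive.comp_add]
    simp only [lp, mp, Category.assoc]
  have e2 : (ρ2 ≫ π2) ≫ t = (ρ1 ≫ m') ≫ pushout.inr f.hom g.hom := by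
    rw [← hρ, Category.assoc, hm'', Category.assoc]
  have e3 : lp ≫ pushout.inl f.hom g.hom = (ρ1 ≫ m' - mp) ≫ pushout.inr f.hom g.hom := by
    rw [Preadditive.sub_comp, ← e2, e1, add_sub_cancel_right]
  obtain ⟨T4, π4, hπ4, k, hk⟩ := pushout_refine f.hom g.hom lp (ρ1 ≫ m' - mp) e3
  -- k ≫ f factors through L.fil p and image f
  have hLp : (L.fil p).Factors (k ≫ f.hom) := by
    rw [← hk]
    exact Subobject.factors_of_factors_right π4 (Subobject.factors_comp_arrow _)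
  have hIf : (imageSubobject f.hom).Factors (k ≫ f.hom) :=
    Subobject.factors_of_factors_right k (image_factors f.hom)
  have hboth : (imageSubobject ((K.fil p).arrow ≫ f.hom)).Factors (k ≫ f.hom) := by
    rw [hf p, Subobject.inf_factors]
    exact ⟨hIf, hLp⟩
  obtain ⟨T5, π5, hπ5, k', hk'⟩ := (image_factors_iff _ _).1 hboth
  -- the element of M.fil p
  have hgk : (M.fil p).Factors ((k' ≫ (K.fil p).arrow) ≫ g.hom) :=
    compat_factors g p _ (Subobject.factors_comp_arrow _)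
  have hmp : (M.fil p).Factors ((π5 ≫ π4) ≫ mp) :=
    Subobject.factors_of_factors_right _ (Subobject.factors_comp_arrow _)
  let z1 := (M.fil p).factorThru _ hgk
  let z2 := (M.fil p).factorThru _ hmp
  have hz1 : z1 ≫ (M.fil p).arrow = (k' ≫ (K.fil p).arrow) ≫ g.hom := Subobject.factorThru_arrow _ _ _
  have hz2 : z2 ≫ (M.fil p).arrow = (π5 ≫ π4) ≫ mp := Subobject.factorThru_arrow _ _ _
  apply (image_factors_iff _ _).2
  have hepi : Epi ((π5 ≫ π4) ≫ ρ2 ≫ π2) := by
    have : Epi (ρ2 ≫ π2) := epi_comp _ _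
    have : Epi (π5 ≫ π4) := epi_comp _ _
    exact epi_comp _ _
  refine ⟨T5, (π5 ≫ π4) ≫ ρ2 ≫ π2, hepi, z1 + z2, ?_⟩
  rw [Category.assoc, e1, Preadditive.comp_add, Preadditive.add_comp, ← Category.assoc z1,
    ← Category.assoc z2, hz1, hz2]
  congr 1
  · -- (π5 ≫ π4) ≫ lp ≫ inl = ((k' ≫ K_p) ≫ g) ≫ inr
    calc (π5 ≫ π4) ≫ lp ≫ pushout.inl f.hom g.hom
        = π5 ≫ (π4 ≫ lp) ≫ pushout.inl f.hom g.hom := by simp only [Category.assoc]
      _ = π5 ≫ (k ≫ f.hom) ≫ pushout.inl f.hom g.hom := by rw [hk]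
      _ = (π5 ≫ k ≫ f.hom) ≫ pushout.inl f.hom g.hom := by simp only [Category.assoc]
      _ = (k' ≫ (K.fil p).arrow ≫ f.hom) ≫ pushout.inl f.hom g.hom := by rw [hk']
      _ = (k' ≫ (K.fil p).arrow) ≫ f.hom ≫ pushout.inl f.hom g.hom := by
          simp only [Category.assoc]
      _ = (k' ≫ (K.fil p).arrow) ≫ g.hom ≫ pushout.inr f.hom g.hom := by
          rw [pushout.condition]
      _ = ((k' ≫ (K.fil p).arrow) ≫ g.hom) ≫ pushout.inr f.hom g.hom := by
          simp only [Category.assoc]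
  · simp only [Category.assoc]

lemma strict_inr0 (hf : FilObj.IsStrict f) : FilObj.IsStrict (inr0 f g) := by
  intro p
  apply le_antisymm
  · apply le_inf
    · exact imageSubobject_comp_le _ _
    · exact le_sup_right
  · apply le_of_factors
    intro T t ht
    rw [Subobject.inf_factors] at ht
    exact strict_core f g hf p t ht.1 ht.2

end

end Groth.Agent.H23.FilPB
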