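import Mathlib
import Groth.Prelude.Def_SpSeq
import Groth.Agent.Lib.helper23.FilPO3
open CategoryTheory CategoryTheory.Limits

namespace Groth.Agent.H23.FilPB
universe v u
open Groth.Agent.H23.SkSub SpSeq

variable {A : Type u} [Category.{v} A] [Abelian A]

lemma eq_of_factors_iff {Y : A} (S S' : Subobject Y)
    (h : ∀ (T : A) (t : T ⟶ Y), S.Factors t ↔ S'.Factors t) : S = S' :=
  le_antisymm (le_of_factors _ _ fun T t => (h T t).1) (le_of_factors _ _ fun T t => (h T t).2)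

lemma image_comp_iso_factors {X Y Y' T : A} (a : X ⟶ Y) (φ : Y ⟶ Y') (ψ : Y' ⟶ Y)
    (h1 : φ ≫ ψ = 𝟙 _) (h2 : ψ ≫ φ = 𝟙 _) (t : T ⟶ Y') :
    (imageSubobject (a ≫ φ)).Factors t ↔ (imageSubobject a).Factors (t ≫ ψ) := by
  rw [image_factors_iff, image_factors_iff]
  constructor
  · rintro ⟨T', π, hπ, x, hx⟩
    refine ⟨T', π, hπ, x, ?_⟩
    rw [← Category.assoc, hx, Category.assoc, Category.assoc, h1, Category.comp_id]
  · rintro ⟨T', π, hπ, x, hx⟩
    refine ⟨T', π, hπ, x, ?_⟩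
    rw [← Category.assoc, ← hx, Category.assoc, Category.assoc, h2, Category.comp_id]

lemma image_comp_iso_factors' {X Y Y' T : A} (a : X ⟶ Y) (a' : X ⟶ Y') (φ : Y ⟶ Y') (ψ : Y' ⟶ Y)
    (ha : a' = a ≫ φ) (h1 : φ ≫ ψ = 𝟙 _) (h2 : ψ ≫ φ = 𝟙 _) (t : T ⟶ Y') :
    (imageSubobject a').Factors t ↔ (imageSubobject a).Factors (t ≫ ψ) := by
  subst ha
  exact image_comp_iso_factors a φ ψ h1 h2 t

lemma strict_of_comp_iso {M P₀ P : FilObj A} (s : M ⟶ P₀) (e : P₀ ≅ P)
    (hs : FilObj.IsStrict s) : FilObj.IsStrict (s ≫ e.hom) := by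
  intro p
  have h1 : e.hom.hom ≫ e.inv.hom = 𝟙 _ := congrArg FilObj.Hom.hom e.hom_inv_id
  have h2 : e.inv.hom ≫ e.hom.hom = 𝟙 _ := congrArg FilObj.Hom.hom e.inv_hom_id
  have hfil : ∀ (T : A) (t : T ⟶ P.obj), (P.fil p).Factors t ↔ (P₀.fil p).Factors (t ≫ e.inv.hom) := by
    intro T t
    constructor
    · intro h
      exact compat_factors e.inv p t h
    · intro h
      have := compat_factors e.hom p _ h
      rwa [Category.assoc, h2, Category.comp_id] at this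
  apply eq_of_factors_iff
  intro T t
  have e1 : (M.fil p).arrow ≫ (s ≫ e.hom).hom = ((M.fil p).arrow ≫ s.hom) ≫ e.hom.hom :=
    (Category.assoc _ _ _).symm
  have e2 : (s ≫ e.hom).hom = s.hom ≫ e.hom.hom := rfl
  rw [image_comp_iso_factors' _ _ _ _ e1 h1 h2, hs p, Subobject.inf_factors, Subobject.inf_factors,
    image_comp_iso_factors' _ _ _ _ e2 h1 h2, hfil]

theorem main6803 {K L M : FilObj A} (f : K ⟶ L) (g : K ⟶ M) :
    HasPushout f g ∧ ∀ (P : FilObj A) (g' : L ⟶ P) (f' : M ⟶ P), IsPushout f g g' f' →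
      FilObj.IsStrict f → FilObj.IsStrict f' := by
  refine ⟨hasPushout0 f g, ?_⟩
  intro P g' f' hP hf
  let e : Q0 f g ≅ P := (isColimit0 f g).coconePointUniqueUpToIso hP.isColimit
  have he : inr0 f g ≫ e.hom = f' :=
    IsColimit.comp_coconePointUniqueUpToIso_hom (isColimit0 f g) hP.isColimit WalkingSpan.right
  rw [← he]
  exact strict_of_comp_iso _ e (strict_inr0 f g hf)

end Groth.Agent.H23.FilPB
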