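import Mathlib

set_option autoImplicit false
open CategoryTheory CategoryTheory.Limits
universe u

namespace Groth.Agent.Lib.helper23.FiltSh

section Filt
variable {I : Type u} [SmallCategory I] [IsFiltered I]

lemma exists_cocone_under {α : Type} [Finite α] (i : I) (j : α → I) (f : ∀ a, i ⟶ j a) :
    ∃ (s : I) (g : i ⟶ s) (h : ∀ a, j a ⟶ s), ∀ a, f a ≫ h a = g := by
  classical
  haveI := Fintype.ofFinite α
  let O : Finset I := insert i (Finset.univ.image j)
  have hi : i ∈ O := Finset.mem_insert_self _ _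
  have hj : ∀ a, j a ∈ O := fun a =>
    Finset.mem_insert_of_mem (Finset.mem_image_of_mem _ (Finset.mem_univ a))
  let H : Finset (Σ' (X Y : I) (_ : X ∈ O) (_ : Y ∈ O), X ⟶ Y) :=
    Finset.univ.image (fun a => ⟨i, j a, hi, hj a, f a⟩)
  obtain ⟨S, T, hT⟩ := IsFiltered.sup_exists O H
  refine ⟨S, T hi, fun a => T (hj a), fun a => ?_⟩
  exact hT hi (hj a) (Finset.mem_image_of_mem _ (Finset.mem_univ a))

lemma exists_upper {α : Type} [Finite α] (j : α → I) :
    ∃ (s : I), ∀ a, Nonempty (j a ⟶ s) := by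
  classical
  haveI := Fintype.ofFinite α
  obtain ⟨S, hS⟩ := IsFiltered.sup_objs_exists (Finset.univ.image j)
  exact ⟨S, fun a => hS (Finset.mem_image_of_mem _ (Finset.mem_univ a))⟩

end Filt

variable {C : Type u} [SmallCategory C] {I : Type u} [SmallCategory I] [IsFiltered I]
  (G : I ⥤ (Cᵒᵖ ⥤ Type u)) (c : Cocone G) (hc : IsColimit c)

/-- The evaluated cocone is a colimit. -/
noncomputable def hcU (U : Cᵒᵖ) : IsColimit (((evaluation Cᵒᵖ (Type u)).obj U).mapCocone c) :=
  isColimitOfPreserves _ hc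

include hc in
lemma rep (U : Cᵒᵖ) (t : c.pt.obj U) : ∃ (i : I) (a : (G.obj i).obj U), (c.ι.app i).app U a = t :=
  Types.jointly_surjective_of_isColimit (hcU G c hc U) t

include hc in
lemma eq_iff (U : Cᵒᵖ) (i : I) (a a' : (G.obj i).obj U) :
    (c.ι.app i).app U a = (c.ι.app i).app U a' ↔
      ∃ (j : I) (f : i ⟶ j), (G.map f).app U a = (G.map f).app U a' :=
  Types.FilteredColimit.isColimit_eq_iff' (hcU G c hc U) a a'

lemma ι_map {i j : I} (f : i ⟶ j) (U : Cᵒᵖ) (a : (G.obj i).obj U) :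
    (c.ι.app j).app U ((G.map f).app U a) = (c.ι.app i).app U a := by
  have := ConcreteCategory.congr_hom (congr_app (c.w f) U) a
  exact this

include hc in
lemma finite_rep {α : Type} [Finite α] (U : α → Cᵒᵖ) (t : ∀ k, c.pt.obj (U k)) :
    ∃ (i : I) (a : ∀ k, (G.obj i).obj (U k)), ∀ k, (c.ι.app i).app (U k) (a k) = t k := by
  classical
  choose j b hb using fun k => rep G c hc (U k) (t k)
  obtain ⟨s, hs⟩ := exists_upper j
  let f : ∀ k, j k ⟶ s := fun k => (hs k).some
  refine ⟨s, fun k => (G.map (f k)).app (U k) (b k), fun k => ?_⟩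
  rw [ι_map, hb]

include hc in
lemma finite_eq {α : Type} [Finite α] (U : α → Cᵒᵖ) (i : I) (a a' : ∀ k, (G.obj i).obj (U k))
    (h : ∀ k, (c.ι.app i).app (U k) (a k) = (c.ι.app i).app (U k) (a' k)) :
    ∃ (j : I) (f : i ⟶ j), ∀ k, (G.map f).app (U k) (a k) = (G.map f).app (U k) (a' k) := by
  classical
  choose j f hf using fun k => (eq_iff G c hc (U k) i (a k) (a' k)).1 (h k)
  obtain ⟨s, g, hh, hg⟩ := exists_cocone_under i j f
  refine ⟨s, g, fun k => ?_⟩
  rw [← hg k, G.map_comp]
  simp only [NatTrans.comp_app, ConcreteCategory.comp_apply]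
  rw [hf k]


section Sh
variable [HasPullbacks C] (J : GrothendieckTopology C)
  (hG : ∀ i, Presieve.IsSheaf J (G.obj i))

lemma ι_naturality {U U' : Cᵒᵖ} (m : U ⟶ U') (i : I) (a : (G.obj i).obj U) :
    c.pt.map m ((c.ι.app i).app U a) = (c.ι.app i).app U' ((G.obj i).map m a) := by
  have := ConcreteCategory.congr_hom ((c.ι.app i).naturality m) a
  exact this.symm

lemma G_naturality {U U' : Cᵒᵖ} (m : U ⟶ U') {i j : I} (f : i ⟶ j) (a : (G.obj i).obj U) :
    (G.obj j).map m ((G.map f).app U a) = (G.map f).app U' ((G.obj i).map m a) := by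
  have := ConcreteCategory.congr_hom ((G.map f).naturality m) a
  exact this.symm

include hc hG in
lemma isSheafFor_finite {X : C} {n : ℕ} (V : Fin n → C) (g : ∀ k, V k ⟶ X)
    (hcov : Sieve.ofArrows V g ∈ J X) :
    Presieve.IsSheafFor c.pt (Presieve.ofArrows V g) := by
  have hsh : ∀ i, Presieve.IsSheafFor (G.obj i) (Presieve.ofArrows V g) := fun i => by
    rw [Presieve.isSheafFor_iff_generate]
    exact hG i _ hcov
  rw [Presieve.isSheafFor_arrows_iff_pullbacks]
  intro x hx
  -- existence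
  obtain ⟨i, a, ha⟩ := finite_rep G c hc (fun k => Opposite.op (V k)) x
  have hpair : ∀ kl : Fin n × Fin n,
      (c.ι.app i).app (Opposite.op (pullback (g kl.1) (g kl.2)))
        ((G.obj i).map (pullback.fst (g kl.1) (g kl.2)).op (a kl.1)) =
      (c.ι.app i).app (Opposite.op (pullback (g kl.1) (g kl.2)))
        ((G.obj i).map (pullback.snd (g kl.1) (g kl.2)).op (a kl.2)) := by
    rintro ⟨k, l⟩
    rw [← ι_naturality, ← ι_naturality, ha, ha]
    exact hx k l
  obtain ⟨j, f, hjf⟩ := finite_eq G c hc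
    (fun kl : Fin n × Fin n => Opposite.op (pullback (g kl.1) (g kl.2))) i
    (fun kl => (G.obj i).map (pullback.fst (g kl.1) (g kl.2)).op (a kl.1))
    (fun kl => (G.obj i).map (pullback.snd (g kl.1) (g kl.2)).op (a kl.2)) hpair
  let b : ∀ k, (G.obj j).obj (Opposite.op (V k)) := fun k => (G.map f).app _ (a k)
  have hb : Presieve.Arrows.PullbackCompatible (G.obj j) g b := by
    intro k l
    simp only [b]
    rw [G_naturality, G_naturality]
    exact hjf (k, l)
  obtain ⟨tj, htj, -⟩ := (Presieve.isSheafFor_arrows_iff_pullbacks _ _).1 (hsh j) b hb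
  refine ⟨(c.ι.app j).app _ tj, fun k => ?_, fun t' ht' => ?_⟩
  · rw [ι_naturality, htj k]
    simp only [b]
    rw [ι_map, ha]
  · -- uniqueness
    have ht : ∀ k, c.pt.map (g k).op ((c.ι.app j).app _ tj) = x k := fun k => by
      rw [ι_naturality, htj k]
      simp only [b]
      rw [ι_map, ha]
    obtain ⟨i', a', ha'⟩ := finite_rep G c hc (fun _ : Fin 2 => Opposite.op X)
      (fun m => if m = 0 then t' else (c.ι.app j).app _ tj)
    have h0 : (c.ι.app i').app _ (a' 0) = t' := by simpa using ha' 0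
    have h1 : (c.ι.app i').app _ (a' 1) = (c.ι.app j).app _ tj := by simpa using ha' 1
    have hk : ∀ k : Fin n, (c.ι.app i').app (Opposite.op (V k)) ((G.obj i').map (g k).op (a' 0)) =
        (c.ι.app i').app (Opposite.op (V k)) ((G.obj i').map (g k).op (a' 1)) := by
      intro k
      rw [← ι_naturality, ← ι_naturality, h0, h1, ht' k, ht k]
    obtain ⟨j', f', hjf'⟩ := finite_eq G c hc (fun k : Fin n => Opposite.op (V k)) i'
      (fun k => (G.obj i').map (g k).op (a' 0)) (fun k => (G.obj i').map (g k).op (a' 1)) hk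
    have : (G.map f').app _ (a' 0) = (G.map f').app _ (a' 1) := by
      refine (hsh j').isSeparatedFor.ext ?_
      rintro Y m ⟨k⟩
      rw [G_naturality, G_naturality]
      exact hjf' k
    rw [← h0, ← h1, ← ι_map G c f', this, ι_map]

include hc hG in
lemma isSheaf_pt (hJ : ∀ (X : C) (S : Sieve X), S ∈ J X →
      ∃ (n : ℕ) (V : Fin n → C) (g : ∀ k, V k ⟶ X), (∀ k, S (g k)) ∧ Sieve.ofArrows V g ∈ J X) :
    Presieve.IsSheaf J c.pt := by
  have hsep : ∀ (X : C) (S : Sieve X), S ∈ J X → Presieve.IsSeparatedFor c.pt S.arrows := by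
    intro X S hS
    obtain ⟨n, V, g, hgS, hcov⟩ := hJ X S hS
    intro x t₁ t₂ h₁ h₂
    refine (isSheafFor_finite G c hc J hG V g hcov).isSeparatedFor.ext ?_
    rintro Y m ⟨k⟩
    rw [h₁ (g k) (hgS k), h₂ (g k) (hgS k)]
  intro X S hS
  obtain ⟨n, V, g, hgS, hcov⟩ := hJ X S hS
  have hle : (Sieve.ofArrows V g : Presieve X) ≤ S.arrows := by
    have : Sieve.ofArrows V g ≤ S := by
      rw [Sieve.ofArrows, Sieve.generate_le_iff]
      rintro Y m ⟨k⟩
      exact hgS k
    exact this
  refine Presieve.isSheafFor_subsieve_aux c.pt hle ?_ ?_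
  · have := isSheafFor_finite G c hc J hG V g hcov
    rw [Presieve.isSheafFor_iff_generate] at this
    exact this
  · intro Y f _
    exact hsep Y _ (J.pullback_stable f hcov)

end Sh

end Groth.Agent.Lib.helper23.FiltSh
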