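import Mathlib
import Groth.Prelude.Def_FlatMod2
import Groth.Agent.Lib.helper23.LocLift

set_option autoImplicit false
open CategoryTheory CategoryTheory.Limits AlgebraicGeometry Opposite CategoryTheory.Idempotents

namespace Groth.Agent.H23.FinProj
universe u
open Groth.Agent.H23.LocLift

variable {X : Scheme.{u}}

/-- global sections functor to `Γ(X,⊤)`-modules -/
noncomputable def G (X : Scheme.{u}) : X.Modules ⥤ ModuleCat.{u} (Γ(X, ⊤)) :=
  SheafOfModules.evaluation X.ringCatSheaf (op ⊤)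

instance : (G X).Additive where
  map_add := rfl

example (M : X.Modules) : ((G X).obj M : Type u) = Γ(M, ⊤) := rfl

noncomputable instance (n : ℕ) : PreservesColimitsOfShape (Discrete (Fin n)) (G X) := by
  have : PreservesFiniteBiproducts (G X) := inferInstance
  have : PreservesFiniteCoproducts (G X) := inferInstance
  infer_instance

lemma G_map_apply {M N : X.Modules} (q : M ⟶ N) (a : Γ(M, ⊤)) :
    ((G X).map q).hom a = q.app ⊤ a := rfl

lemma eq_of_G_unit {M : X.Modules} {u v : Coh.structureModule X ⟶ M}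
    (h : (G X).map u = (G X).map v) : u = v := by
  apply hom_ext_top
  change ((G X).map u).hom (1 : X.ringCatSheaf.obj.obj (op ⊤)) = ((G X).map v).hom (1 : X.ringCatSheaf.obj.obj (op ⊤))
  rw [h]

lemma exists_G_unit {M : X.Modules} (φ : (G X).obj (Coh.structureModule X) ⟶ (G X).obj M) :
    ∃ u : Coh.structureModule X ⟶ M, (G X).map u = φ := by
  refine ⟨ofTop M (φ.hom (1 : X.ringCatSheaf.obj.obj (op ⊤))), ?_⟩
  have h1 : ((G X).map (ofTop M (φ.hom (1 : X.ringCatSheaf.obj.obj (op ⊤))))).hom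
      (1 : X.ringCatSheaf.obj.obj (op ⊤)) = φ.hom (1 : X.ringCatSheaf.obj.obj (op ⊤)) := by
    change unitSec M (ofTop M _) ⊤ = _
    rw [unitSec_ofTop]
    simp
  ext
  exact h1

lemma eq_of_G_free {M : X.Modules} {n : ℕ} {u v : FlatMod.freeMod X n ⟶ M}
    (h : (G X).map u = (G X).map v) : u = v := by
  apply Sigma.hom_ext
  intro i
  apply eq_of_G_unit
  rw [Functor.map_comp, Functor.map_comp, h]

lemma exists_G_free {M : X.Modules} {n : ℕ} (φ : (G X).obj (FlatMod.freeMod X n) ⟶ (G X).obj M) :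
    ∃ u : FlatMod.freeMod X n ⟶ M, (G X).map u = φ := by
  choose u hu using fun i : Fin n =>
    exists_G_unit ((G X).map (Sigma.ι (fun _ : Fin n => Coh.structureModule X) i) ≫ φ)
  refine ⟨Sigma.desc u, ?_⟩
  apply (isColimitOfPreserves (G X)
    (coproductIsCoproduct (fun _ : Fin n => Coh.structureModule X))).hom_ext
  rintro ⟨i⟩
  simp only [Functor.mapCocone_pt, Functor.mapCocone_ι_app, Cofan.mk_pt, Cofan.mk_ι_app]
  rw [← Functor.map_comp, Sigma.ι_desc, hu]

lemma eq_of_G_retract {M M' : X.Modules} {n : ℕ} (i : M ⟶ FlatMod.freeMod X n)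
    (r : FlatMod.freeMod X n ⟶ M) (hir : i ≫ r = 𝟙 M) {u v : M ⟶ M'}
    (h : (G X).map u = (G X).map v) : u = v := by
  have h1 : r ≫ u = r ≫ v := eq_of_G_free (by rw [Functor.map_comp, Functor.map_comp, h])
  calc u = (i ≫ r) ≫ u := by rw [hir, Category.id_comp]
    _ = (i ≫ r) ≫ v := by rw [Category.assoc, h1, Category.assoc]
    _ = v := by rw [hir, Category.id_comp]

lemma exists_G_retract {M M' : X.Modules} {n : ℕ} (i : M ⟶ FlatMod.freeMod X n)
    (r : FlatMod.freeMod X n ⟶ M) (hir : i ≫ r = 𝟙 M) (φ : (G X).obj M ⟶ (G X).obj M') :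
    ∃ u : M ⟶ M', (G X).map u = φ := by
  obtain ⟨w, hw⟩ := exists_G_free ((G X).map r ≫ φ)
  refine ⟨i ≫ w, ?_⟩
  rw [Functor.map_comp, hw, ← Category.assoc, ← Functor.map_comp, hir,
    CategoryTheory.Functor.map_id, Category.id_comp]

/-- `G(O^n) ≅ R^n`. -/
noncomputable def θ (X : Scheme.{u}) (n : ℕ) :
    (G X).obj (FlatMod.freeMod X n) ≅ ModuleCat.of Γ(X, ⊤) (Fin n → Γ(X, ⊤)) :=
  PreservesCoproduct.iso (G X) (fun _ : Fin n => Coh.structureModule X) ≪≫
    (biproduct.isoCoproduct (fun _ : Fin n => (G X).obj (Coh.structureModule X))).symm ≪≫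
    ModuleCat.biproductIsoPi (fun _ : Fin n => (G X).obj (Coh.structureModule X))

lemma finite_proj_of_retract {M : X.Modules} {n : ℕ} (i : M ⟶ FlatMod.freeMod X n)
    (r : FlatMod.freeMod X n ⟶ M) (hir : i ≫ r = 𝟙 M) :
    Module.Finite Γ(X, ⊤) ((G X).obj M) ∧ Module.Projective Γ(X, ⊤) ((G X).obj M) := by
  let a : (G X).obj M ⟶ ModuleCat.of Γ(X, ⊤) (Fin n → Γ(X, ⊤)) := (G X).map i ≫ (θ X n).hom
  let b : ModuleCat.of Γ(X, ⊤) (Fin n → Γ(X, ⊤)) ⟶ (G X).obj M := (θ X n).inv ≫ (G X).map r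
  have hab : a ≫ b = 𝟙 _ := by
    simp only [a, b, Category.assoc, Iso.hom_inv_id_assoc]
    rw [← Functor.map_comp, hir, CategoryTheory.Functor.map_id]
  have hab' : b.hom ∘ₗ a.hom = LinearMap.id := by
    have := congrArg ModuleCat.Hom.hom hab
    simpa using this
  constructor
  · refine Module.Finite.of_surjective b.hom (fun y => ⟨a.hom y, ?_⟩)
    exact LinearMap.congr_fun hab' y
  · exact Module.Projective.of_split a.hom b.hom hab'

lemma exists_retract_iso (N : ModuleCat.{u} Γ(X, ⊤)) [Module.Finite Γ(X, ⊤) N]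
    [Module.Projective Γ(X, ⊤) N] :
    ∃ (M : X.Modules) (n : ℕ) (i : M ⟶ FlatMod.freeMod X n) (r : FlatMod.freeMod X n ⟶ M),
      i ≫ r = 𝟙 M ∧ Nonempty ((G X).obj M ≅ N) := by
  obtain ⟨n, f, g, -, -, hfg⟩ := Module.Finite.exists_comp_eq_id_of_projective Γ(X, ⊤) N
  let fN : ModuleCat.of Γ(X, ⊤) (Fin n → Γ(X, ⊤)) ⟶ N := ModuleCat.ofHom f
  let gN : N ⟶ ModuleCat.of Γ(X, ⊤) (Fin n → Γ(X, ⊤)) := ModuleCat.ofHom g
  have hgf : gN ≫ fN = 𝟙 N := by
    ext x
    exact LinearMap.congr_fun hfg x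
  obtain ⟨ε, hε⟩ := exists_G_free (M := FlatMod.freeMod X n)
    ((θ X n).hom ≫ fN ≫ gN ≫ (θ X n).inv)
  have hεε : ε ≫ ε = ε := by
    apply eq_of_G_free
    rw [Functor.map_comp, hε]
    simp only [Category.assoc, Iso.inv_hom_id_assoc]
    rw [reassoc_of% hgf]
  obtain ⟨M, j, p, hjp, hpj⟩ := IsIdempotentComplete.idempotents_split (FlatMod.freeMod X n) ε hεε
  refine ⟨M, n, j, p, hjp, ⟨⟨(G X).map j ≫ (θ X n).hom ≫ fN, gN ≫ (θ X n).inv ≫ (G X).map p, ?_, ?_⟩⟩⟩
  · have h1 : (θ X n).hom ≫ fN ≫ gN ≫ (θ X n).inv = (G X).map ε := hε.symm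
    simp only [Category.assoc]
    rw [reassoc_of% h1, ← Functor.map_comp, ← Functor.map_comp, ← hpj]
    simp only [Category.assoc, hjp, Category.comp_id]
    exact CategoryTheory.Functor.map_id _ _
  · simp only [Category.assoc]
    rw [← (G X).map_comp_assoc p j, hpj, hε]
    simp only [Category.assoc, Iso.inv_hom_id_assoc]
    rw [reassoc_of% hgf, hgf]

theorem main0938 (X : Scheme.{u}) :
    Nonempty ((ObjectProperty.FullSubcategory fun M : X.Modules =>
        ∃ (n : ℕ) (i : M ⟶ FlatMod.freeMod X n) (r : FlatMod.freeMod X n ⟶ M), i ≫ r = 𝟙 M) ≌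
      (ObjectProperty.FullSubcategory fun N : ModuleCat.{u} (Γ(X, ⊤)) =>
        Module.Finite (Γ(X, ⊤)) N ∧ Module.Projective (Γ(X, ⊤)) N)) := by
  let P : ObjectProperty X.Modules := fun M : X.Modules =>
        ∃ (n : ℕ) (i : M ⟶ FlatMod.freeMod X n) (r : FlatMod.freeMod X n ⟶ M), i ≫ r = 𝟙 M
  let Q : ObjectProperty (ModuleCat.{u} (Γ(X, ⊤))) := fun N : ModuleCat.{u} (Γ(X, ⊤)) =>
        Module.Finite (Γ(X, ⊤)) N ∧ Module.Projective (Γ(X, ⊤)) N
  let F : P.FullSubcategory ⥤ ModuleCat.{u} (Γ(X, ⊤)) := P.ι ⋙ G X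
  have : F.Full := ⟨fun {A B} φ => by
    obtain ⟨n, i, r, hir⟩ := A.property
    obtain ⟨u, hu⟩ := exists_G_retract i r hir (M' := B.obj) φ
    exact ⟨P.homMk u, hu⟩⟩
  have : F.Faithful := ⟨fun {A B} f g h => by
    obtain ⟨n, i, r, hir⟩ := A.property
    apply ObjectProperty.hom_ext
    exact eq_of_G_retract i r hir h⟩
  have hF : ∀ A : P.FullSubcategory, Q (F.obj A) := fun A => by
    obtain ⟨n, i, r, hir⟩ := A.property
    exact finite_proj_of_retract i r hir
  let Φ : P.FullSubcategory ⥤ Q.FullSubcategory := Q.lift F hF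
  have : Φ.EssSurj := ⟨fun N => by
    have := N.property.1
    have := N.property.2
    obtain ⟨M, n, i, r, hir, ⟨e⟩⟩ := exists_retract_iso (X := X) N.obj
    exact ⟨⟨M, n, i, r, hir⟩, ⟨Q.isoMk e⟩⟩⟩
  have : Φ.IsEquivalence := { }
  exact ⟨Φ.asEquivalence⟩

end Groth.Agent.H23.FinProj
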