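import Mathlib

/-! Galois categories: objects on which the fundamental group acts trivially are the finite
coproducts of copies of the terminal object. -/

set_option autoImplicit false

open CategoryTheory CategoryTheory.Limits PreGaloisCategory

universe u v w

namespace Groth.Agent.Lib.helper23.GalLib

variable {C : Type u} [Category.{v} C] [GaloisCategory C] (F : C ⥤ FintypeCat.{w}) [FiberFunctor F]

lemma fiber_terminal_subsingleton : Subsingleton (F.obj (⊤_ C)) := by
  have hT : IsTerminal (F.obj (⊤_ C)) := IsTerminal.isTerminalObj F _ terminalIsTerminal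
  constructor
  intro x y
  have := hT.hom_ext (FintypeCat.homMk (X := FintypeCat.of PUnit.{w + 1}) (fun _ => x))
    (FintypeCat.homMk (fun _ => y))
  exact ConcreteCategory.congr_hom this PUnit.unit

/-- an object with one-point fibre is terminal -/
lemma isIso_terminalFrom_of_card (Y : C) (h : Nat.card (F.obj Y) = 1) :
    IsIso (terminal.from Y) := by
  haveI := fiber_terminal_subsingleton F
  have hne : Nonempty (F.obj Y) := by
    by_contra hcon
    rw [not_nonempty_iff] at hcon
    rw [Nat.card_of_isEmpty] at h
    exact absurd h (by decide)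
  have hss : Subsingleton (F.obj Y) := (Nat.card_eq_one_iff_unique.1 h).1
  have hb : Function.Bijective (F.map (terminal.from Y)) := by
    constructor
    · intro a b _
      exact Subsingleton.elim a b
    · intro t
      obtain ⟨y⟩ := hne
      exact ⟨y, Subsingleton.elim _ _⟩
  haveI : IsIso (F.map (terminal.from Y)) :=
    (ConcreteCategory.isIso_iff_bijective (F.map (terminal.from Y))).2 hb
  exact isIso_of_reflects_iso (terminal.from Y) F

/-- an object on whose fibre every automorphism of the fibre functor acts trivially is a finite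
coproduct of copies of the terminal object -/
theorem exists_iso_sigma_terminal_of_trivial (Y : C)
    (h : ∀ (σ : Aut F) (y : F.obj Y), σ.hom.app Y y = y) :
    ∃ n : ℕ, Nonempty (Y ≅ ∐ fun _ : Fin n => ⊤_ C) := by
  obtain ⟨ι, f, g, hl, hc, hf⟩ := has_decomp_connected_components Y
  have hiso : ∀ i, IsIso (terminal.from (f i)) := by
    intro i
    haveI := hc i
    apply isIso_terminalFrom_of_card F
    haveI : Nonempty (F.obj (f i)) := nonempty_fiber_of_isConnected F (f i)
    haveI : Mono (g i) := MonoCoprod.mono_inj _ (Cofan.mk Y g) hl i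
    have hinj : Function.Injective (F.map (g i)) :=
      ConcreteCategory.injective_of_mono_of_preservesPullback (F.map (g i))
    have hss : Subsingleton (F.obj (f i)) := by
      constructor
      intro a b
      obtain ⟨σ, hσ⟩ := MulAction.exists_smul_eq (Aut F) a b
      apply hinj
      have h1 := h σ (F.map (g i) a)
      have h2 : σ.hom.app Y (F.map (g i) a) = F.map (g i) (σ.hom.app (f i) a) :=
        NatTrans.naturality_apply σ.hom (g i) a
      rw [h2] at h1
      have hσ' : σ.hom.app (f i) a = b := hσ
      exact h1.symm.trans (congrArg (fun z => F.map (g i) z) hσ')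
    exact Nat.card_eq_one_iff_unique.2 ⟨hss, inferInstance⟩
  have := hf
  let e : ι ≃ Fin (Nat.card ι) := Finite.equivFin ι
  have i1 : Y ≅ ∐ f := (colimit.isoColimitCocone ⟨Cofan.mk Y g, hl⟩).symm
  have i2 : ∐ f ≅ ∐ fun _ : Fin (Nat.card ι) => ⊤_ C :=
    Sigma.whiskerEquiv e (fun i => haveI := hiso i; (asIso (terminal.from (f i))).symm)
  exact ⟨Nat.card ι, ⟨i1 ≪≫ i2⟩⟩

/-- every automorphism of the fibre functor acts trivially on the fibre of a finite coproduct of
copies of the terminal object -/
theorem trivial_of_iso_sigma_terminal (Y : C) (n : ℕ) (φ : Y ≅ ∐ fun _ : Fin n => ⊤_ C)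
    (σ : Aut F) (y : F.obj Y) : σ.hom.app Y y = y := by
  have := fiber_terminal_subsingleton F
  have hl : IsColimit (F.mapCocone (colimit.cocone (Discrete.functor fun _ : Fin n => ⊤_ C))) :=
    isColimitOfPreserves F (colimit.isColimit _)
  obtain ⟨⟨k⟩, t, ht⟩ := Concrete.isColimit_exists_rep _ hl (F.map φ.hom y)
  have ht' : F.map (Sigma.ι (fun _ : Fin n => ⊤_ C) k) t = F.map φ.hom y := ht
  have h1 : σ.hom.app _ (F.map φ.hom y) = F.map φ.hom y := by
    rw [← ht']
    have h2 : σ.hom.app _ (F.map (Sigma.ι (fun _ : Fin n => ⊤_ C) k) t) =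
        F.map (Sigma.ι (fun _ : Fin n => ⊤_ C) k) (σ.hom.app _ t) :=
      NatTrans.naturality_apply σ.hom _ t
    rw [h2]
    exact congrArg _ (Subsingleton.elim _ _)
  have h3 : σ.hom.app _ (F.map φ.hom y) = F.map φ.hom (σ.hom.app Y y) :=
    NatTrans.naturality_apply σ.hom φ.hom y
  rw [h3] at h1
  have hinj : Function.Injective (F.map φ.hom) :=
    (ConcreteCategory.bijective_of_isIso (F.map φ.hom)).1
  exact hinj h1

end Groth.Agent.Lib.helper23.GalLib
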