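import Mathlib
import Groth.Agent.Lib.helper23.GalSplit

/-! Galois categories: exact functors to finite sets are fibre functors. -/

set_option autoImplicit false

open CategoryTheory CategoryTheory.Limits PreGaloisCategory

universe u v w w'

namespace Groth.Agent.Lib.helper23.GalLib

variable {C : Type u} [Category.{v} C] [GaloisCategory C]

section Exact

variable (F' : C ⥤ FintypeCat.{w}) [PreservesFiniteLimits F'] [PreservesFiniteCoproducts F']
  [F'.PreservesEpimorphisms]

/-- the terminal finite set is nonempty -/
lemma nonempty_of_isTerminal (T : FintypeCat.{w}) (hT : IsTerminal T) : Nonempty T := by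
  have := hT.from (FintypeCat.of PUnit.{w + 1})
  exact ⟨this PUnit.unit⟩

/-- an object whose image under an exact functor is empty is initial -/
lemma isInitial_of_isEmpty (Y : C) (h : IsEmpty (F'.obj Y)) : Nonempty (IsInitial Y) := by
  let F := GaloisCategory.getFiberFunctor C
  by_contra hcon
  have hne : Nonempty (F.obj Y) := by
    rw [← not_initial_iff_fiber_nonempty F Y]
    intro hi
    exact hcon ⟨hi⟩
  haveI := fiber_terminal_subsingleton F
  have hs : Function.Surjective (F.map (terminal.from Y)) := by
    intro t
    obtain ⟨y⟩ := hne
    exact ⟨y, Subsingleton.elim _ _⟩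
  haveI : Epi (F.map (terminal.from Y)) := ConcreteCategory.epi_of_surjective _ hs
  haveI : Epi (terminal.from Y) := F.epi_of_epi_map inferInstance
  haveI : Epi (F'.map (terminal.from Y)) := inferInstance
  have hs' : Function.Surjective (F'.map (terminal.from Y)) :=
    ConcreteCategory.surjective_of_epi_of_preservesPushout (F'.map (terminal.from Y))
  have hT : IsTerminal (F'.obj (⊤_ C)) := IsTerminal.isTerminalObj F' _ terminalIsTerminal
  obtain ⟨t⟩ := nonempty_of_isTerminal _ hT
  obtain ⟨y, _⟩ := hs' t
  exact h.false y

/-- a monomorphism whose image under an exact functor is surjective is an isomorphism -/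
lemma isIso_of_mono_of_surjective {X Y : C} (i : X ⟶ Y) [Mono i]
    (hs : Function.Surjective (F'.map i)) : IsIso i := by
  obtain ⟨Z, u, ⟨hc⟩⟩ := PreGaloisCategory.monoInducesIsoOnDirectSummand i
  have hc' : IsColimit (BinaryCofan.mk ((F' ⋙ FintypeCat.incl).map i)
      ((F' ⋙ FintypeCat.incl).map u)) :=
    mapIsColimitOfPreservesOfIsColimit (F' ⋙ FintypeCat.incl) i u hc
  obtain ⟨_, _, hcompl⟩ := (Types.binaryCofan_isColimit_iff _).1 ⟨hc'⟩
  have hZ : IsEmpty (F'.obj Z) := by
    constructor
    intro z
    obtain ⟨x, hx⟩ := hs (F'.map u z)
    have h1 : F'.map u z ∈ Set.range ((F' ⋙ FintypeCat.incl).map i) := ⟨x, hx⟩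
    have h2 : F'.map u z ∈ Set.range ((F' ⋙ FintypeCat.incl).map u) := ⟨z, rfl⟩
    exact (Set.disjoint_left.1 hcompl.disjoint h1 h2).elim
  obtain ⟨hZi⟩ := isInitial_of_isEmpty F' Z hZ
  exact (BinaryCofan.isColimit_iff_isIso_inl hZi (BinaryCofan.mk i u)).1 ⟨hc⟩

/-- an exact functor to finite sets reflects monomorphisms detected by injectivity -/
lemma mono_of_injective {X Y : C} (f : X ⟶ Y) (hf : Function.Injective (F'.map f)) : Mono f := by
  constructor
  intro T g h hgh
  haveI : Mono (F'.map f) := ConcreteCategory.mono_of_injective _ hf
  have h1 : F'.map g = F'.map h := by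
    rw [← cancel_mono (F'.map f), ← F'.map_comp, ← F'.map_comp, hgh]
  haveI : IsIso (equalizer.ι (F'.map g) (F'.map h)) := equalizer.ι_of_eq h1
  haveI : IsIso (F'.map (equalizer.ι g h)) := by
    rw [← equalizerComparison_comp_π g h F']
    exact IsIso.comp_isIso
  have hs : Function.Surjective (F'.map (equalizer.ι g h)) :=
    (ConcreteCategory.bijective_of_isIso _).2
  haveI : IsIso (equalizer.ι g h) := isIso_of_mono_of_surjective F' _ hs
  exact eq_of_epi_equalizer

/-- an exact functor to finite sets on a Galois category reflects isomorphisms -/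
theorem reflectsIsomorphisms_of_exact : F'.ReflectsIsomorphisms := by
  constructor
  intro X Y f hf
  have hb := ConcreteCategory.bijective_of_isIso (F'.map f)
  haveI : Mono f := mono_of_injective F' f hb.1
  exact isIso_of_mono_of_surjective F' f hb.2

omit [PreservesFiniteCoproducts F'] [F'.PreservesEpimorphisms] in
/-- an exact functor to finite sets on a Galois category is a fibre functor -/
theorem fiberFunctor_of_exact [PreservesFiniteColimits F'] : FiberFunctor F' :=
  { preservesTerminalObjects := inferInstance
    preservesPullbacks := inferInstance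
    preservesFiniteCoproducts := inferInstance
    preservesEpis := inferInstance
    preservesQuotientsByFiniteGroups := fun G _ _ => by
      obtain ⟨G', hg, hf, ⟨e⟩⟩ := Finite.exists_type_univ_nonempty_mulEquiv G
      letI : Fintype G' := Fintype.ofFinite G'
      haveI : PreservesColimitsOfShape (SingleObj G') F' := inferInstance
      exact preservesColimitsOfShape_of_equiv e.toSingleObjEquiv.symm F'
    reflectsIsos := reflectsIsomorphisms_of_exact F' }

end Exact

/-- the composite of an exact functor of Galois categories and a fibre functor is a fibre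
functor -/
theorem fiberFunctor_comp {C' : Type u} [Category.{v} C'] [GaloisCategory C'] (H : C ⥤ C')
    [PreservesFiniteLimits H] [PreservesFiniteColimits H] (F' : C' ⥤ FintypeCat.{w})
    [FiberFunctor F'] : FiberFunctor (H ⋙ F') :=
  { preservesTerminalObjects := inferInstance
    preservesPullbacks := inferInstance
    preservesFiniteCoproducts := inferInstance
    preservesEpis := inferInstance
    preservesQuotientsByFiniteGroups := fun G _ _ => by
      haveI : PreservesColimitsOfShape (SingleObj G) H := by
        obtain ⟨G', hg, hf, ⟨e⟩⟩ := Finite.exists_type_univ_nonempty_mulEquiv G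
        letI : Fintype G' := Fintype.ofFinite G'
        haveI : PreservesColimitsOfShape (SingleObj G') H := inferInstance
        exact preservesColimitsOfShape_of_equiv e.toSingleObjEquiv.symm H
      infer_instance
    reflectsIsos := reflectsIsomorphisms_of_exact (H ⋙ F') }

end Groth.Agent.Lib.helper23.GalLib
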