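import Mathlib
import Groth.Agent.Lib.helper23.GalExact

/-! Galois categories: any two fibre functors are isomorphic. -/

set_option autoImplicit false

open CategoryTheory CategoryTheory.Limits PreGaloisCategory

universe u v w

namespace Groth.Agent.Lib.helper23.GalLib

variable {C : Type u} [Category.{v} C] [GaloisCategory C]

section Specialized

variable (F F' : C ⥤ FintypeCat.{v}) [FiberFunctor F] [FiberFunctor F']

open PointedGaloisObject

/-- every point of a fibre is the image of the distinguished point of a pointed Galois object -/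
lemma exists_rep (X : C) (x : F.obj X) :
    ∃ (A : PointedGaloisObject F) (f : A.obj ⟶ X), F.map f A.pt = x := by
  obtain ⟨A, f, a, hgal, hfa⟩ := exists_hom_from_galois_of_fiber F X x
  exact ⟨⟨A, a, hgal⟩, f, hfa⟩

/-- a compatible system of points of the second functor -/
lemma exists_section : (incl F ⋙ F' ⋙ FintypeCat.incl).sections.Nonempty := by
  haveI : ∀ A : PointedGaloisObject F, Nonempty ((incl F ⋙ F' ⋙ FintypeCat.incl).obj A) :=
    fun A => nonempty_fiber_of_isConnected F' A.obj
  haveI : ∀ A : PointedGaloisObject F, Finite ((incl F ⋙ F' ⋙ FintypeCat.incl).obj A) :=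
    fun A => (inferInstance : Finite (F'.obj A.obj))
  exact nonempty_sections_of_finite_cofiltered_system _

variable {F F'} (s : (incl F ⋙ F' ⋙ FintypeCat.incl).sections)

lemma section_compat {A B : PointedGaloisObject F} (h : A ⟶ B) :
    F'.map h.val (s.1 A) = s.1 B := s.2 h

/-- the value on a point does not depend on the representation -/
lemma rep_indep {X : C} {A B : PointedGaloisObject F} (f : A.obj ⟶ X) (g : B.obj ⟶ X)
    (h : F.map f A.pt = F.map g B.pt) : F'.map f (s.1 A) = F'.map g (s.1 B) := by
  obtain ⟨Z, hA, hB, -⟩ := IsCofilteredOrEmpty.cone_objs A B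
  have e : hA.val ≫ f = hB.val ≫ g := by
    apply evaluation_injective_of_isConnected F Z.obj X Z.pt
    show F.map (hA.val ≫ f) Z.pt = F.map (hB.val ≫ g) Z.pt
    rw [F.map_comp, F.map_comp, FintypeCat.comp_apply, FintypeCat.comp_apply, hA.comp, hB.comp, h]
  rw [← section_compat s hA, ← section_compat s hB]
  have e' : F'.map (hA.val ≫ f) (s.1 Z) = F'.map (hB.val ≫ g) (s.1 Z) :=
    congrArg (fun k => F'.map k (s.1 Z)) e
  rw [F'.map_comp, F'.map_comp, FintypeCat.comp_apply, FintypeCat.comp_apply] at e'
  exact e'

/-- the natural transformation attached to a compatible system of points -/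
noncomputable def natOfSection : F ⟶ F' where
  app X := FintypeCat.homMk (fun x =>
    F'.map (Classical.choose (Classical.choose_spec (exists_rep F X x)))
      (s.1 (Classical.choose (exists_rep F X x))))
  naturality X Y u := by
    ext x
    show F'.map (Classical.choose (Classical.choose_spec (exists_rep F Y (F.map u x))))
        (s.1 (Classical.choose (exists_rep F Y (F.map u x)))) =
      F'.map u (F'.map (Classical.choose (Classical.choose_spec (exists_rep F X x)))
        (s.1 (Classical.choose (exists_rep F X x))))
    have h1 := Classical.choose_spec (Classical.choose_spec (exists_rep F Y (F.map u x)))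
    have h2 := Classical.choose_spec (Classical.choose_spec (exists_rep F X x))
    have h3 := rep_indep s (Classical.choose (Classical.choose_spec (exists_rep F Y (F.map u x))))
      (Classical.choose (Classical.choose_spec (exists_rep F X x)) ≫ u) (by
        rw [h1, F.map_comp, FintypeCat.comp_apply, h2])
    rw [h3, F'.map_comp, FintypeCat.comp_apply]

lemma natOfSection_apply {X : C} (A : PointedGaloisObject F) (f : A.obj ⟶ X) :
    (natOfSection s).app X (F.map f A.pt) = F'.map f (s.1 A) := by
  have h1 := Classical.choose_spec (Classical.choose_spec (exists_rep F X (F.map f A.pt)))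
  exact rep_indep s _ f h1

lemma natOfSection_injective (X : C) : Function.Injective ((natOfSection s).app X) := by
  intro x y hxy
  obtain ⟨A, p, hp⟩ := exists_rep F (X ⨯ X) ((fiberBinaryProductEquiv F X X).symm (x, y))
  have hx : F.map (p ≫ prod.fst) A.pt = x := by
    rw [F.map_comp, FintypeCat.comp_apply, hp, fiberBinaryProductEquiv_symm_fst_apply]
  have hy : F.map (p ≫ prod.snd) A.pt = y := by
    rw [F.map_comp, FintypeCat.comp_apply, hp, fiberBinaryProductEquiv_symm_snd_apply]
  rw [← hx, ← hy, natOfSection_apply, natOfSection_apply] at hxy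
  have e : p ≫ prod.fst = p ≫ prod.snd :=
    evaluation_injective_of_isConnected F' A.obj X (s.1 A) hxy
  rw [← hx, ← hy, e]

lemma natOfSection_surjective (X : C) : Function.Surjective ((natOfSection s).app X) := by
  intro y'
  obtain ⟨B, g, b', hgal, hgb⟩ := exists_hom_from_galois_of_fiber F' X y'
  have := hgal
  obtain ⟨b⟩ := nonempty_fiber_of_isConnected F B
  let Bp : PointedGaloisObject F := ⟨B, b, hgal⟩
  obtain ⟨τ, hτ⟩ := evaluation_aut_surjective_of_isGalois F' B (s.1 Bp) b'
  have hτ' : F'.map τ.hom (s.1 Bp) = b' := hτ
  refine ⟨F.map (τ.hom ≫ g) b, ?_⟩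
  have := natOfSection_apply s Bp (τ.hom ≫ g)
  rw [this, F'.map_comp, FintypeCat.comp_apply, hτ', hgb]

variable (F F')

/-- two fibre functors with values in the universe of morphisms are isomorphic -/
theorem nonempty_iso_specialized : Nonempty (F ≅ F') := by
  obtain ⟨s, hs⟩ := exists_section F F'
  let η : F ⟶ F' := natOfSection ⟨s, hs⟩
  haveI : ∀ X, IsIso (η.app X) := fun X =>
    (ConcreteCategory.isIso_iff_bijective (η.app X)).2
      ⟨natOfSection_injective ⟨s, hs⟩ X, natOfSection_surjective ⟨s, hs⟩ X⟩
  haveI : IsIso η := NatIso.isIso_of_isIso_app η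
  exact ⟨asIso η⟩

end Specialized

/-- any two fibre functors on a Galois category are isomorphic -/
theorem nonempty_iso (F F' : C ⥤ FintypeCat.{w}) [FiberFunctor F] [FiberFunctor F'] :
    Nonempty (F ≅ F') := by
  let E : FintypeCat.{w} ⥤ FintypeCat.{v} := FintypeCat.uSwitch.{w, v}
  haveI : FiberFunctor (F ⋙ E) := FiberFunctor.comp_right _
  haveI : FiberFunctor (F' ⋙ E) := FiberFunctor.comp_right _
  obtain ⟨α⟩ := nonempty_iso_specialized (F ⋙ E) (F' ⋙ E)
  exact ⟨((Functor.FullyFaithful.ofFullyFaithful E).whiskeringRight C).preimageIso α⟩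

/-- every morphism between fibre functors is an isomorphism -/
theorem nonempty_iso_of_exact (F F' : C ⥤ FintypeCat.{w}) [FiberFunctor F]
    [PreservesFiniteLimits F'] [PreservesFiniteColimits F'] : Nonempty (F' ≅ F) := by
  haveI : FiberFunctor F' := fiberFunctor_of_exact F'
  exact nonempty_iso F' F

end Groth.Agent.Lib.helper23.GalLib
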