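import Mathlib
import Groth.Prelude.Def_Pi1X
import Groth.Agent.Lib.helper23.GalUnique

/-! Exact functors between Galois categories and the induced map of fundamental groups. -/

set_option autoImplicit false

open CategoryTheory CategoryTheory.Limits PreGaloisCategory

universe u v w

namespace Groth.Agent.Lib.helper23.GalLib

section Conn

variable {C : Type u} [Category.{v} C] [GaloisCategory C] (F : C ⥤ FintypeCat.{w})
  [FiberFunctor F]

/-- an object with nonempty fibre on which the fundamental group acts transitively is connected -/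
lemma isConnected_of_isPretransitive (X : C) (hne : Nonempty (F.obj X))
    (ht : MulAction.IsPretransitive (Aut F) (F.obj X)) : IsConnected X := by
  refine ⟨fun hi => not_initial_of_inhabited F hne.some hi, ?_⟩
  intro Z i _ hZ
  have hZne : Nonempty (F.obj Z) := (not_initial_iff_fiber_nonempty F Z).1 hZ
  have hinj : Function.Injective (F.map i) :=
    ConcreteCategory.injective_of_mono_of_preservesPullback (F.map i)
  have hsurj : Function.Surjective (F.map i) := by
    intro x
    obtain ⟨z⟩ := hZne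
    obtain ⟨σ, hσ⟩ := MulAction.exists_smul_eq (Aut F) (F.map i z) x
    refine ⟨σ.hom.app Z z, ?_⟩
    have h2 : σ.hom.app X (F.map i z) = F.map i (σ.hom.app Z z) :=
      NatTrans.naturality_apply σ.hom i z
    exact h2.symm.trans hσ
  haveI : IsIso (F.map i) := (ConcreteCategory.isIso_iff_bijective _).2 ⟨hinj, hsurj⟩
  exact isIso_of_reflects_iso i F

end Conn

section Func

variable {C C' : Type u} [Category.{v} C] [Category.{v} C'] [GaloisCategory C] [GaloisCategory C']
  (H : C ⥤ C') (F' : C' ⥤ FintypeCat.{w}) [FiberFunctor F'] [FiberFunctor (H ⋙ F')]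

include F' in
lemma faithful_of_fiber : H.Faithful := Functor.Faithful.of_comp H F'

/-- the action of the fundamental group of the target on the fibres of the source -/
instance actionVia (X : C) : MulAction (Aut F') ((H ⋙ F').obj X) :=
  inferInstanceAs (MulAction (Aut F') (F'.obj (H.obj X)))

lemma actionVia_def (σ : Aut F') (X : C) (x : (H ⋙ F').obj X) :
    σ • x = σ.hom.app (H.obj X) x := rfl

instance : IsNaturalSMul (H ⋙ F') (Aut F') where
  naturality σ {X Y} f x := (NatTrans.naturality_apply σ.hom (H.map f) x).symm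

lemma toAut_eq_autWhisker : toAut (H ⋙ F') (Aut F') = Pi1X.autWhisker H F' := by
  ext σ X x
  rfl

/-- if the functor preserves connectedness, the map of fundamental groups is surjective -/
theorem autWhisker_surjective_of_preservesConnected
    (h : ∀ X : C, IsConnected X → IsConnected (H.obj X)) :
    Function.Surjective (Pi1X.autWhisker H F') := by
  rw [← toAut_eq_autWhisker]
  haveI : ∀ X : C, ContinuousSMul (Aut F') ((H ⋙ F').obj X) := fun X =>
    (inferInstance : ContinuousSMul (Aut F') (F'.obj (H.obj X)))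
  apply toAut_surjective_of_isPretransitive
  intro X _
  haveI : IsConnected (H.obj X) := h X inferInstance
  exact (inferInstance : MulAction.IsPretransitive (Aut F') (F'.obj (H.obj X)))

/-- if the map of fundamental groups is surjective, the functor is full -/
theorem full_of_autWhisker_surjective (h : Function.Surjective (Pi1X.autWhisker H F')) :
    H.Full := by
  constructor
  intro X Y g
  let φ : (functorToAction (H ⋙ F')).obj X ⟶ (functorToAction (H ⋙ F')).obj Y :=
    { hom := F'.map g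
      comm := fun σ => by
        obtain ⟨σ', rfl⟩ := h σ
        ext x
        exact (NatTrans.naturality_apply σ'.hom g x).symm }
  obtain ⟨f, hf⟩ := (functorToAction (H ⋙ F')).map_surjective φ
  refine ⟨f, ?_⟩
  have h1 : F'.map (H.map f) = F'.map g := congrArg (fun ψ => ψ.hom) hf
  exact F'.map_injective h1

/-- the two points of the fibre of the coproduct of two copies of the terminal object -/
lemma exists_two_fixed_points (F : C ⥤ FintypeCat.{w}) [FiberFunctor F] :
    ∃ p₁ p₂ : F.obj ((⊤_ C) ⨿ (⊤_ C)), p₁ ≠ p₂ ∧ ∃ t : F.obj (⊤_ C),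
      p₁ = F.map coprod.inl t ∧ p₂ = F.map coprod.inr t := by
  have hT : IsTerminal (F.obj (⊤_ C)) := IsTerminal.isTerminalObj F _ terminalIsTerminal
  obtain ⟨t⟩ := nonempty_of_isTerminal _ hT
  refine ⟨F.map coprod.inl t, F.map coprod.inr t, ?_, t, rfl, rfl⟩
  have hc : IsColimit (BinaryCofan.mk (coprod.inl : (⊤_ C) ⟶ (⊤_ C) ⨿ (⊤_ C)) coprod.inr) :=
    coprodIsCoprod _ _
  have hc' : IsColimit (BinaryCofan.mk ((F ⋙ FintypeCat.incl).map
      (coprod.inl : (⊤_ C) ⟶ (⊤_ C) ⨿ (⊤_ C)))
      ((F ⋙ FintypeCat.incl).map coprod.inr)) :=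
    mapIsColimitOfPreservesOfIsColimit (F ⋙ FintypeCat.incl) _ _ hc
  obtain ⟨_, _, hcompl⟩ := (Types.binaryCofan_isColimit_iff _).1 ⟨hc'⟩
  intro heq
  have h1 : F.map coprod.inl t ∈ Set.range ((F ⋙ FintypeCat.incl).map
      (coprod.inl : (⊤_ C) ⟶ (⊤_ C) ⨿ (⊤_ C))) := ⟨t, rfl⟩
  have h2 : F.map coprod.inl t ∈ Set.range ((F ⋙ FintypeCat.incl).map
      (coprod.inr : (⊤_ C) ⟶ (⊤_ C) ⨿ (⊤_ C))) := ⟨t, heq.symm⟩
  exact Set.disjoint_left.1 hcompl.disjoint h1 h2

include F' in
open Classical in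
/-- a full exact functor preserves connectedness -/
theorem isConnected_of_full [H.Full] (X : C) [IsConnected X] : IsConnected (H.obj X) := by
  obtain ⟨x₀⟩ := nonempty_fiber_of_isConnected (H ⋙ F') X
  apply isConnected_of_isPretransitive F' (H.obj X) ⟨x₀⟩
  obtain ⟨p₁, p₂, hne, t, hp₁, hp₂⟩ := exists_two_fixed_points (H ⋙ F')
  haveI := fiber_terminal_subsingleton (H ⋙ F')
  have hfix' : ∀ (σ' : Aut F') (p : (H ⋙ F').obj ((⊤_ C) ⨿ (⊤_ C))), p = p₁ ∨ p = p₂ →
      σ'.hom.app (H.obj ((⊤_ C) ⨿ (⊤_ C))) p = p := by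
    intro σ' p hp
    rcases hp with rfl | rfl
    · rw [hp₁]
      have := NatTrans.naturality_apply σ'.hom (H.map (coprod.inl : (⊤_ C) ⟶ (⊤_ C) ⨿ (⊤_ C))) t
      refine this.trans (congrArg _ (Subsingleton.elim (α := (H ⋙ F').obj (⊤_ C)) _ _))
    · rw [hp₂]
      have := NatTrans.naturality_apply σ'.hom (H.map (coprod.inr : (⊤_ C) ⟶ (⊤_ C) ⨿ (⊤_ C))) t
      refine this.trans (congrArg _ (Subsingleton.elim (α := (H ⋙ F').obj (⊤_ C)) _ _))
  have hfix : ∀ (σ : Aut (H ⋙ F')), σ.hom.app ((⊤_ C) ⨿ (⊤_ C)) p₁ = p₁ := by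
    intro σ
    rw [hp₁]
    have := NatTrans.naturality_apply σ.hom (coprod.inl : (⊤_ C) ⟶ (⊤_ C) ⨿ (⊤_ C)) t
    refine this.trans (congrArg _ (Subsingleton.elim (α := (H ⋙ F').obj (⊤_ C)) _ _))
  let O : Set (F'.obj (H.obj X)) := MulAction.orbit (Aut F') x₀
  have hO : ∀ (σ' : Aut F') (x : F'.obj (H.obj X)), σ' • x ∈ O ↔ x ∈ O := by
    intro σ' x
    show σ' • x ∈ MulAction.orbit (Aut F') x₀ ↔ x ∈ MulAction.orbit (Aut F') x₀
    rw [← MulAction.orbit_eq_iff, ← MulAction.orbit_eq_iff, MulAction.orbit_smul]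
  let φfun : F'.obj (H.obj X) → F'.obj (H.obj ((⊤_ C) ⨿ (⊤_ C))) := fun x =>
    if x ∈ O then p₁ else p₂
  let φ : (functorToAction F').obj (H.obj X) ⟶ (functorToAction F').obj (H.obj ((⊤_ C) ⨿ (⊤_ C))) :=
    { hom := FintypeCat.homMk φfun
      comm := fun σ' => by
        ext x
        show φfun (σ' • x) = σ'.hom.app _ (φfun x)
        by_cases hx : x ∈ O
        · have hx' : σ' • x ∈ O := (hO σ' x).2 hx
          show (if σ' • x ∈ O then p₁ else p₂) = σ'.hom.app _ (if x ∈ O then p₁ else p₂)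
          rw [if_pos hx, if_pos hx', hfix' σ' p₁ (Or.inl rfl)]
        · have hx' : ¬ σ' • x ∈ O := fun h => hx ((hO σ' x).1 h)
          show (if σ' • x ∈ O then p₁ else p₂) = σ'.hom.app _ (if x ∈ O then p₁ else p₂)
          rw [if_neg hx, if_neg hx', hfix' σ' p₂ (Or.inr rfl)] }
  obtain ⟨g, hg⟩ := (functorToAction F').map_surjective φ
  obtain ⟨f, rfl⟩ := H.map_surjective g
  have hf : ∀ x, (H ⋙ F').map f x = φfun x := fun x =>
    ConcreteCategory.congr_hom (congrArg (fun ψ => ψ.hom) hg) x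
  have hall : ∀ x : F'.obj (H.obj X), x ∈ O := by
    intro x
    obtain ⟨σ, hσ⟩ := MulAction.exists_smul_eq (Aut (H ⋙ F')) x₀ x
    have hσ' : σ.hom.app X x₀ = x := hσ
    have h1 : φfun x = p₁ := by
      rw [← hf, ← hσ']
      have := NatTrans.naturality_apply σ.hom f x₀
      rw [← this, hf x₀]
      show σ.hom.app _ (if x₀ ∈ O then p₁ else p₂) = p₁
      rw [if_pos (MulAction.mem_orbit_self x₀)]
      exact hfix σ
    by_contra hx
    have h2 : φfun x = p₂ := if_neg hx
    exact hne (h1.symm.trans h2)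
  constructor
  intro x y
  obtain ⟨σx, hσx⟩ := hall x
  obtain ⟨σy, hσy⟩ := hall y
  refine ⟨σy * σx⁻¹, ?_⟩
  have hσx' : σx • x₀ = x := hσx
  have hσy' : σy • x₀ = y := hσy
  rw [mul_smul, ← hσx', inv_smul_smul, hσy']

end Func

end Groth.Agent.Lib.helper23.GalLib
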