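import Mathlib
import Groth.Prelude.Def_Pi1X
import Groth.Agent.Lib.helper23.GalFunctor

/-! Exact functors between Galois categories: injectivity of the map of fundamental groups. -/

set_option autoImplicit false

open CategoryTheory CategoryTheory.Limits PreGaloisCategory

universe u v w

namespace Groth.Agent.Lib.helper23.GalLib

variable {C C' : Type u} [Category.{v} C] [Category.{v} C'] [GaloisCategory C] [GaloisCategory C']
  (H : C ⥤ C') (F' : C' ⥤ FintypeCat.{w}) [FiberFunctor F'] [FiberFunctor (H ⋙ F')]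

lemma autWhisker_eq_one_iff (σ' : Aut F') :
    Pi1X.autWhisker H F' σ' = 1 ↔ ∀ (X : C) (y : F'.obj (H.obj X)), σ'.hom.app (H.obj X) y = y := by
  constructor
  · intro h X y
    have h2 := congrArg (fun τ : Aut (H ⋙ F') => τ.hom.app X) h
    exact ConcreteCategory.congr_hom h2 y
  · intro h
    apply Iso.ext
    apply NatTrans.ext
    funext X
    ext y
    exact h X y

/-- if the map of fundamental groups is injective, the stabilizer of every point of a fibre of the
target contains the stabilizer of a point of the fibre of an object coming from the source -/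
theorem exists_point_stabilizer_le (hinj : Function.Injective (Pi1X.autWhisker H F'))
    {X' : C'} (x' : F'.obj X') :
    ∃ (X : C) (y : F'.obj (H.obj X)), ∀ σ' : Aut F',
      σ'.hom.app (H.obj X) y = y → σ'.hom.app X' x' = x' := by
  by_contra hcon
  push_neg at hcon
  let ι := Σ X : C, F'.obj (H.obj X)
  let t : ι → Set (Aut F') := fun i =>
    (MulAction.stabilizer (Aut F') i.2 : Set (Aut F')) ∩
      (MulAction.stabilizer (Aut F') x' : Set (Aut F'))ᶜ
  have hT : IsTerminal (F'.obj (H.obj (⊤_ C))) :=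
    IsTerminal.isTerminalObj (H ⋙ F') _ terminalIsTerminal
  obtain ⟨t₀⟩ := nonempty_of_isTerminal _ hT
  haveI : Nonempty ι := ⟨⟨⊤_ C, t₀⟩⟩
  have hcl : ∀ i, IsClosed (t i) := by
    intro i
    apply IsClosed.inter
    · exact Subgroup.isClosed_of_isOpen _ (stabilizer_isOpen (Aut F') i.2)
    · exact (stabilizer_isOpen (Aut F') x').isClosed_compl
  have hne : ∀ i, (t i).Nonempty := by
    intro i
    obtain ⟨σ', h1, h2⟩ := hcon i.1 i.2
    exact ⟨σ', h1, h2⟩
  have hdir : Directed (· ⊇ ·) t := by
    intro i j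
    let y : F'.obj (H.obj (i.1 ⨯ j.1)) :=
      (fiberBinaryProductEquiv (H ⋙ F') i.1 j.1).symm (i.2, j.2)
    have hy1 : F'.map (H.map prod.fst) y = i.2 :=
      fiberBinaryProductEquiv_symm_fst_apply (H ⋙ F') i.2 j.2
    have hy2 : F'.map (H.map prod.snd) y = j.2 :=
      fiberBinaryProductEquiv_symm_snd_apply (H ⋙ F') i.2 j.2
    refine ⟨⟨i.1 ⨯ j.1, y⟩, ?_, ?_⟩
    · rintro σ' ⟨h1, h2⟩
      refine ⟨?_, h2⟩
      show σ'.hom.app _ i.2 = i.2
      have h1' : σ'.hom.app _ y = y := h1
      rw [← hy1]
      have := NatTrans.naturality_apply σ'.hom (H.map (prod.fst : i.1 ⨯ j.1 ⟶ i.1)) y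
      rw [this, h1']
    · rintro σ' ⟨h1, h2⟩
      refine ⟨?_, h2⟩
      show σ'.hom.app _ j.2 = j.2
      have h1' : σ'.hom.app _ y = y := h1
      rw [← hy2]
      have := NatTrans.naturality_apply σ'.hom (H.map (prod.snd : i.1 ⨯ j.1 ⟶ j.1)) y
      rw [this, h1']
  obtain ⟨σ', hσ'⟩ := IsCompact.nonempty_iInter_of_directed_nonempty_isCompact_isClosed t hdir hne
    (fun i => (hcl i).isCompact) hcl
  rw [Set.mem_iInter] at hσ'
  have h1 : Pi1X.autWhisker H F' σ' = 1 := by
    rw [autWhisker_eq_one_iff]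
    intro X y
    exact (hσ' ⟨X, y⟩).1
  have h2 : σ' = 1 := hinj (h1.trans (map_one _).symm)
  have h3 := (hσ' ⟨⊤_ C, t₀⟩).2
  apply h3
  rw [h2]
  exact Subgroup.one_mem _

section Dom

variable {D : Type u} [Category.{v} D] [GaloisCategory D] (G : D ⥤ FintypeCat.{w}) [FiberFunctor G]

/-- a morphism from a connected object determined by the image of a point whose stabilizer is
large enough -/
theorem exists_epi_of_stabilizer_le {Y X : D} [IsConnected Y] [IsConnected X]
    (y₀ : G.obj Y) (x : G.obj X)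
    (hst : ∀ σ : Aut G, σ.hom.app Y y₀ = y₀ → σ.hom.app X x = x) :
    ∃ p : Y ⟶ X, Epi p := by
  have hch : ∀ z : G.obj Y, ∃ σ : Aut G, σ • y₀ = z := fun z =>
    MulAction.exists_smul_eq (Aut G) y₀ z
  choose c hc using hch
  have hwd : ∀ σ τ : Aut G, σ • y₀ = τ • y₀ → σ • x = τ • x := by
    intro σ τ h
    have h1 : (τ⁻¹ * σ) • y₀ = y₀ := by rw [mul_smul, h, inv_smul_smul]
    have h2 : (τ⁻¹ * σ) • x = x := hst _ h1
    rw [mul_smul, inv_smul_eq_iff] at h2
    exact h2
  let ψ : (functorToAction G).obj Y ⟶ (functorToAction G).obj X :=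
    { hom := FintypeCat.homMk (fun z => c z • x)
      comm := fun τ => by
        ext z
        show c (τ • z) • x = τ • (c z • x)
        rw [← mul_smul]
        apply hwd
        rw [hc, mul_smul, hc]
        rfl }
  obtain ⟨p, hp⟩ := (functorToAction G).map_surjective ψ
  refine ⟨p, ?_⟩
  have hpf : ∀ z, G.map p z = c z • x := fun z =>
    ConcreteCategory.congr_hom (congrArg (fun φ => φ.hom) hp) z
  have hs : Function.Surjective (G.map p) := by
    intro w
    obtain ⟨σ, hσ⟩ := MulAction.exists_smul_eq (Aut G) x w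
    refine ⟨σ • y₀, ?_⟩
    rw [hpf, ← hσ]
    apply hwd
    rw [hc]
  haveI : Epi (G.map p) := ConcreteCategory.epi_of_surjective _ hs
  exact G.epi_of_epi_map inferInstance

end Dom

/-- the injectivity criterion -/
theorem autWhisker_injective_iff :
    Function.Injective (Pi1X.autWhisker H F') ↔
      ∀ X' : C', IsConnected X' →
        ∃ (X : C) (Y' : C') (p : Y' ⟶ X') (q : Y' ⟶ H.obj X), Epi p ∧ Mono q := by
  constructor
  · intro hinj X' hX'
    obtain ⟨x'⟩ := nonempty_fiber_of_isConnected F' X'
    obtain ⟨X, y, hst⟩ := exists_point_stabilizer_le H F' hinj x'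
    obtain ⟨Y', q, y₀, hy₀, hconn, hmono⟩ := fiber_in_connected_component F' (H.obj X) y
    have := hconn
    obtain ⟨p, hp⟩ := exists_epi_of_stabilizer_le F' y₀ x' (by
      intro σ hσ
      apply hst
      rw [← hy₀]
      have := NatTrans.naturality_apply σ.hom q y₀
      rw [this, hσ])
    exact ⟨X, Y', p, q, hp, hmono⟩
  · intro hdom
    rw [injective_iff_map_eq_one]
    intro σ' hσ'
    rw [autWhisker_eq_one_iff] at hσ'
    apply Iso.ext
    apply NatTrans.ext
    funext X'
    ext x'
    show σ'.hom.app X' x' = x'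
    obtain ⟨Y, i, y, hy, hconn, hmono⟩ := fiber_in_connected_component F' X' x'
    obtain ⟨X, Y', p, q, hp, hq⟩ := hdom Y hconn
    have hps : Function.Surjective (F'.map p) :=
      ConcreteCategory.surjective_of_epi_of_preservesPushout (F'.map p)
    obtain ⟨y', hy'⟩ := hps y
    have hqi : Function.Injective (F'.map q) :=
      ConcreteCategory.injective_of_mono_of_preservesPullback (F'.map q)
    have h1 : σ'.hom.app Y' y' = y' := by
      apply hqi
      have := NatTrans.naturality_apply σ'.hom q y'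
      rw [← this]
      exact hσ' X _
    rw [← hy, ← hy']
    have h2 := NatTrans.naturality_apply σ'.hom p y'
    have h3 := NatTrans.naturality_apply σ'.hom i (F'.map p y')
    rw [h3, h2, h1]

end Groth.Agent.Lib.helper23.GalLib
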