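import Mathlib
import Groth.Prelude.Def_Pi1X
import Groth.Agent.Lib.helper23.GalInj

/-! Exact functors between Galois categories: lifting finite sets with action to objects, and the
essential image of a functor inducing a surjection of fundamental groups. -/

set_option autoImplicit false

open CategoryTheory CategoryTheory.Limits PreGaloisCategory

universe u v w

namespace Groth.Agent.Lib.helper23.GalLib

section Lift

variable {C : Type u} [Category.{v} C] [GaloisCategory C] (F : C ⥤ FintypeCat.{w}) [FiberFunctor F]

open scoped FintypeCatDiscrete in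
/-- a finite set with an action of the fundamental group with open stabilizers is the fibre of an
object -/
theorem exists_lift_of_mulAction' (T : FintypeCat.{w}) [MulAction (Aut F) T]
    (hst : ∀ s : T, IsOpen (MulAction.stabilizer (Aut F) s : Set (Aut F))) :
    ∃ (A : C) (e : F.obj A ≃ T), ∀ (σ : Aut F) (x : F.obj A), e (σ.hom.app A x) = σ • e x := by
  let X₀ : Action FintypeCat (Aut F) := Action.FintypeCat.ofMulAction (Aut F) T
  have hc : ContinuousSMul (Aut F) T :=
    continuousSMul_iff_stabilizer_isOpen.2 hst
  let X : ContAction FintypeCat (Aut F) := ⟨X₀, hc⟩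
  obtain ⟨A, ⟨i⟩⟩ := Functor.EssSurj.mem_essImage (F := functorToContAction F) X
  let j : (functorToAction F).obj A ≅ X₀ := (ObjectProperty.ι _).mapIso i
  let k : F.obj A ≅ T := (Action.forget _ _).mapIso j
  refine ⟨A, FintypeCat.equivEquivIso.symm k, ?_⟩
  intro σ x
  have h1 := j.hom.comm σ
  have h2 := ConcreteCategory.congr_hom h1 x
  exact h2

theorem exists_lift_of_mulAction (S : Type w) [Finite S] [MulAction (Aut F) S]
    (hst : ∀ s : S, IsOpen (MulAction.stabilizer (Aut F) s : Set (Aut F))) :
    ∃ (A : C) (e : F.obj A ≃ S), ∀ (σ : Aut F) (x : F.obj A), e (σ.hom.app A x) = σ • e x :=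
  exists_lift_of_mulAction' F (FintypeCat.of S) hst

/-- an equivariant bijection of fibres comes from an isomorphism -/
theorem nonempty_iso_of_equivariant {A B : C} (e : F.obj A ≃ F.obj B)
    (he : ∀ (σ : Aut F) (x : F.obj A), e (σ.hom.app A x) = σ.hom.app B (e x)) :
    Nonempty (A ≅ B) := by
  let φ : (functorToAction F).obj A ⟶ (functorToAction F).obj B :=
    { hom := FintypeCat.homMk e
      comm := fun σ => by
        ext x
        exact he σ x }
  obtain ⟨f, hf⟩ := (functorToAction F).map_surjective φ
  have hfe : ∀ x, F.map f x = e x := fun x =>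
    ConcreteCategory.congr_hom (congrArg (fun ψ => ψ.hom) hf) x
  have hb : Function.Bijective (F.map f) := by
    have : (F.map f : F.obj A → F.obj B) = e := funext hfe
    rw [this]
    exact e.bijective
  haveI : IsIso (F.map f) := (ConcreteCategory.isIso_iff_bijective _).2 hb
  haveI : IsIso f := isIso_of_reflects_iso f F
  exact ⟨asIso f⟩

/-- triviality of the action of an automorphism on a fibre is invariant under isomorphism -/
lemma trivial_of_iso {A B : C} (φ : A ≅ B) (σ : Aut F)
    (h : ∀ x : F.obj A, σ.hom.app A x = x) (y : F.obj B) : σ.hom.app B y = y := by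
  have h1 : F.map φ.hom (F.map φ.inv y) = y := by
    have := congrArg (fun g => F.map g) φ.inv_hom_id
    simp only [F.map_comp, F.map_id] at this
    exact ConcreteCategory.congr_hom this y
  rw [← h1]
  have h2 := NatTrans.naturality_apply σ.hom φ.hom (F.map φ.inv y)
  rw [h2, h]

/-- for a normal subgroup of the fundamental group and an object, there is an object on which the
subgroup acts trivially and which detects the orbits of the subgroup -/
theorem exists_orbit_object (N : Subgroup (Aut F)) [N.Normal] (X : C) :
    ∃ Q : C, (∀ n ∈ N, ∀ q : F.obj Q, (n : Aut F).hom.app Q q = q) ∧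
      ∀ σ : Aut F, (∀ q : F.obj Q, σ.hom.app Q q = q) →
        ∀ x : F.obj X, ∃ n ∈ N, (n : Aut F).hom.app X x = σ.hom.app X x := by
  classical
  open Pointwise in
  let p : SubMulAction (Aut F) (Set (F.obj X)) :=
    { carrier := {T | ∀ n ∈ N, n • T = T}
      smul_mem' := fun σ T hT n hn => by
        have h1 : σ⁻¹ * n * σ ∈ N := by
          have := ‹N.Normal›.conj_mem n hn σ⁻¹
          simpa using this
        have h2 := hT _ h1
        calc n • σ • T = σ • (σ⁻¹ * n * σ) • T := by
              rw [← mul_smul, ← mul_smul]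
              congr 1
              group
          _ = σ • T := by rw [h2] }
  have hker : IsOpen ((⨅ x : F.obj X, MulAction.stabilizer (Aut F) x : Subgroup (Aut F)) :
      Set (Aut F)) := by
    rw [Subgroup.coe_iInf]
    exact isOpen_iInter_of_finite (fun x => stabilizer_isOpen (Aut F) x)
  have hst : ∀ T : p, IsOpen (MulAction.stabilizer (Aut F) T : Set (Aut F)) := by
    intro T
    refine Subgroup.isOpen_mono ?_ hker
    intro σ hσ
    rw [Subgroup.mem_iInf] at hσ
    rw [MulAction.mem_stabilizer_iff]
    apply Subtype.ext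
    show σ • (T : Set (F.obj X)) = T
    ext y
    constructor
    · rintro ⟨z, hz, rfl⟩
      have : σ • z = z := hσ z
      show σ • z ∈ (T : Set (F.obj X))
      rw [this]
      exact hz
    · intro hy
      refine ⟨y, hy, ?_⟩
      exact hσ y
  obtain ⟨Q, e, he⟩ := exists_lift_of_mulAction F p hst
  refine ⟨Q, ?_, ?_⟩
  · intro n hn q
    apply e.injective
    rw [he]
    apply Subtype.ext
    exact (e q).2 n hn
  · intro σ hσ x
    have hmem : (MulAction.orbit N x : Set (F.obj X)) ∈ p := by
      intro n hn
      exact MulAction.smul_orbit (⟨n, hn⟩ : N) x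
    let T : p := ⟨MulAction.orbit N x, hmem⟩
    have h1 : σ • T = T := by
      have h2 := he σ (e.symm T)
      rw [hσ, e.apply_symm_apply] at h2
      exact h2.symm
    have h3 : σ • (MulAction.orbit N x : Set (F.obj X)) = MulAction.orbit N x :=
      congrArg Subtype.val h1
    have h4 : σ • x ∈ σ • (MulAction.orbit N x : Set (F.obj X)) :=
      ⟨x, MulAction.mem_orbit_self x, rfl⟩
    rw [h3] at h4
    obtain ⟨n, hn⟩ := h4
    exact ⟨n.1, n.2, hn⟩

end Lift

section Func

variable {C C' : Type u} [Category.{v} C] [Category.{v} C'] [GaloisCategory C] [GaloisCategory C']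
  (H : C ⥤ C') (F' : C' ⥤ FintypeCat.{w}) [FiberFunctor F'] [FiberFunctor (H ⋙ F')]

lemma autWhisker_continuous : Continuous (Pi1X.autWhisker H F') := by
  rw [← toAut_eq_autWhisker]
  haveI : ∀ X : C, ContinuousSMul (Aut F') ((H ⋙ F').obj X) := fun X =>
    (inferInstance : ContinuousSMul (Aut F') (F'.obj (H.obj X)))
  exact toAut_continuous (H ⋙ F') (Aut F')

/-- the kernel of the map of fundamental groups acts trivially on the fibres of objects in the
essential image -/
lemma ker_trivial_of_iso {X : C} {X' : C'} (φ : H.obj X ≅ X') (σ' : Aut F')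
    (hσ' : Pi1X.autWhisker H F' σ' = 1) (x : F'.obj X') : σ'.hom.app X' x = x :=
  trivial_of_iso F' φ σ' (fun y => (autWhisker_eq_one_iff H F' σ').1 hσ' X y) x

/-- if the map of fundamental groups is surjective, an object on whose fibre the kernel acts
trivially is in the essential image -/
theorem exists_preimage_of_ker_trivial (hsurj : Function.Surjective (Pi1X.autWhisker H F'))
    (X' : C')
    (hK : ∀ σ' : Aut F', Pi1X.autWhisker H F' σ' = 1 → ∀ x : F'.obj X', σ'.hom.app X' x = x) :
    ∃ X : C, Nonempty (H.obj X ≅ X') := by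
  let h := Pi1X.autWhisker H F'
  have hwd : ∀ a b : Aut F', h a = h b → ∀ x : F'.obj X', a • x = b • x := by
    intro a b hab x
    have h1 : h (b⁻¹ * a) = 1 := by rw [map_mul, map_inv, hab, inv_mul_cancel]
    have h2 : (b⁻¹ * a) • x = x := hK _ h1 x
    rw [mul_smul, inv_smul_eq_iff] at h2
    exact h2
  let s : Aut (H ⋙ F') → Aut F' := Function.surjInv hsurj
  have hs : ∀ σ, h (s σ) = σ := Function.surjInv_eq hsurj
  letI act : MulAction (Aut (H ⋙ F')) (F'.obj X') :=
    { smul := fun σ x => s σ • x
      one_smul := fun x => by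
        show s 1 • x = x
        rw [hwd (s 1) 1 ((hs 1).trans (map_one h).symm) x, one_smul]
      mul_smul := fun σ τ x => by
        show s (σ * τ) • x = s σ • s τ • x
        rw [← mul_smul]
        apply hwd
        rw [hs, map_mul, hs, hs] }
  have hact : ∀ (σ' : Aut F') (x : F'.obj X'), h σ' • x = σ' • x := by
    intro σ' x
    show s (h σ') • x = σ' • x
    exact hwd _ _ (hs _) x
  have hq : Topology.IsQuotientMap h :=
    (autWhisker_continuous H F').isClosedMap.isQuotientMap (autWhisker_continuous H F') hsurj
  have hst : ∀ x : F'.obj X', IsOpen (MulAction.stabilizer (Aut (H ⋙ F')) x :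
      Set (Aut (H ⋙ F'))) := by
    intro x
    rw [← hq.isOpen_preimage]
    have : h ⁻¹' (MulAction.stabilizer (Aut (H ⋙ F')) x : Set (Aut (H ⋙ F'))) =
        (MulAction.stabilizer (Aut F') x : Set (Aut F')) := by
      ext σ'
      show h σ' • x = x ↔ σ' • x = x
      rw [hact]
    rw [this]
    exact stabilizer_isOpen (Aut F') x
  obtain ⟨X, e, he⟩ := exists_lift_of_mulAction (H ⋙ F') (F'.obj X') hst
  refine ⟨X, nonempty_iso_of_equivariant F' (A := H.obj X) (B := X') e ?_⟩
  intro σ' x
  have h1 := he (h σ') x
  rw [hact] at h1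
  exact h1

end Func

end Groth.Agent.Lib.helper23.GalLib
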