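import Mathlib
import Groth.Prelude.Def_Pi1X
import Groth.Agent.Lib.helper23.GalExactSeq

/-! Exact functors between Galois categories: stabilizers of points versus the image and kernel
of the map of fundamental groups. -/

set_option autoImplicit false

open CategoryTheory CategoryTheory.Limits PreGaloisCategory

universe u v w

namespace Groth.Agent.Lib.helper23.GalLib

section One

variable {C : Type u} [Category.{v} C] [GaloisCategory C] (F : C ⥤ FintypeCat.{w}) [FiberFunctor F]

/-- a point fixed by the whole fundamental group comes from a section from the terminal object -/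
theorem exists_section_of_fixed (Y : C) (a : F.obj Y) (h : ∀ σ : Aut F, σ.hom.app Y a = a) :
    ∃ s : ⊤_ C ⟶ Y, ∀ t : F.obj (⊤_ C), F.map s t = a := by
  obtain ⟨Y', i, y, hy, hconn, hmono⟩ := fiber_in_connected_component F Y a
  have := hconn
  have hinj : Function.Injective (F.map i) :=
    ConcreteCategory.injective_of_mono_of_preservesPullback (F.map i)
  have hall : ∀ b : F.obj Y', b = y := by
    intro b
    obtain ⟨σ, hσ⟩ := MulAction.exists_smul_eq (Aut F) y b
    have hσ' : σ.hom.app Y' y = b := hσ
    apply hinj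
    rw [← hσ']
    have := NatTrans.naturality_apply σ.hom i y
    rw [← this, hy, h]
  have hss : Subsingleton (F.obj Y') := ⟨fun b c => (hall b).trans (hall c).symm⟩
  haveI : Nonempty (F.obj Y') := ⟨y⟩
  have hcard : Nat.card (F.obj Y') = 1 := Nat.card_eq_one_iff_unique.2 ⟨hss, inferInstance⟩
  haveI := isIso_terminalFrom_of_card F Y' hcard
  refine ⟨inv (terminal.from Y') ≫ i, ?_⟩
  intro t
  rw [F.map_comp, FintypeCat.comp_apply, hall (F.map (inv (terminal.from Y')) t), hy]

/-- a point in the image of a section from the terminal object is fixed -/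
theorem fixed_of_section (Y : C) (a : F.obj Y) (s : ⊤_ C ⟶ Y)
    (hs : ∀ t : F.obj (⊤_ C), F.map s t = a) (σ : Aut F) : σ.hom.app Y a = a := by
  have hT : IsTerminal (F.obj (⊤_ C)) := IsTerminal.isTerminalObj F _ terminalIsTerminal
  obtain ⟨t₀⟩ := nonempty_of_isTerminal _ hT
  have h1 := NatTrans.naturality_apply σ.hom s t₀
  rw [hs, hs] at h1
  exact h1

end One

section Func

variable {C C' : Type u} [Category.{v} C] [Category.{v} C'] [GaloisCategory C] [GaloisCategory C']
  (H : C ⥤ C') (F' : C' ⥤ FintypeCat.{w}) [FiberFunctor F'] [FiberFunctor (H ⋙ F')]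

/-- the image of the map of fundamental groups fixes a point iff there is a section through it -/
theorem range_le_stabilizer_iff (X : C) (a : (H ⋙ F').obj X) :
    (Pi1X.autWhisker H F').range ≤ MulAction.stabilizer (Aut (H ⋙ F')) a ↔
      ∃ s : ⊤_ C' ⟶ H.obj X, ∀ t : F'.obj (⊤_ C'), F'.map s t = a := by
  constructor
  · intro h
    apply exists_section_of_fixed F' (H.obj X) a
    intro σ'
    have := h ⟨σ', rfl⟩
    exact this
  · rintro ⟨s, hs⟩ _ ⟨σ', rfl⟩
    exact fixed_of_section F' (H.obj X) a s hs σ'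

/-- the normal subgroup generated by the image fixes a point of a connected object iff the image
of the object is completely decomposed -/
theorem normalClosure_le_stabilizer_iff (X : C) [IsConnected X] (a : (H ⋙ F').obj X) :
    Subgroup.normalClosure ((Pi1X.autWhisker H F').range : Set (Aut (H ⋙ F'))) ≤
        MulAction.stabilizer (Aut (H ⋙ F')) a ↔
      ∃ n : ℕ, Nonempty (H.obj X ≅ ∐ fun _ : Fin n => ⊤_ C') := by
  constructor
  · intro h
    apply exists_iso_sigma_terminal_of_trivial F' (H.obj X)
    intro σ' y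
    obtain ⟨τ, hτ⟩ := MulAction.exists_smul_eq (Aut (H ⋙ F')) a y
    have h1 : Pi1X.autWhisker H F' σ' ∈
        Subgroup.normalClosure ((Pi1X.autWhisker H F').range : Set (Aut (H ⋙ F'))) :=
      Subgroup.subset_normalClosure ⟨σ', rfl⟩
    have h2 : τ⁻¹ * Pi1X.autWhisker H F' σ' * τ ∈
        Subgroup.normalClosure ((Pi1X.autWhisker H F').range : Set (Aut (H ⋙ F'))) := by
      have := (Subgroup.normalClosure_normal
        (s := ((Pi1X.autWhisker H F').range : Set (Aut (H ⋙ F'))))).conj_mem _ h1 τ⁻¹
      simpa using this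
    have h3 := h h2
    rw [MulAction.mem_stabilizer_iff, mul_smul, mul_smul, inv_smul_eq_iff, hτ] at h3
    exact h3
  · rintro ⟨n, ⟨φ⟩⟩
    have htriv := trivial_of_iso_sigma_terminal F' (H.obj X) n φ
    have hle : Subgroup.normalClosure ((Pi1X.autWhisker H F').range : Set (Aut (H ⋙ F'))) ≤
        (MulAction.toPermHom (Aut (H ⋙ F')) ((H ⋙ F').obj X)).ker := by
      apply Subgroup.normalClosure_le_normal
      rintro _ ⟨σ', rfl⟩
      show Pi1X.autWhisker H F' σ' ∈ (MulAction.toPermHom (Aut (H ⋙ F')) ((H ⋙ F').obj X)).ker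
      rw [MonoidHom.mem_ker]
      ext y
      exact htriv σ' y
    intro σ hσ
    have h1 := hle hσ
    rw [MonoidHom.mem_ker] at h1
    rw [MulAction.mem_stabilizer_iff]
    have := congrArg (fun p : Equiv.Perm ((H ⋙ F').obj X) => p a) h1
    exact this

/-- if the kernel of the map of fundamental groups fixes a point, its stabilizer contains the
stabilizer of a point of the fibre of an object coming from the source -/
theorem exists_point_stabilizer_le_of_ker {X' : C'} (x' : F'.obj X')
    (hker : ∀ σ' : Aut F', Pi1X.autWhisker H F' σ' = 1 → σ'.hom.app X' x' = x') :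
    ∃ (X : C) (y : F'.obj (H.obj X)), ∀ σ' : Aut F',
      σ'.hom.app (H.obj X) y = y → σ'.hom.app X' x' = x' := by
  by_contra hcon
  push_neg at hcon
  let ι := Σ X : C, F'.obj (H.obj X)
  let t : ι → Set (Aut F') := fun i =>
    (MulAction.stabilizer (Aut F') i.2 : Set (Aut F')) ∩
      (MulAction.stabilizer (Aut F') x' : Set (Aut F'))ᶜ
  have hT : IsTerminal (F'.obj (H.obj (⊤_ C))) :=
    IsTerminal.isTerminalObj (H ⋙ F') _ terminalIsTerminal
  obtain ⟨t₀⟩ := nonempty_of_isTerminal _ hT
  haveI : Nonempty ι := ⟨⟨⊤_ C, t₀⟩⟩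
  have hcl : ∀ i, IsClosed (t i) := by
    intro i
    apply IsClosed.inter
    · exact Subgroup.isClosed_of_isOpen _ (stabilizer_isOpen (Aut F') i.2)
    · exact (stabilizer_isOpen (Aut F') x').isClosed_compl
  have hne : ∀ i, (t i).Nonempty := by
    intro i
    obtain ⟨σ', h1, h2⟩ := hcon i.1 i.2
    exact ⟨σ', h1, h2⟩
  have hdir : Directed (· ⊇ ·) t := by
    intro i j
    let y : F'.obj (H.obj (i.1 ⨯ j.1)) :=
      (fiberBinaryProductEquiv (H ⋙ F') i.1 j.1).symm (i.2, j.2)
    have hy1 : F'.map (H.map prod.fst) y = i.2 :=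
      fiberBinaryProductEquiv_symm_fst_apply (H ⋙ F') i.2 j.2
    have hy2 : F'.map (H.map prod.snd) y = j.2 :=
      fiberBinaryProductEquiv_symm_snd_apply (H ⋙ F') i.2 j.2
    refine ⟨⟨i.1 ⨯ j.1, y⟩, ?_, ?_⟩
    · rintro σ' ⟨h1, h2⟩
      refine ⟨?_, h2⟩
      show σ'.hom.app _ i.2 = i.2
      have h1' : σ'.hom.app _ y = y := h1
      rw [← hy1]
      have := NatTrans.naturality_apply σ'.hom (H.map (prod.fst : i.1 ⨯ j.1 ⟶ i.1)) y
      rw [this, h1']
    · rintro σ' ⟨h1, h2⟩
      refine ⟨?_, h2⟩
      show σ'.hom.app _ j.2 = j.2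
      have h1' : σ'.hom.app _ y = y := h1
      rw [← hy2]
      have := NatTrans.naturality_apply σ'.hom (H.map (prod.snd : i.1 ⨯ j.1 ⟶ j.1)) y
      rw [this, h1']
  obtain ⟨σ', hσ'⟩ := IsCompact.nonempty_iInter_of_directed_nonempty_isCompact_isClosed t hdir hne
    (fun i => (hcl i).isCompact) hcl
  rw [Set.mem_iInter] at hσ'
  have h1 : Pi1X.autWhisker H F' σ' = 1 := by
    rw [autWhisker_eq_one_iff]
    intro X y
    exact (hσ' ⟨X, y⟩).1
  exact (hσ' ⟨⊤_ C, t₀⟩).2 (hker σ' h1)

/-- the kernel of the map of fundamental groups fixes a point of a connected object iff the object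
is dominated by a connected subobject of an object coming from the source -/
theorem ker_le_stabilizer_iff (X' : C') [IsConnected X'] (a' : F'.obj X') :
    (Pi1X.autWhisker H F').ker ≤ MulAction.stabilizer (Aut F') a' ↔
      ∃ (X : C) (Y' : C') (i : Y' ⟶ H.obj X) (_ : Y' ⟶ X'), Mono i ∧ IsConnected Y' := by
  constructor
  · intro h
    obtain ⟨X, y, hst⟩ := exists_point_stabilizer_le_of_ker H F' a' (fun σ' hσ' => h hσ')
    obtain ⟨Y', q, y₀, hy₀, hconn, hmono⟩ := fiber_in_connected_component F' (H.obj X) y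
    have := hconn
    obtain ⟨p, -⟩ := exists_epi_of_stabilizer_le F' y₀ a' (by
      intro σ hσ
      apply hst
      rw [← hy₀]
      have := NatTrans.naturality_apply σ.hom q y₀
      rw [this, hσ])
    exact ⟨X, Y', q, p, hmono, hconn⟩
  · rintro ⟨X, Y', i, q, hmono, hconn⟩ σ' hσ'
    have hσ1 : Pi1X.autWhisker H F' σ' = 1 := hσ'
    rw [autWhisker_eq_one_iff] at hσ1
    have := hconn
    haveI : Nonempty (F'.obj Y') := nonempty_fiber_of_isConnected F' Y'
    haveI : Epi q := epi_of_nonempty_of_isConnected F' q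
    have hqs : Function.Surjective (F'.map q) :=
      ConcreteCategory.surjective_of_epi_of_preservesPushout (F'.map q)
    obtain ⟨y', hy'⟩ := hqs a'
    have hii : Function.Injective (F'.map i) :=
      ConcreteCategory.injective_of_mono_of_preservesPullback (F'.map i)
    have h1 : σ'.hom.app Y' y' = y' := by
      apply hii
      have := NatTrans.naturality_apply σ'.hom i y'
      rw [← this]
      exact hσ1 X _
    rw [MulAction.mem_stabilizer_iff]
    show σ'.hom.app X' a' = a'
    rw [← hy']
    have h2 := NatTrans.naturality_apply σ'.hom q y'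
    rw [h2, h1]

end Func

section Closed

variable {C : Type u} [Category.{v} C] [GaloisCategory C] (F : C ⥤ FintypeCat.{w}) [FiberFunctor F]

open Pointwise in
/-- a closed subgroup of the fundamental group contains every element fixing all the points of
connected objects that the subgroup fixes -/
theorem mem_of_isClosed_of_forall_connected (R : Subgroup (Aut F))
    (hR : IsClosed (R : Set (Aut F))) (σ : Aut F)
    (h : ∀ (X : C) (a : F.obj X), IsConnected X → (∀ ρ ∈ R, (ρ : Aut F).hom.app X a = a) →
      σ.hom.app X a = a) : σ ∈ R := by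
  classical
  have key : ∀ (X : C) (x : F.obj X), ∃ ρ ∈ R, (ρ : Aut F).hom.app X x = σ.hom.app X x := by
    intro X x
    let O : Set (F.obj X) := MulAction.orbit R x
    let S : Set (Set (F.obj X)) := MulAction.orbit (Aut F) O
    have hker : IsOpen ((⨅ y : F.obj X, MulAction.stabilizer (Aut F) y : Subgroup (Aut F)) :
        Set (Aut F)) := by
      rw [Subgroup.coe_iInf]
      exact isOpen_iInter_of_finite (fun y => stabilizer_isOpen (Aut F) y)
    have hst : ∀ T : S, IsOpen (MulAction.stabilizer (Aut F) T : Set (Aut F)) := by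
      intro T
      refine Subgroup.isOpen_mono ?_ hker
      intro τ hτ
      rw [Subgroup.mem_iInf] at hτ
      rw [MulAction.mem_stabilizer_iff]
      apply Subtype.ext
      show τ • (T : Set (F.obj X)) = T
      ext y
      constructor
      · rintro ⟨z, hz, rfl⟩
        have : τ • z = z := hτ z
        show τ • z ∈ (T : Set (F.obj X))
        rw [this]
        exact hz
      · intro hy
        exact ⟨y, hy, hτ y⟩
    obtain ⟨Q, e, he⟩ := exists_lift_of_mulAction F S hst
    let o : F.obj Q := e.symm ⟨O, MulAction.mem_orbit_self O⟩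
    have hconn : IsConnected Q := by
      apply isConnected_of_isPretransitive F Q ⟨o⟩
      constructor
      intro y z
      obtain ⟨g, hg⟩ := MulAction.exists_smul_eq (Aut F) (e y) (e z)
      refine ⟨g, ?_⟩
      apply e.injective
      show e (g.hom.app Q y) = e z
      rw [he, hg]
    have hRo : ∀ ρ ∈ R, (ρ : Aut F).hom.app Q o = o := by
      intro ρ hρ
      apply e.injective
      rw [he]
      show ρ • e (e.symm ⟨O, MulAction.mem_orbit_self O⟩) = e (e.symm ⟨O, MulAction.mem_orbit_self O⟩)
      rw [e.apply_symm_apply]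
      apply Subtype.ext
      exact MulAction.smul_orbit (⟨ρ, hρ⟩ : R) x
    have hσo := h Q o hconn hRo
    have h1 : σ • (⟨O, MulAction.mem_orbit_self O⟩ : S) = ⟨O, MulAction.mem_orbit_self O⟩ := by
      have h2 := he σ o
      rw [hσo] at h2
      show σ • (⟨O, MulAction.mem_orbit_self O⟩ : S) = ⟨O, MulAction.mem_orbit_self O⟩
      have h3 : e o = ⟨O, MulAction.mem_orbit_self O⟩ := e.apply_symm_apply _
      rw [h3] at h2
      exact h2.symm
    have h3 : σ • O = O := congrArg Subtype.val h1
    have h4 : σ • x ∈ σ • O := ⟨x, MulAction.mem_orbit_self x, rfl⟩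
    rw [h3] at h4
    obtain ⟨ρ, hρ⟩ := h4
    exact ⟨ρ.1, ρ.2, hρ⟩
  have hcl : σ ∈ closure (R : Set (Aut F)) := by
    rw [mem_closure_iff_nhds]
    intro U hU
    have h1 : (fun g => σ * g) ⁻¹' U ∈ nhds (1 : Aut F) := by
      apply (continuous_mul_left σ).continuousAt
      show U ∈ nhds (σ * 1)
      rw [mul_one]
      exact hU
    obtain ⟨A, -, hA⟩ := (nhds_one_has_basis_stabilizers F).mem_iff.1 h1
    obtain ⟨ρ, hρ, hρa⟩ := key A.obj A.pt
    refine ⟨ρ, ?_, hρ⟩
    have h2 : σ⁻¹ * ρ ∈ MulAction.stabilizer (Aut F) A.pt := by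
      rw [MulAction.mem_stabilizer_iff, mul_smul, inv_smul_eq_iff]
      exact hρa
    have h3 := hA h2
    simpa using h3
  rw [hR.closure_eq] at hcl
  exact hcl

end Closed

section Two

variable {C C' C'' : Type u} [Category.{v} C] [Category.{v} C'] [Category.{v} C'']
  [GaloisCategory C] [GaloisCategory C'] [GaloisCategory C'']
  (H : C ⥤ C') (H' : C' ⥤ C'') (F'' : C'' ⥤ FintypeCat.{w}) [FiberFunctor F'']
  [FiberFunctor (H' ⋙ F'')] [FiberFunctor (H ⋙ (H' ⋙ F''))]

/-- the kernel of the second map of fundamental groups lies in the image of the first iff every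
pointed connected object whose image has a section through the point is dominated by a connected
subobject of an object coming from the source -/
theorem ker_le_range_iff :
    (Pi1X.autWhisker H (H' ⋙ F'')).ker ≤ (Pi1X.autWhisker H' F'').range ↔
      ∀ (X' : C') (a' : (H' ⋙ F'').obj X'), IsConnected X' →
        (∃ s : ⊤_ C'' ⟶ H'.obj X', ∀ t : F''.obj (⊤_ C''), F''.map s t = a') →
          ∃ (X : C) (Y' : C') (i : Y' ⟶ H.obj X) (_ : Y' ⟶ X'), Mono i ∧ IsConnected Y' := by
  constructor
  · intro h X' a' hconn hs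
    have := hconn
    have h1 := (range_le_stabilizer_iff H' F'' X' a').2 hs
    exact (ker_le_stabilizer_iff H (H' ⋙ F'') X' a').1 (h.trans h1)
  · intro h σ' hσ'
    have hcl : IsClosed (((Pi1X.autWhisker H' F'').range : Subgroup (Aut (H' ⋙ F''))) :
        Set (Aut (H' ⋙ F''))) := by
      rw [MonoidHom.coe_range]
      exact (isCompact_range (autWhisker_continuous H' F'')).isClosed
    apply mem_of_isClosed_of_forall_connected (H' ⋙ F'') _ hcl σ'
    intro X' a' hconn hfix
    have := hconn
    have h1 : (Pi1X.autWhisker H' F'').range ≤ MulAction.stabilizer (Aut (H' ⋙ F'')) a' := by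
      intro ρ hρ
      exact hfix ρ hρ
    have hs := (range_le_stabilizer_iff H' F'' X' a').1 h1
    have h2 := (ker_le_stabilizer_iff H (H' ⋙ F'') X' a').2 (h X' a' hconn hs)
    exact h2 hσ'

end Two

end Groth.Agent.Lib.helper23.GalLib
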