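import Mathlib
import Groth.Agent.Lib.helper23.GalUnique

/-! Galois categories: a left exact functor to finite sets preserving binary coproducts and
non-emptiness is isomorphic to any fibre functor. -/

set_option autoImplicit false

open CategoryTheory CategoryTheory.Limits PreGaloisCategory

universe u v w

namespace Groth.Agent.Lib.helper23.GalLib

section Weak

variable {C : Type u} [Category.{v} C] [GaloisCategory C]
variable (F' : C ⥤ FintypeCat.{w}) [PreservesFiniteLimits F']
  [PreservesColimitsOfShape (Discrete WalkingPair) F']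

/-- the value on the initial object is empty -/
lemma isEmpty_obj_initial : IsEmpty (F'.obj (⊥_ C)) := by
  constructor
  intro t
  have hc : IsColimit (BinaryCofan.mk (coprod.inl : (⊥_ C) ⟶ (⊥_ C) ⨿ (⊥_ C)) coprod.inr) :=
    coprodIsCoprod _ _
  have hc' : IsColimit (BinaryCofan.mk ((F' ⋙ FintypeCat.incl).map
      (coprod.inl : (⊥_ C) ⟶ (⊥_ C) ⨿ (⊥_ C)))
      ((F' ⋙ FintypeCat.incl).map coprod.inr)) :=
    mapIsColimitOfPreservesOfIsColimit (F' ⋙ FintypeCat.incl) _ _ hc
  obtain ⟨_, _, hcompl⟩ := (Types.binaryCofan_isColimit_iff _).1 ⟨hc'⟩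
  have heq : (coprod.inl : (⊥_ C) ⟶ (⊥_ C) ⨿ (⊥_ C)) = coprod.inr := Subsingleton.elim _ _
  have h1 : F'.map coprod.inl t ∈ Set.range ((F' ⋙ FintypeCat.incl).map
      (coprod.inl : (⊥_ C) ⟶ (⊥_ C) ⨿ (⊥_ C))) := ⟨t, rfl⟩
  have h2 : F'.map coprod.inl t ∈ Set.range ((F' ⋙ FintypeCat.incl).map
      (coprod.inr : (⊥_ C) ⟶ (⊥_ C) ⨿ (⊥_ C))) := ⟨t, by rw [← heq]; rfl⟩
  exact Set.disjoint_left.1 hcompl.disjoint h1 h2

lemma isEmpty_of_isInitial {X : C} (hX : IsInitial X) : IsEmpty (F'.obj X) := by
  have e : X ≅ ⊥_ C := hX.uniqueUpToIso initialIsInitial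
  have := isEmpty_obj_initial F'
  exact ⟨fun x => this.false (F'.map e.hom x)⟩

instance preservesInitial_of_weak : PreservesColimitsOfShape (Discrete.{0} PEmpty) F' := by
  have := isEmpty_obj_initial F'
  have hI : IsInitial (F'.obj (⊥_ C)) :=
    IsInitial.ofUniqueHom (fun Y => FintypeCat.homMk (fun x => (this.false x).elim))
      (fun Y m => by ext x; exact (this.false x).elim)
  have : PreservesColimit (Functor.empty.{0} C) F' :=
    preservesInitial_of_iso F' (initialIsInitial.uniqueUpToIso hI)
  exact preservesColimitsOfShape_pempty_of_preservesInitial F'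

/-- the evaluation map at a point of a connected object is injective -/
lemma evaluation_injective_weak (A X : C) [IsConnected A] (a' : F'.obj A) :
    Function.Injective (fun f : A ⟶ X => F'.map f a') := by
  intro f g (hfg : F'.map f a' = F'.map g a')
  have e : F'.obj (equalizer f g) ≃ { x : F'.obj A // F'.map f x = F'.map g x } :=
    (PreservesEqualizer.iso (F' ⋙ FintypeCat.incl) f g ≪≫
      Types.equalizerIso (F'.map f).hom (F'.map g).hom).toEquiv
  have : IsIso (equalizer.ι f g) := by
    apply IsConnected.noTrivialComponent _ (equalizer.ι f g)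
    intro hI
    exact (isEmpty_of_isInitial F' hI).false (e.symm ⟨a', hfg⟩)
  exact eq_of_epi_equalizer

variable {F'} in
lemma nonempty_of_isConnected_weak (h : ∀ X : C, IsEmpty (F'.obj X) → Nonempty (IsInitial X))
    (A : C) [IsConnected A] : Nonempty (F'.obj A) := by
  by_contra hcon
  rw [not_nonempty_iff] at hcon
  obtain ⟨hI⟩ := h A hcon
  exact IsConnected.notInitial hI

end Weak

section WeakSpecialized

variable {C : Type u} [Category.{v} C] [GaloisCategory C]
variable (F : C ⥤ FintypeCat.{v}) [FiberFunctor F]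
variable (F' : C ⥤ FintypeCat.{v}) [PreservesFiniteLimits F']
  [PreservesColimitsOfShape (Discrete WalkingPair) F']
  (h : ∀ X : C, IsEmpty (F'.obj X) → Nonempty (IsInitial X))

open PointedGaloisObject

include h in
lemma exists_section_weak : (incl F ⋙ F' ⋙ FintypeCat.incl).sections.Nonempty := by
  haveI : ∀ A : PointedGaloisObject F, Nonempty ((incl F ⋙ F' ⋙ FintypeCat.incl).obj A) :=
    fun A => nonempty_of_isConnected_weak h A.obj
  haveI : ∀ A : PointedGaloisObject F, Finite ((incl F ⋙ F' ⋙ FintypeCat.incl).obj A) :=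
    fun A => (inferInstance : Finite (F'.obj A.obj))
  exact nonempty_sections_of_finite_cofiltered_system _

variable {F F'} (s : (incl F ⋙ F' ⋙ FintypeCat.incl).sections)

omit [PreservesFiniteLimits F'] [PreservesColimitsOfShape (Discrete WalkingPair) F'] in
lemma section_compat_weak {A B : PointedGaloisObject F} (k : A ⟶ B) :
    F'.map k.val (s.1 A) = s.1 B := s.2 k

omit [PreservesFiniteLimits F'] [PreservesColimitsOfShape (Discrete WalkingPair) F'] in
lemma rep_indep_weak {X : C} {A B : PointedGaloisObject F} (f : A.obj ⟶ X) (g : B.obj ⟶ X)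
    (hfg : F.map f A.pt = F.map g B.pt) : F'.map f (s.1 A) = F'.map g (s.1 B) := by
  obtain ⟨Z, hA, hB, -⟩ := IsCofilteredOrEmpty.cone_objs A B
  have e : hA.val ≫ f = hB.val ≫ g := by
    apply evaluation_injective_of_isConnected F Z.obj X Z.pt
    show F.map (hA.val ≫ f) Z.pt = F.map (hB.val ≫ g) Z.pt
    rw [F.map_comp, F.map_comp, FintypeCat.comp_apply, FintypeCat.comp_apply, hA.comp, hB.comp,
      hfg]
  rw [← section_compat_weak s hA, ← section_compat_weak s hB]
  have e' : F'.map (hA.val ≫ f) (s.1 Z) = F'.map (hB.val ≫ g) (s.1 Z) :=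
    congrArg (fun k => F'.map k (s.1 Z)) e
  rw [F'.map_comp, F'.map_comp, FintypeCat.comp_apply, FintypeCat.comp_apply] at e'
  exact e'

omit [PreservesFiniteLimits F'] [PreservesColimitsOfShape (Discrete WalkingPair) F'] in
/-- the natural transformation attached to a compatible system of points -/
noncomputable def natOfSectionWeak : F ⟶ F' where
  app X := FintypeCat.homMk (fun x =>
    F'.map (Classical.choose (Classical.choose_spec (exists_rep F X x)))
      (s.1 (Classical.choose (exists_rep F X x))))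
  naturality X Y u := by
    ext x
    show F'.map (Classical.choose (Classical.choose_spec (exists_rep F Y (F.map u x))))
        (s.1 (Classical.choose (exists_rep F Y (F.map u x)))) =
      F'.map u (F'.map (Classical.choose (Classical.choose_spec (exists_rep F X x)))
        (s.1 (Classical.choose (exists_rep F X x))))
    have h1 := Classical.choose_spec (Classical.choose_spec (exists_rep F Y (F.map u x)))
    have h2 := Classical.choose_spec (Classical.choose_spec (exists_rep F X x))
    have h3 := rep_indep_weak s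
      (Classical.choose (Classical.choose_spec (exists_rep F Y (F.map u x))))
      (Classical.choose (Classical.choose_spec (exists_rep F X x)) ≫ u) (by
        rw [h1, F.map_comp, FintypeCat.comp_apply, h2])
    rw [h3, F'.map_comp, FintypeCat.comp_apply]

omit [PreservesFiniteLimits F'] [PreservesColimitsOfShape (Discrete WalkingPair) F'] in
lemma natOfSectionWeak_apply {X : C} (A : PointedGaloisObject F) (f : A.obj ⟶ X) :
    (natOfSectionWeak s).app X (F.map f A.pt) = F'.map f (s.1 A) := by
  have h1 := Classical.choose_spec (Classical.choose_spec (exists_rep F X (F.map f A.pt)))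
  exact rep_indep_weak s _ f h1

lemma natOfSectionWeak_injective (X : C) :
    Function.Injective ((natOfSectionWeak s).app X) := by
  intro x y hxy
  obtain ⟨A, p, hp⟩ := exists_rep F (X ⨯ X) ((fiberBinaryProductEquiv F X X).symm (x, y))
  have hx : F.map (p ≫ prod.fst) A.pt = x := by
    rw [F.map_comp, FintypeCat.comp_apply, hp, fiberBinaryProductEquiv_symm_fst_apply]
  have hy : F.map (p ≫ prod.snd) A.pt = y := by
    rw [F.map_comp, FintypeCat.comp_apply, hp, fiberBinaryProductEquiv_symm_snd_apply]
  rw [← hx, ← hy, natOfSectionWeak_apply, natOfSectionWeak_apply] at hxy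
  have e : p ≫ prod.fst = p ≫ prod.snd :=
    evaluation_injective_weak F' A.obj X (s.1 A) hxy
  rw [← hx, ← hy, e]

end WeakSpecialized

section ProdEquiv

variable {C : Type u} [Category.{v} C] [HasBinaryProducts C] (G : C ⥤ FintypeCat.{w})
  (X Y : C) [PreservesLimit (pair X Y) (G ⋙ FintypeCat.incl)]

/-- the value on a binary product is the product of the values -/
noncomputable def prodEquivW : G.obj (X ⨯ Y) ≃ G.obj X × G.obj Y :=
  (PreservesLimitPair.iso (G ⋙ FintypeCat.incl) X Y ≪≫
    Types.binaryProductIso (G.obj X) (G.obj Y)).toEquiv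

lemma prodEquivW_symm_fst (x : G.obj X) (y : G.obj Y) :
    G.map prod.fst ((prodEquivW G X Y).symm (x, y)) = x := by
  simp only [prodEquivW]
  change ((Types.binaryProductIso _ _).inv ≫ _ ≫ (G ⋙ FintypeCat.incl).map prod.fst) _ = _
  erw [PreservesLimitPair.iso_inv_fst, Types.binaryProductIso_inv_comp_fst]
  rfl

lemma prodEquivW_symm_snd (x : G.obj X) (y : G.obj Y) :
    G.map prod.snd ((prodEquivW G X Y).symm (x, y)) = y := by
  simp only [prodEquivW]
  change ((Types.binaryProductIso _ _).inv ≫ _ ≫ (G ⋙ FintypeCat.incl).map prod.snd) _ = _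
  erw [PreservesLimitPair.iso_inv_snd, Types.binaryProductIso_inv_comp_snd]
  rfl

lemma prodW_ext (w₁ w₂ : G.obj (X ⨯ Y)) (h1 : G.map prod.fst w₁ = G.map prod.fst w₂)
    (h2 : G.map prod.snd w₁ = G.map prod.snd w₂) : w₁ = w₂ := by
  have e1 : w₁ = (prodEquivW G X Y).symm ((prodEquivW G X Y) w₁) := by simp
  have e2 : w₂ = (prodEquivW G X Y).symm ((prodEquivW G X Y) w₂) := by simp
  have f1 : G.map prod.fst w₁ = ((prodEquivW G X Y) w₁).1 := by
    conv_lhs => rw [e1]
    exact prodEquivW_symm_fst G X Y _ _
  have f2 : G.map prod.fst w₂ = ((prodEquivW G X Y) w₂).1 := by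
    conv_lhs => rw [e2]
    exact prodEquivW_symm_fst G X Y _ _
  have g1 : G.map prod.snd w₁ = ((prodEquivW G X Y) w₁).2 := by
    conv_lhs => rw [e1]
    exact prodEquivW_symm_snd G X Y _ _
  have g2 : G.map prod.snd w₂ = ((prodEquivW G X Y) w₂).2 := by
    conv_lhs => rw [e2]
    exact prodEquivW_symm_snd G X Y _ _
  apply (prodEquivW G X Y).injective
  apply Prod.ext
  · rw [← f1, ← f2, h1]
  · rw [← g1, ← g2, h2]

end ProdEquiv

section Surj

variable {C : Type u} [Category.{v} C] [GaloisCategory C]
variable {F : C ⥤ FintypeCat.{v}} [FiberFunctor F]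
variable {F' : C ⥤ FintypeCat.{v}} [PreservesFiniteLimits F']
  [PreservesColimitsOfShape (Discrete WalkingPair) F']

open PointedGaloisObject

/-- the comparison morphism from copies of a Galois object to its product with an object it
represents -/
noncomputable def galPhi (A X : C) (n : ℕ) (e : (A ⟶ X) ≃ Fin n) :
    (∐ fun _ : Fin n => A) ⟶ A ⨯ X :=
  Sigma.desc (fun i => prod.lift (𝟙 A) (e.symm i))

lemma galPhi_fst (G : C ⥤ FintypeCat.{v}) (A X : C) (n : ℕ) (e : (A ⟶ X) ≃ Fin n) (i : Fin n)
    (b : G.obj A) :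
    G.map prod.fst (G.map (galPhi A X n e) (G.map (Sigma.ι (fun _ : Fin n => A) i) b)) = b := by
  have h1 : Sigma.ι (fun _ : Fin n => A) i ≫ galPhi A X n e ≫ prod.fst = 𝟙 A := by
    rw [galPhi, Sigma.ι_desc_assoc]
    exact prod.lift_fst _ _
  have h2 := congrArg (fun k => G.map k b) h1
  simpa using h2

lemma galPhi_snd (G : C ⥤ FintypeCat.{v}) (A X : C) (n : ℕ) (e : (A ⟶ X) ≃ Fin n) (i : Fin n)
    (b : G.obj A) :
    G.map prod.snd (G.map (galPhi A X n e) (G.map (Sigma.ι (fun _ : Fin n => A) i) b)) =
      G.map (e.symm i) b := by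
  have h1 : Sigma.ι (fun _ : Fin n => A) i ≫ galPhi A X n e ≫ prod.snd = e.symm i := by
    rw [galPhi, Sigma.ι_desc_assoc]
    exact prod.lift_snd _ _
  have h2 := congrArg (fun k => G.map k b) h1
  simpa using h2

lemma isIso_galPhi (A X : C) [IsGalois A] (a : F.obj A)
    (hbij : Function.Bijective (fun f : A ⟶ X => F.map f a)) (n : ℕ) (e : (A ⟶ X) ≃ Fin n) :
    IsIso (galPhi A X n e) := by
  have hl : IsColimit (F.mapCocone (colimit.cocone (Discrete.functor fun _ : Fin n => A))) :=
    isColimitOfPreserves F (colimit.isColimit _)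
  have hrep : ∀ z : F.obj (∐ fun _ : Fin n => A), ∃ (i : Fin n) (b : F.obj A),
      F.map (Sigma.ι (fun _ : Fin n => A) i) b = z := by
    intro z
    obtain ⟨⟨i⟩, b, hb⟩ := Concrete.isColimit_exists_rep _ hl z
    exact ⟨i, b, hb⟩
  have hb : Function.Bijective (F.map (galPhi A X n e)) := by
    constructor
    · intro z₁ z₂ hz
      obtain ⟨i₁, b₁, rfl⟩ := hrep z₁
      obtain ⟨i₂, b₂, rfl⟩ := hrep z₂
      have h1 := congrArg (fun w => F.map prod.fst w) hz
      simp only [galPhi_fst] at h1
      have h2 := congrArg (fun w => F.map prod.snd w) hz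
      simp only [galPhi_snd] at h2
      subst h1
      have h3 : e.symm i₁ = e.symm i₂ :=
        evaluation_injective_of_isConnected F A X b₁ h2
      have h4 : i₁ = i₂ := e.symm.injective h3
      rw [h4]
    · intro w
      obtain ⟨τ, hτ⟩ := evaluation_aut_surjective_of_isGalois F A a (F.map prod.fst w)
      have hτ' : F.map τ.hom a = F.map prod.fst w := hτ
      obtain ⟨f', hf'⟩ := hbij.surjective (F.map prod.snd w)
      have hf'' : F.map f' a = F.map prod.snd w := hf'
      refine ⟨F.map (Sigma.ι (fun _ : Fin n => A) (e (τ.inv ≫ f'))) (F.map prod.fst w), ?_⟩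
      apply prodW_ext F A X
      · rw [galPhi_fst]
      · rw [galPhi_snd, e.symm_apply_apply, ← hτ', F.map_comp, FintypeCat.comp_apply]
        have : F.map τ.inv (F.map τ.hom a) = a := by
          have h5 : F.map (τ.hom ≫ τ.inv) a = F.map (𝟙 A) a :=
            congrArg (fun k => F.map k a) τ.hom_inv_id
          rw [F.map_comp, F.map_id] at h5
          exact h5
        rw [this, hf'']
  haveI : IsIso (F.map (galPhi A X n e)) :=
    (ConcreteCategory.isIso_iff_bijective _).2 hb
  exact isIso_of_reflects_iso (galPhi A X n e) F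

variable (s : (incl F ⋙ F' ⋙ FintypeCat.incl).sections)

lemma natOfSectionWeak_surjective (X : C) :
    Function.Surjective ((natOfSectionWeak s).app X) := by
  intro y'
  obtain ⟨A, a, hgal, hbij⟩ := exists_galois_representative F X
  have := hgal
  let Ap : PointedGaloisObject F := ⟨A, a, hgal⟩
  haveI : Finite (A ⟶ X) := Finite.of_injective _ hbij.injective
  let e : (A ⟶ X) ≃ Fin (Nat.card (A ⟶ X)) := Finite.equivFin _
  haveI := isIso_galPhi A X a hbij _ e
  have hsurj : Function.Surjective (F'.map (galPhi A X _ e)) :=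
    (ConcreteCategory.bijective_of_isIso (F'.map (galPhi A X _ e))).2
  obtain ⟨z', hz'⟩ := hsurj ((prodEquivW F' A X).symm (s.1 Ap, y'))
  haveI : PreservesColimitsOfShape (Discrete (Fin (Nat.card (A ⟶ X)))) F' :=
    PreservesFiniteCoproducts.of_preserves_binary_and_initial F' _
  have hl : IsColimit (F'.mapCocone (colimit.cocone
      (Discrete.functor fun _ : Fin (Nat.card (A ⟶ X)) => A))) :=
    isColimitOfPreserves F' (colimit.isColimit _)
  obtain ⟨⟨i⟩, b', hb'⟩ := Concrete.isColimit_exists_rep _ hl z'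
  have hb'' : F'.map (Sigma.ι (fun _ : Fin (Nat.card (A ⟶ X)) => A) i) b' = z' := hb'
  rw [← hb''] at hz'
  have h1 := congrArg (fun w => F'.map prod.fst w) hz'
  simp only [galPhi_fst, prodEquivW_symm_fst] at h1
  have h2 := congrArg (fun w => F'.map prod.snd w) hz'
  simp only [galPhi_snd, prodEquivW_symm_snd] at h2
  refine ⟨F.map (e.symm i) a, ?_⟩
  have h3 := natOfSectionWeak_apply s Ap (e.symm i)
  rw [← h2, h1]
  exact h3

end Surj

section Main

variable {C : Type u} [Category.{v} C] [GaloisCategory C]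

/-- the specialized version: values in the universe of morphisms -/
theorem nonempty_iso_weak_specialized (F : C ⥤ FintypeCat.{v}) [FiberFunctor F]
    (F' : C ⥤ FintypeCat.{v}) [PreservesFiniteLimits F']
    [PreservesColimitsOfShape (Discrete WalkingPair) F']
    (h : ∀ X : C, IsEmpty (F'.obj X) → Nonempty (IsInitial X)) : Nonempty (F' ≅ F) := by
  obtain ⟨s, hs⟩ := exists_section_weak F F' h
  let η : F ⟶ F' := natOfSectionWeak ⟨s, hs⟩
  haveI : ∀ X, IsIso (η.app X) := fun X =>
    (ConcreteCategory.isIso_iff_bijective (η.app X)).2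
      ⟨natOfSectionWeak_injective ⟨s, hs⟩ X, natOfSectionWeak_surjective ⟨s, hs⟩ X⟩
  haveI : IsIso η := NatIso.isIso_of_isIso_app η
  exact ⟨(asIso η).symm⟩

/-- a left exact functor to finite sets preserving binary coproducts and taking non-empty values on
non-initial objects is isomorphic to any fibre functor -/
theorem nonempty_iso_weak (F : C ⥤ FintypeCat.{w}) [FiberFunctor F]
    (F' : C ⥤ FintypeCat.{w}) [PreservesFiniteLimits F']
    [PreservesColimitsOfShape (Discrete WalkingPair) F']
    (h : ∀ X : C, IsEmpty (F'.obj X) → Nonempty (IsInitial X)) : Nonempty (F' ≅ F) := by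
  let E : FintypeCat.{w} ⥤ FintypeCat.{v} := FintypeCat.uSwitch.{w, v}
  haveI : FiberFunctor (F ⋙ E) := FiberFunctor.comp_right _
  have h' : ∀ X : C, IsEmpty ((F' ⋙ E).obj X) → Nonempty (IsInitial X) := by
    intro X hX
    apply h X
    exact ⟨fun x => hX.false ((F'.obj X).uSwitchEquiv.symm x)⟩
  obtain ⟨α⟩ := nonempty_iso_weak_specialized (F ⋙ E) (F' ⋙ E) h'
  exact ⟨((Functor.FullyFaithful.ofFullyFaithful E).whiskeringRight C).preimageIso α⟩

end Main

end Groth.Agent.Lib.helper23.GalLib
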