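import Mathlib
import Groth.Prelude.Def_StGerb
import Groth.Agent.Lib.helper23.FibGrpdPB

open CategoryTheory CategoryTheory.Limits

namespace Groth.Agent.H23.GerbLib
universe v₄ u₄ v₃ u₃ v₂ u₂ v u

section
variable {C : Type u} [Category.{v} C] {𝒳 : Type u₂} [Category.{v₂} 𝒳] (p : 𝒳 ⥤ C)

lemma exists_iso_fac (h : FibCat.IsFibGrpd p) {V U : C} (f : V ⟶ U) {a a' b : 𝒳} (φ : a ⟶ b)
    (φ' : a' ⟶ b) [p.IsHomLift f φ] [p.IsHomLift f φ'] :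
    ∃ θ : a' ⟶ a, IsIso θ ∧ p.IsHomLift (𝟙 V) θ ∧ θ ≫ φ = φ' := by
  have := FibGrpdPB.isSC p h f φ
  have := FibGrpdPB.isSC p h f φ'
  refine ⟨(Functor.IsCartesian.domainUniqueUpToIso p f φ φ').hom, inferInstance, inferInstance, ?_⟩
  exact Functor.IsCartesian.fac p f φ φ'

end

variable {C : Type u} [Category.{v} C] (J : GrothendieckTopology C)
  {𝒳 : BasedCategory.{v₂, u₂} C} {𝒴 : BasedCategory.{v₃, u₃} C} {𝒵 : BasedCategory.{v₄, u₄} C}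

lemma locSurjHom_flex {F : 𝒳 ⥤ᵇ 𝒴} (hF : Gerb.LocSurjHom J F) {U : C} (x x' : 𝒳.obj)
    (hx : 𝒳.p.obj x = U) (b : F.obj x ⟶ F.obj x') (hb : 𝒴.p.IsHomLift (𝟙 U) b) :
    ∃ R ∈ J U, ∀ ⦃V : C⦄ (f : V ⟶ U), R f →
      ∃ (x₀ : 𝒳.obj) (φ : x₀ ⟶ x) (ψ : x₀ ⟶ x'),
        𝒳.p.IsHomLift f φ ∧ 𝒳.p.IsHomLift f ψ ∧ F.map φ ≫ b = F.map ψ := by
  subst hx
  exact hF x x' b hb

theorem locSurjObj_comp (h𝒳 : FibCat.IsFibGrpd 𝒳.p) {F : 𝒳 ⥤ᵇ 𝒴} {G : 𝒴 ⥤ᵇ 𝒵}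
    (hF : Gerb.LocSurjObj J F) (hG : Gerb.LocSurjObj J G) :
    Gerb.LocSurjObj J (BasedFunctor.comp F G) := by
  intro z
  let T : Sieve (𝒵.p.obj z) :=
    { arrows := fun W h => ∃ (x : 𝒳.obj) (g : G.obj (F.obj x) ⟶ z), 𝒵.p.IsHomLift h g
      downward_closed := by
        rintro W W' h ⟨x, g, hg⟩ k
        have hW : 𝒳.p.obj x = W := by
          have := IsHomLift.domain_eq 𝒵.p h g
          rw [← this]; exact ((BasedFunctor.comp F G).w_obj x).symm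
        subst hW
        obtain ⟨x', κ, hκ⟩ := h𝒳.exists_lift k
        refine ⟨x', G.map (F.map κ) ≫ g, ?_⟩
        have : 𝒴.p.IsHomLift k (F.map κ) := inferInstance
        have : 𝒵.p.IsHomLift k (G.map (F.map κ)) := inferInstance
        infer_instance }
  refine ⟨T, ?_, fun V f hf => hf⟩
  obtain ⟨R, hR, hR'⟩ := hG z
  refine J.transitive hR T (fun V f hf => ?_)
  obtain ⟨y, g, hg⟩ := hR' f hf
  have hV : 𝒴.p.obj y = V := by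
    have := IsHomLift.domain_eq 𝒵.p f g
    rw [← this]; exact (G.w_obj y).symm
  subst hV
  obtain ⟨R₂, hR₂, hR₂'⟩ := hF y
  refine J.superset_covering ?_ hR₂
  intro W k hk
  obtain ⟨x, g', hg'⟩ := hR₂' k hk
  have : 𝒵.p.IsHomLift k (G.map g') := inferInstance
  exact ⟨x, G.map g' ≫ g, inferInstance⟩

theorem locSurjHom_comp (h𝒳 : FibCat.IsFibGrpd 𝒳.p) (h𝒴 : FibCat.IsFibGrpd 𝒴.p)
    {F : 𝒳 ⥤ᵇ 𝒴} {G : 𝒴 ⥤ᵇ 𝒵}
    (hF : Gerb.LocSurjHom J F) (hG : Gerb.LocSurjHom J G) :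
    Gerb.LocSurjHom J (BasedFunctor.comp F G) := by
  intro x x' b hb
  have hx' : 𝒳.p.obj x' = 𝒳.p.obj x := by
    have := IsHomLift.codomain_eq 𝒵.p (𝟙 (𝒳.p.obj x)) b
    rw [← this]; exact ((BasedFunctor.comp F G).w_obj x').symm
  let T : Sieve (𝒳.p.obj x) :=
    { arrows := fun W h => ∃ (x₀ : 𝒳.obj) (φ : x₀ ⟶ x) (ψ : x₀ ⟶ x'),
        𝒳.p.IsHomLift h φ ∧ 𝒳.p.IsHomLift h ψ ∧ G.map (F.map φ) ≫ b = G.map (F.map ψ)
      downward_closed := by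
        rintro W W' h ⟨x₀, φ, ψ, hφ, hψ, e⟩ k
        have hW : 𝒳.p.obj x₀ = W := IsHomLift.domain_eq 𝒳.p h φ
        subst hW
        obtain ⟨x₁, κ, hκ⟩ := h𝒳.exists_lift k
        refine ⟨x₁, κ ≫ φ, κ ≫ ψ, inferInstance, inferInstance, ?_⟩
        simp only [Functor.map_comp, Category.assoc]
        exact congrArg (fun t => G.map (F.map κ) ≫ t) e }
  refine ⟨T, ?_, fun V f hf => hf⟩
  obtain ⟨R₁, hR₁, hR₁'⟩ := locSurjHom_flex J hG (F.obj x) (F.obj x') (F.w_obj x) b hb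
  refine J.transitive hR₁ T (fun V f hf => ?_)
  obtain ⟨y₀, φ, ψ, hφ, hψ, e⟩ := hR₁' f hf
  obtain ⟨xf, c, hc⟩ := h𝒳.exists_lift f
  obtain ⟨xf', c', hc'⟩ := h𝒳.exists_lift (x := x') (f ≫ eqToHom hx'.symm)
  have hc'' : 𝒳.p.IsHomLift f c' := (IsHomLift.lift_comp_eqToHom_iff 𝒳.p f c' hx'.symm).1 hc'
  have : 𝒴.p.IsHomLift f (F.map c) := inferInstance
  have : 𝒴.p.IsHomLift f (F.map c') := inferInstance
  obtain ⟨θ, hθiso, hθ, eθ⟩ := exists_iso_fac 𝒴.p h𝒴 f (F.map c) φ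
  obtain ⟨θ', hθ'iso, hθ', eθ'⟩ := exists_iso_fac 𝒴.p h𝒴 f (F.map c') ψ
  have hxf : 𝒳.p.obj xf = V := IsHomLift.domain_eq 𝒳.p f c
  have : 𝒴.p.IsHomLift (𝟙 V) (inv θ) := inferInstance
  have hbf : 𝒴.p.IsHomLift (𝟙 V) (inv θ ≫ θ') := by
    have : 𝒴.p.IsHomLift (𝟙 V ≫ 𝟙 V) (inv θ ≫ θ') := inferInstance
    simpa using this
  obtain ⟨R₂, hR₂, hR₂'⟩ := locSurjHom_flex J hF xf xf' hxf (inv θ ≫ θ') hbf
  refine J.superset_covering ?_ hR₂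
  intro W k hk
  obtain ⟨x₀, φ', ψ', hφ', hψ', e'⟩ := hR₂' k hk
  refine ⟨x₀, φ' ≫ c, ψ' ≫ c', inferInstance, inferInstance, ?_⟩
  have e1 : F.map c = inv θ ≫ φ := by rw [IsIso.eq_inv_comp]; exact eθ
  have e2 : θ' ≫ F.map c' = ψ := eθ'
  calc G.map (F.map (φ' ≫ c)) ≫ b = G.map (F.map φ' ≫ inv θ) ≫ G.map φ ≫ b := by
        rw [Functor.map_comp, e1]; simp
    _ = G.map (F.map φ' ≫ inv θ) ≫ G.map ψ := by
        exact congrArg (fun t => G.map (F.map φ' ≫ inv θ) ≫ t) e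
    _ = G.map (F.map φ' ≫ inv θ ≫ θ') ≫ G.map (F.map c') := by rw [← e2]; simp
    _ = G.map (F.map ψ') ≫ G.map (F.map c') := by rw [e']
    _ = G.map (F.map (ψ' ≫ c')) := by simp

end Groth.Agent.H23.GerbLib
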