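import Mathlib
import Groth.Prelude.Def_StGerb
import Groth.Agent.Lib.helper23.GerbLib

open CategoryTheory CategoryTheory.Limits

namespace Groth.Agent.H23.GerbLib
universe v₄ u₄ v₃ u₃ v₂ u₂ v u

variable {C : Type u} [Category.{v} C] (J : GrothendieckTopology C)

section
variable {𝒳 : BasedCategory.{v₂, u₂} C} {𝒴 : BasedCategory.{v₃, u₃} C}

lemma locSurjObj_flex {G : 𝒳 ⥤ᵇ 𝒴} (hG : Gerb.LocSurjObj J G) (y : 𝒴.obj) {U : C}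
    (hy : 𝒴.p.obj y = U) :
    ∃ R ∈ J U, ∀ ⦃V : C⦄ (f : V ⟶ U), R f →
      ∃ (x : 𝒳.obj) (g : G.obj x ⟶ y), 𝒴.p.IsHomLift f g := by
  subst hy
  exact hG y
end

variable {𝒳 𝒴 𝒳' 𝒴' : BasedCategory.{v, max u v} C}
  (F : 𝒳 ⥤ᵇ 𝒴) (G : 𝒴' ⥤ᵇ 𝒴) (F' : 𝒳' ⥤ᵇ 𝒴') (G' : 𝒳' ⥤ᵇ 𝒳)
  (e : BasedFunctor.comp F' G ≅ BasedFunctor.comp G' F)

include e in
theorem locSurjObj_of_square (h𝒳 : FibCat.IsFibGrpd 𝒳.p)
    (hG : Gerb.LocSurjObj J G) (hF' : Gerb.LocSurjObj J F') : Gerb.LocSurjObj J F := by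
  intro y
  let T : Sieve (𝒴.p.obj y) :=
    { arrows := fun W h => ∃ (x : 𝒳.obj) (g : F.obj x ⟶ y), 𝒴.p.IsHomLift h g
      downward_closed := by
        rintro W W' h ⟨x, g, hg⟩ k
        have hW : 𝒳.p.obj x = W := by
          have := IsHomLift.domain_eq 𝒴.p h g
          rw [← this]; exact (F.w_obj x).symm
        subst hW
        obtain ⟨x', κ, hκ⟩ := h𝒳.exists_lift k
        refine ⟨x', F.map κ ≫ g, ?_⟩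
        have : 𝒴.p.IsHomLift k (F.map κ) := inferInstance
        infer_instance }
  refine ⟨T, ?_, fun V f hf => hf⟩
  obtain ⟨R, hR, hR'⟩ := hG y
  refine J.transitive hR T (fun V f hf => ?_)
  obtain ⟨y', g, hg⟩ := hR' f hf
  have hV : 𝒴'.p.obj y' = V := by
    have := IsHomLift.domain_eq 𝒴.p f g
    rw [← this]; exact (G.w_obj y').symm
  subst hV
  obtain ⟨R₂, hR₂, hR₂'⟩ := hF' y'
  refine J.superset_covering ?_ hR₂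
  intro W k hk
  obtain ⟨x', g', hg'⟩ := hR₂' k hk
  have hW : 𝒳'.p.obj x' = W := by
    have := IsHomLift.domain_eq 𝒴'.p k g'
    rw [← this]; exact (F'.w_obj x').symm
  let ε : F.obj (G'.obj x') ⟶ G.obj (F'.obj x') := e.inv.toNatTrans.app x'
  have h1 : 𝒴.p.IsHomLift (𝟙 W) ε := BasedNatTrans.isHomLift e.inv hW
  have h2 : 𝒴.p.IsHomLift k (G.map g') := inferInstance
  have h3 : 𝒴.p.IsHomLift (k ≫ f) (G.map g' ≫ g) := inferInstance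
  refine ⟨G'.obj x', ε ≫ G.map g' ≫ g, ?_⟩
  have : 𝒴.p.IsHomLift (𝟙 W ≫ k ≫ f) (ε ≫ G.map g' ≫ g) := inferInstance
  simpa using this

variable {F G F' G' e}

lemma exists_preimage (hc : FibCat.IsTwoCartOver F' G' e) (y' : 𝒴'.obj) (x : 𝒳.obj)
    (θ : G.obj y' ≅ F.obj x) (hθ : 𝒴.p.IsHomLift (𝟙 (𝒴'.p.obj y')) θ.hom) :
    ∃ (x' : 𝒳'.obj) (α : F'.obj x' ≅ y') (β : G'.obj x' ≅ x),
      𝒴'.p.IsHomLift (𝟙 (𝒴'.p.obj y')) α.hom ∧ 𝒳.p.IsHomLift (𝟙 (𝒴'.p.obj y')) β.hom ∧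
      (e.hom.toNatTrans.app x') ≫ F.map β.hom = G.map α.hom ≫ θ.hom := by
  obtain ⟨H, ⟨i1⟩, ⟨i2⟩⟩ := hc
  let P : (FibCat.fp G F).obj := ⟨⟨y', x, θ⟩, hθ⟩
  let εP : (FibCat.fpLift F' G' e).obj (H.obj P) ≅ P :=
    ((BasedNatTrans.forgetful _ _).mapIso i2).app P
  have hε : (FibCat.fp G F).p.IsHomLift (𝟙 (𝒴'.p.obj y')) εP.hom :=
    BasedNatTrans.isHomLift i2.hom (a := P) rfl
  refine ⟨H.obj P, (FibCat.fpFst G F).toFunctor.mapIso εP, (FibCat.fpSnd G F).toFunctor.mapIso εP,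
    ?_, ?_, ?_⟩
  · exact BasedFunctor.preserves_isHomLift (FibCat.fpFst G F) _ _
  · exact BasedFunctor.preserves_isHomLift (FibCat.fpSnd G F) _ _
  · exact εP.hom.hom.w.symm

theorem locSurjHom_of_twoCart (h𝒳 : FibCat.IsFibGrpd 𝒳.p) (h𝒴 : FibCat.IsFibGrpd 𝒴.p)
    (hc : FibCat.IsTwoCartOver F' G' e)
    (hG : Gerb.LocSurjObj J G) (hF' : Gerb.LocSurjHom J F') : Gerb.LocSurjHom J F := by
  intro x₁ x₂ b hb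
  have hx₂ : 𝒳.p.obj x₂ = 𝒳.p.obj x₁ := by
    have := IsHomLift.codomain_eq 𝒴.p (𝟙 (𝒳.p.obj x₁)) b
    rw [← this]; exact (F.w_obj x₂).symm
  let T : Sieve (𝒳.p.obj x₁) :=
    { arrows := fun W h => ∃ (x₀ : 𝒳.obj) (φ : x₀ ⟶ x₁) (ψ : x₀ ⟶ x₂),
        𝒳.p.IsHomLift h φ ∧ 𝒳.p.IsHomLift h ψ ∧ F.map φ ≫ b = F.map ψ
      downward_closed := by
        rintro W W' h ⟨x₀, φ, ψ, hφ, hψ, e⟩ k
        have hW : 𝒳.p.obj x₀ = W := IsHomLift.domain_eq 𝒳.p h φ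
        subst hW
        obtain ⟨x₁, κ, hκ⟩ := h𝒳.exists_lift k
        refine ⟨x₁, κ ≫ φ, κ ≫ ψ, inferInstance, inferInstance, ?_⟩
        simp only [Functor.map_comp, Category.assoc]
        exact congrArg (fun t => F.map κ ≫ t) e }
  refine ⟨T, ?_, fun V f hf => hf⟩
  obtain ⟨R₁, hR₁, hR₁'⟩ := locSurjObj_flex J hG (F.obj x₁) (F.w_obj x₁)
  refine J.transitive hR₁ T (fun V f hf => ?_)
  obtain ⟨y', g, hg⟩ := hR₁' f hf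
  have hV : 𝒴'.p.obj y' = V := (G.w_obj y').symm.trans (IsHomLift.domain_eq 𝒴.p f g)
  subst hV
  obtain ⟨xf₁, c₁, hc₁⟩ := h𝒳.exists_lift f
  obtain ⟨xf₂, c₂, hc₂'⟩ := h𝒳.exists_lift (x := x₂) (f ≫ eqToHom hx₂.symm)
  have hc₂ : 𝒳.p.IsHomLift f c₂ := (IsHomLift.lift_comp_eqToHom_iff 𝒳.p f c₂ hx₂.symm).1 hc₂'
  have : 𝒴.p.IsHomLift f (F.map c₁) := inferInstance
  have : 𝒴.p.IsHomLift f (F.map c₂) := inferInstance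
  obtain ⟨θ₁, hθ₁iso, hθ₁, eθ₁⟩ := exists_iso_fac 𝒴.p h𝒴 f (F.map c₁) g
  have hgb : 𝒴.p.IsHomLift f (g ≫ b) := by
    have : 𝒴.p.IsHomLift (f ≫ 𝟙 _) (g ≫ b) := inferInstance
    simpa using this
  obtain ⟨θ₂, hθ₂iso, hθ₂, eθ₂⟩ := exists_iso_fac 𝒴.p h𝒴 f (F.map c₂) (g ≫ b)
  obtain ⟨x'₁, α₁, β₁, hα₁, hβ₁, w₁⟩ := exists_preimage hc y' xf₁ (asIso θ₁) hθ₁
  obtain ⟨x'₂, α₂, β₂, hα₂, hβ₂, w₂⟩ := exists_preimage hc y' xf₂ (asIso θ₂) hθ₂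
  have hx'₁ : 𝒳'.p.obj x'₁ = 𝒴'.p.obj y' :=
    (F'.w_obj x'₁).symm.trans (IsHomLift.domain_eq 𝒴'.p (𝟙 _) α₁.hom)
  have hα₂' : 𝒴'.p.IsHomLift (𝟙 (𝒴'.p.obj y')) α₂.inv := by
    have : α₂.inv = inv α₂.hom := by simp
    rw [this]; infer_instance
  have hb' : 𝒴'.p.IsHomLift (𝟙 (𝒴'.p.obj y')) (α₁.hom ≫ α₂.inv) := by
    have : 𝒴'.p.IsHomLift (𝟙 (𝒴'.p.obj y') ≫ 𝟙 (𝒴'.p.obj y')) (α₁.hom ≫ α₂.inv) := inferInstance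
    simpa using this
  obtain ⟨R₂, hR₂, hR₂'⟩ := locSurjHom_flex J hF' x'₁ x'₂ hx'₁ (α₁.hom ≫ α₂.inv) hb'
  refine J.superset_covering ?_ hR₂
  intro W k hk
  obtain ⟨x'₀, φ, ψ, hφ, hψ, e'⟩ := hR₂' k hk
  have hl1 : 𝒳.p.IsHomLift (k ≫ f) (G'.map φ ≫ β₁.hom ≫ c₁) := by
    have : 𝒳.p.IsHomLift k (G'.map φ) := inferInstance
    have : 𝒳.p.IsHomLift (𝟙 _ ≫ f) (β₁.hom ≫ c₁) := inferInstance
    have : 𝒳.p.IsHomLift (k ≫ 𝟙 _ ≫ f) (G'.map φ ≫ β₁.hom ≫ c₁) := inferInstance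
    simpa using this
  have hl2 : 𝒳.p.IsHomLift (k ≫ f) (G'.map ψ ≫ β₂.hom ≫ c₂) := by
    have : 𝒳.p.IsHomLift k (G'.map ψ) := inferInstance
    have : 𝒳.p.IsHomLift (𝟙 _ ≫ f) (β₂.hom ≫ c₂) := inferInstance
    have : 𝒳.p.IsHomLift (k ≫ 𝟙 _ ≫ f) (G'.map ψ ≫ β₂.hom ≫ c₂) := inferInstance
    simpa using this
  refine ⟨G'.obj x'₀, G'.map φ ≫ β₁.hom ≫ c₁, G'.map ψ ≫ β₂.hom ≫ c₂, hl1, hl2, ?_⟩
  -- the equation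
  let E : ∀ t : 𝒳'.obj, G.obj (F'.obj t) ⟶ F.obj (G'.obj t) := fun t => e.hom.toNatTrans.app t
  have nat : ∀ {s t : 𝒳'.obj} (u : s ⟶ t), G.map (F'.map u) ≫ E t = E s ≫ F.map (G'.map u) :=
    fun u => e.hom.toNatTrans.naturality u
  have hEiso : IsIso (E x'₀) := by
    have : IsIso (e.hom.toNatTrans.app x'₀) := inferInstance
    exact this
  have w₁' : E x'₁ ≫ F.map β₁.hom = G.map α₁.hom ≫ θ₁ := w₁
  have w₂' : E x'₂ ≫ F.map β₂.hom = G.map α₂.hom ≫ θ₂ := w₂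
  have e'' : F'.map φ ≫ α₁.hom = F'.map ψ ≫ α₂.hom := by
    rw [← e']; simp
  rw [← cancel_epi (E x'₀)]
  calc E x'₀ ≫ F.map (G'.map φ ≫ β₁.hom ≫ c₁) ≫ b
      = (E x'₀ ≫ F.map (G'.map φ)) ≫ F.map β₁.hom ≫ F.map c₁ ≫ b := by simp
    _ = G.map (F'.map φ) ≫ (E x'₁ ≫ F.map β₁.hom) ≫ F.map c₁ ≫ b := by rw [← nat]; simp
    _ = G.map (F'.map φ) ≫ G.map α₁.hom ≫ (θ₁ ≫ F.map c₁) ≫ b := by rw [w₁']; simp
    _ = G.map (F'.map φ ≫ α₁.hom) ≫ θ₂ ≫ F.map c₂ := by rw [eθ₁, eθ₂]; simp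
    _ = G.map (F'.map ψ) ≫ (G.map α₂.hom ≫ θ₂) ≫ F.map c₂ := by rw [e'']; simp
    _ = (G.map (F'.map ψ) ≫ E x'₂) ≫ F.map β₂.hom ≫ F.map c₂ := by rw [← w₂']; simp
    _ = E x'₀ ≫ F.map (G'.map ψ ≫ β₂.hom ≫ c₂) := by rw [nat]; simp

end Groth.Agent.H23.GerbLib
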