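import Mathlib
import Groth.Prelude.Def_StGerb2
import Groth.Agent.Lib.helper23.GerbLib

open CategoryTheory CategoryTheory.Limits Opposite

namespace Groth.Agent.H23.GerbLib
universe w v₂ u₂ v u

variable {C : Type u} [Category.{v} C]

section
variable {P : Cᵒᵖ ⥤ Type w}

lemma sec_map {a b : Stk.EltObj P} (g : a ⟶ b) {V U : C} (f : V ⟶ U) (ha : V = a.base)
    (hb : U = b.base) (hg : g.hom = eqToHom ha.symm ≫ f ≫ eqToHom hb) :
    P.map (eqToHom ha).op a.sec = P.map f.op (P.map (eqToHom hb).op b.sec) := by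
  obtain ⟨ba, sa⟩ := a
  obtain ⟨bb, sb⟩ := b
  dsimp at ha hb
  subst ha hb
  simp only [eqToHom_refl, Category.id_comp, Category.comp_id] at hg
  have := g.map_sec
  dsimp at this
  rw [hg] at this
  simp [this]

end

variable (J : GrothendieckTopology C) {𝒳 : BasedCategory.{v₂, u₂} C} [FibCat.IsFibGrpd 𝒳.p]
  (P : Cᵒᵖ ⥤ Type u₂) (π : 𝒳 ⥤ᵇ Stk.ofPsh P)

/-- the section attached to an object of the fibre over `U` -/
noncomputable def secOf {U : C} (a : 𝒳.p.Fiber U) : P.obj (op U) :=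
  P.map (eqToHom ((π.w_obj a.1).trans a.2).symm).op (π.obj a.1).sec

variable {P π}

lemma secOf_map {V U : C} (f : V ⟶ U) (a : 𝒳.p.Fiber U) (b : 𝒳.p.Fiber V) (φ : b.1 ⟶ a.1)
    (hφ : 𝒳.p.IsHomLift f φ) : secOf P π b = P.map f.op (secOf P π a) := by
  have h1 : (Stk.ofPsh P).p.IsHomLift f (π.map φ) :=
    BasedFunctor.preserves_isHomLift π f φ
  have h2 := IsHomLift.fac' (Stk.ofPsh P).p f (π.map φ)
  exact sec_map (π.map φ) f ((π.w_obj b.1).trans b.2).symm ((π.w_obj a.1).trans a.2).symm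
    (by simpa using h2)

lemma secOf_eq_of_hom {U : C} (a a' : 𝒳.p.Fiber U) (φ : a ⟶ a') : secOf P π a = secOf P π a' := by
  have := secOf_map (P := P) (π := π) (𝟙 U) a' a φ.1 φ.2
  simpa using this

lemma pullHom_lift {U V : C} (f : V ⟶ U) (a : 𝒳.p.Fiber U) :
    𝒳.p.IsHomLift f (Gerb.pullHom 𝒳 a.1 (f ≫ eqToHom a.2.symm)) :=
  (IsHomLift.lift_comp_eqToHom_iff 𝒳.p f _ a.2.symm).1 (Gerb.pullHom_isHomLift 𝒳 a.1 _)

variable (P π) in
noncomputable def cMap : Gerb.isoClPsh 𝒳 ⟶ P where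
  app U := ↾(Quot.lift (fun a : 𝒳.p.Fiber U.unop => secOf P π a)
    (fun a a' ⟨φ⟩ => secOf_eq_of_hom a a' φ))
  naturality U V f := by
    ext x
    obtain ⟨a⟩ := x
    exact secOf_map (P := P) (π := π) f.unop a (Gerb.pullFib 𝒳 f.unop a)
      (Gerb.pullHom 𝒳 a.1 (f.unop ≫ eqToHom a.2.symm)) (pullHom_lift f.unop a)

lemma cMap_mk {U : C} (a : 𝒳.p.Fiber U) :
    (cMap P π).app (op U) (Quot.mk _ a) = secOf P π a := rfl

lemma isoCl_eq_of_lift {U V : C} (f : V ⟶ U) (a : 𝒳.p.Fiber U) (b : 𝒳.p.Fiber V) (φ : b.1 ⟶ a.1)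
    (hφ : 𝒳.p.IsHomLift f φ) :
    (Quot.mk (Gerb.IsoRel 𝒳 V) b : Gerb.IsoCl 𝒳 V) = Quot.mk _ (Gerb.pullFib 𝒳 f a) := by
  have hφ' : 𝒳.p.IsHomLift (f ≫ eqToHom a.2.symm) φ :=
    (IsHomLift.lift_comp_eqToHom_iff 𝒳.p f φ a.2.symm).2 hφ
  obtain ⟨χ, hχ, -⟩ := Gerb.exists_hom_pull 𝒳 a.1 (f ≫ eqToHom a.2.symm) φ hφ'
  exact Quot.sound ⟨⟨χ, hχ⟩⟩

theorem cMap_locSurj (hπ : Gerb.LocSurjObj J π) : Presheaf.IsLocallySurjective J (cMap P π) := by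
  constructor
  intro U s
  obtain ⟨R, hR, hR'⟩ := hπ (⟨U, s⟩ : Stk.EltObj P)
  refine J.superset_covering ?_ hR
  intro V f hf
  obtain ⟨x, g, hg⟩ := hR' f hf
  have hg' : (Stk.ofPsh P).p.IsHomLift (f : V ⟶ U) g := hg
  have hx : 𝒳.p.obj x = V := (π.w_obj x).symm.trans (IsHomLift.domain_eq (Stk.ofPsh P).p f g)
  refine ⟨Quot.mk _ ⟨x, hx⟩, ?_⟩
  have h2 := IsHomLift.fac' (Stk.ofPsh P).p f g
  have := sec_map g f ((π.w_obj x).trans hx).symm (rfl : U = U) (by simpa using h2)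
  have e : P.map (eqToHom (rfl : U = U)).op s = s := by simp
  rw [cMap_mk]
  show P.map (eqToHom _).op (π.obj x).sec = P.map f.op s
  exact this.trans (congrArg (P.map f.op) e)

omit [FibCat.IsFibGrpd 𝒳.p] in
lemma elt_hom_of_sec_eq {P : Cᵒᵖ ⥤ Type w} (a b : Stk.EltObj P) {U : C} (ha : U = a.base) (hb : U = b.base)
    (h : P.map (eqToHom ha).op a.sec = P.map (eqToHom hb).op b.sec) :
    P.map (eqToHom (ha.symm.trans hb)).op b.sec = a.sec := by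
  obtain ⟨ba, sa⟩ := a
  obtain ⟨bb, sb⟩ := b
  dsimp at ha hb
  subst ha hb
  simpa using h.symm

theorem cMap_locInj (hπ : Gerb.LocSurjHom J π) : Presheaf.IsLocallyInjective J (cMap P π) := by
  constructor
  intro U x y h
  obtain ⟨a⟩ := x
  obtain ⟨a'⟩ := y
  have h' : secOf P π a = secOf P π a' := h
  have hb1 : (π.obj a.1).base = U.unop := (π.w_obj a.1).trans a.2
  have hb2 : (π.obj a'.1).base = U.unop := (π.w_obj a'.1).trans a'.2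
  let b : π.obj a.1 ⟶ π.obj a'.1 :=
    { hom := eqToHom (hb1.trans hb2.symm)
      map_sec := elt_hom_of_sec_eq (π.obj a.1) (π.obj a'.1) hb1.symm hb2.symm h' }
  have hb : (Stk.ofPsh P).p.IsHomLift (𝟙 U.unop) b :=
    IsHomLift.of_fac' (Stk.ofPsh P).p (𝟙 U.unop) b hb1 hb2 (by simp [b])
  obtain ⟨R, hR, hR'⟩ := locSurjHom_flex J hπ a.1 a'.1 a.2 b hb
  refine J.superset_covering ?_ hR
  intro V f hf
  obtain ⟨x₀, φ, ψ, hφ, hψ, -⟩ := hR' f hf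
  have hx₀ : 𝒳.p.obj x₀ = V := IsHomLift.domain_eq 𝒳.p f φ
  have e1 := isoCl_eq_of_lift f a ⟨x₀, hx₀⟩ φ hφ
  have e2 := isoCl_eq_of_lift f a' ⟨x₀, hx₀⟩ ψ hψ
  exact e1.symm.trans e2

theorem main16877 (hπ : Gerb.IsGerbeOver J π) :
    ∃ c : Gerb.isoClPsh 𝒳 ⟶ P,
      (∀ x : 𝒳.obj, c.app (op (𝒳.p.obj x)) (Quot.mk _ (Gerb.fib x)) =
          P.map (eqToHom (π.w_obj x).symm).op (π.obj x).sec) ∧
      Presheaf.IsLocallySurjective J c ∧ Presheaf.IsLocallyInjective J c :=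
  ⟨cMap P π, fun x => rfl, cMap_locSurj J hπ.1, cMap_locInj J hπ.2⟩

end Groth.Agent.H23.GerbLib
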