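import Mathlib

/-!
# First step of the Godement resolution
-/

universe u

open CategoryTheory CategoryTheory.Limits TopologicalSpace Opposite Topology

namespace Godement

section Flasque

variable {Y : TopCat.{u}} [DiscreteTopology Y] (G : TopCat.Sheaf AddCommGrpCat.{u} Y)

lemma flasque_of_discrete : TopCat.Sheaf.IsFlasque G := by
  constructor
  intro U V i
  have hVU : V.unop ≤ U.unop := leOfHom i.unop
  let V'' : Opens Y := ⟨(U.unop : Set Y) \ V.unop, isOpen_discrete _⟩
  have hsup : V.unop ⊔ V'' = U.unop := by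
    ext y
    constructor
    · rintro (h | h)
      · exact hVU h
      · exact h.1
    · intro h
      by_cases hy : y ∈ V.unop
      · exact Or.inl hy
      · exact Or.inr ⟨h, hy⟩
  have hinf : V.unop ⊓ V'' = ⊥ := by
    ext y
    constructor
    · rintro ⟨h1, h2⟩
      exact (h2.2 h1).elim
    · intro h
      exact h.elim
  have hz : IsZero (G.obj.obj (op (V.unop ⊓ V''))) := by
    rw [hinf]
    have ht : IsTerminal (G.obj.obj (op (⊥ : Opens Y))) := TopCat.Sheaf.isTerminalOfEmpty G
    exact (isZero_zero _).of_iso (ht.uniqueUpToIso (isZero_zero AddCommGrpCat).isTerminal)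
  have hlim := TopCat.Sheaf.isLimitPullbackCone G V.unop V''
  let s : PullbackCone (G.obj.map (homOfLE (inf_le_left : V.unop ⊓ V'' ≤ V.unop)).op)
      (G.obj.map (homOfLE (inf_le_right : V.unop ⊓ V'' ≤ V'')).op) :=
    PullbackCone.mk (𝟙 _) 0 (hz.eq_of_tgt _ _)
  let l := hlim.lift s
  have h1 : l ≫ G.obj.map (homOfLE (le_sup_left : V.unop ≤ V.unop ⊔ V'')).op = 𝟙 _ :=
    hlim.fac s WalkingCospan.left
  have h2 : G.obj.map i = G.obj.map (eqToHom hsup).op ≫
      G.obj.map (homOfLE (le_sup_left : V.unop ≤ V.unop ⊔ V'')).op := by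
    rw [← G.obj.map_comp]
    congr 1
  rw [h2]
  have : IsSplitEpi (G.obj.map (homOfLE (le_sup_left : V.unop ≤ V.unop ⊔ V'')).op) := ⟨⟨l, h1⟩⟩
  infer_instance

end Flasque

section Disc

variable {X Y : TopCat.{u}} (F : TopCat.Sheaf AddCommGrpCat.{u} X) (f : Y ⟶ X)

/-- the presheaf of discontinuous sections -/
noncomputable def discPre : TopCat.Presheaf AddCommGrpCat.{u} Y where
  obj S := AddCommGrpCat.of (∀ y : S.unop, F.presheaf.stalk (f y.1))
  map {S T} i := AddCommGrpCat.ofHom
    { toFun := fun s y => s ⟨y.1, leOfHom i.unop y.2⟩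
      map_zero' := rfl
      map_add' := fun _ _ => rfl }
  map_id _ := rfl
  map_comp _ _ := rfl

lemma discPre_isSheaf : (discPre F f).IsSheaf := by
  rw [TopCat.Presheaf.isSheaf_iff_isSheafUniqueGluing]
  intro ι W sf hsf
  have hk : ∀ y : (iSup W : Opens Y), ∃ k, y.1 ∈ W k := fun y => Opens.mem_iSup.1 y.2
  choose k hk using hk
  have key : ∀ (a b : ι) (y : Y) (ha : y ∈ W a) (hb : y ∈ W b),
      (sf a : ∀ y : W a, F.presheaf.stalk (f y.1)) ⟨y, ha⟩ =
        (sf b : ∀ y : W b, F.presheaf.stalk (f y.1)) ⟨y, hb⟩ := by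
    intro a b y ha hb
    have := congrFun (hsf a b) ⟨y, ⟨ha, hb⟩⟩
    exact this
  refine ⟨(fun y => (sf (k y) : ∀ y' : W (k y), F.presheaf.stalk (f y'.1)) ⟨y.1, hk y⟩ :
    ∀ y : (iSup W : Opens Y), F.presheaf.stalk (f y.1)), ?_, ?_⟩
  · intro a
    funext y
    exact key _ _ _ _ _
  · intro s' hs'
    funext y
    have := congrFun (hs' (k y)) ⟨y.1, hk y⟩
    exact this

/-- the sheaf of discontinuous sections -/
noncomputable def discSheaf : TopCat.Sheaf AddCommGrpCat.{u} Y := ⟨discPre F f, discPre_isSheaf F f⟩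

/-- the map to the direct image of the sheaf of discontinuous sections, on sections -/
noncomputable def toDiscApp (V : (Opens X)ᵒᵖ) :
    F.obj.obj V ⟶ ((TopCat.Sheaf.pushforward AddCommGrpCat.{u} f).obj (discSheaf F f)).obj.obj V :=
  AddCommGrpCat.ofHom
    { toFun := fun s => (fun y => F.presheaf.germ V.unop (f y.1) y.2 s :
        ∀ y : ((Opens.map f).obj V.unop : Opens Y), F.presheaf.stalk (f y.1))
      map_zero' := by
        funext y
        exact map_zero _
      map_add' := fun a b => by
        funext y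
        exact map_add _ a b }

/-- the map to the direct image of the sheaf of discontinuous sections -/
noncomputable def toDisc : F ⟶ (TopCat.Sheaf.pushforward AddCommGrpCat.{u} f).obj (discSheaf F f) :=
  ⟨{  app := toDiscApp F f
      naturality := fun V V' i => by
        ext s
        funext y
        exact TopCat.Presheaf.germ_res_apply' F.presheaf i (f y.1) y.2 s }⟩

lemma toDisc_apply (V : Opens X) (s : F.obj.obj (op V)) (y : Y) (hy : f y ∈ V) :
    ((toDisc F f).hom.app (op V) s : ∀ y : ((Opens.map f).obj V : Opens Y),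
      F.presheaf.stalk (f y.1)) ⟨y, hy⟩ = F.presheaf.germ V (f y) hy s := rfl

lemma mono_unit_of_surjective (hf : Function.Surjective f) :
    Mono ((TopCat.Sheaf.pullbackPushforwardAdjunction AddCommGrpCat.{u} f).unit.app F) := by
  let adj := TopCat.Sheaf.pullbackPushforwardAdjunction AddCommGrpCat.{u} f
  apply Preadditive.mono_of_cancel_zero
  intro A a ha
  have hg : toDisc F f = adj.unit.app F ≫
      (TopCat.Sheaf.pushforward AddCommGrpCat.{u} f).map ((adj.homEquiv _ _).symm (toDisc F f)) := by
    have h := adj.homEquiv_unit (X := F) (Y := discSheaf F f)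
      (f := (adj.homEquiv _ _).symm (toDisc F f))
    rw [Equiv.apply_symm_apply] at h
    exact h
  have h0 : a ≫ toDisc F f = 0 := by
    rw [hg, ← Category.assoc]
    have ha' : a ≫ adj.unit.app F = 0 := ha
    rw [ha', zero_comp]
  apply Sheaf.hom_ext
  apply NatTrans.ext
  funext V
  show a.hom.app V = 0
  ext s
  show a.hom.app V s = 0
  apply TopCat.Presheaf.section_ext F V.unop
  intro x hx
  obtain ⟨y, rfl⟩ := hf x
  have h1 := congrArg (fun t => t.hom.app V s) h0
  have h2 := congrFun h1 ⟨y, hx⟩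
  rw [map_zero]
  exact h2

end Disc

end Godement
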