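import Mathlib
import Groth.Prelude.Def_W4c2invhilbsl2HJ

/-!
Hirzebruch–Jung continued fraction bookkeeping (helper23): the remainder sequence
`tS i = t * P_i - b * Q_i`, its positivity / monotonicity, and the lattice lemma.
-/

set_option autoImplicit false

namespace Groth.Agent.Lib.helper23.HJ

open W4c2invhilbsl2 HJFrac

lemma hjVal_gt_one : ∀ (l : List ℤ), (∀ x ∈ l, (2 : ℤ) ≤ x) → l ≠ [] → 1 < hjVal l
  | [], _, h => absurd rfl h
  | [b], hb, _ => by
      have hb2 : (2 : ℚ) ≤ b := by exact_mod_cast hb b (by simp)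
      simp only [hjVal, inv_zero, sub_zero]
      linarith
  | b :: b' :: l, hb, _ => by
      have ih := hjVal_gt_one (b' :: l) (fun x hx => hb x (List.mem_cons_of_mem _ hx)) (by simp)
      have hb2 : (2 : ℚ) ≤ b := by exact_mod_cast hb b (by simp)
      rw [hjVal]
      have : (hjVal (b' :: l))⁻¹ < 1 := inv_lt_one_of_one_lt₀ ih
      linarith

/-- the remainder sequence -/
def tS (b t : ℤ) (c : List ℤ) (i : ℕ) : ℤ := t * hjP c i - b * hjQ c i

variable (b t : ℤ) (cs : List ℤ)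

lemma tS_zero : tS b t cs 0 = b := by simp [tS, hjP, hjQ]
lemma tS_one : tS b t cs 1 = t := by simp [tS, hjP, hjQ]
lemma tS_rec (i : ℕ) : tS b t cs (i + 2) = cs.getD i 0 * tS b t cs (i + 1) - tS b t cs i := by
  simp only [tS, hjP, hjQ]; ring

lemma det_PQ (i : ℕ) : hjP cs i * hjQ cs (i + 1) - hjP cs (i + 1) * hjQ cs i = 1 := by
  induction i with
  | zero => simp [hjP, hjQ]
  | succ i ih => simp only [hjP, hjQ]; linear_combination ih

lemma main (hc2 : ∀ x ∈ cs, (2 : ℤ) ≤ x) (hval : hjVal cs = (b : ℚ) / (t : ℚ)) (hb : 0 < b) :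
    ∀ i, i ≤ cs.length →
      0 < tS b t cs i ∧ hjVal (cs.drop i) = (tS b t cs i : ℚ) / (tS b t cs (i + 1) : ℚ) := by
  intro i
  induction i with
  | zero =>
    intro _
    rw [tS_zero, tS_one]
    exact ⟨hb, by simpa using hval⟩
  | succ i ih =>
    intro hi
    have hi' : i < cs.length := hi
    obtain ⟨hpos, hv⟩ := ih hi'.le
    have hdrop : cs.drop i = cs[i] :: cs.drop (i + 1) := List.drop_eq_getElem_cons hi'
    have hgt : 1 < hjVal (cs.drop i) := by
      apply hjVal_gt_one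
      · intro x hx; exact hc2 x (List.mem_of_mem_drop hx)
      · rw [hdrop]; exact List.cons_ne_nil _ _
    have hpos1 : 0 < tS b t cs (i + 1) := by
      by_contra hneg
      push Not at hneg
      have : (tS b t cs i : ℚ) / (tS b t cs (i + 1) : ℚ) ≤ 0 :=
        div_nonpos_of_nonneg_of_nonpos (by exact_mod_cast hpos.le) (by exact_mod_cast hneg)
      rw [hv] at hgt
      linarith
    refine ⟨hpos1, ?_⟩
    have hne : (tS b t cs (i + 1) : ℚ) ≠ 0 := by exact_mod_cast hpos1.ne'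
    have hget : cs.getD i 0 = cs[i] := by simp [hi']
    have h1 : hjVal (cs.drop i) = (cs[i] : ℚ) - (hjVal (cs.drop (i + 1)))⁻¹ := by
      rw [hdrop, hjVal]
    have h2 : (hjVal (cs.drop (i + 1)))⁻¹ = (tS b t cs (i + 2) : ℚ) / (tS b t cs (i + 1) : ℚ) := by
      have : (hjVal (cs.drop (i + 1)))⁻¹ = (cs[i] : ℚ) - (tS b t cs i : ℚ) / (tS b t cs (i + 1) : ℚ) := by
        rw [← hv, h1]; ring
      rw [this, tS_rec, hget]
      push_cast
      field_simp
    rw [← inv_inv (hjVal (cs.drop (i + 1))), h2, inv_div]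

lemma tS_pos (hc2 : ∀ x ∈ cs, (2 : ℤ) ≤ x) (hval : hjVal cs = (b : ℚ) / (t : ℚ)) (hb : 0 < b)
    (i : ℕ) (hi : i ≤ cs.length) : 0 < tS b t cs i :=
  (main b t cs hc2 hval hb i hi).1

lemma tS_last (hc2 : ∀ x ∈ cs, (2 : ℤ) ≤ x) (hval : hjVal cs = (b : ℚ) / (t : ℚ)) (hb : 0 < b) :
    tS b t cs (cs.length + 1) = 0 := by
  obtain ⟨hpos, hv⟩ := main b t cs hc2 hval hb cs.length le_rfl
  rw [List.drop_length, hjVal] at hv
  have := div_eq_zero_iff.mp hv.symm
  rcases this with h | h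
  · exact absurd (by exact_mod_cast h) hpos.ne'
  · exact_mod_cast h

lemma tS_lt (hc2 : ∀ x ∈ cs, (2 : ℤ) ≤ x) (hval : hjVal cs = (b : ℚ) / (t : ℚ)) (hb : 0 < b)
    (i : ℕ) (hi : i ≤ cs.length) : tS b t cs (i + 1) < tS b t cs i := by
  rcases Nat.lt_or_ge i cs.length with hi' | hi'
  · obtain ⟨hpos, hv⟩ := main b t cs hc2 hval hb i hi
    have hpos1 := tS_pos b t cs hc2 hval hb (i + 1) hi'
    have hdrop : cs.drop i = cs[i] :: cs.drop (i + 1) := List.drop_eq_getElem_cons hi'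
    have hgt : 1 < hjVal (cs.drop i) := by
      apply hjVal_gt_one
      · intro x hx; exact hc2 x (List.mem_of_mem_drop hx)
      · rw [hdrop]; exact List.cons_ne_nil _ _
    rw [hv, one_lt_div (by exact_mod_cast hpos1)] at hgt
    exact_mod_cast hgt
  · have : i = cs.length := le_antisymm hi hi'
    subst this
    rw [tS_last b t cs hc2 hval hb]
    exact tS_pos b t cs hc2 hval hb _ le_rfl

lemma tS_length_eq_one (hc2 : ∀ x ∈ cs, (2 : ℤ) ≤ x) (hval : hjVal cs = (b : ℚ) / (t : ℚ))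
    (hb : 0 < b) (hcop : IsCoprime b t) : tS b t cs cs.length = 1 := by
  have hpos := tS_pos b t cs hc2 hval hb cs.length le_rfl
  have hlast := tS_last b t cs hc2 hval hb
  have hdet := det_PQ cs cs.length
  have h1 : b = tS b t cs cs.length * hjP cs (cs.length + 1) := by
    unfold tS at hlast ⊢
    linear_combination (-b) * hdet + (-hjP cs cs.length) * hlast
  have h2 : t = tS b t cs cs.length * hjQ cs (cs.length + 1) := by
    unfold tS at hlast ⊢
    linear_combination (-t) * hdet + (-hjQ cs cs.length) * hlast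
  have hd : IsUnit (tS b t cs cs.length) :=
    hcop.isUnit_of_dvd' (Dvd.intro _ h1.symm) (Dvd.intro _ h2.symm)
  rcases Int.isUnit_iff.mp hd with h | h
  · exact h
  · omega

lemma tS_le_t (hc2 : ∀ x ∈ cs, (2 : ℤ) ≤ x) (hval : hjVal cs = (b : ℚ) / (t : ℚ)) (hb : 0 < b)
    (i : ℕ) (hi1 : 1 ≤ i) (hi : i ≤ cs.length) : tS b t cs i ≤ t := by
  induction i, hi1 using Nat.le_induction with
  | base => rw [tS_one]
  | succ i hi1 ih =>
    exact le_trans (tS_lt b t cs hc2 hval hb i (by omega)).le (ih (by omega))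

lemma hjP_mono (hc2 : ∀ x ∈ cs, (2 : ℤ) ≤ x) :
    ∀ i, i ≤ cs.length → 0 ≤ hjP cs i ∧ hjP cs i < hjP cs (i + 1) := by
  intro i
  induction i with
  | zero => intro _; simp [hjP]
  | succ i ih =>
    intro hi
    have hi' : i < cs.length := hi
    obtain ⟨h0, h1⟩ := ih hi'.le
    have hget : cs.getD i 0 = cs[i] := by simp [hi']
    have hc : (2 : ℤ) ≤ cs[i] := hc2 _ (List.getElem_mem hi')
    refine ⟨by linarith, ?_⟩
    show hjP cs (i + 1) < cs.getD i 0 * hjP cs (i + 1) - hjP cs i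
    rw [hget]
    nlinarith

/-- The lattice lemma: no lattice point strictly inside the box. -/
lemma lattice (P0 P1 Q0 Q1 t b t0 t1 x y : ℤ) (hdet : P0 * Q1 - P1 * Q0 = 1)
    (ht0 : t0 = t * P0 - b * Q0) (ht1 : t1 = t * P1 - b * Q1)
    (hP : 0 < P0) (hPP : P0 < P1) (ht : 0 ≤ t1) (htt : t1 < t0)
    (hx0 : 0 < x) (hx : x < P1) (hρ0 : 0 ≤ t * x - b * y) : t0 ≤ t * x - b * y := by
  by_contra hlt
  push Not at hlt
  obtain ⟨u, hu⟩ : ∃ u, u = x * Q1 - y * P1 := ⟨_, rfl⟩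
  obtain ⟨v, hv⟩ : ∃ v, v = -x * Q0 + y * P0 := ⟨_, rfl⟩
  have hxe : x = u * P0 + v * P1 := by rw [hu, hv]; linear_combination (-x) * hdet
  have hρe : t * x - b * y = u * t0 + v * t1 := by
    rw [hu, hv, ht0, ht1]; linear_combination (-(t * x - b * y)) * hdet
  rw [hρe] at hlt hρ0
  rw [hxe] at hx0 hx
  have ht0pos : 0 < t0 := lt_of_le_of_lt ht htt
  rcases le_or_gt 1 v with hv1 | hv0
  · -- v ≥ 1
    have h1 : v ≤ -u := by
      by_contra hcon
      push Not at hcon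
      have e1 : -u * P0 ≤ (v - 1) * P0 := mul_le_mul_of_nonneg_right (by omega) hP.le
      have e2 : (v - 1) * P0 ≤ (v - 1) * P1 := mul_le_mul_of_nonneg_left hPP.le (by omega)
      nlinarith
    have e3 : v * t0 ≤ -u * t0 := mul_le_mul_of_nonneg_right h1 ht0pos.le
    have e4 : v * t1 < v * t0 := mul_lt_mul_of_pos_left htt (by omega)
    nlinarith
  · -- v ≤ 0
    have hv0' : v ≤ 0 := by omega
    have hu1 : 1 ≤ u := by
      by_contra hcon
      push Not at hcon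
      have e1 : u * P0 ≤ 0 := mul_nonpos_of_nonpos_of_nonneg (by omega) hP.le
      have e2 : v * P1 ≤ 0 := mul_nonpos_of_nonpos_of_nonneg hv0' (by omega)
      omega
    have h1 : u ≤ -v := by
      by_contra hcon
      push Not at hcon
      -- -v ≤ u - 1
      have e1 : -v * t1 ≤ -v * t0 := mul_le_mul_of_nonneg_left htt.le (by omega)
      have e2 : -v * t0 ≤ (u - 1) * t0 := mul_le_mul_of_nonneg_right (by omega) ht0pos.le
      nlinarith
    have e3 : u * P1 ≤ -v * P1 := mul_le_mul_of_nonneg_right h1 (by omega)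
    have e4 : u * P0 < u * P1 := mul_lt_mul_of_pos_left hPP (by omega)
    nlinarith

section bridge

variable (p q m : ℕ)

lemma bridge (hpq : p < q) (hcop : Nat.Coprime p q) (hm : 0 < m) (hnt : ¬ (q - p ∣ m)) :
    0 < gcdK p q m ∧ gcdK p q m * bB p q m = q - p ∧
    gcdK p q m * tT p q m = (q - p) - m * p % (q - p) ∧
    0 < tT p q m ∧ tT p q m < bB p q m ∧ Nat.Coprime (bB p q m) (tT p q m) := by
  unfold bB tT gcdK
  obtain ⟨d, hd⟩ : ∃ d, d = q - p := ⟨_, rfl⟩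
  rw [← hd] at hnt ⊢
  have hd0 : 0 < d := by omega
  obtain ⟨g, hg⟩ : ∃ g, g = Nat.gcd m d := ⟨_, rfl⟩
  rw [← hg]
  have hg0 : 0 < g := hg ▸ Nat.gcd_pos_of_pos_left _ hm
  have hgd : g ∣ d := hg ▸ Nat.gcd_dvd_right m d
  have hgm : g ∣ m := hg ▸ Nat.gcd_dvd_left m d
  obtain ⟨β, hβ⟩ : ∃ β, β = m * p % d := ⟨_, rfl⟩
  rw [← hβ]
  have hβd : β < d := hβ ▸ Nat.mod_lt _ hd0
  have hgβ : g ∣ β := hβ ▸ (Nat.dvd_mod_iff hgd).mpr (Dvd.dvd.mul_right hgm p)
  have hcop' : Nat.Coprime d p := by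
    have : Nat.Coprime p (q - p) := (Nat.coprime_sub_self_right hpq.le).mpr hcop
    rw [hd]; exact this.symm
  have hβ0 : 0 < β := by
    rcases Nat.eq_zero_or_pos β with h | h
    · exfalso
      apply hnt
      have : d ∣ m * p := Nat.dvd_of_mod_eq_zero (hβ ▸ h)
      exact hcop'.dvd_of_dvd_mul_right this
    · exact h
  have hgsub : g ∣ d - β := Nat.dvd_sub hgd hgβ
  refine ⟨hg0, Nat.mul_div_cancel' hgd, Nat.mul_div_cancel' hgsub, ?_, ?_, ?_⟩
  · exact Nat.div_pos (Nat.le_of_dvd (by omega) hgsub) hg0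
  · exact Nat.div_lt_div_of_lt_of_dvd hgd (by omega)
  · unfold Nat.Coprime
    obtain ⟨e, he⟩ : ∃ e, e = Nat.gcd (d / g) ((d - β) / g) := ⟨_, rfl⟩
    rw [← he]
    have h1 : g * e ∣ d := Nat.mul_dvd_of_dvd_div hgd (he ▸ Nat.gcd_dvd_left _ _)
    have h2 : g * e ∣ d - β := Nat.mul_dvd_of_dvd_div hgsub (he ▸ Nat.gcd_dvd_right _ _)
    have h3 : g * e ∣ β := by
      have := Nat.dvd_sub h1 h2
      rwa [Nat.sub_sub_self hβd.le] at this
    have h4 : g * e ∣ m * p := (Nat.dvd_mod_iff h1).mp (hβ ▸ h3)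
    have h5 : Nat.Coprime (g * e) p := Nat.Coprime.coprime_dvd_left h1 hcop'
    have h6 : g * e ∣ m := h5.dvd_of_dvd_mul_right h4
    have h7 : g * e ∣ g * 1 := by
      rw [mul_one]
      have := Nat.dvd_gcd h6 h1
      rwa [← hg] at this
    exact Nat.dvd_one.mp ((Nat.mul_dvd_mul_iff_left hg0).mp h7)

/-- integer version of the bridge, plus the formula for `nN`. -/
lemma bridgeZ (hpq : p < q) (hcop : Nat.Coprime p q) (hm : 0 < m) (hnt : ¬ (q - p ∣ m)) :
    0 < (gcdK p q m : ℤ) ∧ 0 < (tT p q m : ℤ) ∧ (tT p q m : ℤ) < bB p q m ∧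
    IsCoprime (bB p q m : ℤ) (tT p q m : ℤ) ∧
    (gcdK p q m : ℤ) * bB p q m = (q : ℤ) - p ∧
    (∀ (cs : List ℤ) (i : ℕ), nN p q m cs i =
      (gcdK p q m : ℤ) * tS (bB p q m : ℤ) (tT p q m : ℤ) cs i) := by
  obtain ⟨h1, h2, h3, h4, h5, h6⟩ := bridge p q m hpq hcop hm hnt
  have hd0 : 0 < q - p := by omega
  have hβd : m * p % (q - p) < q - p := Nat.mod_lt _ hd0
  have hgb : (gcdK p q m : ℤ) * bB p q m = (q : ℤ) - p := by
    rw [← Nat.cast_mul, h2, Nat.cast_sub hpq.le]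
  have hgt : (gcdK p q m : ℤ) * tT p q m = (q : ℤ) - p - ((m * p % (q - p) : ℕ) : ℤ) := by
    rw [← Nat.cast_mul, h3, Nat.cast_sub hβd.le, Nat.cast_sub hpq.le]
  have hα : (m : ℤ) * p = ((q : ℤ) - p) * (alpha p q m : ℤ) + ((m * p % (q - p) : ℕ) : ℤ) := by
    have := Nat.div_add_mod (m * p) (q - p)
    unfold alpha
    rw [← Nat.cast_sub hpq.le]
    exact_mod_cast this.symm
  refine ⟨by exact_mod_cast h1, by exact_mod_cast h4, by exact_mod_cast h5,
    Nat.isCoprime_iff_coprime.mpr h6, hgb, ?_⟩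
  intro cs i
  unfold nN eE lL tS
  push_cast
  linear_combination (-hjP cs i) * hα - hjP cs i * hgt + hjQ cs i * hgb

end bridge

section more

variable (cs : List ℤ)

lemma hjPQ_diff (hc2 : ∀ x ∈ cs, (2 : ℤ) ≤ x) :
    ∀ i, i ≤ cs.length → 1 ≤ hjP cs i - hjQ cs i ∧
      hjP cs i - hjQ cs i ≤ hjP cs (i + 1) - hjQ cs (i + 1) := by
  intro i
  induction i with
  | zero => intro _; simp [hjP, hjQ]
  | succ i ih =>
    intro hi
    have hi' : i < cs.length := hi
    obtain ⟨h0, h1⟩ := ih hi'.le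
    have hget : cs.getD i 0 = cs[i] := by simp [hi']
    have hc : (2 : ℤ) ≤ cs[i] := hc2 _ (List.getElem_mem hi')
    refine ⟨by linarith, ?_⟩
    show hjP cs (i + 1) - hjQ cs (i + 1) ≤
      (cs.getD i 0 * hjP cs (i + 1) - hjP cs i) - (cs.getD i 0 * hjQ cs (i + 1) - hjQ cs i)
    rw [hget]
    nlinarith

lemma hjPQ_diff_pos (hc2 : ∀ x ∈ cs, (2 : ℤ) ≤ x) (i : ℕ) (hi : i ≤ cs.length + 1) :
    1 ≤ hjP cs i - hjQ cs i := by
  rcases Nat.lt_or_ge i (cs.length + 1) with h | h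
  · exact (hjPQ_diff cs hc2 i (by omega)).1
  · have : i = cs.length + 1 := by omega
    subst this
    have := hjPQ_diff cs hc2 cs.length le_rfl
    linarith

lemma hjP_nonneg (hc2 : ∀ x ∈ cs, (2 : ℤ) ≤ x) (i : ℕ) (hi : i ≤ cs.length + 1) :
    0 ≤ hjP cs i := by
  rcases Nat.lt_or_ge i (cs.length + 1) with h | h
  · exact (hjP_mono cs hc2 i (by omega)).1
  · have : i = cs.length + 1 := by omega
    subst this
    have := hjP_mono cs hc2 cs.length le_rfl
    linarith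

end more

section lemmaA

variable (p q m : ℕ)

lemma lL_pos (cs : List ℤ) (hc2 : ∀ x ∈ cs, (2 : ℤ) ≤ x) (i : ℕ) (hi : i ≤ cs.length + 1) :
    1 ≤ lL p q m cs i := by
  unfold lL
  have h1 := hjPQ_diff_pos cs hc2 i hi
  have h2 := hjP_nonneg cs hc2 i hi
  have h3 : (0 : ℤ) ≤ (alpha p q m : ℤ) * hjP cs i := by positivity
  push_cast
  nlinarith

lemma eE_eq (cs : List ℤ) (i : ℕ) : eE p q m cs i = lL p q m cs i + (m : ℤ) * hjP cs i := by
  unfold eE lL; push_cast; ring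

lemma nN_eq (cs : List ℤ) (i : ℕ) :
    nN p q m cs i = -(p : ℤ) * eE p q m cs i + (q : ℤ) * lL p q m cs i := rfl

/-- the main arithmetic claim for the weight `(n_i, 0)` piece. -/
lemma lemmaA (hp : 0 < p) (hpq : p < q) (hm : 0 < m) (cs : List ℤ) (i : ℕ)
    (hn0 : 0 < nN p q m cs i) (hnq : nN p q m cs i < (q : ℤ) - p)
    (hS : ∀ x : ℤ, 0 < x → x < hjP cs i →
      Int.emod ((p : ℤ) * m * x + nN p q m cs i) ((q : ℤ) - p) =
        nN p q m cs i + Int.emod ((p : ℤ) * m * x) ((q : ℤ) - p))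
    (d0 d1 d2 : ℕ) (hn : (d0 : ℤ) - (p : ℤ) * d1 + (q : ℤ) * d2 = nN p q m cs i)
    (hc : (m : ℤ) ∣ (d1 : ℤ) - d2) (hlt : (d0 : ℤ) < nN p q m cs i) :
    eE p q m cs i ≤ d1 ∧ lL p q m cs i ≤ d2 := by
  obtain ⟨x, hx⟩ := hc
  have hp' : (0 : ℤ) < p := by exact_mod_cast hp
  have hm' : (0 : ℤ) < m := by exact_mod_cast hm
  have hqp : (0 : ℤ) < (q : ℤ) - p := by
    have : (p : ℤ) < q := by exact_mod_cast hpq
    linarith
  have hd0 : (0 : ℤ) ≤ d0 := by positivity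
  have hd1 : (0 : ℤ) ≤ d1 := by positivity
  have hd2 : (0 : ℤ) ≤ d2 := by positivity
  obtain ⟨ω, hω⟩ : ∃ ω : ℤ, ω = (p : ℤ) * d1 - (q : ℤ) * d2 := ⟨_, rfl⟩
  have hω1 : ω = d0 - nN p q m cs i := by rw [hω]; linarith
  have hω2 : ω = (p : ℤ) * m * x - ((q : ℤ) - p) * d2 := by
    rw [hω]; have : (d1 : ℤ) = d2 + m * x := by linarith
    rw [this]; ring
  have hωneg : ω < 0 := by rw [hω1]; linarith
  have hωlow : -nN p q m cs i ≤ ω := by rw [hω1]; linarith
  -- Step 1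
  have hxP : hjP cs i ≤ x := by
    by_contra hcon
    push Not at hcon
    rcases le_or_gt x 0 with hx0 | hx0
    · have h1 : (p : ℤ) * m * x ≤ 0 := mul_nonpos_of_nonneg_of_nonpos (by positivity) hx0
      have hd2' : (1 : ℤ) ≤ d2 := by
        by_contra hd
        have hd20 : (d2 : ℤ) = 0 := by linarith
        rw [hd20] at hx
        have : (m : ℤ) * x ≤ 0 := mul_nonpos_of_nonneg_of_nonpos hm'.le hx0
        have hd10 : (d1 : ℤ) = 0 := by linarith
        rw [hω, hd10, hd20] at hωneg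
        simp at hωneg
      have : ((q : ℤ) - p) * 1 ≤ ((q : ℤ) - p) * d2 := mul_le_mul_of_nonneg_left hd2' hqp.le
      linarith
    · have hSx := hS x hx0 hcon
      have hlt' := Int.emod_lt_of_pos ((p : ℤ) * m * x + nN p q m cs i) hqp
      have hmod : Int.emod ((p : ℤ) * m * x) ((q : ℤ) - p) = ω + ((q : ℤ) - p) := by
        have e : (p : ℤ) * m * x = (ω + ((q : ℤ) - p)) + ((q : ℤ) - p) * (d2 - 1) := by
          rw [hω2]; ring
        show ((p : ℤ) * m * x) % ((q : ℤ) - p) = _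
        rw [e, Int.add_mul_emod_self_left]
        exact Int.emod_eq_of_lt (by linarith) (by linarith)
      have hlt'' : ((p : ℤ) * m * x + nN p q m cs i) % ((q : ℤ) - p) < (q : ℤ) - p := hlt'
      have hSx' : ((p : ℤ) * m * x + nN p q m cs i) % ((q : ℤ) - p) =
          nN p q m cs i + (ω + ((q : ℤ) - p)) := by
        rw [← hmod]; exact hSx
      linarith
  -- Step 2
  have he := eE_eq p q m cs i
  have hnn := nN_eq p q m cs i
  have hx' : (0 : ℤ) ≤ (p : ℤ) * m * (x - hjP cs i) := by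
    apply mul_nonneg (by positivity); linarith
  have hD2 : lL p q m cs i ≤ d2 := by
    by_contra hcon
    push Not at hcon
    have h1 : (1 : ℤ) ≤ lL p q m cs i - d2 := by linarith
    have h2 : ((q : ℤ) - p) * 1 ≤ ((q : ℤ) - p) * (lL p q m cs i - d2) :=
      mul_le_mul_of_nonneg_left h1 hqp.le
    -- ω + n_i = p m (x - P_i) + (q-p) (l_i - d2)
    have h3 : ω + nN p q m cs i = (p : ℤ) * m * (x - hjP cs i) + ((q : ℤ) - p) * (lL p q m cs i - d2) := by
      rw [hω2, hnn, he]; ring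
    linarith
  refine ⟨?_, hD2⟩
  have h4 : (0 : ℤ) ≤ (m : ℤ) * (x - hjP cs i) := by
    apply mul_nonneg hm'.le; linarith
  rw [he]
  have : (d1 : ℤ) = d2 + m * x := by linarith
  rw [this]
  nlinarith

end lemmaA

section lemmaA'

variable (p q m : ℕ)

/-- stronger form of the arithmetic claim: monomials `X₁^b1 X₂^b2` of weight `(a, 0)` with
`0 < a < n_{i-1}` are divisible by `X₁^(e_i) X₂^(l_i)`. -/
lemma lemmaA' (hp : 0 < p) (hpq : p < q) (hm : 0 < m) (cs : List ℤ) (i : ℕ)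
    (g b t β : ℤ) (hg : 0 < g) (hgb : g * b = (q : ℤ) - p) (hgt : g * t = (q : ℤ) - p - β)
    (hα : (m : ℤ) * p = ((q : ℤ) - p) * (alpha p q m : ℤ) + β) (hb : 0 < b)
    (N0 : ℤ) (hN0 : N0 ≤ (q : ℤ) - p)
    (hnq : nN p q m cs i < (q : ℤ) - p)
    (hS : ∀ x : ℤ, 0 < x → x < hjP cs i → N0 ≤ g * ((t * x) % b))
    (b1 b2 : ℕ) (a : ℤ) (ha0 : 0 < a) (ha1 : a < N0)
    (hab : a = (q : ℤ) * b2 - (p : ℤ) * b1)
    (hc : (m : ℤ) ∣ (b1 : ℤ) - b2) :
    eE p q m cs i ≤ b1 ∧ lL p q m cs i ≤ b2 := by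
  obtain ⟨x, hx⟩ := hc
  have hp' : (0 : ℤ) < p := by exact_mod_cast hp
  have hm' : (0 : ℤ) < m := by exact_mod_cast hm
  have hqp : (0 : ℤ) < (q : ℤ) - p := by
    have : (p : ℤ) < q := by exact_mod_cast hpq
    linarith
  have hb1 : (0 : ℤ) ≤ b1 := by positivity
  have hb2 : (0 : ℤ) ≤ b2 := by positivity
  have hb1x : (b1 : ℤ) = b2 + m * x := by linarith
  have haω : a = ((q : ℤ) - p) * b2 - (p : ℤ) * m * x := by rw [hab, hb1x]; ring
  -- Step 0: x > 0
  have hx0 : 0 < x := by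
    by_contra hcon
    push Not at hcon
    have h1 : (p : ℤ) * m * x ≤ 0 := mul_nonpos_of_nonneg_of_nonpos (by positivity) hcon
    have hb2' : (1 : ℤ) ≤ b2 := by
      by_contra hd
      have hd20 : (b2 : ℤ) = 0 := by linarith
      have : (m : ℤ) * x ≤ 0 := mul_nonpos_of_nonneg_of_nonpos hm'.le hcon
      have hd10 : (b1 : ℤ) = 0 := by linarith
      rw [hab, hd10, hd20] at ha0
      simp at ha0
    have : ((q : ℤ) - p) * 1 ≤ ((q : ℤ) - p) * b2 := mul_le_mul_of_nonneg_left hb2' hqp.le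
    linarith
  -- Step 1
  have hxP : hjP cs i ≤ x := by
    by_contra hcon
    push Not at hcon
    have hSx := hS x hx0 hcon
    have hρb := Int.emod_lt_of_pos (t * x) hb
    have hρ0 := Int.emod_nonneg (t * x) hb.ne'
    have hρe := Int.emod_add_mul_ediv (t * x) b
    obtain ⟨ρ, hρ⟩ : ∃ ρ, ρ = (t * x) % b := ⟨_, rfl⟩
    obtain ⟨y, hy⟩ : ∃ y, y = (t * x) / b := ⟨_, rfl⟩
    rw [← hρ] at hSx hρb hρ0 hρe
    rw [← hy] at hρe
    -- a = d * z + g ρ
    have hz : a - g * ρ = ((q : ℤ) - p) * ((b2 : ℤ) - (alpha p q m : ℤ) * x - x + y) := by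
      rw [haω]
      linear_combination (-x) * hα - x * hgt - g * hρe + y * hgb
    have hgρ1 : g * ρ < (q : ℤ) - p := by rw [← hgb]; exact mul_lt_mul_of_pos_left hρb hg
    have hgρ0 : 0 < g * ρ := by linarith
    have hzz : (b2 : ℤ) - (alpha p q m : ℤ) * x - x + y = 0 := by
      by_contra hne
      rcases lt_or_gt_of_ne hne with h | h
      · have : ((q : ℤ) - p) * ((b2 : ℤ) - (alpha p q m : ℤ) * x - x + y) ≤ ((q : ℤ) - p) * (-1) :=
          mul_le_mul_of_nonneg_left (by linarith) hqp.le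
        linarith
      · have : ((q : ℤ) - p) * 1 ≤ ((q : ℤ) - p) * ((b2 : ℤ) - (alpha p q m : ℤ) * x - x + y) :=
          mul_le_mul_of_nonneg_left (by linarith) hqp.le
        linarith
    rw [hzz, mul_zero] at hz
    linarith
  -- Step 2
  have he := eE_eq p q m cs i
  have hnn := nN_eq p q m cs i
  have hx' : (0 : ℤ) ≤ (p : ℤ) * m * (x - hjP cs i) := by
    apply mul_nonneg (by positivity); linarith
  have hD2 : lL p q m cs i ≤ b2 := by
    by_contra hcon
    push Not at hcon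
    have h1 : (1 : ℤ) ≤ lL p q m cs i - b2 := by linarith
    have h2 : ((q : ℤ) - p) * 1 ≤ ((q : ℤ) - p) * (lL p q m cs i - b2) :=
      mul_le_mul_of_nonneg_left h1 hqp.le
    have h3 : nN p q m cs i - a = (p : ℤ) * m * (x - hjP cs i) + ((q : ℤ) - p) * (lL p q m cs i - b2) := by
      rw [haω, hnn, he]; ring
    linarith
  refine ⟨?_, hD2⟩
  have h4 : (0 : ℤ) ≤ (m : ℤ) * (x - hjP cs i) := by
    apply mul_nonneg hm'.le; linarith
  rw [he, hb1x]
  nlinarith

end lemmaA'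

end Groth.Agent.Lib.helper23.HJ
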