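import Mathlib
import Groth.Prelude.Def_W4c2invhilbsl2HJ

set_option autoImplicit false

namespace Groth.Agent.Lib.helper23.Wt

open MvPolynomial W4c2invhilbsl2

universe u

lemma whs_eq_span {σ : Type*} (k : Type*) [CommRing k] {M : Type*} [AddCommMonoid M]
    (w : σ → M) (ν : M) :
    weightedHomogeneousSubmodule k w ν =
      Submodule.span k ((fun d : σ →₀ ℕ => monomial d (1 : k)) '' {d | Finsupp.weight w d = ν}) := by
  rw [weightedHomogeneousSubmodule_eq_finsupp_supported, AddMonoidAlgebra.supported_eq_span_single]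
  rfl

lemma rank_span_le_one {k V : Type*} [Field k] [AddCommGroup V] [Module k V] (S : Set V)
    (h : ∀ v ∈ S, ∀ w ∈ S, ∃ c : k, w = c • v ∨ v = c • w) :
    Module.rank k (Submodule.span k S) ≤ 1 := by
  by_cases h0 : ∀ v ∈ S, v = 0
  · have : Submodule.span k S = ⊥ := by
      rw [Submodule.span_eq_bot]; exact h0
    rw [this]; simp
  · push Not at h0
    obtain ⟨v, hvS, hv0⟩ := h0
    have hle : Submodule.span k S ≤ Submodule.span k {v} := by
      rw [Submodule.span_le]
      intro w hw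
      obtain ⟨c, hc | hc⟩ := h v hvS w hw
      · rw [hc]; exact Submodule.smul_mem _ _ (Submodule.subset_span rfl)
      · have hc0 : c ≠ 0 := by
          rintro rfl; rw [zero_smul] at hc; exact hv0 hc
        have : w = c⁻¹ • v := by rw [hc, smul_smul, inv_mul_cancel₀ hc0, one_smul]
        rw [this]; exact Submodule.smul_mem _ _ (Submodule.subset_span rfl)
    calc Module.rank k (Submodule.span k S) ≤ Module.rank k (Submodule.span k {v}) :=
          Submodule.rank_mono hle
      _ ≤ Cardinal.mk ({v} : Set V) := rank_span_le _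
      _ = 1 := by simp

lemma weight_wt5 (p q m : ℕ) (d : Fin 5 →₀ ℕ) :
    Finsupp.weight (wt5 p q m) d =
      ((d 0 : ℤ) - p * (d 1 + d 2) + q * (d 3 + d 4), ((d 3 : ZMod m) + d 4) - (d 1 + d 2)) := by
  rw [Finsupp.weight_apply, Finsupp.sum_fintype _ _ (by intro i; simp), Fin.sum_univ_five]
  simp only [wt5, Matrix.cons_val_zero, Matrix.cons_val_one, Matrix.cons_val_two,
    Matrix.cons_val_three, Matrix.cons_val_four]
  ext
  · simp; ring
  · simp; ring

lemma weight_wt3 (p q m : ℕ) (d : Fin 3 →₀ ℕ) :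
    Finsupp.weight (wt3 p q m) d =
      ((d 0 : ℤ) - p * d 1 + q * d 2, (d 2 : ZMod m) - d 1) := by
  rw [Finsupp.weight_apply, Finsupp.sum_fintype _ _ (by intro i; simp), Fin.sum_univ_three]
  simp only [wt3, Matrix.cons_val_zero, Matrix.cons_val_one, Matrix.cons_val_two]
  ext
  · simp; ring
  · simp; ring

lemma monomial5_eq (k : Type*) [CommRing k] (d : Fin 5 →₀ ℕ) :
    (monomial d (1 : k)) = X 0 ^ d 0 * X 1 ^ d 1 * X 2 ^ d 2 * X 3 ^ d 3 * X 4 ^ d 4 := by
  rw [monomial_eq, Finsupp.prod_fintype _ _ (by intro i; simp), Fin.prod_univ_five]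
  simp

lemma monomial3_eq (k : Type*) [CommRing k] (d : Fin 3 →₀ ℕ) :
    (monomial d (1 : k)) = X 0 ^ d 0 * X 1 ^ d 1 * X 2 ^ d 2 := by
  rw [monomial_eq, Finsupp.prod_fintype _ _ (by intro i; simp), Fin.prod_univ_three]
  simp


lemma monomial_factor {σ : Type*} (k : Type*) [CommRing k] (d g : σ →₀ ℕ) (hle : g ≤ d) :
    monomial d (1 : k) = monomial (d - g) 1 * monomial g 1 := by
  rw [monomial_mul, one_mul, tsub_add_cancel_of_le hle]

lemma weight_sub {σ M : Type*} [AddCommGroup M] (w : σ → M) (d g : σ →₀ ℕ) (hle : g ≤ d) :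
    Finsupp.weight w (d - g) = Finsupp.weight w d - Finsupp.weight w g := by
  rw [eq_sub_iff_add_eq, ← map_add, tsub_add_cancel_of_le hle]

lemma monomial_mem {σ : Type*} (k : Type*) [CommRing k] {M : Type*} [AddCommMonoid M]
    (w : σ → M) (d : σ →₀ ℕ) (ν : M) (h : Finsupp.weight w d = ν) :
    monomial d (1 : k) ∈ weightedHomogeneousSubmodule k w ν := by
  rw [mem_weightedHomogeneousSubmodule]
  exact isWeightedHomogeneous_monomial w d 1 h

lemma whs_induction {σ : Type*} (k : Type*) [CommRing k] {M : Type*} [AddCommMonoid M]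
    (w : σ → M) (ν : M) (P : MvPolynomial σ k → Prop) (h0 : P 0)
    (hadd : ∀ f g, P f → P g → P (f + g)) (hsmul : ∀ (c : k) f, P f → P (c • f))
    (hmono : ∀ d, Finsupp.weight w d = ν → P (monomial d 1)) :
    ∀ f ∈ weightedHomogeneousSubmodule k w ν, P f := by
  intro f hf
  rw [whs_eq_span] at hf
  induction hf using Submodule.span_induction with
  | mem x hx =>
    obtain ⟨d, hd, rfl⟩ := hx
    exact hmono d hd
  | zero => exact h0
  | add x y _ _ hx hy => exact hadd x y hx hy
  | smul c x _ hx => exact hsmul c x hx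

lemma single_le {σ : Type*} (i : σ) (N : ℕ) (d : σ →₀ ℕ) (h : N ≤ d i) :
    Finsupp.single i N ≤ d := by
  classical
  intro j
  rw [Finsupp.single_apply]
  split_ifs with hij
  · subst hij; exact h
  · exact Nat.zero_le _


lemma factor2 {σ : Type*} (k : Type*) [CommRing k] {M : Type*} [AddCommGroup M]
    (w : σ → M) (d g : σ →₀ ℕ) (hle : g ≤ d) (ν μ : M) (hd : Finsupp.weight w d = ν)
    (hg : Finsupp.weight w g = μ) :
    ∃ r ∈ weightedHomogeneousSubmodule k w (ν - μ), monomial d (1 : k) = r * monomial g 1 :=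
  ⟨monomial (d - g) 1, monomial_mem k w _ _ (by rw [weight_sub w d g hle, hd, hg]),
    monomial_factor k d g hle⟩

lemma factor_X {σ : Type*} [DecidableEq σ] (k : Type*) [CommRing k] {M : Type*} [AddCommGroup M]
    (w : σ → M) (d : σ →₀ ℕ) (i : σ) (hi : 1 ≤ d i) (ν : M) (hd : Finsupp.weight w d = ν) :
    ∃ r ∈ weightedHomogeneousSubmodule k w (ν - w i), monomial d (1 : k) = r * X i := by
  obtain ⟨r, hr, h⟩ := factor2 k w d (Finsupp.single i 1) (single_le i 1 d hi) ν (w i) hd
    (by rw [Finsupp.weight_single, one_smul])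
  exact ⟨r, hr, h⟩

lemma factor_XX {σ : Type*} [DecidableEq σ] (k : Type*) [CommRing k] {M : Type*} [AddCommGroup M]
    (w : σ → M) (d : σ →₀ ℕ) (i j : σ) (hij : i ≠ j) (hi : 1 ≤ d i) (hj : 1 ≤ d j)
    (ν : M) (hd : Finsupp.weight w d = ν) :
    ∃ r ∈ weightedHomogeneousSubmodule k w (ν - (w i + w j)),
      monomial d (1 : k) = r * (X i * X j) := by
  have hle : Finsupp.single i 1 + Finsupp.single j 1 ≤ d := by
    intro l
    rw [Finsupp.add_apply, Finsupp.single_apply, Finsupp.single_apply]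
    by_cases h1 : i = l
    · subst h1; rw [if_pos rfl, if_neg (Ne.symm hij)]; exact hi
    · rw [if_neg h1]
      by_cases h2 : j = l
      · subst h2; rw [if_pos rfl]; exact hj
      · rw [if_neg h2]; exact Nat.zero_le _
  obtain ⟨r, hr, h⟩ := factor2 k w d (Finsupp.single i 1 + Finsupp.single j 1) hle ν (w i + w j) hd
    (by rw [map_add, Finsupp.weight_single, Finsupp.weight_single, one_smul, one_smul])
  refine ⟨r, hr, ?_⟩
  rw [h, monomial_add_single, pow_one]
  rfl

lemma factor_Xpow {σ : Type*} [DecidableEq σ] (k : Type*) [CommRing k] {M : Type*} [AddCommGroup M]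
    (w : σ → M) (d : σ →₀ ℕ) (i : σ) (N : ℕ) (hi : N ≤ d i) (ν : M)
    (hd : Finsupp.weight w d = ν) :
    ∃ r ∈ weightedHomogeneousSubmodule k w (ν - N • w i), monomial d (1 : k) = r * X i ^ N := by
  obtain ⟨r, hr, h⟩ := factor2 k w d (Finsupp.single i N) (single_le i N d hi) ν (N • w i) hd
    (by rw [Finsupp.weight_single])
  exact ⟨r, hr, by rw [h, X_pow_eq_monomial]⟩


lemma factor_XpowXpow {σ : Type*} [DecidableEq σ] (k : Type*) [CommRing k] {M : Type*}
    [AddCommGroup M] (w : σ → M) (d : σ →₀ ℕ) (i j : σ) (hij : i ≠ j) (A B : ℕ)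
    (hi : A ≤ d i) (hj : B ≤ d j) (ν : M) (hd : Finsupp.weight w d = ν) :
    ∃ r ∈ weightedHomogeneousSubmodule k w (ν - (A • w i + B • w j)),
      monomial d (1 : k) = r * (X i ^ A * X j ^ B) := by
  have hle : Finsupp.single i A + Finsupp.single j B ≤ d := by
    intro l
    rw [Finsupp.add_apply, Finsupp.single_apply, Finsupp.single_apply]
    by_cases h1 : i = l
    · subst h1; rw [if_pos rfl, if_neg (Ne.symm hij)]; exact hi
    · rw [if_neg h1]
      by_cases h2 : j = l
      · subst h2; rw [if_pos rfl]; simpa using hj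
      · rw [if_neg h2]; exact Nat.zero_le _
  obtain ⟨r, hr, h⟩ := factor2 k w d (Finsupp.single i A + Finsupp.single j B) hle ν
    (A • w i + B • w j) hd
    (by rw [map_add, Finsupp.weight_single, Finsupp.weight_single])
  refine ⟨r, hr, ?_⟩
  rw [h, monomial_add_single, X_pow_eq_monomial, X_pow_eq_monomial]

end Groth.Agent.Lib.helper23.Wt
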