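import Mathlib
import Groth.Prelude.Def_W4c2invhilbsl2HJ
import Groth.Agent.Lib.helper23.Wt

/-!
Rank ≤ 1 for the weight pieces of `k[X₀,X₁,X₂] / I` for ideals `I` of the shape of `idealL`
(helper23).
-/

set_option autoImplicit false

namespace Groth.Agent.Lib.helper23.IdealL

open MvPolynomial W4c2invhilbsl2

/-- exponent vector -/
noncomputable def mono3 (a b c : ℕ) : Fin 3 →₀ ℕ :=
  Finsupp.single 0 a + Finsupp.single 1 b + Finsupp.single 2 c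

lemma mono3_0 (a b c : ℕ) : mono3 a b c 0 = a := by simp [mono3]
lemma mono3_1 (a b c : ℕ) : mono3 a b c 1 = b := by simp [mono3]
lemma mono3_2 (a b c : ℕ) : mono3 a b c 2 = c := by simp [mono3]

lemma monomial_mono3 (k : Type*) [CommRing k] (a b c : ℕ) :
    monomial (mono3 a b c) (1 : k) = X 0 ^ a * X 1 ^ b * X 2 ^ c := by
  rw [Wt.monomial3_eq, mono3_0, mono3_1, mono3_2]

lemma weight_mono3 (p q m a b c : ℕ) :
    Finsupp.weight (wt3 p q m) (mono3 a b c) =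
      ((a : ℤ) - p * b + q * c, (c : ZMod m) - b) := by
  rw [Wt.weight_wt3, mono3_0, mono3_1, mono3_2]

lemma mem_idealK (k : Type*) [CommRing k] (p q m a b c : ℕ) (hne : a ≠ 0 ∨ b ≠ 0 ∨ c ≠ 0)
    (hw1 : (a : ℤ) - p * b + q * c = 0) (hw2 : (m : ℤ) ∣ (b : ℤ) - c) :
    (X 0 ^ a * X 1 ^ b * X 2 ^ c : MvPolynomial (Fin 3) k) ∈ idealK k p q m := by
  rw [← monomial_mono3]
  apply Ideal.subset_span
  refine ⟨mono3 a b c, ?_, ?_, rfl⟩
  · intro h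
    have h0 := congrArg (fun f => f 0) h
    have h1 := congrArg (fun f => f 1) h
    have h2 := congrArg (fun f => f 2) h
    simp only [mono3_0, mono3_1, mono3_2, Finsupp.coe_zero, Pi.zero_apply] at h0 h1 h2
    omega
  · rw [weight_mono3, hw1]
    have : (((b : ℤ) - c : ℤ) : ZMod m) = 0 := (ZMod.intCast_zmod_eq_zero_iff_dvd _ m).mpr hw2
    push_cast at this
    ext
    · rfl
    · show (c : ZMod m) - b = 0
      linear_combination (-1 : ZMod m) * this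

section main

variable (k : Type*) [Field k] (p q m : ℕ) (s : k) (N0 N E L : ℕ)
  (I : Ideal (MvPolynomial (Fin 3) k))

/-- the key reduction: `X₁^b1 X₂^b2 ≡ λ X₀^a` modulo `I`. -/
theorem S_lemma (hK : idealK k p q m ≤ I)
    (hrel : C s * X 0 ^ N - X 1 ^ E * X 2 ^ L ∈ I)
    (hNpos : 0 < N)
    (hNEL : (N : ℤ) = (q : ℤ) * L - (p : ℤ) * E) (hEL : (m : ℤ) ∣ (E : ℤ) - L)
    (hA : ∀ (b1 b2 : ℕ) (a : ℤ), 0 < a → a < (N0 : ℤ) → a = (q : ℤ) * b2 - (p : ℤ) * b1 →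
      (m : ℤ) ∣ (b1 : ℤ) - b2 → (E : ℤ) ≤ b1 ∧ (L : ℤ) ≤ b2) :
    ∀ a : ℕ, ∀ b1 b2 : ℕ, 0 < a → (a : ℤ) < (N0 : ℤ) → (a : ℤ) = (q : ℤ) * b2 - (p : ℤ) * b1 →
      (m : ℤ) ∣ (b1 : ℤ) - b2 →
      ∃ l : k, (X 1 ^ b1 * X 2 ^ b2 - C l * X 0 ^ a : MvPolynomial (Fin 3) k) ∈ I := by
  intro a
  induction a using Nat.strong_induction_on with
  | _ a ih =>
    intro b1 b2 ha0 ha1 hab hc
    obtain ⟨hE1, hL1⟩ := hA b1 b2 a (by exact_mod_cast ha0) ha1 hab hc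
    have hE2 : E ≤ b1 := by exact_mod_cast hE1
    have hL2 : L ≤ b2 := by exact_mod_cast hL1
    obtain ⟨β1, rfl⟩ := Nat.exists_eq_add_of_le hE2
    obtain ⟨β2, rfl⟩ := Nat.exists_eq_add_of_le hL2
    have hβ : (a : ℤ) - N = (q : ℤ) * β2 - (p : ℤ) * β1 := by
      rw [hab, hNEL]; push_cast; ring
    have hcβ : (m : ℤ) ∣ (β1 : ℤ) - β2 := by
      have : (β1 : ℤ) - β2 = ((E + β1 : ℕ) : ℤ) - ((L + β2 : ℕ) : ℤ) - ((E : ℤ) - L) := by
        push_cast; ring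
      rw [this]
      exact dvd_sub hc hEL
    have hsplit : (X 1 ^ (E + β1) * X 2 ^ (L + β2) : MvPolynomial (Fin 3) k) =
        (X 1 ^ E * X 2 ^ L) * (X 1 ^ β1 * X 2 ^ β2) := by
      rw [pow_add, pow_add]; ring
    rcases lt_trichotomy a N with hlt | heq | hgt
    · -- a < N
      obtain ⟨u, hu⟩ : ∃ u, N = a + u := Nat.exists_eq_add_of_le hlt.le
      have hu0 : u ≠ 0 := by omega
      have hKmem : (X 0 ^ u * X 1 ^ β1 * X 2 ^ β2 : MvPolynomial (Fin 3) k) ∈ I := by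
        apply hK
        apply mem_idealK k p q m u β1 β2 (Or.inl hu0) _ hcβ
        have : (N : ℤ) = a + u := by exact_mod_cast hu
        linarith
      refine ⟨0, ?_⟩
      have : (X 1 ^ (E + β1) * X 2 ^ (L + β2) - C (0 : k) * X 0 ^ a : MvPolynomial (Fin 3) k) =
          -(X 1 ^ β1 * X 2 ^ β2) * (C s * X 0 ^ N - X 1 ^ E * X 2 ^ L) +
            (C s * X 0 ^ a) * (X 0 ^ u * X 1 ^ β1 * X 2 ^ β2) := by
        rw [hsplit, hu, pow_add, C_0]; ring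
      rw [this]
      exact Ideal.add_mem _ (Ideal.mul_mem_left _ _ hrel) (Ideal.mul_mem_left _ _ hKmem)
    · -- a = N
      subst heq
      by_cases hz : β1 = 0 ∧ β2 = 0
      · obtain ⟨rfl, rfl⟩ := hz
        refine ⟨s, ?_⟩
        have : (X 1 ^ (E + 0) * X 2 ^ (L + 0) - C s * X 0 ^ a : MvPolynomial (Fin 3) k) =
            -(C s * X 0 ^ a - X 1 ^ E * X 2 ^ L) := by
          rw [add_zero, add_zero]; ring
        rw [this]
        exact Submodule.neg_mem _ hrel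
      · have hne : (0 : ℕ) ≠ 0 ∨ β1 ≠ 0 ∨ β2 ≠ 0 := by
          right
          by_contra h
          push Not at h
          exact hz h
        have hKmem : (X 0 ^ 0 * X 1 ^ β1 * X 2 ^ β2 : MvPolynomial (Fin 3) k) ∈ I := by
          apply hK
          apply mem_idealK k p q m 0 β1 β2 hne _ hcβ
          push_cast
          linarith
        refine ⟨0, ?_⟩
        have : (X 1 ^ (E + β1) * X 2 ^ (L + β2) - C (0 : k) * X 0 ^ a : MvPolynomial (Fin 3) k) =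
            (X 1 ^ E * X 2 ^ L) * (X 0 ^ 0 * X 1 ^ β1 * X 2 ^ β2) := by
          rw [hsplit, C_0, pow_zero]; ring
        rw [this]
        exact Ideal.mul_mem_left _ _ hKmem
    · -- N < a
      obtain ⟨a', ha'⟩ : ∃ a', a = N + a' := Nat.exists_eq_add_of_le hgt.le
      have ha'0 : 0 < a' := by omega
      have ha'lt : a' < a := by omega
      obtain ⟨l', hl'⟩ := ih a' ha'lt β1 β2 ha'0 (by
          have : (a' : ℤ) < a := by exact_mod_cast ha'lt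
          linarith) (by
          have : (a : ℤ) = N + a' := by exact_mod_cast ha'
          linarith) hcβ
      refine ⟨s * l', ?_⟩
      have : (X 1 ^ (E + β1) * X 2 ^ (L + β2) - C (s * l') * X 0 ^ a : MvPolynomial (Fin 3) k) =
          -(X 1 ^ β1 * X 2 ^ β2) * (C s * X 0 ^ N - X 1 ^ E * X 2 ^ L) +
            (C s * X 0 ^ N) * (X 1 ^ β1 * X 2 ^ β2 - C l' * X 0 ^ a') := by
        rw [hsplit, ha', pow_add, C_mul]; ring
      rw [this]
      exact Ideal.add_mem _ (Ideal.mul_mem_left _ _ hrel) (Ideal.mul_mem_left _ _ hl')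

/-- two monomials of the same weight, one having larger `X₁`- and `X₂`-exponents. -/
theorem pair (hK : idealK k p q m ≤ I) (hX0 : (X 0 ^ N0 : MvPolynomial (Fin 3) k) ∈ I)
    (hrel : C s * X 0 ^ N - X 1 ^ E * X 2 ^ L ∈ I) (hNpos : 0 < N)
    (hNEL : (N : ℤ) = (q : ℤ) * L - (p : ℤ) * E) (hEL : (m : ℤ) ∣ (E : ℤ) - L)
    (hA : ∀ (b1 b2 : ℕ) (a : ℤ), 0 < a → a < (N0 : ℤ) → a = (q : ℤ) * b2 - (p : ℤ) * b1 →
      (m : ℤ) ∣ (b1 : ℤ) - b2 → (E : ℤ) ≤ b1 ∧ (L : ℤ) ≤ b2)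
    (d d' : Fin 3 →₀ ℕ)
    (hw : Finsupp.weight (wt3 p q m) d = Finsupp.weight (wt3 p q m) d')
    (h1 : d' 1 ≤ d 1) (h2 : d' 2 ≤ d 2) :
    ∃ c : k, (monomial d' (1 : k) - c • monomial d (1 : k) ∈ I) ∨
      (monomial d (1 : k) - c • monomial d' (1 : k) ∈ I) := by
  rw [Wt.weight_wt3, Wt.weight_wt3, Prod.mk.injEq] at hw
  obtain ⟨hw1, hw2⟩ := hw
  obtain ⟨δ1, hδ1⟩ := Nat.exists_eq_add_of_le h1
  obtain ⟨δ2, hδ2⟩ := Nat.exists_eq_add_of_le h2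
  have hcδ : (m : ℤ) ∣ (δ1 : ℤ) - δ2 := by
    rw [← ZMod.intCast_zmod_eq_zero_iff_dvd]
    rw [hδ1, hδ2] at hw2
    push_cast at hw2 ⊢
    linear_combination (-1 : ZMod m) * hw2
  rw [hδ1, hδ2] at hw1
  push_cast at hw1
  rcases le_or_gt (d' 0) (d 0) with h0 | h0
  · obtain ⟨δ0, hδ0⟩ := Nat.exists_eq_add_of_le h0
    rw [hδ0] at hw1
    push_cast at hw1
    by_cases hz : δ0 = 0 ∧ δ1 = 0 ∧ δ2 = 0
    · obtain ⟨rfl, rfl, rfl⟩ := hz
      have : d = d' := by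
        ext j
        fin_cases j
        · exact hδ0
        · exact hδ1
        · exact hδ2
      subst this
      exact ⟨1, Or.inl (by rw [one_smul, sub_self]; exact Submodule.zero_mem _)⟩
    · refine ⟨0, Or.inr ?_⟩
      rw [zero_smul, sub_zero, Wt.monomial3_eq, hδ0, hδ1, hδ2]
      have hKmem : (X 0 ^ δ0 * X 1 ^ δ1 * X 2 ^ δ2 : MvPolynomial (Fin 3) k) ∈ I := by
        apply hK
        apply mem_idealK k p q m δ0 δ1 δ2 (by omega) _ hcδ
        linarith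
      have : (X 0 ^ (d' 0 + δ0) * X 1 ^ (d' 1 + δ1) * X 2 ^ (d' 2 + δ2) : MvPolynomial (Fin 3) k) =
          (X 0 ^ d' 0 * X 1 ^ d' 1 * X 2 ^ d' 2) * (X 0 ^ δ0 * X 1 ^ δ1 * X 2 ^ δ2) := by
        rw [pow_add, pow_add, pow_add]; ring
      rw [this]
      exact Ideal.mul_mem_left _ _ hKmem
  · obtain ⟨a, ha⟩ := Nat.exists_eq_add_of_le h0.le
    have ha0 : 0 < a := by omega
    rw [ha] at hw1
    push_cast at hw1
    rcases le_or_gt N0 a with hbig | hsmall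
    · refine ⟨0, Or.inl ?_⟩
      rw [zero_smul, sub_zero, Wt.monomial3_eq, ha]
      apply Ideal.mul_mem_right
      apply Ideal.mul_mem_right
      exact Ideal.pow_mem_of_pow_mem I hX0 (by omega)
    · obtain ⟨l, hl⟩ := S_lemma k p q m s N0 N E L I hK hrel hNpos hNEL hEL hA a δ1 δ2 ha0
        (by exact_mod_cast hsmall) (by linarith) hcδ
      refine ⟨l, Or.inr ?_⟩
      rw [Wt.monomial3_eq, Wt.monomial3_eq, hδ1, hδ2, ha, smul_eq_C_mul]
      have : (X 0 ^ d 0 * X 1 ^ (d' 1 + δ1) * X 2 ^ (d' 2 + δ2) -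
          C l * (X 0 ^ (d 0 + a) * X 1 ^ d' 1 * X 2 ^ d' 2) : MvPolynomial (Fin 3) k) =
          (X 0 ^ d 0 * X 1 ^ d' 1 * X 2 ^ d' 2) * (X 1 ^ δ1 * X 2 ^ δ2 - C l * X 0 ^ a) := by
        rw [pow_add, pow_add, pow_add]; ring
      rw [this]
      exact Ideal.mul_mem_left _ _ hl

theorem rank_le_one (hp : 0 < p) (hq : 0 < q)
    (hK : idealK k p q m ≤ I) (hX0 : (X 0 ^ N0 : MvPolynomial (Fin 3) k) ∈ I)
    (hrel : C s * X 0 ^ N - X 1 ^ E * X 2 ^ L ∈ I) (hNpos : 0 < N)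
    (hNEL : (N : ℤ) = (q : ℤ) * L - (p : ℤ) * E) (hEL : (m : ℤ) ∣ (E : ℤ) - L)
    (hA : ∀ (b1 b2 : ℕ) (a : ℤ), 0 < a → a < (N0 : ℤ) → a = (q : ℤ) * b2 - (p : ℤ) * b1 →
      (m : ℤ) ∣ (b1 : ℤ) - b2 → (E : ℤ) ≤ b1 ∧ (L : ℤ) ≤ b2)
    (hN0 : N0 ≤ p + q) (ν : ℤ × ZMod m) :
    Module.rank k (piece k (wt3 p q m) I ν) ≤ 1 := by
  unfold piece
  rw [Wt.whs_eq_span, Submodule.map_span]
  apply Wt.rank_span_le_one
  rintro _ ⟨_, ⟨d, hd, rfl⟩, rfl⟩ _ ⟨_, ⟨d', hd', rfl⟩, rfl⟩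
  simp only [Set.mem_ofPred_eq] at hd hd'
  have hw : Finsupp.weight (wt3 p q m) d = Finsupp.weight (wt3 p q m) d' := hd.trans hd'.symm
  -- reformulate the goal via ideal membership
  suffices h : ∃ c : k, (monomial d' (1 : k) - c • monomial d (1 : k) ∈ I) ∨
      (monomial d (1 : k) - c • monomial d' (1 : k) ∈ I) by
    obtain ⟨c, hc | hc⟩ := h
    · refine ⟨c, Or.inl ?_⟩
      rw [← LinearMap.map_smul, ← sub_eq_zero, ← LinearMap.map_sub]
      exact Ideal.Quotient.eq_zero_iff_mem.mpr hc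
    · refine ⟨c, Or.inr ?_⟩
      rw [← LinearMap.map_smul, ← sub_eq_zero, ← LinearMap.map_sub]
      exact Ideal.Quotient.eq_zero_iff_mem.mpr hc
  by_cases hA1 : d' 1 ≤ d 1 ∧ d' 2 ≤ d 2
  · exact pair k p q m s N0 N E L I hK hX0 hrel hNpos hNEL hEL hA d d' hw hA1.1 hA1.2
  by_cases hA2 : d 1 ≤ d' 1 ∧ d 2 ≤ d' 2
  · obtain ⟨c, hc | hc⟩ := pair k p q m s N0 N E L I hK hX0 hrel hNpos hNEL hEL hA d' d hw.symm hA2.1 hA2.2
    · exact ⟨c, Or.inr hc⟩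
    · exact ⟨c, Or.inl hc⟩
  have hw' := hw
  rw [Wt.weight_wt3, Wt.weight_wt3, Prod.mk.injEq] at hw'
  obtain ⟨hw1, -⟩ := hw'
  have hp' : (0 : ℤ) < p := by exact_mod_cast hp
  have hq' : (0 : ℤ) < q := by exact_mod_cast hq
  rcases (show (d' 1 < d 1 ∧ d 2 < d' 2) ∨ (d 1 < d' 1 ∧ d' 2 < d 2) by omega) with h | h
  · -- d has a large power of X₀
    refine ⟨0, Or.inr ?_⟩
    rw [zero_smul, sub_zero, Wt.monomial3_eq]
    apply Ideal.mul_mem_right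
    apply Ideal.mul_mem_right
    refine Ideal.pow_mem_of_pow_mem I hX0 ?_
    have e1 : (p : ℤ) * 1 ≤ (p : ℤ) * ((d 1 : ℤ) - d' 1) :=
      mul_le_mul_of_nonneg_left (by have := h.1; omega) hp'.le
    have e2 : (q : ℤ) * 1 ≤ (q : ℤ) * ((d' 2 : ℤ) - d 2) :=
      mul_le_mul_of_nonneg_left (by have := h.2; omega) hq'.le
    have : ((p + q : ℕ) : ℤ) ≤ (d 0 : ℤ) := by
      push_cast
      have : (0 : ℤ) ≤ d' 0 := by positivity
      nlinarith
    have : p + q ≤ d 0 := by exact_mod_cast this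
    omega
  · refine ⟨0, Or.inl ?_⟩
    rw [zero_smul, sub_zero, Wt.monomial3_eq]
    apply Ideal.mul_mem_right
    apply Ideal.mul_mem_right
    refine Ideal.pow_mem_of_pow_mem I hX0 ?_
    have e1 : (p : ℤ) * 1 ≤ (p : ℤ) * ((d' 1 : ℤ) - d 1) :=
      mul_le_mul_of_nonneg_left (by have := h.1; omega) hp'.le
    have e2 : (q : ℤ) * 1 ≤ (q : ℤ) * ((d 2 : ℤ) - d' 2) :=
      mul_le_mul_of_nonneg_left (by have := h.2; omega) hq'.le
    have : ((p + q : ℕ) : ℤ) ≤ (d' 0 : ℤ) := by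
      push_cast
      have : (0 : ℤ) ≤ d 0 := by positivity
      nlinarith
    have : p + q ≤ d' 0 := by exact_mod_cast this
    omega

end main

end Groth.Agent.Lib.helper23.IdealL
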