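import Mathlib
import Groth.Prelude.Def_W4c2invhilbsl2HJ
import Groth.Agent.Lib.helper23.Wt
import Groth.Agent.Lib.helper23.HJ
import Groth.Agent.Lib.helper23.IdealL
import Groth.Agent.S15734

set_option autoImplicit false

namespace Groth.Agent.Lib.helper23.IdealLMain

open MvPolynomial W4c2invhilbsl2

universe u

theorem rank_idealL_le_one (k : Type u) [Field k] (p q m : ℕ) (hp : 0 < p) (hpq : p < q)
    (hcop : Nat.Coprime p q) (hm : 0 < m) (hnt : ¬ (q - p ∣ m)) (c : List ℤ)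
    (hc : IsHJDigits p q m c) (i : ℕ) (hi : 1 ≤ i) (hir : i ≤ c.length) (s : k)
    (ν : ℤ × ZMod m) :
    Module.rank k (piece k (wt3 p q m) (idealL k p q m c i s) ν) ≤ 1 := by
  have h34 := (Groth.Agent.S15734.result p q m hp hpq hcop hm hnt c hc).2
  obtain ⟨hc2, hval⟩ := hc
  obtain ⟨hg, ht, htb, hcopZ, hgb, hn⟩ := HJ.bridgeZ p q m hpq hcop hm hnt
  have hb : 0 < (bB p q m : ℤ) := lt_trans ht htb
  have hval' : HJFrac.hjVal c = (((bB p q m : ℤ)) : ℚ) / (((tT p q m : ℤ)) : ℚ) := by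
    push_cast; exact hval
  obtain ⟨h1, h2, h3, h4, h5, h6⟩ := HJ.bridge p q m hpq hcop hm hnt
  have hd0 : 0 < q - p := by omega
  have hβd : m * p % (q - p) < q - p := Nat.mod_lt _ hd0
  have hgt : (gcdK p q m : ℤ) * tT p q m = (q : ℤ) - p - ((m * p % (q - p) : ℕ) : ℤ) := by
    rw [← Nat.cast_mul, h3, Nat.cast_sub hβd.le, Nat.cast_sub hpq.le]
  have hα : (m : ℤ) * p = ((q : ℤ) - p) * (alpha p q m : ℤ) + ((m * p % (q - p) : ℕ) : ℤ) := by
    have := Nat.div_add_mod (m * p) (q - p)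
    unfold alpha
    rw [← Nat.cast_sub hpq.le]
    exact_mod_cast this.symm
  have hpos := HJ.tS_pos _ _ c hc2 hval' hb
  have hlet := HJ.tS_le_t _ _ c hc2 hval' hb i hi hir
  have hn0 : 0 < nN p q m c i := by rw [hn c i]; exact mul_pos hg (hpos i hir)
  have hnq : nN p q m c i < (q : ℤ) - p := by
    rw [hn c i, ← hgb]
    exact mul_lt_mul_of_pos_left (lt_of_le_of_lt hlet htb) hg
  -- n_{i-1}
  have hn1pos : 0 < nN p q m c (i - 1) := by
    rw [hn c (i - 1)]; exact mul_pos hg (hpos (i - 1) (by omega))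
  have hn1le : nN p q m c (i - 1) ≤ (q : ℤ) - p := by
    rw [hn c (i - 1), ← hgb]
    apply mul_le_mul_of_nonneg_left _ hg.le
    rcases Nat.eq_zero_or_pos (i - 1) with h | h
    · rw [h, HJ.tS_zero]
    · exact le_trans (HJ.tS_le_t _ _ c hc2 hval' hb (i - 1) h (by omega)) htb.le
  have hlpos := HJ.lL_pos p q m c hc2 i (by omega)
  have hPnn := HJ.hjP_nonneg c hc2 i (by omega)
  have heE := HJ.eE_eq p q m c i
  have hepos : 1 ≤ eE p q m c i := by
    rw [heE]
    have : (0 : ℤ) ≤ (m : ℤ) * hjP c i := by positivity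
    linarith
  have hnn := HJ.nN_eq p q m c i
  obtain ⟨N0, hN0⟩ : ∃ N : ℕ, (N : ℤ) = nN p q m c (i - 1) := ⟨_, Int.toNat_of_nonneg hn1pos.le⟩
  obtain ⟨N, hN⟩ : ∃ N : ℕ, (N : ℤ) = nN p q m c i := ⟨_, Int.toNat_of_nonneg hn0.le⟩
  obtain ⟨E, hE⟩ : ∃ E : ℕ, (E : ℤ) = eE p q m c i := ⟨_, Int.toNat_of_nonneg (by linarith)⟩
  obtain ⟨L, hL⟩ : ∃ L : ℕ, (L : ℤ) = lL p q m c i := ⟨_, Int.toNat_of_nonneg (by linarith)⟩
  have hN0' : (nN p q m c (i - 1)).toNat = N0 := by rw [← hN0]; simp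
  have hN' : (nN p q m c i).toNat = N := by rw [← hN]; simp
  have hE' : (eE p q m c i).toNat = E := by rw [← hE]; simp
  have hL' : (lL p q m c i).toNat = L := by rw [← hL]; simp
  have hS : ∀ x : ℤ, 0 < x → x < hjP c i →
      nN p q m c (i - 1) ≤ (gcdK p q m : ℤ) * (((tT p q m : ℤ) * x) % (bB p q m : ℤ)) := by
    intro x hx0 hx
    rcases Nat.lt_or_ge 1 i with h | h
    · have := (h34 i h hir x hx0 hx).1
      rw [hn c (i - 1), Int.mul_ediv_cancel_left _ hg.ne'] at this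
      rw [hn c (i - 1)]
      exact mul_le_mul_of_nonneg_left this hg.le
    · have : i = 1 := by omega
      subst this
      simp [hjP] at hx
      omega
  apply IdealL.rank_le_one k p q m s N0 N E L (idealL k p q m c i s) hp (lt_trans hp hpq)
  · unfold idealL; exact le_sup_right
  · unfold idealL
    apply Ideal.mem_sup_left
    apply Ideal.subset_span
    rw [hN0']; simp
  · unfold idealL
    apply Ideal.mem_sup_left
    apply Ideal.subset_span
    rw [hN', hE', hL']; simp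
  · have : (0 : ℤ) < N := by rw [hN]; exact hn0
    exact_mod_cast this
  · rw [hN, hE, hL, hnn]; ring
  · rw [hE, hL, heE]; exact ⟨hjP c i, by ring⟩
  · intro b1 b2 a ha0 ha1 hab hcd
    rw [hE, hL]
    exact HJ.lemmaA' p q m hp hpq hm c i (gcdK p q m : ℤ) (bB p q m : ℤ) (tT p q m : ℤ) _ hg hgb hgt hα hb
      (nN p q m c (i - 1)) hn1le hnq hS b1 b2 a ha0 (by rw [← hN0]; exact ha1) hab hcd
  · have : (N0 : ℤ) ≤ ((p + q : ℕ) : ℤ) := by
      rw [hN0]; push_cast
      have : (0 : ℤ) ≤ p := by positivity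
      linarith
    exact_mod_cast this

end Groth.Agent.Lib.helper23.IdealLMain
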