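import Mathlib

set_option autoImplicit false
open CategoryTheory CategoryTheory.Limits
universe u

namespace Groth.Agent.Lib.helper23.LanFF

variable {C : Type u} [SmallCategory C] {C' : Type u} [SmallCategory C'] (u : C ⥤ C') [u.Faithful]
  (hu : ∀ X : C, (Over.post (X := X) u).Full)

/-- The condition "f is in the image of u". -/
def InIm (c : C) (g : CostructuredArrow u.op (Opposite.op (u.obj c))) : Prop :=
  ∃ k : c ⟶ g.left.unop, u.map k = g.hom.unop

lemma inIm_of_hom {c : C} {g g' : CostructuredArrow u.op (Opposite.op (u.obj c))} (φ : g ⟶ g')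
    (h : InIm u c g') : InIm u c g := by
  obtain ⟨k, hk⟩ := h
  refine ⟨k ≫ φ.left.unop, ?_⟩
  have := CostructuredArrow.w φ
  rw [u.map_comp, hk]
  have h2 := congrArg Quiver.Hom.unop this
  simpa using h2

include hu in
lemma inIm_of_hom' {c : C} {g g' : CostructuredArrow u.op (Opposite.op (u.obj c))} (φ : g ⟶ g')
    (h : InIm u c g) : InIm u c g' := by
  obtain ⟨k, hk⟩ := h
  have hw := congrArg Quiver.Hom.unop (CostructuredArrow.w φ)
  simp only [Functor.op_obj, Functor.op_map, unop_comp, Quiver.Hom.unop_op] at hw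
  haveI := hu g.left.unop
  let A : Over g.left.unop := Over.mk k
  let B : Over g.left.unop := Over.mk φ.left.unop
  let m : (Over.post u).obj A ⟶ (Over.post u).obj B :=
    Over.homMk g'.hom.unop (by
      change g'.hom.unop ≫ u.map φ.left.unop = u.map k
      rw [hw, hk])
  obtain ⟨p, hp⟩ := (Over.post (X := g.left.unop) u).map_surjective m
  refine ⟨p.left, ?_⟩
  have := congrArg CommaMorphism.left hp
  exact this


open Classical in
/-- The leg of the retraction cocone. -/
noncomputable def leg (H : Cᵒᵖ ⥤ Type u) (c : C)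
    (g : CostructuredArrow u.op (Opposite.op (u.obj c))) :
    H.obj g.left → Option (H.obj (Opposite.op c)) :=
  fun x => if h : InIm u c g then some (H.map h.choose.op x) else none

lemma leg_eq (H : Cᵒᵖ ⥤ Type u) (c : C)
    (g : CostructuredArrow u.op (Opposite.op (u.obj c))) (k : c ⟶ g.left.unop)
    (hk : u.map k = g.hom.unop) (x : H.obj g.left) :
    leg u H c g x = some (H.map k.op x) := by
  have h : InIm u c g := ⟨k, hk⟩
  have : h.choose = k := u.map_injective (h.choose_spec.trans hk.symm)
  simp only [leg, dif_pos h, this]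

lemma leg_eq_none (H : Cᵒᵖ ⥤ Type u) (c : C)
    (g : CostructuredArrow u.op (Opposite.op (u.obj c))) (h : ¬ InIm u c g) (x : H.obj g.left) :
    leg u H c g x = none := by
  simp only [leg, dif_neg h]

lemma leg_eq_some (H : Cᵒᵖ ⥤ Type u) (c : C)
    (g : CostructuredArrow u.op (Opposite.op (u.obj c))) (x : H.obj g.left)
    (y : H.obj (Opposite.op c)) (h : leg u H c g x = some y) :
    ∃ k : c ⟶ g.left.unop, u.map k = g.hom.unop ∧ H.map k.op x = y := by
  by_cases h' : InIm u c g
  · obtain ⟨k, hk⟩ := h'
    rw [leg_eq u H c g k hk] at h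
    exact ⟨k, hk, Option.some_injective _ h⟩
  · rw [leg_eq_none u H c g h'] at h
    exact absurd h (by simp)

include hu in
lemma leg_naturality (H : Cᵒᵖ ⥤ Type u) (c : C)
    {g g' : CostructuredArrow u.op (Opposite.op (u.obj c))} (φ : g ⟶ g') (x : H.obj g.left) :
    leg u H c g' (H.map φ.left x) = leg u H c g x := by
  by_cases h' : InIm u c g'
  · obtain ⟨k, hk⟩ := h'
    have hw := congrArg Quiver.Hom.unop (CostructuredArrow.w φ)
    simp only [Functor.op_obj, Functor.op_map, unop_comp, Quiver.Hom.unop_op] at hw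
    rw [leg_eq u H c g' k hk, leg_eq u H c g (k ≫ φ.left.unop) (by rw [u.map_comp, hk, hw])]
    congr 1
    rw [op_comp, Quiver.Hom.op_unop, H.map_comp]
    rfl
  · rw [leg_eq_none u H c g' h', leg_eq_none u H c g (fun h => h' (inIm_of_hom' u hu φ h))]


/-- The unit as a left extension. -/
noncomputable def E (H : Cᵒᵖ ⥤ Type u) : u.op.LeftExtension H :=
  Functor.LeftExtension.mk _ (u.op.lanUnit.app H)

/-- It is a pointwise left Kan extension. -/
noncomputable def isPW (H : Cᵒᵖ ⥤ Type u) : (E u H).IsPointwiseLeftKanExtension :=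
  Functor.isPointwiseLeftKanExtensionLeftKanExtensionUnit u.op H

/-- The retraction cocone. -/
noncomputable def retrCocone (H : Cᵒᵖ ⥤ Type u) (c : C) :
    Cocone (CostructuredArrow.proj u.op (Opposite.op (u.obj c)) ⋙ H) where
  pt := Option (H.obj (Opposite.op c))
  ι :=
    { app := fun g => ↾(leg u H c g)
      naturality := fun g g' φ => by
        ext x
        exact leg_naturality u hu H c φ x }

/-- The partial retraction of the unit. -/
noncomputable def r (H : Cᵒᵖ ⥤ Type u) (c : C) :
    (u.op.lan.obj H).obj (Opposite.op (u.obj c)) ⟶ Option (H.obj (Opposite.op c)) :=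
  (isPW u H (Opposite.op (u.obj c))).desc (retrCocone u hu H c)

/-- The colimit leg of the Kan extension. -/
noncomputable def inc (H : Cᵒᵖ ⥤ Type u) (c : C)
    (g : CostructuredArrow u.op (Opposite.op (u.obj c))) :
    H.obj g.left ⟶ (u.op.lan.obj H).obj (Opposite.op (u.obj c)) :=
  (u.op.lanUnit.app H).app g.left ≫ (u.op.lan.obj H).map g.hom

lemma inc_r (H : Cᵒᵖ ⥤ Type u) (c : C)
    (g : CostructuredArrow u.op (Opposite.op (u.obj c))) :
    inc u H c g ≫ r u hu H c = ↾(leg u H c g) :=
  (isPW u H (Opposite.op (u.obj c))).fac (retrCocone u hu H c) g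

lemma inc_r_apply (H : Cᵒᵖ ⥤ Type u) (c : C)
    (g : CostructuredArrow u.op (Opposite.op (u.obj c))) (x : H.obj g.left) :
    r u hu H c (inc u H c g x) = leg u H c g x :=
  ConcreteCategory.congr_hom (inc_r u hu H c g) x

lemma inc_jointly_surjective (H : Cᵒᵖ ⥤ Type u) (c : C)
    (z : (u.op.lan.obj H).obj (Opposite.op (u.obj c))) :
    ∃ (g : CostructuredArrow u.op (Opposite.op (u.obj c))) (x : H.obj g.left),
      inc u H c g x = z :=
  Types.jointly_surjective_of_isColimit (isPW u H (Opposite.op (u.obj c))) z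

lemma unit_eq_inc (H : Cᵒᵖ ⥤ Type u) (c : C) :
    (u.op.lanUnit.app H).app (Opposite.op c) =
      inc u H c (CostructuredArrow.mk (𝟙 (u.op.obj (Opposite.op c)))) := by
  simp [inc]

lemma r_unit (H : Cᵒᵖ ⥤ Type u) (c : C) (x : H.obj (Opposite.op c)) :
    r u hu H c ((u.op.lanUnit.app H).app (Opposite.op c) x) = some x := by
  rw [unit_eq_inc, inc_r_apply]
  rw [leg_eq u H c _ (𝟙 c) (by simp)]
  simp

include hu in
lemma unit_injective (H : Cᵒᵖ ⥤ Type u) (c : C) :
    Function.Injective ((u.op.lanUnit.app H).app (Opposite.op c)) := by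
  intro x y h
  have := congrArg (fun t => r u hu H c t) h
  simp only [r_unit] at this
  exact Option.some_injective _ this

lemma lan_map_inc {H K : Cᵒᵖ ⥤ Type u} (α : H ⟶ K) (c : C)
    (g : CostructuredArrow u.op (Opposite.op (u.obj c))) (x : H.obj g.left) :
    (u.op.lan.map α).app _ (inc u H c g x) = inc u K c g (α.app _ x) := by
  have h1 := congr_app (u.op.lanUnit.naturality α) g.left
  have h2 := (u.op.lan.map α).naturality g.hom
  simp only [Functor.id_obj, Functor.id_map, Functor.comp_obj, Functor.comp_map,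
    NatTrans.comp_app] at h1
  have h1' := ConcreteCategory.congr_hom h1 x
  have h2' := ConcreteCategory.congr_hom h2 ((u.op.lanUnit.app H).app g.left x)
  simp only [inc]
  simp only [ConcreteCategory.comp_apply] at h1' h2' ⊢
  rw [h1']
  exact h2'

end Groth.Agent.Lib.helper23.LanFF
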