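import Mathlib
import Groth.Agent.Lib.helper23.LanFF

set_option autoImplicit false
open CategoryTheory CategoryTheory.Limits
universe u

namespace Groth.Agent.Lib.helper23.IndEq

open Groth.Agent.Lib.helper23.LanFF

section A
variable {C : Type u} [SmallCategory C]

lemma isIndObject_iff_isCofiltered (A : Cᵒᵖ ⥤ Type u) :
    IsIndObject A ↔ IsCofiltered A.Elements := by
  rw [Limits.isIndObject_iff]
  have hs : FinallySmall.{u} (CostructuredArrow yoneda A) :=
    FinallySmall.mk' (𝟭 (CostructuredArrow yoneda A))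
  constructor
  · rintro ⟨h, -⟩
    haveI : IsFiltered A.Elementsᵒᵖ :=
      IsFiltered.of_equivalence (CategoryOfElements.costructuredArrowYonedaEquivalence A).symm
    exact isCofiltered_of_isFiltered_op _
  · intro h
    refine ⟨?_, hs⟩
    exact IsFiltered.of_equivalence (CategoryOfElements.costructuredArrowYonedaEquivalence A)

end A

variable {C : Type u} [SmallCategory C] {C' : Type u} [SmallCategory C'] (u : C ⥤ C')

/-- The colimit leg of the Kan extension at a general object. -/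
noncomputable def incG (H : Cᵒᵖ ⥤ Type u) (Y : C'ᵒᵖ) (g : CostructuredArrow u.op Y) :
    H.obj g.left ⟶ (u.op.lan.obj H).obj Y :=
  (u.op.lanUnit.app H).app g.left ≫ (u.op.lan.obj H).map g.hom

lemma incG_jointly_surjective (H : Cᵒᵖ ⥤ Type u) (Y : C'ᵒᵖ)
    (z : (u.op.lan.obj H).obj Y) :
    ∃ (g : CostructuredArrow u.op Y) (x : H.obj g.left), incG u H Y g x = z :=
  Types.jointly_surjective_of_isColimit (isPW u H Y) z

lemma incG_naturality (H : Cᵒᵖ ⥤ Type u) (Y : C'ᵒᵖ) {g g' : CostructuredArrow u.op Y}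
    (φ : g ⟶ g') (x : H.obj g.left) :
    incG u H Y g' (H.map φ.left x) = incG u H Y g x :=
  ConcreteCategory.congr_hom (((E u H).coconeAt Y).w φ) x


/-- The counit of the adjunction at `G'`. -/
noncomputable def eps (G' : C'ᵒᵖ ⥤ Type u) : u.op.lan.obj (u.op ⋙ G') ⟶ G' :=
  (u.op.lanAdjunction (Type u)).counit.app G'

lemma eps_incG (G' : C'ᵒᵖ ⥤ Type u) (Y : C'ᵒᵖ) (g : CostructuredArrow u.op Y)
    (s : (u.op ⋙ G').obj g.left) :
    (eps u G').app Y (incG u (u.op ⋙ G') Y g s) = G'.map g.hom s := by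
  have h1 := (eps u G').naturality g.hom
  have h2 := Functor.lanUnit_app_app_lanAdjunction_counit_app_app u.op G' g.left
  have h1' := ConcreteCategory.congr_hom h1 ((u.op.lanUnit.app (u.op ⋙ G')).app g.left s)
  have h2' := ConcreteCategory.congr_hom h2 s
  simp only [ConcreteCategory.comp_apply] at h1' h2'
  simp only [incG, ConcreteCategory.comp_apply]
  rw [h1']
  congr 1


section B
variable (hr : ∀ X' : C', ∃ (X : C) (i : X' ⟶ u.obj X) (r : u.obj X ⟶ X'), i ≫ r = 𝟙 X')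

include hr in
lemma eps_surjective (G' : C'ᵒᵖ ⥤ Type u) (X' : C') :
    Function.Surjective ((eps u G').app (Opposite.op X')) := by
  intro s'
  obtain ⟨X, i, r, hir⟩ := hr X'
  let g : CostructuredArrow u.op (Opposite.op X') :=
    CostructuredArrow.mk (S := u.op) (Y := Opposite.op X) i.op
  refine ⟨incG u (u.op ⋙ G') _ g (G'.map r.op s'), ?_⟩
  rw [eps_incG]
  change G'.map i.op (G'.map r.op s') = s'
  rw [← FunctorToTypes.map_comp_apply, ← op_comp, hir]
  simp

include hr in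
lemma eps_injective [u.Full] (G' : C'ᵒᵖ ⥤ Type u) [IsCofiltered G'.Elements] (X' : C') :
    Function.Injective ((eps u G').app (Opposite.op X')) := by
  intro z1 z2 h
  obtain ⟨g1, s1, rfl⟩ := incG_jointly_surjective u (u.op ⋙ G') _ z1
  obtain ⟨g2, s2, rfl⟩ := incG_jointly_surjective u (u.op ⋙ G') _ z2
  rw [eps_incG, eps_incG] at h
  -- elements
  let e1 : G'.Elements := ⟨u.op.obj g1.left, s1⟩
  let e2 : G'.Elements := ⟨u.op.obj g2.left, s2⟩
  let e0 : G'.Elements := ⟨Opposite.op X', G'.map g1.hom s1⟩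
  let m1 : e1 ⟶ e0 := ⟨g1.hom, rfl⟩
  let m2 : e2 ⟶ e0 := ⟨g2.hom, h.symm⟩
  let e := IsCofiltered.min e1 e2
  let a1 : e ⟶ e1 := IsCofiltered.minToLeft e1 e2
  let a2 : e ⟶ e2 := IsCofiltered.minToRight e1 e2
  let e' := IsCofiltered.eq (a1 ≫ m1) (a2 ≫ m2)
  let q : e' ⟶ e := IsCofiltered.eqHom (a1 ≫ m1) (a2 ≫ m2)
  have hq : q ≫ a1 ≫ m1 = q ≫ a2 ≫ m2 := IsCofiltered.eq_condition _ _
  obtain ⟨Z, i, r, hir⟩ := hr e'.1.unop
  -- maps
  let c1 : e'.1 ⟶ u.op.obj g1.left := (q ≫ a1).val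
  let c2 : e'.1 ⟶ u.op.obj g2.left := (q ≫ a2).val
  have hc1 : G'.map c1 e'.2 = s1 := (q ≫ a1).property
  have hc2 : G'.map c2 e'.2 = s2 := (q ≫ a2).property
  have hc : c1 ≫ g1.hom = c2 ≫ g2.hom := by
    have := congrArg Subtype.val hq
    simpa [c1, c2, m1, m2] using this
  let b1 : g1.left.unop ⟶ Z := u.preimage (c1.unop ≫ i)
  let b2 : g2.left.unop ⟶ Z := u.preimage (c2.unop ≫ i)
  have hb1 : u.map b1 = c1.unop ≫ i := u.map_preimage _
  have hb2 : u.map b2 = c2.unop ≫ i := u.map_preimage _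
  let g : CostructuredArrow u.op (Opposite.op X') :=
    CostructuredArrow.mk (S := u.op) (Y := Opposite.op Z) ((u.map b1).op ≫ g1.hom)
  let φ1 : g ⟶ g1 := CostructuredArrow.homMk b1.op rfl
  let φ2 : g ⟶ g2 := CostructuredArrow.homMk b2.op (by
    change (u.map b2).op ≫ g2.hom = (u.map b1).op ≫ g1.hom
    rw [hb1, hb2, op_comp, op_comp, Category.assoc, Category.assoc, Quiver.Hom.op_unop,
      Quiver.Hom.op_unop, hc])
  let x : (u.op ⋙ G').obj g.left := G'.map r.op e'.2
  have hx1 : (u.op ⋙ G').map φ1.left x = s1 := by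
    change G'.map (u.map b1).op (G'.map r.op e'.2) = s1
    rw [← FunctorToTypes.map_comp_apply, ← op_comp, hb1, Category.assoc, hir, Category.comp_id,
      Quiver.Hom.op_unop]
    exact hc1
  have hx2 : (u.op ⋙ G').map φ2.left x = s2 := by
    change G'.map (u.map b2).op (G'.map r.op e'.2) = s2
    rw [← FunctorToTypes.map_comp_apply, ← op_comp, hb2, Category.assoc, hir, Category.comp_id,
      Quiver.Hom.op_unop]
    exact hc2
  rw [← hx1, ← hx2, incG_naturality, incG_naturality]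


include hr in
lemma isCofiltered_restr [u.Full] [u.Faithful] (G' : C'ᵒᵖ ⥤ Type u) [IsCofiltered G'.Elements] :
    IsCofiltered (u.op ⋙ G').Elements := by
  -- the map from elements of the restriction to elements of G'
  let toE : (u.op ⋙ G').Elements → G'.Elements := fun p => ⟨u.op.obj p.1, p.2⟩
  -- lifting an element of G' to an element of the restriction
  have lift : ∀ e' : G'.Elements, ∃ (p : (u.op ⋙ G').Elements) (i : e'.1.unop ⟶ u.obj p.1.unop)
      (r : u.obj p.1.unop ⟶ e'.1.unop), i ≫ r = 𝟙 _ ∧ p.2 = G'.map r.op e'.2 := by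
    intro e'
    obtain ⟨Z, i, r, hir⟩ := hr e'.1.unop
    exact ⟨⟨Opposite.op Z, G'.map r.op e'.2⟩, i, r, hir, rfl⟩
  refine { toIsCofilteredOrEmpty := ⟨?_, ?_⟩, nonempty := ?_ }
  · intro p1 p2
    let e := IsCofiltered.min (toE p1) (toE p2)
    let a1 : e ⟶ toE p1 := IsCofiltered.minToLeft _ _
    let a2 : e ⟶ toE p2 := IsCofiltered.minToRight _ _
    obtain ⟨p, i, r, hir, hp⟩ := lift e
    let b1 : p1.1.unop ⟶ p.1.unop := u.preimage (a1.val.unop ≫ i)
    let b2 : p2.1.unop ⟶ p.1.unop := u.preimage (a2.val.unop ≫ i)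
    have hb1 : u.map b1 = a1.val.unop ≫ i := u.map_preimage _
    have hb2 : u.map b2 = a2.val.unop ≫ i := u.map_preimage _
    refine ⟨p, ⟨b1.op, ?_⟩, ⟨b2.op, ?_⟩, trivial⟩
    · change G'.map (u.map b1).op p.2 = p1.2
      rw [hp, ← FunctorToTypes.map_comp_apply, ← op_comp, hb1, Category.assoc, hir,
        Category.comp_id, Quiver.Hom.op_unop]
      exact a1.property
    · change G'.map (u.map b2).op p.2 = p2.2
      rw [hp, ← FunctorToTypes.map_comp_apply, ← op_comp, hb2, Category.assoc, hir,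
        Category.comp_id, Quiver.Hom.op_unop]
      exact a2.property
  · intro p1 p2 f g
    let f' : toE p1 ⟶ toE p2 := ⟨u.op.map f.val, f.property⟩
    let g' : toE p1 ⟶ toE p2 := ⟨u.op.map g.val, g.property⟩
    let e := IsCofiltered.eq f' g'
    let q : e ⟶ toE p1 := IsCofiltered.eqHom f' g'
    have hq : q ≫ f' = q ≫ g' := IsCofiltered.eq_condition _ _
    obtain ⟨p, i, r, hir, hp⟩ := lift e
    let b : p1.1.unop ⟶ p.1.unop := u.preimage (q.val.unop ≫ i)
    have hb : u.map b = q.val.unop ≫ i := u.map_preimage _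
    refine ⟨p, ⟨b.op, ?_⟩, ?_⟩
    · change G'.map (u.map b).op p.2 = p1.2
      rw [hp, ← FunctorToTypes.map_comp_apply, ← op_comp, hb, Category.assoc, hir,
        Category.comp_id, Quiver.Hom.op_unop]
      exact q.property
    · apply Subtype.ext
      change b.op ≫ f.val = b.op ≫ g.val
      apply Quiver.Hom.unop_inj
      apply u.map_injective
      have h1 := congrArg Subtype.val hq
      have h2 : q.val ≫ u.op.map f.val = q.val ≫ u.op.map g.val := h1
      have h3 := congrArg Quiver.Hom.unop h2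
      simp only [unop_comp, Functor.op_map, Quiver.Hom.unop_op] at h3
      simp only [unop_comp, Quiver.Hom.unop_op, Functor.map_comp, hb]
      rw [reassoc_of% h3]
  · obtain ⟨e⟩ := (IsCofiltered.nonempty : Nonempty G'.Elements)
    obtain ⟨p, -⟩ := lift e
    exact ⟨p⟩

end B


/-- `u_!` commutes with the Yoneda embeddings. -/
noncomputable def psi :
    u ⋙ yoneda ≅ yoneda ⋙ (u.op.lan : (Cᵒᵖ ⥤ Type u) ⥤ (C'ᵒᵖ ⥤ Type u)) :=
  Functor.isoWhiskerLeft u (uliftYonedaIsoYoneda.{u}).symm ≪≫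
    Presheaf.compULiftYonedaIsoULiftYonedaCompLan.{u} u ≪≫
    Functor.isoWhiskerRight (uliftYonedaIsoYoneda.{u}) u.op.lan

lemma psi_naturality {X Y : C} (f : X ⟶ Y) :
    yoneda.map (u.map f) ≫ (psi u).hom.app Y =
      (psi u).hom.app X ≫ u.op.lan.map (yoneda.map f) :=
  (psi u).hom.naturality f

section D
variable (hbij : ∀ (F G : Cᵒᵖ ⥤ Type u), IsIndObject F → IsIndObject G →
    Function.Bijective
      (fun φ : F ⟶ G => (u.op.lan : (Cᵒᵖ ⥤ Type u) ⥤ (C'ᵒᵖ ⥤ Type u)).map φ))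

include hbij in
lemma faithful_of : u.Faithful where
  map_injective {X Y} f g h := by
    have : (u.op.lan : (Cᵒᵖ ⥤ Type u) ⥤ (C'ᵒᵖ ⥤ Type u)).map (yoneda.map f) =
        u.op.lan.map (yoneda.map g) := by
      rw [← cancel_epi ((psi u).hom.app X), ← psi_naturality, ← psi_naturality, h]
    have := (hbij _ _ (isIndObject_yoneda X) (isIndObject_yoneda Y)).1 this
    exact yoneda.map_injective this

include hbij in
lemma full_of : u.Full where
  map_surjective {X Y} h := by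
    obtain ⟨θ, hθ⟩ := (hbij _ _ (isIndObject_yoneda X) (isIndObject_yoneda Y)).2
      ((psi u).inv.app X ≫ yoneda.map h ≫ (psi u).hom.app Y)
    obtain ⟨f, rfl⟩ := yoneda.map_surjective θ
    refine ⟨f, ?_⟩
    apply yoneda.map_injective
    rw [← cancel_mono ((psi u).hom.app Y), psi_naturality]
    simp only at hθ
    rw [hθ]
    simp

end D

lemma yoneda_hom_app {A B T : C'} (ρ : yoneda.obj A ⟶ yoneda.obj B) (f : T ⟶ A) :
    ρ.app (Opposite.op T) f = f ≫ ρ.app (Opposite.op A) (𝟙 A) := by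
  have h := ConcreteCategory.congr_hom (ρ.naturality f.op) (𝟙 A)
  simp only [ConcreteCategory.comp_apply] at h
  have h2 : (yoneda.obj A).map f.op (𝟙 A) = f := by simp
  rw [h2] at h
  rw [h]
  simp

lemma retract_of
    (hes : ∀ G' : C'ᵒᵖ ⥤ Type u, IsIndObject G' →
      ∃ F : Cᵒᵖ ⥤ Type u, IsIndObject F ∧
        Nonempty ((u.op.lan : (Cᵒᵖ ⥤ Type u) ⥤ (C'ᵒᵖ ⥤ Type u)).obj F ≅ G'))
    (X' : C') : ∃ (X : C) (i : X' ⟶ u.obj X) (r : u.obj X ⟶ X'), i ≫ r = 𝟙 X' := by
  obtain ⟨F, hF, ⟨e⟩⟩ := hes (yoneda.obj X') (isIndObject_yoneda X')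
  let P := hF.presentation
  haveI : PreservesColimitsOfSize.{u, u} (u.op.lan : (Cᵒᵖ ⥤ Type u) ⥤ (C'ᵒᵖ ⥤ Type u)) :=
    (u.op.lanAdjunction (Type u)).leftAdjoint_preservesColimits
  have hc1 := isColimitOfPreserves (u.op.lan : (Cᵒᵖ ⥤ Type u) ⥤ (C'ᵒᵖ ⥤ Type u))
    P.coconeIsColimit
  have hc2 := isColimitOfPreserves ((evaluation C'ᵒᵖ (Type u)).obj (Opposite.op X')) hc1
  let z : (u.op.lan.obj F).obj (Opposite.op X') := e.inv.app (Opposite.op X') (𝟙 X')
  obtain ⟨i, w, hw⟩ := Types.jointly_surjective_of_isColimit hc2 z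
  let ι0 : X' ⟶ u.obj (P.F.obj i) := ((psi u).inv.app (P.F.obj i)).app (Opposite.op X') w
  let ρ : yoneda.obj (u.obj (P.F.obj i)) ⟶ yoneda.obj X' :=
    (psi u).hom.app (P.F.obj i) ≫ u.op.lan.map (P.cocone.ι.app i) ≫ e.hom
  refine ⟨P.F.obj i, ι0, ρ.app (Opposite.op _) (𝟙 _), ?_⟩
  rw [← yoneda_hom_app]
  have h1 : ((psi u).hom.app (P.F.obj i)).app (Opposite.op X') ι0 = w := by
    have := ConcreteCategory.congr_hom
      (congr_app ((psi u).inv_hom_id_app (P.F.obj i)) (Opposite.op X')) w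
    exact this
  have h2 : (u.op.lan.map (P.cocone.ι.app i)).app (Opposite.op X') w = z := hw
  have h3 : e.hom.app (Opposite.op X') z = 𝟙 X' := by
    have := ConcreteCategory.congr_hom (congr_app e.inv_hom_id (Opposite.op X')) (𝟙 X')
    exact this
  change e.hom.app _ ((u.op.lan.map (P.cocone.ι.app i)).app _
    (((psi u).hom.app (P.F.obj i)).app _ ι0)) = 𝟙 X'
  rw [h1, h2, h3]

end Groth.Agent.Lib.helper23.IndEq
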