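import Mathlib

/-! Subalgebras of a split algebra cut out by idempotent-weighted equalities are étale. -/

set_option autoImplicit false

open TensorProduct

universe u v

namespace Groth.Agent.Lib.helper23.InvEt

section Atoms

variable {T : Type u} [CommRing T] {Λ : Type v} [Fintype Λ] [DecidableEq Λ]
variable (c : Λ → T)

/-- the atom of the Boolean algebra generated by the `c l` attached to a subset -/
def atom (J : Finset Λ) : T := (∏ l ∈ J, c l) * ∏ l ∈ Finset.univ \ J, (1 - c l)

lemma sum_atom : ∑ J : Finset Λ, atom c J = 1 := by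
  have h := Finset.prod_add c (fun l => 1 - c l) (Finset.univ : Finset Λ)
  simp only [add_sub_cancel, Finset.prod_const_one, Finset.powerset_univ] at h
  exact h.symm

variable {c}

lemma atom_mul_of_mem (hc : ∀ l, IsIdempotentElem (c l)) {J : Finset Λ} {l : Λ} (hl : l ∈ J) :
    atom c J * c l = atom c J := by
  unfold atom
  have h1 : (∏ l' ∈ J, c l') * c l = ∏ l' ∈ J, c l' := by
    rw [← Finset.mul_prod_erase J c hl, mul_comm (c l), mul_assoc, (hc l).eq]
  calc (∏ l' ∈ J, c l') * (∏ l' ∈ Finset.univ \ J, (1 - c l')) * c l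
      = ((∏ l' ∈ J, c l') * c l) * ∏ l' ∈ Finset.univ \ J, (1 - c l') := by ring
    _ = _ := by rw [h1]

lemma atom_mul_of_notMem (hc : ∀ l, IsIdempotentElem (c l)) {J : Finset Λ} {l : Λ} (hl : l ∉ J) :
    atom c J * c l = 0 := by
  unfold atom
  have hl' : l ∈ Finset.univ \ J := by simp [hl]
  have h1 : (∏ l' ∈ Finset.univ \ J, (1 - c l')) * c l = 0 := by
    rw [← Finset.mul_prod_erase _ _ hl', mul_comm (1 - c l), mul_assoc, sub_mul, one_mul,
      (hc l).eq, sub_self, mul_zero]
  calc (∏ l' ∈ J, c l') * (∏ l' ∈ Finset.univ \ J, (1 - c l')) * c l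
      = (∏ l' ∈ J, c l') * ((∏ l' ∈ Finset.univ \ J, (1 - c l')) * c l) := by ring
    _ = 0 := by rw [h1, mul_zero]

lemma atom_mul_one_sub_of_mem (hc : ∀ l, IsIdempotentElem (c l)) {J : Finset Λ} {l : Λ}
    (hl : l ∈ J) : atom c J * (1 - c l) = 0 := by
  rw [mul_sub, mul_one, atom_mul_of_mem hc hl, sub_self]

lemma atom_mul_one_sub_of_notMem (hc : ∀ l, IsIdempotentElem (c l)) {J : Finset Λ} {l : Λ}
    (hl : l ∉ J) : atom c J * (1 - c l) = atom c J := by
  rw [mul_sub, mul_one, atom_mul_of_notMem hc hl, sub_zero]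

lemma atom_mul_atom_of_ne (hc : ∀ l, IsIdempotentElem (c l)) {J J' : Finset Λ} (h : J ≠ J') :
    atom c J * atom c J' = 0 := by
  have : ∃ l, (l ∈ J ∧ l ∉ J') ∨ (l ∉ J ∧ l ∈ J') := by
    by_contra hcon
    push_neg at hcon
    apply h
    ext l
    constructor
    · intro hl
      exact (hcon l).1 hl
    · intro hl
      by_contra hl'
      exact (hcon l).2 hl' hl
  obtain ⟨l, hl | hl⟩ := this
  · -- l ∈ J, l ∉ J'
    have h1 : atom c J = atom c J * c l := (atom_mul_of_mem hc hl.1).symm
    have h2 : c l * atom c J' = 0 := by rw [mul_comm]; exact atom_mul_of_notMem hc hl.2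
    rw [h1, mul_assoc, h2, mul_zero]
  · have h1 : atom c J' = atom c J' * c l := (atom_mul_of_mem hc hl.2).symm
    have h2 : atom c J * c l = 0 := atom_mul_of_notMem hc hl.1
    rw [h1, mul_comm (atom c J') (c l), ← mul_assoc, h2, zero_mul]

lemma atom_idem (hc : ∀ l, IsIdempotentElem (c l)) (J : Finset Λ) :
    IsIdempotentElem (atom c J) := by
  have h := sum_atom c
  have h2 : atom c J * ∑ J' : Finset Λ, atom c J' = atom c J := by rw [h, mul_one]
  rw [Finset.mul_sum, Finset.sum_eq_single J] at h2
  · exact h2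
  · intro J' _ hne
    exact atom_mul_atom_of_ne hc (Ne.symm hne)
  · intro hJ
    exact absurd (Finset.mem_univ J) hJ

end Atoms

section EqSub

variable {T : Type u} [CommRing T] {n : ℕ} {Λ : Type v}
variable (c : Λ → T) (a b : Λ → Fin n)

/-- the subalgebra of `T^n` cut out by the equalities `s (a l) = s (b l)` on the support of `c l` -/
def eqSub : Subalgebra T (Fin n → T) where
  carrier := {s | ∀ l, (s (a l) - s (b l)) * c l = 0}
  mul_mem' {s t} hs ht l := by
    have h1 := hs l
    have h2 := ht l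
    show (s (a l) * t (a l) - s (b l) * t (b l)) * c l = 0
    linear_combination t (a l) * h1 + s (b l) * h2
  one_mem' l := by
    show ((1 : T) - 1) * c l = 0
    rw [sub_self, zero_mul]
  add_mem' {s t} hs ht l := by
    have h1 := hs l
    have h2 := ht l
    show (s (a l) + t (a l) - (s (b l) + t (b l))) * c l = 0
    linear_combination h1 + h2
  zero_mem' l := by
    show ((0 : T) - 0) * c l = 0
    rw [sub_self, zero_mul]
  algebraMap_mem' r l := by
    show (r - r) * c l = 0
    rw [sub_self, zero_mul]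

lemma mem_eqSub {s : Fin n → T} : s ∈ eqSub c a b ↔ ∀ l, (s (a l) - s (b l)) * c l = 0 := Iff.rfl

variable [Fintype Λ] [DecidableEq Λ]

/-- the relation on indices attached to a subset of the constraints -/
def rel (J : Finset Λ) : Fin n → Fin n → Prop := fun i j => ∃ l ∈ J, a l = i ∧ b l = j

variable {c a b}

lemma sub_mul_atom_of_rel (hc : ∀ l, IsIdempotentElem (c l)) {s : Fin n → T}
    (hs : s ∈ eqSub c a b) (J : Finset Λ) {i j : Fin n} (h : rel a b J i j) :
    (s i - s j) * atom c J = 0 := by
  obtain ⟨l, hl, rfl, rfl⟩ := h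
  have h1 := hs l
  have h2 := atom_mul_of_mem hc hl
  calc (s (a l) - s (b l)) * atom c J = (s (a l) - s (b l)) * (atom c J * c l) := by rw [h2]
    _ = ((s (a l) - s (b l)) * c l) * atom c J := by ring
    _ = 0 := by rw [h1, zero_mul]

lemma mk_eq_of_mul_atom {J : Finset Λ} {x y : T} (h : (x - y) * atom c J = 0) :
    Ideal.Quotient.mk (Ideal.span {1 - atom c J}) x =
      Ideal.Quotient.mk (Ideal.span {1 - atom c J}) y := by
  rw [Ideal.Quotient.eq, Ideal.mem_span_singleton']
  refine ⟨x - y, ?_⟩
  linear_combination (-1 : T) * h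

lemma mul_atom_of_mk_eq (hc : ∀ l, IsIdempotentElem (c l)) {J : Finset Λ} {x y : T}
    (h : Ideal.Quotient.mk (Ideal.span {1 - atom c J}) x =
      Ideal.Quotient.mk (Ideal.span {1 - atom c J}) y) : (x - y) * atom c J = 0 := by
  rw [Ideal.Quotient.eq, Ideal.mem_span_singleton'] at h
  obtain ⟨z, hz⟩ := h
  have := (atom_idem hc J).eq
  rw [← hz]
  linear_combination (-z) * this

variable (c a b)

/-- the comparison map to the product of split algebras over the atoms -/
noncomputable def toProd (hc : ∀ l, IsIdempotentElem (c l)) :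
    eqSub c a b →ₐ[T]
      ((J : Finset Λ) → Quot (rel a b J) → T ⧸ Ideal.span {1 - atom c J}) where
  toFun s J := Quot.lift (fun i => Ideal.Quotient.mk (Ideal.span {1 - atom c J}) (s.1 i))
    (fun i j h => mk_eq_of_mul_atom (sub_mul_atom_of_rel hc s.2 J h))
  map_one' := by
    funext J q
    induction q using Quot.ind
    rfl
  map_mul' s t := by
    funext J q
    induction q using Quot.ind
    rfl
  map_zero' := by
    funext J q
    induction q using Quot.ind
    rfl
  map_add' s t := by
    funext J q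
    induction q using Quot.ind
    rfl
  commutes' r := by
    funext J q
    induction q using Quot.ind
    rfl

lemma toProd_apply (hc : ∀ l, IsIdempotentElem (c l)) (s : eqSub c a b) (J : Finset Λ)
    (i : Fin n) :
    toProd c a b hc s J (Quot.mk _ i) = Ideal.Quotient.mk (Ideal.span {1 - atom c J}) (s.1 i) :=
  rfl

lemma toProd_injective (hc : ∀ l, IsIdempotentElem (c l)) :
    Function.Injective (toProd c a b hc) := by
  rw [injective_iff_map_eq_zero]
  intro s hs
  apply Subtype.ext
  funext i
  show s.1 i = 0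
  have h1 : ∀ J : Finset Λ, s.1 i * atom c J = 0 := by
    intro J
    have h2 : toProd c a b hc s J (Quot.mk _ i) = 0 := by rw [hs]; rfl
    rw [toProd_apply] at h2
    have h3 := mul_atom_of_mk_eq hc (J := J) (x := s.1 i) (y := 0) (by rw [h2, map_zero])
    rw [sub_zero] at h3
    exact h3
  calc s.1 i = s.1 i * ∑ J : Finset Λ, atom c J := by rw [sum_atom, mul_one]
    _ = ∑ J : Finset Λ, s.1 i * atom c J := Finset.mul_sum _ _ _
    _ = 0 := Finset.sum_eq_zero fun J _ => h1 J

lemma toProd_surjective (hc : ∀ l, IsIdempotentElem (c l)) :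
    Function.Surjective (toProd c a b hc) := by
  intro f
  have hlift : ∀ (J : Finset Λ) (i : Fin n), ∃ t : T,
      Ideal.Quotient.mk (Ideal.span {1 - atom c J}) t = f J (Quot.mk _ i) := fun J i =>
    Ideal.Quotient.mk_surjective _
  choose t ht using hlift
  let s : Fin n → T := fun i => ∑ J : Finset Λ, atom c J * t J i
  have hsJ : ∀ (J : Finset Λ) (i : Fin n), (s i - t J i) * atom c J = 0 := by
    intro J i
    show ((∑ J' : Finset Λ, atom c J' * t J' i) - t J i) * atom c J = 0
    rw [sub_mul, Finset.sum_mul, Finset.sum_eq_single J]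
    · have := (atom_idem hc J).eq
      linear_combination t J i * this
    · intro J' _ hne
      rw [mul_assoc, mul_comm (t J' i), ← mul_assoc, atom_mul_atom_of_ne hc hne, zero_mul]
    · intro hJ
      exact absurd (Finset.mem_univ J) hJ
  have hmem : s ∈ eqSub c a b := by
    intro l
    have e1 : (s (a l) - s (b l)) * c l =
        ∑ J : Finset Λ, ((s (a l) - s (b l)) * c l) * atom c J := by
      rw [← Finset.mul_sum, sum_atom, mul_one]
    rw [e1]
    apply Finset.sum_eq_zero
    intro J _
    by_cases hl : l ∈ J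
    · have hr : rel a b J (a l) (b l) := ⟨l, hl, rfl, rfl⟩
      have hq : f J (Quot.mk _ (a l)) = f J (Quot.mk _ (b l)) := by rw [Quot.sound hr]
      rw [← ht, ← ht] at hq
      have h3 := mul_atom_of_mk_eq hc hq
      have h4 := hsJ J (a l)
      have h5 := hsJ J (b l)
      linear_combination c l * h4 - c l * h5 + c l * h3
    · have := atom_mul_of_notMem hc hl
      linear_combination (s (a l) - s (b l)) * this
  refine ⟨⟨s, hmem⟩, ?_⟩
  funext J q
  induction q using Quot.ind with
  | mk i =>
    rw [toProd_apply, ← ht]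
    exact mk_eq_of_mul_atom (hsJ J i)

end EqSub

section Etale

lemma etale_quot_idem {T : Type u} [CommRing T] {e : T} (he : IsIdempotentElem e) :
    Algebra.Etale T (T ⧸ Ideal.span {1 - e}) := by
  haveI : IsLocalization.Away e (T ⧸ Ideal.span {1 - e}) :=
    IsLocalization.away_of_isIdempotentElem he Ideal.mk_ker Ideal.Quotient.mk_surjective
  exact Algebra.Etale.of_isLocalizationAway e

variable {T : Type u} [CommRing T] {n : ℕ} {Λ : Type u} [Finite Λ]
variable (c : Λ → T) (a b : Λ → Fin n)

theorem etale_eqSub (hc : ∀ l, IsIdempotentElem (c l)) : Algebra.Etale T (eqSub c a b) := by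
  classical
  letI : Fintype Λ := Fintype.ofFinite Λ
  haveI : ∀ J : Finset Λ, Algebra.Etale T (T ⧸ Ideal.span {1 - atom c J}) := fun J =>
    etale_quot_idem (atom_idem hc J)
  haveI : ∀ J : Finset Λ, Algebra.Etale T (Quot (rel a b J) → T ⧸ Ideal.span {1 - atom c J}) :=
    fun J => inferInstance
  haveI : Algebra.Etale T
      ((J : Finset Λ) → Quot (rel a b J) → T ⧸ Ideal.span {1 - atom c J}) := inferInstance
  let e : eqSub c a b ≃ₐ[T]
      ((J : Finset Λ) → Quot (rel a b J) → T ⧸ Ideal.span {1 - atom c J}) :=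
    AlgEquiv.ofBijective (toProd c a b hc) ⟨toProd_injective c a b hc, toProd_surjective c a b hc⟩
  exact Algebra.Etale.of_equiv e.symm

end Etale

section Inv

variable {T : Type u} [CommRing T] {n : ℕ}

/-- the matrix of idempotents of an endomorphism of a split algebra -/
def coef (ρ : (Fin n → T) →ₐ[T] (Fin n → T)) (i j : Fin n) : T := ρ (Pi.single i 1) j

lemma coef_idem (ρ : (Fin n → T) →ₐ[T] (Fin n → T)) (i j : Fin n) :
    IsIdempotentElem (coef ρ i j) := by
  have h : (Pi.single i 1 : Fin n → T) * Pi.single i 1 = Pi.single i 1 := by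
    rw [← Pi.single_mul, mul_one]
  have h2 := congrArg (fun s => ρ s j) h
  simp only [map_mul] at h2
  exact h2

lemma coef_mul_of_ne (ρ : (Fin n → T) →ₐ[T] (Fin n → T)) {i i' : Fin n} (h : i ≠ i') (j : Fin n) :
    coef ρ i j * coef ρ i' j = 0 := by
  have h1 : (Pi.single i 1 : Fin n → T) * Pi.single i' 1 = 0 := by
    funext k
    by_cases hk : k = i
    · subst hk
      simp [Pi.single_eq_of_ne h]
    · simp [Pi.single_eq_of_ne hk]
  have h2 := congrArg (fun s => ρ s j) h1
  simp only [map_mul, map_zero] at h2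
  exact h2

lemma sum_coef (ρ : (Fin n → T) →ₐ[T] (Fin n → T)) (j : Fin n) : ∑ i, coef ρ i j = 1 := by
  have h1 : (∑ i, (Pi.single i 1 : Fin n → T)) = 1 := by
    rw [Finset.univ_sum_single]
    rfl
  have h2 := congrArg (fun s => ρ s j) h1
  simp only [map_sum, map_one, Finset.sum_apply] at h2
  exact h2

lemma apply_eq_sum (ρ : (Fin n → T) →ₐ[T] (Fin n → T)) (s : Fin n → T) (j : Fin n) :
    ρ s j = ∑ i, s i * coef ρ i j := by
  have h1 : s = ∑ i, s i • (Pi.single i 1 : Fin n → T) := by
    conv_lhs => rw [← Finset.univ_sum_single s]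
    apply Finset.sum_congr rfl
    intro i _
    rw [← Pi.single_smul, smul_eq_mul, mul_one]
  conv_lhs => rw [h1]
  rw [map_sum, Finset.sum_apply]
  apply Finset.sum_congr rfl
  intro i _
  rw [map_smul]
  rfl

lemma fixed_iff (ρ : (Fin n → T) →ₐ[T] (Fin n → T)) (s : Fin n → T) :
    ρ s = s ↔ ∀ i j, (s i - s j) * coef ρ i j = 0 := by
  constructor
  · intro h i₀ j
    have h1 : s j = ∑ i, s i * coef ρ i j := by
      rw [← apply_eq_sum, h]
    have h2 : s j * coef ρ i₀ j = s i₀ * coef ρ i₀ j := by
      conv_lhs => rw [h1, Finset.sum_mul]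
      rw [Finset.sum_eq_single i₀]
      · rw [mul_assoc, (coef_idem ρ i₀ j).eq]
      · intro i _ hne
        rw [mul_assoc, coef_mul_of_ne ρ hne j, mul_zero]
      · intro hi
        exact absurd (Finset.mem_univ i₀) hi
    rw [sub_mul, h2, sub_self]
  · intro h
    funext j
    rw [apply_eq_sum]
    have h1 : ∀ i, s i * coef ρ i j = s j * coef ρ i j := by
      intro i
      have := h i j
      rw [sub_mul, sub_eq_zero] at this
      exact this
    rw [Finset.sum_congr rfl (fun i _ => h1 i), ← Finset.mul_sum, sum_coef, mul_one]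

variable {G : Type u} [Finite G] (ρ : G → ((Fin n → T) →ₐ[T] (Fin n → T)))

/-- the subalgebra fixed by a family of endomorphisms -/
def fixedSub : Subalgebra T (Fin n → T) where
  carrier := {s | ∀ g, ρ g s = s}
  mul_mem' {s t} hs ht g := by rw [map_mul, hs g, ht g]
  one_mem' g := map_one _
  add_mem' {s t} hs ht g := by rw [map_add, hs g, ht g]
  zero_mem' g := map_zero _
  algebraMap_mem' r g := (ρ g).commutes r

lemma fixedSub_eq :
    fixedSub ρ = eqSub (fun l : G × Fin n × Fin n => coef (ρ l.1) l.2.1 l.2.2)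
      (fun l => l.2.1) (fun l => l.2.2) := by
  ext s
  show (∀ g, ρ g s = s) ↔ ∀ l : G × Fin n × Fin n, (s l.2.1 - s l.2.2) * coef (ρ l.1) l.2.1 l.2.2 = 0
  constructor
  · intro h l
    exact (fixed_iff (ρ l.1) s).1 (h l.1) l.2.1 l.2.2
  · intro h g
    exact (fixed_iff (ρ g) s).2 fun i j => h (g, i, j)

theorem etale_fixedSub : Algebra.Etale T (fixedSub ρ) := by
  rw [fixedSub_eq]
  exact etale_eqSub _ _ _ (fun l => coef_idem (ρ l.1) l.2.1 l.2.2)

end Inv

end Groth.Agent.Lib.helper23.InvEt
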