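import Mathlib
import Groth.Agent.Lib.helper23.InvEtale

/-! Fixed subalgebras commute with flat base change; étaleness of fixed subalgebras of locally
split algebras by faithfully flat descent. -/

set_option autoImplicit false

open TensorProduct

universe u

namespace Groth.Agent.Lib.helper23.InvEt

section FlatEq

variable {R : Type u} [CommRing R] {A : Type u} [CommRing A] [Algebra R A]
variable {G : Type u} (ρ : G → (A →ₐ[R] A))

/-- the subalgebra fixed by a family of endomorphisms -/
def fixedAlg : Subalgebra R A where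
  carrier := {a | ∀ g, ρ g a = a}
  mul_mem' {s t} hs ht g := by rw [map_mul, hs g, ht g]
  one_mem' g := map_one _
  add_mem' {s t} hs ht g := by rw [map_add, hs g, ht g]
  zero_mem' g := map_zero _
  algebraMap_mem' r g := (ρ g).commutes r

lemma mem_fixedAlg {a : A} : a ∈ fixedAlg ρ ↔ ∀ g, ρ g a = a := Iff.rfl

variable (T : Type u) [CommRing T] [Algebra R T]

lemma map_eq_lTensor {A' : Type u} [CommRing A'] [Algebra R A'] (f : A' →ₐ[R] A) (z : T ⊗[R] A') :
    Algebra.TensorProduct.map (AlgHom.id T T) f z = (f.toLinearMap.lTensor T) z := by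
  induction z using TensorProduct.induction_on with
  | zero => rw [map_zero, map_zero]
  | tmul t a => rfl
  | add x y hx hy => rw [map_add, map_add, hx, hy]

variable [Module.Flat R T]

lemma map_val_injective :
    Function.Injective (Algebra.TensorProduct.map (AlgHom.id T T) (fixedAlg ρ).val) := by
  have h := Module.Flat.lTensor_preserves_injective_linearMap (M := T)
    (fixedAlg ρ).val.toLinearMap Subtype.val_injective
  intro z z' hz
  apply h
  rw [← map_eq_lTensor, ← map_eq_lTensor]
  exact hz

variable [Finite G]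

/-- the defect map whose kernel is the fixed subalgebra -/
noncomputable def defect : A →ₗ[R] (G → A) :=
  LinearMap.pi fun g => (ρ g).toLinearMap - LinearMap.id

lemma defect_apply (a : A) (g : G) : defect ρ a g = ρ g a - a := rfl

lemma exact_defect : Function.Exact (fixedAlg ρ).val.toLinearMap (defect ρ) := by
  intro a
  constructor
  · intro h
    refine ⟨⟨a, fun g => ?_⟩, rfl⟩
    have := congrFun h g
    rw [defect_apply] at this
    exact sub_eq_zero.1 this
  · rintro ⟨⟨a', ha'⟩, rfl⟩
    funext g
    rw [defect_apply]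
    exact sub_eq_zero.2 (ha' g)

open Classical in
lemma lTensor_defect_eq_zero_iff (z : T ⊗[R] A) :
    ((defect ρ).lTensor T) z = 0 ↔
      ∀ g, Algebra.TensorProduct.map (AlgHom.id T T) (ρ g) z = z := by
  letI : Fintype G := Fintype.ofFinite G
  have key : ∀ (z : T ⊗[R] A) (g : G),
      TensorProduct.piRight R R T (fun _ : G => A) (((defect ρ).lTensor T) z) g =
        Algebra.TensorProduct.map (AlgHom.id T T) (ρ g) z - z := by
    intro z g
    induction z using TensorProduct.induction_on with
    | zero => simp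
    | tmul t a =>
        rw [LinearMap.lTensor_tmul, TensorProduct.piRight_apply, TensorProduct.piRightHom_tmul,
          Algebra.TensorProduct.map_tmul]
        show t ⊗ₜ[R] (defect ρ a g) = t ⊗ₜ[R] (ρ g a) - t ⊗ₜ[R] a
        rw [defect_apply, TensorProduct.tmul_sub]
    | add x y hx hy =>
        rw [map_add, map_add, Pi.add_apply, hx, hy, map_add]
        ring
  constructor
  · intro h g
    have := key z g
    rw [h, map_zero, Pi.zero_apply] at this
    exact (sub_eq_zero.1 this.symm)
  · intro h
    apply (TensorProduct.piRight R R T (fun _ : G => A)).injective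
    rw [map_zero]
    funext g
    rw [key z g, h g, sub_self]
    rfl

lemma mem_range_map_val_iff (z : T ⊗[R] A) :
    z ∈ Set.range (Algebra.TensorProduct.map (AlgHom.id T T) (fixedAlg ρ).val) ↔
      ∀ g, Algebra.TensorProduct.map (AlgHom.id T T) (ρ g) z = z := by
  rw [← lTensor_defect_eq_zero_iff]
  have h := Module.Flat.lTensor_exact T (exact_defect ρ)
  rw [h z]
  constructor
  · rintro ⟨w, rfl⟩
    exact ⟨w, (map_eq_lTensor T _ w).symm⟩
  · rintro ⟨w, rfl⟩
    exact ⟨w, map_eq_lTensor T _ w⟩

end FlatEq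

section Descent

variable {R : Type u} [CommRing R] {A : Type u} [CommRing A] [Algebra R A]
variable {G : Type u} [Finite G] (ρ : G → (A →ₐ[R] A))
variable (T : Type u) [CommRing T] [Algebra R T]

/-- the family of endomorphisms of the split algebra transported along a splitting -/
noncomputable def transport {n : ℕ} (φ : T ⊗[R] A ≃ₐ[T] (Fin n → T)) (g : G) :
    (Fin n → T) →ₐ[T] (Fin n → T) :=
  (φ : T ⊗[R] A →ₐ[T] (Fin n → T)).comp
    ((Algebra.TensorProduct.map (AlgHom.id T T) (ρ g)).comp
      (φ.symm : (Fin n → T) →ₐ[T] T ⊗[R] A))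

lemma transport_apply {n : ℕ} (φ : T ⊗[R] A ≃ₐ[T] (Fin n → T)) (g : G) (s : Fin n → T) :
    transport ρ T φ g s = φ (Algebra.TensorProduct.map (AlgHom.id T T) (ρ g) (φ.symm s)) := rfl

variable [Module.Flat R T]

/-- the base change of the fixed subalgebra is the fixed subalgebra of the transported family -/
noncomputable def baseChangeFixed {n : ℕ} (φ : T ⊗[R] A ≃ₐ[T] (Fin n → T)) :
    T ⊗[R] (fixedAlg ρ) ≃ₐ[T] fixedSub (transport ρ T φ) := by
  let Ψ : T ⊗[R] (fixedAlg ρ) →ₐ[T] (Fin n → T) :=
    (φ : T ⊗[R] A →ₐ[T] (Fin n → T)).comp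
      (Algebra.TensorProduct.map (AlgHom.id T T) (fixedAlg ρ).val)
  have hmem : ∀ w, Ψ w ∈ fixedSub (transport ρ T φ) := by
    intro w g
    show transport ρ T φ g (Ψ w) = Ψ w
    rw [transport_apply]
    have h1 : φ.symm (Ψ w) = Algebra.TensorProduct.map (AlgHom.id T T) (fixedAlg ρ).val w :=
      φ.symm_apply_apply _
    rw [h1]
    have h2 := (mem_range_map_val_iff ρ T
      (Algebra.TensorProduct.map (AlgHom.id T T) (fixedAlg ρ).val w)).1 ⟨w, rfl⟩ g
    rw [h2]
    rfl
  let Ψ' : T ⊗[R] (fixedAlg ρ) →ₐ[T] fixedSub (transport ρ T φ) := Ψ.codRestrict _ hmem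
  have hinj : Function.Injective Ψ' := by
    intro w w' h
    have h1 : Ψ w = Ψ w' := congrArg Subtype.val h
    exact map_val_injective ρ T (φ.injective h1)
  have hsurj : Function.Surjective Ψ' := by
    rintro ⟨s, hs⟩
    have h1 : ∀ g, Algebra.TensorProduct.map (AlgHom.id T T) (ρ g) (φ.symm s) = φ.symm s := by
      intro g
      have := hs g
      rw [transport_apply] at this
      apply φ.injective
      rw [this, φ.apply_symm_apply]
    obtain ⟨w, hw⟩ := (mem_range_map_val_iff ρ T (φ.symm s)).2 h1
    refine ⟨w, Subtype.ext ?_⟩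
    show φ (Algebra.TensorProduct.map (AlgHom.id T T) (fixedAlg ρ).val w) = s
    rw [hw, φ.apply_symm_apply]
  exact AlgEquiv.ofBijective Ψ' ⟨hinj, hsurj⟩

theorem etale_fixedAlg_of_split [Module.FaithfullyFlat R T] {n : ℕ}
    (φ : T ⊗[R] A ≃ₐ[T] (Fin n → T)) : Algebra.Etale R (fixedAlg ρ) := by
  haveI : Algebra.Etale T (fixedSub (transport ρ T φ)) := etale_fixedSub _
  haveI : Algebra.Etale T (T ⊗[R] (fixedAlg ρ)) :=
    Algebra.Etale.of_equiv (baseChangeFixed ρ T φ).symm
  exact Algebra.Etale.of_etale_tensorProduct_of_faithfullyFlat T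

end Descent

end Groth.Agent.Lib.helper23.InvEt
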