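import Mathlib
import Groth.Agent.Lib.helper23.InvDescent
import Groth.Agent.Lib.helper23.KerIdem

/-! Fixed subalgebras are compatible with flat base change (in the `IsBCRing` formulation). -/

set_option autoImplicit false

open TensorProduct

universe u

namespace Groth.Agent.Lib.helper23.InvEt

open Groth.Agent.Lib.helper23.BCRing Groth.Agent.Lib.helper23.KerIdem

section BC

variable {R R' : Type u} [CommRing R] [CommRing R'] (ρ : R →+* R')
variable {A A' : Type u} [CommRing A] [CommRing A'] [Algebra R A] [Algebra R' A']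
variable (σ : A →+* A') {G : Type u} [Finite G]
variable (r : G → (A →ₐ[R] A)) (r' : G → (A' →ₐ[R'] A'))

/-- the restriction of a compatible map to the fixed subalgebras -/
def fixedMap (hr : ∀ g a, r' g (σ a) = σ (r g a)) : fixedAlg r →+* fixedAlg r' where
  toFun a := ⟨σ a.1, fun g => by rw [hr, a.2 g]⟩
  map_one' := Subtype.ext (map_one σ)
  map_mul' a b := Subtype.ext (map_mul σ a.1 b.1)
  map_zero' := Subtype.ext (map_zero σ)
  map_add' a b := Subtype.ext (map_add σ a.1 b.1)

lemma fixedMap_val (hr : ∀ g a, r' g (σ a) = σ (r g a)) (a : fixedAlg r) :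
    (fixedMap σ r r' hr a).1 = σ a.1 := rfl

theorem isBCRing_fixedMap (hflat : ρ.Flat) (hσ : IsBCRing ρ σ)
    (hr : ∀ g a, r' g (σ a) = σ (r g a)) : IsBCRing ρ (fixedMap σ r r' hr) := by
  letI : Algebra R R' := ρ.toAlgebra
  haveI : Module.Flat R R' := hflat
  obtain ⟨hσ1, hbij⟩ := hσ
  set θ := BCT.desc (ρ := ρ) (algebraMap R' A') σ hσ1 with hθ
  have hσ' : ∀ x, algebraMap R' (fixedAlg r') (ρ x) =
      fixedMap σ r r' hr (algebraMap R (fixedAlg r) x) := by
    intro x
    apply Subtype.ext
    exact hσ1 x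
  refine ⟨hσ', ?_⟩
  set θ' := BCT.desc (ρ := ρ) (algebraMap R' (fixedAlg r')) (fixedMap σ r r' hr) hσ' with hθ'
  let ι : R' ⊗[R] (fixedAlg r) →ₐ[R'] R' ⊗[R] A :=
    Algebra.TensorProduct.map (AlgHom.id R' R') (fixedAlg r).val
  have hcompat : ∀ w : R' ⊗[R] (fixedAlg r), (θ' w).1 = θ (ι w) := by
    intro w
    induction w using TensorProduct.induction_on with
    | zero => rw [map_zero, map_zero, map_zero]; rfl
    | tmul b a =>
        rw [hθ', desc_tmul, Algebra.TensorProduct.map_tmul, hθ, desc_tmul]
        rfl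
    | add x y hx hy =>
        rw [map_add, map_add, map_add, ← hx, ← hy]
        rfl
  have hequiv : ∀ (g : G) (z : R' ⊗[R] A),
      θ (Algebra.TensorProduct.map (AlgHom.id R' R') (r g) z) = r' g (θ z) := by
    intro g z
    induction z using TensorProduct.induction_on with
    | zero => rw [map_zero, map_zero, map_zero]
    | tmul b a =>
        rw [Algebra.TensorProduct.map_tmul, hθ, desc_tmul, desc_tmul, map_mul, (r' g).commutes, hr]
        rfl
    | add x y hx hy => rw [map_add, map_add, map_add, map_add, hx, hy]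
  constructor
  · intro w w' h
    have h1 : θ (ι w) = θ (ι w') := by rw [← hcompat, ← hcompat, h]
    exact map_val_injective r R' (hbij.1 h1)
  · rintro ⟨a', ha'⟩
    obtain ⟨z, hz⟩ := hbij.2 a'
    have hfix : ∀ g, Algebra.TensorProduct.map (AlgHom.id R' R') (r g) z = z := by
      intro g
      apply hbij.1
      rw [hequiv, hz, ha' g]
    obtain ⟨w, hw⟩ := (mem_range_map_val_iff r R' z).2 hfix
    refine ⟨w, Subtype.ext ?_⟩
    rw [hcompat]
    show θ (ι w) = a'
    have : ι w = z := hw
    rw [this, hz]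

end BC

end Groth.Agent.Lib.helper23.InvEt
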