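import Mathlib
import Groth.Prelude.Def_SchFin2
import Groth.Agent.Lib.helper23.FEtSplit
import Groth.Agent.Lib.helper23.InvBC

/-! Étale covers of finite ringed posets: the algebra of invariants of a family of endomorphisms. -/

set_option autoImplicit false

open TensorProduct CategoryTheory

universe u

namespace Groth.Agent.Lib.helper23.FEtLib

open SchFin
open Groth.Agent.Lib.helper23.BCRing Groth.Agent.Lib.helper23.InvEt

variable {X : RSpace.{u}}

section Inv

variable (A : Alg X) {G : Type u} (ρ : G → (A ⟶ A))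

/-- the family of endomorphisms at a point -/
def endoAt (p : X.pt) : G → (A.carrier p →ₐ[X.ring p] A.carrier p) := fun g => (ρ g).app p

lemma endo_res {p q : X.pt} (h : p ≤ q) (g : G) (a : A.carrier p) :
    endoAt A ρ q g (A.res h a) = A.res h (endoAt A ρ p g a) := ((ρ g).compat h a).symm

/-- the algebra of invariants -/
@[reducible] def invAlg : Alg X where
  carrier p := fixedAlg (endoAt A ρ p)
  instRing p := inferInstance
  instAlg p := inferInstance
  res {p q} h := fixedMap (A.res h) (endoAt A ρ p) (endoAt A ρ q) (fun g a => endo_res A ρ h g a)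
  res_algebraMap {p q} h a := Subtype.ext (A.res_algebraMap h a)
  res_self p b := Subtype.ext (A.res_self p b.1)
  res_comp {p q s} h h' b := Subtype.ext (A.res_comp h h' b.1)

/-- the inclusion of the invariants -/
def invIncl : invAlg A ρ ⟶ A where
  app p := (fixedAlg (endoAt A ρ p)).val
  compat _ _ := rfl

lemma invIncl_injective (p : X.pt) : Function.Injective ((invIncl A ρ).app p) :=
  Subtype.val_injective

lemma invIncl_comp (g : G) : invIncl A ρ ≫ ρ g = invIncl A ρ := by
  apply Alg.hom_ext
  intro p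
  apply AlgHom.ext
  intro a
  exact a.2 g

variable {A ρ}

/-- the universal map into the invariants -/
def invLift {T : Alg X} (u : T ⟶ A) (hu : ∀ g, u ≫ ρ g = u) : T ⟶ invAlg A ρ where
  app p := (u.app p).codRestrict (fixedAlg (endoAt A ρ p)) (fun t g => app_congr (hu g) p t)
  compat h t := Subtype.ext (u.compat h t)

lemma invLift_incl {T : Alg X} (u : T ⟶ A) (hu : ∀ g, u ≫ ρ g = u) :
    invLift u hu ≫ invIncl A ρ = u := by
  apply Alg.hom_ext
  intro p
  apply AlgHom.ext
  intro t
  rfl

lemma inv_hom_ext {T : Alg X} {m m' : T ⟶ invAlg A ρ}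
    (h : m ≫ invIncl A ρ = m' ≫ invIncl A ρ) : m = m' := by
  apply Alg.hom_ext
  intro p
  apply AlgHom.ext
  intro t
  apply Subtype.ext
  exact app_congr h p t

variable (A ρ)

lemma invAlg_isEtCover [Finite G] (hX : X.IsFinSp) (hA : A.IsEtCover)
    (hlt : ∀ p : X.pt, ∃ (T : Type u) (_ : CommRing T) (_ : Algebra (X.ring p) T) (n : ℕ),
      Module.FaithfullyFlat (X.ring p) T ∧
      Nonempty (T ⊗[X.ring p] A.carrier p ≃ₐ[T] (Fin n → T))) :
    (invAlg A ρ).IsEtCover := by
  refine ⟨?_, fun p => ⟨?_, ?_⟩⟩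
  · have hA1 := hA.1
    rw [isQcoh_iff] at hA1 ⊢
    intro p q h
    exact isBCRing_fixedMap (X.res h) (A.res h) (endoAt A ρ p) (endoAt A ρ q) (hX.2 p q h)
      (hA1 p q h) (fun g a => endo_res A ρ h g a)
  · haveI := hX.1 p
    haveI := (hA.2 p).1
    haveI : IsNoetherian (X.ring p) (A.carrier p) := isNoetherian_of_isNoetherianRing_of_finite _ _
    exact Module.Finite.of_injective (fixedAlg (endoAt A ρ p)).val.toLinearMap
      Subtype.val_injective
  · obtain ⟨T, _, _, n, hff, ⟨φ⟩⟩ := hlt p
    exact etale_fixedAlg_of_split (endoAt A ρ p) T φ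

end Inv

end Groth.Agent.Lib.helper23.FEtLib
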