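import Mathlib
import Groth.Agent.Lib.helper23.InvDescent

/-! Points of a locally split algebra with the same restriction to the invariants of a finite
group action are conjugate. -/

set_option autoImplicit false

open TensorProduct

universe u

namespace Groth.Agent.Lib.helper23.InvEt

section Split

variable {T : Type u} [CommRing T] {n : ℕ} {K : Type u} [Field K] [Algebra T K]

/-- a point of a split algebra with values in a field is the evaluation at some index -/
lemma exists_index (χ : (Fin n → T) →ₐ[T] K) : ∃ i, χ (Pi.single i 1) = 1 := by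
  by_contra hcon
  push_neg at hcon
  have h0 : ∀ i, χ (Pi.single i 1) = 0 := by
    intro i
    have hid : χ (Pi.single i 1) * χ (Pi.single i 1) = χ (Pi.single i 1) := by
      rw [← map_mul, ← Pi.single_mul, mul_one]
    have : χ (Pi.single i 1) * (χ (Pi.single i 1) - 1) = 0 := by
      rw [mul_sub, hid, mul_one, sub_self]
    rcases mul_eq_zero.1 this with h | h
    · exact h
    · exact absurd (sub_eq_zero.1 h) (hcon i)
  have h1 : (∑ i, (Pi.single i 1 : Fin n → T)) = 1 := by
    rw [Finset.univ_sum_single]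
    rfl
  have h2 : χ 1 = 0 := by
    rw [← h1, map_sum]
    exact Finset.sum_eq_zero fun i _ => h0 i
  rw [map_one] at h2
  exact one_ne_zero h2

lemma eq_of_index {χ χ' : (Fin n → T) →ₐ[T] K} {i : Fin n} (h : χ (Pi.single i 1) = 1)
    (h' : χ' (Pi.single i 1) = 1) : χ = χ' := by
  have key : ∀ (θ : (Fin n → T) →ₐ[T] K), θ (Pi.single i 1) = 1 →
      ∀ s, θ s = algebraMap T K (s i) := by
    intro θ hθ s
    have e1 : s * Pi.single i 1 = s i • (Pi.single i 1 : Fin n → T) := by
      funext k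
      by_cases hk : k = i
      · subst hk
        simp
      · simp [Pi.single_eq_of_ne hk]
    have e2 : θ s = θ (s * Pi.single i 1) := by rw [map_mul, hθ, mul_one]
    rw [e2, e1, map_smul, hθ, Algebra.smul_def, mul_one]
  apply AlgHom.ext
  intro s
  rw [key χ h, key χ' h']

end Split

section SplitOrbit

variable {T : Type u} [CommRing T] {n : ℕ} {K : Type u} [Field K] [Algebra T K]
variable {G : Type u} [Group G] [Finite G]
variable (r : G → ((Fin n → T) →ₐ[T] (Fin n → T)))

open Classical in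
lemma exists_conj_split (hr1 : r 1 = AlgHom.id T (Fin n → T))
    (hrm : ∀ g h, r (g * h) = (r h).comp (r g))
    (Φ Ψ : (Fin n → T) →ₐ[T] K) (h : ∀ s ∈ fixedSub r, Φ s = Ψ s) :
    ∃ g, Φ = Ψ.comp (r g) := by
  letI : Fintype G := Fintype.ofFinite G
  obtain ⟨i, hi⟩ := exists_index Φ
  let N : Fin n → T := ∏ g, r g (1 - Pi.single i 1)
  have hN : N ∈ fixedSub r := by
    intro k
    show r k (∏ g, r g (1 - Pi.single i 1)) = ∏ g, r g (1 - Pi.single i 1)
    rw [map_prod]
    have e1 : ∀ g, r k (r g (1 - Pi.single i 1)) = r (g * k) (1 - Pi.single i 1) := by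
      intro g
      rw [hrm]
      rfl
    rw [Finset.prod_congr rfl (fun g _ => e1 g)]
    exact Fintype.prod_equiv (Equiv.mulRight k) _ _ (fun g => rfl)
  have hΦN : Φ N = 0 := by
    show Φ (∏ g, r g (1 - Pi.single i 1)) = 0
    rw [map_prod]
    apply Finset.prod_eq_zero (Finset.mem_univ (1 : G))
    rw [hr1]
    show Φ (1 - Pi.single i 1) = 0
    rw [map_sub, map_one, hi, sub_self]
  have hΨN : Ψ N = 0 := by rw [← h N hN, hΦN]
  have hΨN' : ∏ g, Ψ (r g (1 - Pi.single i 1)) = 0 := by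
    rw [← map_prod]
    exact hΨN
  rw [Finset.prod_eq_zero_iff] at hΨN'
  obtain ⟨g, -, hg⟩ := hΨN'
  refine ⟨g, ?_⟩
  apply eq_of_index hi
  show Ψ (r g (Pi.single i 1)) = 1
  rw [map_sub, map_sub, map_one, map_one, sub_eq_zero] at hg
  exact hg.symm

end SplitOrbit

section Orb

variable {R : Type u} [CommRing R] {A : Type u} [CommRing A] [Algebra R A]
variable {G : Type u} [Group G] [Finite G] (ρ : G → (A →ₐ[R] A))
variable (T : Type u) [CommRing T] [Algebra R T] [Module.FaithfullyFlat R T]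
variable {Ω : Type u} [Field Ω] [Algebra R Ω]

omit [Group G] [Finite G] in
lemma exists_amalgam (R : Type u) [CommRing R] (T : Type u) [CommRing T] [Algebra R T]
    [Module.FaithfullyFlat R T] (Ω : Type u) [Field Ω] [Algebra R Ω] :
    ∃ (K : Type u) (_ : Field K) (j : Ω →+* K) (τ : T →+* K),
      ∀ x : R, j (algebraMap R Ω x) = τ (algebraMap R T x) := by
  haveI : Nontrivial (Ω ⊗[R] T) := inferInstance
  obtain ⟨M, hM⟩ := Ideal.exists_maximal (Ω ⊗[R] T)
  letI : Field ((Ω ⊗[R] T) ⧸ M) := Ideal.Quotient.field M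
  refine ⟨(Ω ⊗[R] T) ⧸ M, inferInstance, (Ideal.Quotient.mk M).comp
    (Algebra.TensorProduct.includeLeftRingHom : Ω →+* Ω ⊗[R] T), (Ideal.Quotient.mk M).comp
    (Algebra.TensorProduct.includeRight : T →ₐ[R] Ω ⊗[R] T).toRingHom, ?_⟩
  intro x
  show Ideal.Quotient.mk M ((algebraMap R Ω x) ⊗ₜ[R] (1 : T)) =
    Ideal.Quotient.mk M ((1 : Ω) ⊗ₜ[R] (algebraMap R T x))
  congr 1
  rw [Algebra.algebraMap_eq_smul_one, Algebra.algebraMap_eq_smul_one, TensorProduct.smul_tmul]

theorem exists_conj (hρ1 : ρ 1 = AlgHom.id R A) (hρm : ∀ g h, ρ (g * h) = (ρ h).comp (ρ g))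
    {n : ℕ} (φT : T ⊗[R] A ≃ₐ[T] (Fin n → T)) (φ ψ : A →ₐ[R] Ω)
    (h : ∀ a ∈ fixedAlg ρ, φ a = ψ a) : ∃ g, φ = ψ.comp (ρ g) := by
  obtain ⟨K, _, j, τ, hjτ⟩ := exists_amalgam R T Ω
  letI : Algebra T K := τ.toAlgebra
  letI : Algebra R K := (τ.comp (algebraMap R T)).toAlgebra
  haveI : IsScalarTower R T K := IsScalarTower.of_algebraMap_eq fun x => rfl
  let φK : A →ₐ[R] K :=
    { toRingHom := j.comp (φ : A →+* Ω)
      commutes' := fun x => by
        show j (φ (algebraMap R A x)) = τ (algebraMap R T x)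
        rw [φ.commutes, hjτ] }
  let ψK : A →ₐ[R] K :=
    { toRingHom := j.comp (ψ : A →+* Ω)
      commutes' := fun x => by
        show j (ψ (algebraMap R A x)) = τ (algebraMap R T x)
        rw [ψ.commutes, hjτ] }
  let Φ : T ⊗[R] A →ₐ[T] K :=
    Algebra.TensorProduct.lift (Algebra.ofId T K) φK (fun _ _ => Commute.all _ _)
  let Ψ : T ⊗[R] A →ₐ[T] K :=
    Algebra.TensorProduct.lift (Algebra.ofId T K) ψK (fun _ _ => Commute.all _ _)
  have hΦ : ∀ (t : T) (a : A), Φ (t ⊗ₜ[R] a) = τ t * j (φ a) := fun t a => rfl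
  have hΨ : ∀ (t : T) (a : A), Ψ (t ⊗ₜ[R] a) = τ t * j (ψ a) := fun t a => rfl
  let r := transport ρ T φT
  have hr1 : r 1 = AlgHom.id T (Fin n → T) := by
    apply AlgHom.ext
    intro s
    show φT (Algebra.TensorProduct.map (AlgHom.id T T) (ρ 1) (φT.symm s)) = s
    rw [hρ1, Algebra.TensorProduct.map_id]
    exact φT.apply_symm_apply s
  have hrm : ∀ g k, r (g * k) = (r k).comp (r g) := by
    intro g k
    apply AlgHom.ext
    intro s
    show φT (Algebra.TensorProduct.map (AlgHom.id T T) (ρ (g * k)) (φT.symm s)) =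
      φT (Algebra.TensorProduct.map (AlgHom.id T T) (ρ k)
        (φT.symm (φT (Algebra.TensorProduct.map (AlgHom.id T T) (ρ g) (φT.symm s)))))
    rw [φT.symm_apply_apply, hρm]
    congr 1
    generalize φT.symm s = z
    induction z using TensorProduct.induction_on with
    | zero => rw [map_zero, map_zero, map_zero]
    | tmul t a => rfl
    | add x y hx hy => rw [map_add, map_add, map_add, hx, hy]
  have hagree0 : ∀ w : T ⊗[R] (fixedAlg ρ),
      Φ (Algebra.TensorProduct.map (AlgHom.id T T) (fixedAlg ρ).val w) =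
        Ψ (Algebra.TensorProduct.map (AlgHom.id T T) (fixedAlg ρ).val w) := by
    intro w
    induction w using TensorProduct.induction_on with
    | zero => rw [map_zero, map_zero, map_zero]
    | tmul t a =>
        rw [Algebra.TensorProduct.map_tmul]
        show Φ (t ⊗ₜ[R] a.1) = Ψ (t ⊗ₜ[R] a.1)
        rw [hΦ, hΨ, h a.1 a.2]
    | add x y hx hy => rw [map_add, map_add, map_add, hx, hy]
  have hagree : ∀ s ∈ fixedSub r,
      (Φ.comp (φT.symm : (Fin n → T) →ₐ[T] T ⊗[R] A)) s =
        (Ψ.comp (φT.symm : (Fin n → T) →ₐ[T] T ⊗[R] A)) s := by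
    intro s hs
    have h1 : ∀ g, Algebra.TensorProduct.map (AlgHom.id T T) (ρ g) (φT.symm s) = φT.symm s := by
      intro g
      have := hs g
      rw [transport_apply] at this
      apply φT.injective
      rw [this, φT.apply_symm_apply]
    obtain ⟨w, hw⟩ := (mem_range_map_val_iff ρ T (φT.symm s)).2 h1
    show Φ (φT.symm s) = Ψ (φT.symm s)
    rw [← hw]
    exact hagree0 w
  obtain ⟨g, hg⟩ := exists_conj_split r hr1 hrm _ _ hagree
  refine ⟨g, ?_⟩
  apply AlgHom.ext
  intro a
  have h2 := AlgHom.congr_fun hg (φT ((1 : T) ⊗ₜ[R] a))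
  have h3 : Φ (φT.symm (φT ((1 : T) ⊗ₜ[R] a))) =
      Ψ (φT.symm (r g (φT ((1 : T) ⊗ₜ[R] a)))) := h2
  rw [φT.symm_apply_apply, transport_apply, φT.symm_apply_apply, φT.symm_apply_apply,
    Algebra.TensorProduct.map_tmul, hΦ, hΨ, AlgHom.id_apply, map_one, one_mul, one_mul] at h3
  exact j.injective h3

end Orb

end Groth.Agent.Lib.helper23.InvEt
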