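import Mathlib

/-!
# Right adjoints of exact functors preserve K-injective complexes
-/

universe v v' u u'

open CategoryTheory CategoryTheory.Limits

namespace KInjAdj

variable {A : Type u} [Category.{v} A] [Abelian A] {B : Type u'} [Category.{v'} B] [Abelian B]
  {L : A ⥤ B} {R : B ⥤ A} (adj : L ⊣ R) [L.Additive] [R.Additive]

/-- the adjoint of a morphism of complexes -/
noncomputable def adjHom {K : CochainComplex A ℤ} {I : CochainComplex B ℤ}
    (f : K ⟶ (R.mapHomologicalComplex (ComplexShape.up ℤ)).obj I) :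
    (L.mapHomologicalComplex (ComplexShape.up ℤ)).obj K ⟶ I where
  f n := (adj.homEquiv (K.X n) (I.X n)).symm (f.f n)
  comm' i j _ := by
    have h : (f.f i : K.X i ⟶ R.obj (I.X i)) ≫ R.map (I.d i j) = K.d i j ≫ f.f j := f.comm i j
    show (adj.homEquiv (K.X i) (I.X i)).symm (f.f i) ≫ I.d i j =
      L.map (K.d i j) ≫ (adj.homEquiv (K.X j) (I.X j)).symm (f.f j)
    rw [← Adjunction.homEquiv_naturality_right_symm, ← Adjunction.homEquiv_naturality_left_symm]
    exact congrArg _ h

lemma acyclic_map [PreservesFiniteLimits L] [PreservesFiniteColimits L]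
    {K : CochainComplex A ℤ} (hK : K.Acyclic) :
    ((L.mapHomologicalComplex (ComplexShape.up ℤ)).obj K).Acyclic := by
  intro n
  have h : (K.sc n).Exact := hK n
  exact h.map L

include adj in
theorem isKInjective_map [PreservesFiniteLimits L] [PreservesFiniteColimits L]
    (I : CochainComplex B ℤ) [I.IsKInjective] :
    CochainComplex.IsKInjective ((R.mapHomologicalComplex (ComplexShape.up ℤ)).obj I) := by
  constructor
  intro K f hK
  have h : Homotopy (adjHom adj f) 0 :=
    CochainComplex.IsKInjective.homotopyZero (adjHom adj f) (acyclic_map hK)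
  let hh : ∀ i j : ℤ, (L.obj (K.X i) ⟶ I.X j) := fun i j => h.hom i j
  let ff : ∀ i : ℤ, (K.X i ⟶ R.obj (I.X i)) := fun i => f.f i
  have hzero : ∀ i j : ℤ, ¬ (ComplexShape.up ℤ).Rel j i → hh i j = 0 := fun i j hij => h.zero i j hij
  have hcomm : ∀ i : ℤ, (adj.homEquiv (K.X i) (I.X i)).symm (ff i) =
      L.map (K.d i (i + 1)) ≫ hh (i + 1) i + hh i (i - 1) ≫ I.d (i - 1) i := by
    intro i
    have hc := h.comm i
    rw [dNext_eq _ (show (ComplexShape.up ℤ).Rel i (i + 1) from rfl),
      prevD_eq _ (show (ComplexShape.up ℤ).Rel (i - 1) i by simp)] at hc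
    have hc2 : (show L.obj (K.X i) ⟶ I.X i from (adjHom adj f).f i) =
        (L.map (K.d i (i + 1)) ≫ hh (i + 1) i +
        hh i (i - 1) ≫ I.d (i - 1) i) + (0 : L.obj (K.X i) ⟶ I.X i) := hc
    rw [add_zero] at hc2
    exact hc2
  have hff : ∀ i : ℤ, ff i = K.d i (i + 1) ≫ adj.homEquiv (K.X (i + 1)) (I.X i) (hh (i + 1) i) +
      adj.homEquiv (K.X i) (I.X (i - 1)) (hh i (i - 1)) ≫ R.map (I.d (i - 1) i) := by
    intro i
    have := congrArg (adj.homEquiv (K.X i) (I.X i)) (hcomm i)
    rw [Equiv.apply_symm_apply, adj.homAddEquiv_add, Adjunction.homEquiv_naturality_left,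
      Adjunction.homEquiv_naturality_right] at this
    exact this
  refine ⟨{ hom := fun i j => adj.homEquiv (K.X i) (I.X j) (hh i j)
            zero := fun i j hij => ?_
            comm := fun i => ?_ }⟩
  · show adj.homEquiv (K.X i) (I.X j) (hh i j) = 0
    rw [hzero i j hij, adj.homAddEquiv_zero]
  · rw [dNext_eq _ (show (ComplexShape.up ℤ).Rel i (i + 1) from rfl),
      prevD_eq _ (show (ComplexShape.up ℤ).Rel (i - 1) i by simp)]
    show ff i = (K.d i (i + 1) ≫ adj.homEquiv (K.X (i + 1)) (I.X i) (hh (i + 1) i) +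
      adj.homEquiv (K.X i) (I.X (i - 1)) (hh i (i - 1)) ≫ R.map (I.d (i - 1) i)) +
      (0 : K.X i ⟶ R.obj (I.X i))
    rw [add_zero]
    exact hff i

end KInjAdj
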