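import Mathlib
import Groth.Prelude.Def_DCoh3
import Groth.Agent.Lib.helper23.ConeLift

open AlgebraicGeometry CategoryTheory CategoryTheory.Limits Opposite TopologicalSpace

attribute [local instance] HasDerivedCategory.standard

namespace Groth.Agent.H23.LocRep
universe u

open Scheme.Modules

set_option backward.isDefEq.respectTransparency false in
theorem main0944 {X : Scheme.{u}} {E F : CochainComplex X.Modules ℤ}
    (hE : DCoh.IsStrictlyPerfect E) (α : DCoh.toD X E ⟶ DCoh.toD X F) (x : X) :
    ∃ V : X.Opens, x ∈ V ∧ ∀ [PreservesFiniteLimits (Scheme.Modules.restrictFunctor V.ι)],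
      ∃ β : (DCoh.restrictCx V).obj E ⟶ (DCoh.restrictCx V).obj F,
        (DCoh.restrictD V.ι).map α =
          (Scheme.Modules.restrictFunctor V.ι).mapDerivedCategoryFactors.hom.app E ≫
            DerivedCategory.Q.map β ≫
            (Scheme.Modules.restrictFunctor V.ι).mapDerivedCategoryFactors.inv.app F := by
  obtain ⟨F', g, s, hs, rfl⟩ := DerivedCategory.left_fac α
  have hqis : QuasiIso s := (DerivedCategory.isIso_Q_map_iff_quasiIso _ s).mp hs
  obtain ⟨a', b', hab⟩ := hE.1
  obtain ⟨V, β, hxV, ⟨H⟩⟩ := ConeLift.main0933 g s hE a' (fun j hj => hab j (Or.inl hj))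
    (fun j _ => inferInstance) inferInstance x
  refine ⟨V, hxV, ?_⟩
  intro inst
  refine ⟨β, ?_⟩
  have e1 : DerivedCategory.Q.map β ≫ DerivedCategory.Q.map ((DCoh.restrictCx V).map s) =
      DerivedCategory.Q.map ((DCoh.restrictCx V).map g) := by
    rw [← Functor.map_comp]
    exact DerivedCategory.Q_map_eq_of_homotopy _ H
  have ng := (Scheme.Modules.restrictFunctor V.ι).mapDerivedCategoryFactors_hom_naturality g
  have ns := (Scheme.Modules.restrictFunctor V.ι).mapDerivedCategoryFactors_hom_naturality s
  rw [Functor.map_comp, Functor.map_inv, IsIso.comp_inv_eq,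
    ← cancel_mono ((Scheme.Modules.restrictFunctor V.ι).mapDerivedCategoryFactors.hom.app F')]
  simp only [Category.assoc]
  rw [ns, Iso.inv_hom_id_app_assoc, e1, ng]

end Groth.Agent.H23.LocRep
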