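import Mathlib
import Groth.Prelude.Def_Magnet2

set_option autoImplicit false
open CategoryTheory AlgebraicGeometry Limits MonoidalCategory CartesianMonoidalCategory Opposite

namespace Groth.Agent.H23.MagUnr
universe u

lemma nilp {Z Z₀ : Scheme.{u}} {R R' : CommRingCat.{u}} (i : Z₀ ⟶ Z) (p : Z ⟶ Spec R) (p₀ : Z₀ ⟶ Spec R')
    (φ : R ⟶ R') (sq : IsPullback p₀ i (Spec.map φ) p) [IsAffine Z]
    (hφ : Function.Surjective φ.hom) (hker : RingHom.ker φ.hom ^ 2 = ⊥) :
    IsClosedImmersion i ∧ IsNilpotent i.ker := by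
  have hci : IsClosedImmersion (Spec.map φ) := IsClosedImmersion.spec_of_surjective φ hφ
  have hi : IsClosedImmersion i := MorphismProperty.of_isPullback (P := @IsClosedImmersion) sq hci
  refine ⟨hi, 2, ?_⟩
  let C : CommRingCat := Γ(Z, ⊤)
  let φC : R ⟶ C := (Scheme.ΓSpecIso R).inv ≫ p.appTop
  have hp : Z.isoSpec.hom ≫ Spec.map φC = p := by
    simp only [φC, Spec.map_comp]
    rw [Scheme.isoSpec_hom_naturality_assoc]
    simp
  let J : Ideal C := Ideal.map φC.hom (RingHom.ker φ.hom)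
  have hJ : J ^ 2 = ⊥ := by rw [← Ideal.map_pow, hker, Ideal.map_bot]
  let g : R →+* (C ⧸ J) := (Ideal.Quotient.mk J).comp φC.hom
  have hg : RingHom.ker φ.hom ≤ RingHom.ker g := fun x hx => by
    rw [RingHom.mem_ker]; exact Ideal.Quotient.eq_zero_iff_mem.mpr (Ideal.mem_map_of_mem _ hx)
  let ψ : R' →+* (C ⧸ J) := RingHom.liftOfSurjective φ.hom hφ ⟨g, hg⟩
  have hψ : ψ.comp φ.hom = g := RingHom.liftOfSurjective_comp _ hφ ⟨g, hg⟩
  let ιJ : Spec (.of (C ⧸ J)) ⟶ Z := Spec.map (CommRingCat.ofHom (Ideal.Quotient.mk J)) ≫ Z.isoSpec.inv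
  have hw : Spec.map (CommRingCat.ofHom ψ) ≫ Spec.map φ = ιJ ≫ p := by
    rw [← hp]
    simp only [ιJ, Category.assoc, Iso.inv_hom_id_assoc]
    rw [← Spec.map_comp, ← Spec.map_comp]
    congr 1
    ext x
    exact (congr($hψ x))
  let s := sq.lift (Spec.map (CommRingCat.ofHom ψ)) ιJ hw
  have hs : s ≫ i = ιJ := sq.lift_snd _ _ _
  have hι : ιJ.appTop = CommRingCat.ofHom (Ideal.Quotient.mk J) ≫ (Scheme.ΓSpecIso _).inv := by
    have h0 : Z.isoSpec.inv.appTop = (Scheme.ΓSpecIso C).inv := by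
      have h1 : Z.isoSpec.inv.appTop ≫ Z.isoSpec.hom.appTop = 𝟙 _ := by
        rw [← Scheme.Hom.comp_appTop, Iso.hom_inv_id]; rfl
      rw [Scheme.isoSpec_hom, Scheme.toSpecΓ_appTop] at h1
      rw [← cancel_mono (Scheme.ΓSpecIso C).hom, h1, Iso.inv_hom_id]
    rw [Scheme.Hom.comp_appTop, h0]
    rw [Iso.inv_comp_eq, ← Category.assoc, Iso.eq_comp_inv, Scheme.ΓSpecIso_naturality]
    rfl
  have hle : RingHom.ker i.appTop.hom ≤ J := by
    intro x hx
    rw [RingHom.mem_ker] at hx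
    have h1 : ιJ.appTop.hom x = 0 := by
      rw [← hs, Scheme.Hom.comp_appTop]
      simp only [CommRingCat.hom_comp, RingHom.comp_apply]
      rw [hx, map_zero]
    rw [hι] at h1
    simp only [CommRingCat.hom_comp, RingHom.comp_apply, CommRingCat.hom_ofHom] at h1
    have h2 : (Ideal.Quotient.mk J) x = 0 := by
      have := congrArg (Scheme.ΓSpecIso (CommRingCat.of (C ⧸ J))).hom.hom h1
      simpa using this
    exact Ideal.Quotient.eq_zero_iff_mem.mp h2
  apply Scheme.IdealSheafData.ext_of_isAffine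
  rw [Scheme.IdealSheafData.ideal_pow]
  simp only [Pi.pow_apply]
  rw [Scheme.Hom.ker_apply]
  have : RingHom.ker (i.app (⊤ : Z.Opens)).hom ^ 2 ≤ ⊥ := by
    rw [← hJ]; exact Ideal.pow_right_mono hle 2
  exact le_antisymm this bot_le

lemma isPullback_whisker {S : Scheme.{u}} (B : Over S) {T₀ T : Over S} (t : T₀ ⟶ T) :
    IsPullback (snd B T₀).left (B ◁ t).left t.left (snd B T).left := by
  have h1 : IsPullback (pullback.snd B.hom T₀.hom) (pullback.fst B.hom T₀.hom) T₀.hom B.hom :=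
    (IsPullback.of_hasPullback B.hom T₀.hom).flip
  have h2 : IsPullback (pullback.snd B.hom T.hom) (pullback.fst B.hom T.hom) T.hom B.hom :=
    (IsPullback.of_hasPullback B.hom T.hom).flip
  refine IsPullback.of_bot (v₂₁ := pullback.fst B.hom T.hom) (v₂₂ := T.hom) (h₃₁ := B.hom) ?_ ?_ h2
  · rw [Over.whiskerLeft_left_fst, Over.w t]; exact h1
  · exact (Over.whiskerLeft_left_snd t).symm

lemma key {S : Scheme.{u}} (B X Y : Over S) [IsAffineHom B.hom] (f : X ⟶ Y) [FormallyUnramified f.left]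
    {R R' : CommRingCat.{u}} (φ : R ⟶ R') (hφ : Function.Surjective φ.hom)
    (hker : RingHom.ker φ.hom ^ 2 = ⊥)
    (str : Spec R ⟶ S) (φ₁ φ₂ : B ⊗ Over.mk str ⟶ X)
    (htop : (B ◁ (Over.homMk (Spec.map φ) rfl : Over.mk (Spec.map φ ≫ str) ⟶ Over.mk str)) ≫ φ₁ =
        (B ◁ (Over.homMk (Spec.map φ) rfl : Over.mk (Spec.map φ ≫ str) ⟶ Over.mk str)) ≫ φ₂)
    (hbot : φ₁ ≫ f = φ₂ ≫ f) : φ₁ = φ₂ := by
  let t : Over.mk (Spec.map φ ≫ str) ⟶ Over.mk str := Over.homMk (Spec.map φ) rfl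
  have sq := isPullback_whisker B t
  have : IsAffineHom (snd B (Over.mk str)).left := by
    change IsAffineHom (pullback.snd B.hom str); infer_instance
  have : IsAffine (Over.mk str).left := by change IsAffine (Spec R); infer_instance
  have : IsAffine (B ⊗ Over.mk str).left := isAffine_of_isAffineHom (snd B (Over.mk str)).left
  obtain ⟨hci, hnil⟩ := nilp (B ◁ t).left (snd B (Over.mk str)).left (snd B _).left φ sq hφ hker
  apply Over.OverMorphism.ext
  exact FormallyUnramified.hom_ext (B ◁ t).left hnil f.left (congrArg CommaMorphism.left htop)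
    (congrArg CommaMorphism.left hbot)

instance isAffineHom_AMonS (S : Scheme.{u}) (M : Type) [AddCommMonoid M] :
    IsAffineHom (Magnet.AMonS S M).hom := by
  change IsAffineHom (pullback.snd _ _)
  have : IsAffineHom (Magnet.AMon (ULift.{u, 0} ℤ) M).hom := by
    change IsAffineHom (Spec.map _)
    infer_instance
  exact MorphismProperty.pullback_snd (P := @IsAffineHom) _ _ this

end Groth.Agent.H23.MagUnr
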