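import Mathlib
import Groth.Prelude.Def_Magnet2
import Groth.Agent.Lib.helper23.MagUnr

set_option autoImplicit false
open CategoryTheory AlgebraicGeometry Limits MonoidalCategory CartesianMonoidalCategory Opposite
open scoped TensorProduct

namespace Groth.Agent.H23.MagDom
universe u
open Groth.Agent.H23.MagUnr

/-- tensoring a split injection stays injective -/
lemma tensor_map_injective {R₀ P Q R : Type u} [CommRing R₀] [CommRing P] [CommRing Q] [CommRing R]
    [Algebra R₀ P] [Algebra R₀ Q] [Algebra R₀ R] (ψ : P →ₐ[R₀] Q) (σ : Q →ₗ[R₀] P)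
    (hσ : σ ∘ₗ ψ.toLinearMap = LinearMap.id) :
    Function.Injective (Algebra.TensorProduct.map ψ (AlgHom.id R₀ R)) := by
  have h0 : (LinearMap.rTensor R σ) ∘ₗ (LinearMap.rTensor R ψ.toLinearMap) = LinearMap.id := by
    rw [← LinearMap.rTensor_comp, hσ, LinearMap.rTensor_id]
  have h1 : ∀ x, Algebra.TensorProduct.map ψ (AlgHom.id R₀ R) x =
      LinearMap.rTensor R ψ.toLinearMap x := by
    intro x
    induction x using TensorProduct.induction_on with
    | zero => simp
    | tmul a b => simp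
    | add a b ha hb => rw [map_add, map_add, ha, hb]
  intro x y hxy
  rw [h1, h1] at hxy
  have := congrArg (LinearMap.rTensor R σ) hxy
  have hx := LinearMap.congr_fun h0 x
  have hy := LinearMap.congr_fun h0 y
  simp only [LinearMap.comp_apply, LinearMap.id_apply] at hx hy
  rw [hx, hy] at this
  exact this

/-- `Spec.map` of an injective ring map has trivial kernel. -/
lemma ker_SpecMap_eq_bot {A B : CommRingCat.{u}} (g : A ⟶ B) (hg : Function.Injective g.hom) :
    (Spec.map g).ker = ⊥ := by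
  apply Scheme.IdealSheafData.ext_of_isAffine
  rw [Scheme.Hom.ker_apply]
  simp only [Scheme.IdealSheafData.ideal_bot, Pi.bot_apply]
  rw [← le_bot_iff]
  intro x hx
  rw [RingHom.mem_ker] at hx
  rw [Ideal.mem_bot]
  have h1 : (Spec.map g).appTop = (Scheme.ΓSpecIso A).hom ≫ g ≫ (Scheme.ΓSpecIso B).inv := by
    rw [← Category.assoc, Iso.eq_comp_inv, Scheme.ΓSpecIso_naturality]
  have h2 : ((Scheme.ΓSpecIso A).hom ≫ g ≫ (Scheme.ΓSpecIso B).inv).hom x = 0 := by
    rw [← h1]; exact hx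
  simp only [CommRingCat.hom_comp, RingHom.comp_apply] at h2
  have h3 : g.hom ((Scheme.ΓSpecIso A).hom.hom x) = 0 := by
    have := congrArg (Scheme.ΓSpecIso B).hom.hom h2
    simpa using this
  have h4 : (Scheme.ΓSpecIso A).hom.hom x = 0 := hg (by rw [h3, map_zero])
  have := congrArg (Scheme.ΓSpecIso A).inv.hom h4
  simpa using this

/-- separatedness: maps agreeing after a scheme-theoretically dominant map agree. -/
lemma eq_of_ker_eq_bot {S : Scheme.{u}} {A A' X : Over S} [IsSeparated X.hom] (d : A' ⟶ A)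
    (hd : d.left.ker = ⊥) (φ₁ φ₂ : A ⟶ X) (h : d ≫ φ₁ = d ≫ φ₂) : φ₁ = φ₂ := by
  let e := equalizer.ι φ₁ φ₂
  let l := equalizer.lift d h
  have hl : l ≫ e = d := equalizer.lift_ι _ _
  have hle : e.left.ker ≤ (l.left ≫ e.left).ker := Scheme.Hom.le_ker_comp _ _
  rw [← Over.comp_left, hl, hd, le_bot_iff] at hle
  have : IsIso e.left := IsClosedImmersion.isIso_iff_ker_eq_bot.mpr hle
  apply Over.OverMorphism.ext
  rw [← cancel_epi e.left, ← Over.comp_left, ← Over.comp_left, equalizer.condition]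

/-- triviality of the kernel is local on the target (affine charts). -/
lemma ker_eq_bot_of_cover {X Y : Scheme.{u}} (f : X ⟶ Y) [QuasiCompact f] {ι : Type*}
    (V U : ι → Scheme.{u}) [∀ i, IsAffine (V i)] (iV : ∀ i, V i ⟶ Y) [∀ i, IsOpenImmersion (iV i)]
    (iU : ∀ i, U i ⟶ X) (f' : ∀ i, U i ⟶ V i) (H : ∀ i, IsPullback (f' i) (iU i) (iV i) f)
    (hcov : ∀ y : Y, ∃ i, y ∈ Set.range (iV i).base) (hf' : ∀ i, (f' i).ker = ⊥) : f.ker = ⊥ := by
  refine Scheme.IdealSheafData.ext_of_iSup_eq_top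
    (fun i => ⟨(iV i) ''ᵁ ⊤, (isAffineOpen_top (V i)).image_of_isOpenImmersion (iV i)⟩) ?_ ?_
  · rw [eq_top_iff]
    intro y _
    obtain ⟨i, z, hz⟩ := hcov y
    simp only [TopologicalSpace.Opens.mem_iSup]
    exact ⟨i, z, trivial, hz⟩
  · intro i
    have h1 := Scheme.ker_ideal_of_isPullback_of_isOpenImmersion f (f' i) (iU i) (iV i) (H i)
      ⟨⊤, isAffineOpen_top (V i)⟩
    rw [hf' i] at h1
    simp only [Scheme.IdealSheafData.ideal_bot, Pi.bot_apply] at h1 ⊢
    rw [← le_bot_iff]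
    intro x hx
    have hsurj : Function.Surjective ((iV i).appIso ⊤).inv.hom :=
      (ConcreteCategory.bijective_of_isIso ((iV i).appIso ⊤).inv).2
    obtain ⟨z, rfl⟩ := hsurj x
    have : z ∈ (⊥ : Ideal _) := by
      rw [h1]; exact hx
    rw [Ideal.mem_bot] at this
    rw [this, map_zero]; exact Ideal.zero_mem _

lemma exists_retraction (R : Type u) [CommRing R] (G H : Type) [Monoid G] [Monoid H] (f : G →* H)
    (hf : Function.Injective f) :
    ∃ σ : MonoidAlgebra R H →ₗ[R] MonoidAlgebra R G,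
      σ ∘ₗ (MonoidAlgebra.mapDomainBialgHom R f).toAlgHom.toLinearMap = LinearMap.id := by
  refine ⟨(MonoidAlgebra.coeffLinearEquiv R).symm.toLinearMap ∘ₗ Finsupp.lcomapDomain f hf ∘ₗ
    (MonoidAlgebra.coeffLinearEquiv R).toLinearMap, ?_⟩
  apply LinearMap.ext
  intro x
  simp only [LinearMap.comp_apply, LinearMap.id_apply]
  apply MonoidAlgebra.coeff_injective
  ext a
  change (MonoidAlgebra.mapDomain f x).coeff (f a) = x.coeff a
  rw [MonoidAlgebra.coeff_mapDomain]
  exact Finsupp.mapDomain_apply hf _ _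

section affgen

variable {R₀ P Q R : Type u} [CommRing R₀] [CommRing P] [CommRing Q] [CommRing R]
    [Algebra R₀ P] [Algebra R₀ Q] [Algebra R₀ R]

lemma ker_affgen (ψ : P →ₐ[R₀] Q) (σ : Q →ₗ[R₀] P) (hσ : σ ∘ₗ ψ.toLinearMap = LinearMap.id)
    {XP XQ : Scheme.{u}} (pP : XP ⟶ Spec (CommRingCat.of P)) (tP : XP ⟶ Spec (CommRingCat.of R))
    (pQ : XQ ⟶ Spec (CommRingCat.of Q)) (tQ : XQ ⟶ Spec (CommRingCat.of R))
    (HP : IsPullback pP tP (Spec.map (CommRingCat.ofHom (algebraMap R₀ P)))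
      (Spec.map (CommRingCat.ofHom (algebraMap R₀ R))))
    (HQ : IsPullback pQ tQ (Spec.map (CommRingCat.ofHom (algebraMap R₀ Q)))
      (Spec.map (CommRingCat.ofHom (algebraMap R₀ R))))
    (f' : XQ ⟶ XP) (h1 : f' ≫ pP = pQ ≫ Spec.map (CommRingCat.ofHom ψ.toRingHom))
    (h2 : f' ≫ tP = tQ) : f'.ker = ⊥ := by
  have H2P := isPullback_SpecMap_of_isPushout _ _ _ _ (CommRingCat.isPushout_tensorProduct R₀ P R)
  have H2Q := isPullback_SpecMap_of_isPushout _ _ _ _ (CommRingCat.isPushout_tensorProduct R₀ Q R)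
  let g : CommRingCat.of (P ⊗[R₀] R) ⟶ CommRingCat.of (Q ⊗[R₀] R) :=
    CommRingCat.ofHom (Algebra.TensorProduct.map ψ (AlgHom.id R₀ R)).toRingHom
  have hg : Function.Injective g.hom := tensor_map_injective ψ σ hσ
  let E := HP.isoIsPullback _ _ H2P
  let E' := HQ.isoIsPullback _ _ H2Q
  have key : f' ≫ E.hom = E'.hom ≫ Spec.map g := by
    apply H2P.hom_ext
    · rw [Category.assoc, IsPullback.isoIsPullback_hom_fst, Category.assoc, ← Spec.map_comp, h1]
      have : CommRingCat.ofHom (S := P ⊗[R₀] R) Algebra.TensorProduct.includeLeftRingHom ≫ g =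
          CommRingCat.ofHom ψ.toRingHom ≫
            CommRingCat.ofHom (S := Q ⊗[R₀] R) Algebra.TensorProduct.includeLeftRingHom := by
        ext x
        simp [g]
      rw [this, Spec.map_comp, ← Category.assoc, IsPullback.isoIsPullback_hom_fst]
    · rw [Category.assoc, IsPullback.isoIsPullback_hom_snd, Category.assoc, ← Spec.map_comp, h2]
      have : CommRingCat.ofHom (S := P ⊗[R₀] R) Algebra.TensorProduct.includeRight.toRingHom ≫ g =
            CommRingCat.ofHom (S := Q ⊗[R₀] R) Algebra.TensorProduct.includeRight.toRingHom := by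
        ext x
        simp [g]
      rw [this, IsPullback.isoIsPullback_hom_snd]
  have hf' : f' = E'.hom ≫ Spec.map g ≫ E.inv := by
    rw [← Category.assoc, ← key, Category.assoc, Iso.hom_inv_id, Category.comp_id]
  have : IsSchemeTheoreticallyDominant (Spec.map g) := ⟨ker_SpecMap_eq_bot g hg⟩
  rw [hf']
  exact IsSchemeTheoreticallyDominant.ker_eq_bot _

end affgen

section affine

variable (S : Scheme.{u}) {N N' : Type} [AddCommMonoid N] [AddCommMonoid N'] (ι : N →+ N')

/-- the pullback square presenting `(A(K)_S ⊗ T).left` as `Spec ℤ[K] ×_ℤ T` -/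
lemma isPullback_AMonS (K : Type) [AddCommMonoid K] (T : Over S) :
    IsPullback ((pullback.fst (Magnet.AMonS S K).hom T.hom) ≫
        pullback.fst (Magnet.AMon (ULift.{u} ℤ) K).hom (specULiftZIsTerminal.from S))
      (pullback.snd (Magnet.AMonS S K).hom T.hom)
      (Magnet.AMon (ULift.{u} ℤ) K).hom (T.hom ≫ specULiftZIsTerminal.from S) := by
  have s1 : IsPullback (pullback.snd (Magnet.AMonS S K).hom T.hom)
      (pullback.fst (Magnet.AMonS S K).hom T.hom) T.hom (Magnet.AMonS S K).hom :=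
    (IsPullback.of_hasPullback _ _).flip
  have t1 : IsPullback (pullback.snd (Magnet.AMon (ULift.{u} ℤ) K).hom (specULiftZIsTerminal.from S))
      (pullback.fst (Magnet.AMon (ULift.{u} ℤ) K).hom (specULiftZIsTerminal.from S))
      (specULiftZIsTerminal.from S) (Magnet.AMon (ULift.{u} ℤ) K).hom :=
    (IsPullback.of_hasPullback _ _).flip
  exact (s1.paste_vert t1).flip

lemma ker_affine (hι : Function.Injective ι) (R : CommRingCat.{u}) (w : Spec R ⟶ S) :
    ((Magnet.AMonS.map S ι) ▷ (Over.mk w)).left.ker = ⊥ := by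
  let _ : Algebra (ULift.{u} ℤ) R :=
    ((Int.castRingHom R).comp (ULift.ringEquiv : ULift.{u} ℤ ≃+* ℤ).toRingHom).toAlgebra
  have hχ : w ≫ specULiftZIsTerminal.from S =
      Spec.map (CommRingCat.ofHom (algebraMap (ULift.{u} ℤ) R)) :=
    specULiftZIsTerminal.hom_ext _ _
  obtain ⟨σ, hσ⟩ := exists_retraction (ULift.{u} ℤ) (Multiplicative N) (Multiplicative N')
      (AddMonoidHom.toMultiplicative ι) hι
  have HN := isPullback_AMonS S N (Over.mk w)
  have HN' := isPullback_AMonS S N' (Over.mk w)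
  change IsPullback _ _ _ (w ≫ _) at HN HN'
  rw [hχ] at HN HN'
  refine ker_affgen (R := R) (MonoidAlgebra.mapDomainBialgHom (ULift.{u} ℤ) (AddMonoidHom.toMultiplicative ι)).toAlgHom
    σ hσ _ _ _ _ HN HN' _ ?_ ?_
  · have e1 : (Magnet.AMonS.map S ι).left ≫ pullback.fst (Magnet.AMon (ULift.{u} ℤ) N).hom
        (specULiftZIsTerminal.from S) = pullback.fst (Magnet.AMon (ULift.{u} ℤ) N').hom
        (specULiftZIsTerminal.from S) ≫ (Magnet.AMon.map (ULift.{u} ℤ) ι).left := by
      simp only [Magnet.AMonS.map, Over.pullback_map_left]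
      exact pullback.lift_fst _ _ _
    have e2 := Over.whiskerRight_left_fst (R := Over.mk w) (Magnet.AMonS.map S ι)
    exact ((Category.assoc _ _ _).symm.trans ((congrArg (· ≫ pullback.fst _ _) e2).trans
      ((Category.assoc _ _ _).trans ((congrArg (pullback.fst _ _ ≫ ·) e1).trans
        (Category.assoc _ _ _).symm))))
  · exact Over.whiskerRight_left_snd _

lemma isAffine_tensor (K : Type) [AddCommMonoid K] {T : Over S} [IsAffine T.left] :
    IsAffine (Magnet.AMonS S K ⊗ T).left := by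
  have : IsAffineHom (snd (Magnet.AMonS S K) T).left := by
    change IsAffineHom (pullback.snd (Magnet.AMonS S K).hom T.hom); infer_instance
  exact isAffine_of_isAffineHom (snd (Magnet.AMonS S K) T).left

lemma ker_whisker (hι : Function.Injective ι) (T : Over S) :
    ((Magnet.AMonS.map S ι) ▷ T).left.ker = ⊥ := by
  let 𝒜 := T.left.affineOpenCover
  let Ti : 𝒜.I₀ → Over S := fun i => Over.mk (𝒜.f i ≫ T.hom)
  let j : ∀ i, Ti i ⟶ T := fun i => Over.homMk (𝒜.f i) rfl
  have hsnd : ((Magnet.AMonS.map S ι) ▷ T).left ≫ (snd (Magnet.AMonS S N) T).left =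
      (snd (Magnet.AMonS S N') T).left := Over.whiskerRight_left_snd _
  have hB : IsAffineHom (Magnet.AMonS S N).hom := isAffineHom_AMonS S N
  have hB' : IsAffineHom (Magnet.AMonS S N').hom := isAffineHom_AMonS S N'
  have haff1 : IsAffineHom (snd (Magnet.AMonS S N) T).left := by
    exact MorphismProperty.pullback_snd (P := @IsAffineHom) _ _ hB
  have haff2 : IsAffineHom (((Magnet.AMonS.map S ι) ▷ T).left ≫ (snd (Magnet.AMonS S N) T).left) := by
    rw [hsnd]
    exact MorphismProperty.pullback_snd (P := @IsAffineHom) _ _ hB'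
  have haff : IsAffineHom ((Magnet.AMonS.map S ι) ▷ T).left :=
    IsAffineHom.of_comp _ (snd (Magnet.AMonS S N) T).left
  have hTi : ∀ i, IsAffine (Ti i).left := fun i => by
    change IsAffine (Spec (𝒜.X i)); infer_instance
  have hV : ∀ i, IsAffine (Magnet.AMonS S N ⊗ Ti i).left := fun i => isAffine_tensor S N
  have hOI : ∀ i, IsOpenImmersion (Magnet.AMonS S N ◁ j i).left := fun i =>
    MorphismProperty.of_isPullback (P := @IsOpenImmersion)
      (isPullback_whisker (Magnet.AMonS S N) (j i))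
      (by change IsOpenImmersion (𝒜.f i); infer_instance)
  refine ker_eq_bot_of_cover _ (fun i => (Magnet.AMonS S N ⊗ Ti i).left)
    (fun i => (Magnet.AMonS S N' ⊗ Ti i).left) (fun i => (Magnet.AMonS S N ◁ j i).left)
    (fun i => (Magnet.AMonS S N' ◁ j i).left) (fun i => ((Magnet.AMonS.map S ι) ▷ Ti i).left)
    ?_ ?_ ?_
  · intro i
    have s0 := isPullback_whisker (Magnet.AMonS S N') (j i)
    have t0 := isPullback_whisker (Magnet.AMonS S N) (j i)
    have hs : ((Magnet.AMonS.map S ι) ▷ Ti i).left ≫ (snd (Magnet.AMonS S N) (Ti i)).left =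
        (snd (Magnet.AMonS S N') (Ti i)).left := Over.whiskerRight_left_snd _
    rw [← hs, ← hsnd] at s0
    refine IsPullback.of_right s0 ?_ t0
    rw [← Over.comp_left, ← Over.comp_left, whisker_exchange]
  · intro y
    let t := (snd (Magnet.AMonS S N) T).left.base y
    obtain ⟨z, hz⟩ := 𝒜.covers t
    obtain ⟨p, -, hp⟩ := AlgebraicGeometry.Scheme.exists_preimage_of_isPullback
      (isPullback_whisker (Magnet.AMonS S N) (j (𝒜.idx t))) z y hz
    exact ⟨𝒜.idx t, p, hp⟩
  · intro i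
    exact ker_affine S ι hι (𝒜.X i) (𝒜.f i ≫ T.hom)

end affine

theorem main18284 (S : Scheme.{u}) (M : Type) [AddCommMonoid M]
    (X : Over S) [IsSeparated X.hom] (a : Magnet.MonAct (Magnet.AMonS S M) X) {N N' : AddSubmonoid M}
    (h : N ≤ N') (T : Over S) :
    Function.Injective (fun φ => (Magnet.attrMap a h).app (op T) φ) := by
  intro φ₁ φ₂ hφ
  apply Subtype.ext
  have h1 := congrArg Subtype.val hφ
  simp only [Magnet.attrMap, Magnet.MonAct.eqvHom.precomp_app_coe] at h1
  exact eq_of_ker_eq_bot _ (ker_whisker S (AddSubmonoid.inclusion h)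
    (AddSubmonoid.inclusion_injective h) T) φ₁.1 φ₂.1 h1

open MonObj in
theorem main18285 (S : Scheme.{u}) (M : Type) [AddCommMonoid M]
    (X : Over S) [IsSeparated X.hom] (a : Magnet.MonAct (Magnet.AMonS S M) X) (N : AddSubmonoid M)
    (T : Over S) :
    Function.Injective (fun φ => (Magnet.attrToX a N).app (op T) φ) := by
  intro φ₁ φ₂ hφ
  apply Subtype.ext
  have h0 : lift (toUnit T ≫ η[Magnet.AMonS S N]) (𝟙 T) ≫ φ₁.1 =
      lift (toUnit T ≫ η[Magnet.AMonS S N]) (𝟙 T) ≫ φ₂.1 := hφ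
  have key : ∀ φ : (Magnet.attr a N).obj (op T),
      ((Magnet.AMonS.map S N.subtype) ▷ T) ≫ φ.1 =
        lift (fst (Magnet.AMonS S M) T) (snd (Magnet.AMonS S M) T ≫
          lift (toUnit T ≫ η[Magnet.AMonS S N]) (𝟙 T) ≫ φ.1) ≫ a.act := by
    intro φ
    have hm := (Magnet.MonAct.mem_eqvHom_iff φ.1).mp φ.2 (Magnet.AMonS S M ⊗ T)
      (fst (Magnet.AMonS S M) T) (toUnit _ ≫ η[Magnet.AMonS S N]) (snd (Magnet.AMonS S M) T)
    have h2 : lift (fst (Magnet.AMonS S M) T) (toUnit _ ≫ η[Magnet.AMonS S N]) ≫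
        (Magnet.subAct S M N).act = fst (Magnet.AMonS S M) T ≫ Magnet.AMonS.map S N.subtype := by
      rw [Magnet.subAct, Magnet.MonAct.lift_restrict_act, Magnet.MonAct.lift_regular_act,
        ← Hom.one_def, _root_.mul_one]
    rw [h2] at hm
    have h3 : lift (fst (Magnet.AMonS S M) T ≫ Magnet.AMonS.map S N.subtype)
        (snd (Magnet.AMonS S M) T) = (Magnet.AMonS.map S N.subtype) ▷ T := by
      apply CartesianMonoidalCategory.hom_ext <;> simp
    have h4 : lift (toUnit (Magnet.AMonS S M ⊗ T) ≫ η[Magnet.AMonS S N]) (snd (Magnet.AMonS S M) T) =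
        snd (Magnet.AMonS S M) T ≫ lift (toUnit T ≫ η[Magnet.AMonS S N]) (𝟙 T) := by
      apply CartesianMonoidalCategory.hom_ext <;> simp
    rw [h3, h4, Category.assoc] at hm
    exact hm
  have h5 : ((Magnet.AMonS.map S N.subtype) ▷ T) ≫ φ₁.1 =
      ((Magnet.AMonS.map S N.subtype) ▷ T) ≫ φ₂.1 := by
    rw [key φ₁, key φ₂, h0]
  exact eq_of_ker_eq_bot _ (ker_whisker S N.subtype Subtype.val_injective T) φ₁.1 φ₂.1 h5

end Groth.Agent.H23.MagDom
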