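import Mathlib
import Groth.Prelude.Def_Magnet3
import Groth.Agent.Lib.helper23.MagDom

set_option autoImplicit false
open CategoryTheory AlgebraicGeometry Limits MonoidalCategory CartesianMonoidalCategory Opposite

namespace Groth.Agent.H23.MagCl
universe u
open Groth.Agent.H23.MagDom Magnet

lemma exists_factor {S : Scheme.{u}} {A' P Y Z : Over S} (r : A' ⟶ P) (hr : r.left.ker = ⊥)
    (ψ : P ⟶ Y) (f : Z ⟶ Y) [IsClosedImmersion f.left] (q : A' ⟶ Z) (h : r ≫ ψ = q ≫ f) :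
    ∃ φ : P ⟶ Z, φ ≫ f = ψ := by
  have h' : r.left ≫ ψ.left = q.left ≫ f.left := by
    rw [← Over.comp_left, ← Over.comp_left, h]
  let l := pullback.lift r.left q.left h'
  have hl : l ≫ pullback.fst ψ.left f.left = r.left := pullback.lift_fst _ _ _
  have hle : (pullback.fst ψ.left f.left).ker ≤ (l ≫ pullback.fst ψ.left f.left).ker :=
    Scheme.Hom.le_ker_comp _ _
  rw [hl, hr, le_bot_iff] at hle
  have : IsIso (pullback.fst ψ.left f.left) := IsClosedImmersion.isIso_iff_ker_eq_bot.mpr hle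
  have hφ₀ : (inv (pullback.fst ψ.left f.left) ≫ pullback.snd ψ.left f.left) ≫ f.left = ψ.left := by
    rw [Category.assoc, ← pullback.condition, IsIso.inv_hom_id_assoc]
  have hw : (inv (pullback.fst ψ.left f.left) ≫ pullback.snd ψ.left f.left) ≫ Z.hom = P.hom := by
    rw [← Over.w f, ← Category.assoc, hφ₀, Over.w ψ]
  refine ⟨Over.homMk _ hw, ?_⟩
  ext : 1
  exact hφ₀

section General
variable {C : Type*} [Category C] [CartesianMonoidalCategory C]

open MonObj in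
lemma orbit_eq {A B Y Z T₀ : C} [MonObj A] [MonObj B] (j : A ⟶ B) [IsMonHom j]
    (aY : Magnet.MonAct A Y) (aZ : Magnet.MonAct A Z) (f : Z ⟶ Y)
    (hf : Magnet.MonAct.IsEquivariant aZ aY f) (ψ : B ⊗ T₀ ⟶ Y)
    (hψ : Magnet.MonAct.IsEquivariant
      ((((Magnet.MonAct.regular B).restrict j)).prod (Magnet.MonAct.trivial A T₀)) aY ψ)
    (z : T₀ ⟶ Z) (h : lift (toUnit T₀ ≫ η[B]) (𝟙 T₀) ≫ ψ = z ≫ f) :
    (j ▷ T₀) ≫ ψ = (lift (fst A T₀) (snd A T₀ ≫ z) ≫ aZ.act) ≫ f := by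
  have hf' := (Magnet.MonAct.isEquivariant_iff _ _ _).mp hf
  have hψ' := (Magnet.MonAct.mem_eqvHom_iff ψ).mp hψ
  have e1 := hψ' (A ⊗ T₀) (fst _ _) (toUnit _ ≫ η[B]) (snd _ _)
  have e2 : lift (fst A T₀) (toUnit _ ≫ η[B]) ≫ ((Magnet.MonAct.regular B).restrict j).act =
      fst A T₀ ≫ j := by
    rw [Magnet.MonAct.lift_restrict_act, Magnet.MonAct.lift_regular_act,
      ← CategoryTheory.Hom.one_def, _root_.mul_one]
  have e3 : lift (toUnit (A ⊗ T₀) ≫ η[B]) (snd A T₀) =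
      snd A T₀ ≫ lift (toUnit T₀ ≫ η[B]) (𝟙 T₀) := by
    apply CartesianMonoidalCategory.hom_ext
    · rw [lift_fst, Category.assoc, lift_fst, ← Category.assoc]
      congr 1
      exact toUnit_unique _ _
    · rw [lift_snd, Category.assoc, lift_snd, Category.comp_id]
  have e4 : lift (fst A T₀ ≫ j) (snd A T₀) = j ▷ T₀ := by
    apply CartesianMonoidalCategory.hom_ext
    · rw [lift_fst, whiskerRight_fst]
    · rw [lift_snd, whiskerRight_snd]
  rw [e2, e3, Category.assoc, h, e4, ← Category.assoc, ← hf'] at e1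
  rw [e1, Category.assoc]

lemma mem_of_factor {A B Y Z T₀ : C} [MonObj A] (ρ : Magnet.MonAct A B)
    (aY : Magnet.MonAct A Y) (aZ : Magnet.MonAct A Z) (f : Z ⟶ Y) [Mono f]
    (hf : Magnet.MonAct.IsEquivariant aZ aY f) (ψ : B ⊗ T₀ ⟶ Y)
    (hψ : Magnet.MonAct.IsEquivariant (ρ.prod (Magnet.MonAct.trivial A T₀)) aY ψ)
    (φ : B ⊗ T₀ ⟶ Z) (hφ : φ ≫ f = ψ) :
    Magnet.MonAct.IsEquivariant (ρ.prod (Magnet.MonAct.trivial A T₀)) aZ φ := by
  have hf' := (Magnet.MonAct.isEquivariant_iff _ _ _).mp hf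
  have hψ' := (Magnet.MonAct.mem_eqvHom_iff ψ).mp hψ
  rw [Magnet.MonAct.mem_eqvHom_iff]
  intro T' g b t
  rw [← cancel_mono f, Category.assoc, hφ, hψ', Category.assoc, hf', Category.assoc, hφ]

end General

open MonObj in
theorem main18286 (S : Scheme.{u}) (M : Type) [AddCommMonoid M]
    (N : AddSubmonoid M) (Y Z : Over S) (aY : Magnet.MonAct (Magnet.AMonS S M) Y)
    (aZ : Magnet.MonAct (Magnet.AMonS S M) Z) (f : Z ⟶ Y) [IsClosedImmersion f.left]
    (hf : Magnet.MonAct.IsEquivariant aZ aY f) :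
    IsPullback (Magnet.MonAct.eqvHom.postcomp (Magnet.subAct S M N) f hf) (Magnet.attrToX aZ N)
      (Magnet.attrToX aY N) (yoneda.map f) := by
  have : Mono f.left := inferInstance
  have hmono : Mono f := Over.mono_of_mono_left f
  refine IsPullback.of_forall_isPullback_app fun T => ?_
  rw [Types.isPullback_iff]
  refine ⟨?_, ?_, ?_⟩
  · ext φ
    exact (Category.assoc _ _ _).symm
  · rintro φ φ' ⟨h1, -⟩
    have h1' := congrArg Subtype.val h1
    rw [Magnet.MonAct.eqvHom.postcomp_app_coe, Magnet.MonAct.eqvHom.postcomp_app_coe] at h1'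
    apply Subtype.ext
    exact (cancel_mono f).mp h1'
  · intro ψ z h
    have key := orbit_eq (AMonS.map S N.subtype) aY aZ f hf ψ.1 ψ.2 z h
    obtain ⟨φ, hφ⟩ := exists_factor (AMonS.map S N.subtype ▷ unop T)
      (ker_whisker S N.subtype N.subtype_injective (unop T)) ψ.1 f _ key
    refine ⟨⟨φ, mem_of_factor _ aY aZ f hf ψ.1 ψ.2 φ hφ⟩, ?_, ?_⟩
    · apply Subtype.ext
      rw [Magnet.MonAct.eqvHom.postcomp_app_coe]
      exact hφ
    · have h2 : lift (toUnit (unop T) ≫ η[AMonS S ↥N]) (𝟙 (unop T)) ≫ ψ.1 = z ≫ f := h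
      have : (lift (toUnit (unop T) ≫ η[AMonS S ↥N]) (𝟙 (unop T)) ≫ φ) ≫ f = z ≫ f := by
        rw [Category.assoc, hφ, h2]
      exact (cancel_mono f).mp this

end Groth.Agent.H23.MagCl
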