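import Mathlib
import Groth.Prelude.Def_Magnet3
import Groth.Agent.Lib.helper23.MagCl

set_option autoImplicit false
open CategoryTheory AlgebraicGeometry Limits MonoidalCategory CartesianMonoidalCategory Opposite

namespace Groth.Agent.H23.MagCl2
universe u
open Groth.Agent.H23.MagCl Magnet

lemma isPullback_whiskerRight {S : Scheme.{u}} {G M : Over S} (i : G ⟶ M) (T₀ : Over S) :
    IsPullback (fst G T₀).left (i ▷ T₀).left i.left (fst M T₀).left := by
  have h1 : IsPullback (pullback.snd G.hom T₀.hom) (pullback.fst G.hom T₀.hom) T₀.hom G.hom :=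
    (IsPullback.of_hasPullback G.hom T₀.hom).flip
  have h2 : IsPullback (pullback.snd M.hom T₀.hom) (pullback.fst M.hom T₀.hom) T₀.hom M.hom :=
    (IsPullback.of_hasPullback M.hom T₀.hom).flip
  refine (IsPullback.of_right (h₁₂ := pullback.snd M.hom T₀.hom) (v₁₃ := T₀.hom) (h₂₂ := M.hom)
    ?_ ?_ h2).flip
  · rw [Over.whiskerRight_left_snd, Over.w i]; exact h1
  · exact Over.whiskerRight_left_fst i

lemma ker_whiskerRight_of_field (k : Type u) [Field k] {G M : Over (Spec (CommRingCat.of k))}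
    (i : G ⟶ M) [QuasiCompact i.left] [IsSchemeTheoreticallyDominant i.left]
    (T₀ : Over (Spec (CommRingCat.of k))) : (i ▷ T₀).left.ker = ⊥ := by
  have hfl : Flat T₀.hom := inferInstance
  have : Flat (fst M T₀).left := by
    change Flat (pullback.fst M.hom T₀.hom)
    infer_instance
  have := IsSchemeTheoreticallyDominant.of_isPullback (isPullback_whiskerRight i T₀)
  exact Scheme.Hom.ker_eq_bot _

open MonObj in
theorem main18956 (k : Type u) [Field k]
    (M G X Z : Over (Spec (CommRingCat.of k))) [MonObj M] [GrpObj G]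
    (i : G ⟶ M) [IsMonHom i] [QuasiCompact i.left]
    [IsSchemeTheoreticallyDominant i.left]
    (aX : AlgGrp.Action G X) (aZ : AlgGrp.Action G Z) (j : Z ⟶ X) [IsClosedImmersion j.left]
    (hj : Magnet.MonAct.IsEquivariant (Magnet.MonAct.ofAction aZ) (Magnet.MonAct.ofAction aX) j) :
    IsPullback
      (Magnet.MonAct.eqvHom.postcomp ((Magnet.MonAct.regular M).restrict i) j hj)
      (Magnet.MonAct.eqvHom.evalAt ((Magnet.MonAct.regular M).restrict i) (Magnet.MonAct.ofAction aZ) η[M])
      (Magnet.MonAct.eqvHom.evalAt ((Magnet.MonAct.regular M).restrict i) (Magnet.MonAct.ofAction aX) η[M])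
      (yoneda.map j) := by
  have : Mono j.left := inferInstance
  have hmono : Mono j := Over.mono_of_mono_left j
  refine IsPullback.of_forall_isPullback_app fun T => ?_
  rw [Types.isPullback_iff]
  refine ⟨?_, ?_, ?_⟩
  · ext φ
    exact (Category.assoc _ _ _).symm
  · rintro φ φ' ⟨h1, -⟩
    have h1' := congrArg Subtype.val h1
    rw [Magnet.MonAct.eqvHom.postcomp_app_coe, Magnet.MonAct.eqvHom.postcomp_app_coe] at h1'
    apply Subtype.ext
    exact (cancel_mono j).mp h1'
  · intro ψ z h
    have key := orbit_eq i (Magnet.MonAct.ofAction aX) (Magnet.MonAct.ofAction aZ) j hj ψ.1 ψ.2 z h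
    obtain ⟨φ, hφ⟩ := exists_factor (i ▷ unop T)
      (ker_whiskerRight_of_field k i (unop T)) ψ.1 j _ key
    refine ⟨⟨φ, mem_of_factor _ (Magnet.MonAct.ofAction aX) (Magnet.MonAct.ofAction aZ) j hj ψ.1 ψ.2 φ hφ⟩, ?_, ?_⟩
    · apply Subtype.ext
      rw [Magnet.MonAct.eqvHom.postcomp_app_coe]
      exact hφ
    · have h2 : lift (toUnit (unop T) ≫ η[M]) (𝟙 (unop T)) ≫ ψ.1 = z ≫ j := h
      have : (lift (toUnit (unop T) ≫ η[M]) (𝟙 (unop T)) ≫ φ) ≫ j = z ≫ j := by
        rw [Category.assoc, hφ, h2]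
      exact (cancel_mono j).mp this

end Groth.Agent.H23.MagCl2
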