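import Mathlib
import Groth.Prelude.Def_Magnet3
import Groth.Agent.Lib.helper23.MagCl2

set_option autoImplicit false
open CategoryTheory AlgebraicGeometry Limits MonoidalCategory CartesianMonoidalCategory Opposite

namespace Groth.Agent.H23.MagCl3
universe u
open Groth.Agent.H23.MagCl Groth.Agent.H23.MagCl2 Magnet

theorem main18957 (k : Type u) [Field k]
    (M G X Z : Over (Spec (CommRingCat.of k))) [MonObj M] [GrpObj G]
    (i : G ⟶ M) [IsMonHom i] [QuasiCompact i.left] [IsSchemeTheoreticallyDominant i.left]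
    (a : Magnet.MonAct M X) (b : AlgGrp.Action G Z) (j : Z ⟶ X) [IsClosedImmersion j.left]
    (hj : Magnet.MonAct.IsEquivariant (Magnet.MonAct.ofAction b) (a.restrict i) j) :
    ∃ c : Magnet.MonAct M Z, Magnet.MonAct.IsEquivariant c a j ∧
      c.restrict i = Magnet.MonAct.ofAction b := by
  have : Mono j.left := inferInstance
  have hmono : Mono j := Over.mono_of_mono_left j
  have hj' : b.act ≫ j = (G ◁ j) ≫ (i ▷ X) ≫ a.act := hj
  have key : (i ▷ Z) ≫ ((M ◁ j) ≫ a.act) = b.act ≫ j := by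
    rw [hj', ← whisker_exchange_assoc]
  obtain ⟨c₀, hc₀⟩ := exists_factor (i ▷ Z) (ker_whiskerRight_of_field k i Z)
    ((M ◁ j) ≫ a.act) j b.act key
  have hpt : ∀ (T : Over (Spec (CommRingCat.of k))) (m : T ⟶ M) (x : T ⟶ Z),
      (lift m x ≫ c₀) ≫ j = lift m (x ≫ j) ≫ a.act := by
    intro T m x
    rw [Category.assoc, hc₀, lift_whiskerLeft_assoc]
  refine ⟨Magnet.MonAct.mk' c₀ ?_ ?_, ?_, ?_⟩
  · intro T x
    rw [← cancel_mono j, hpt, a.lift_one_act]
  · intro T g h x
    rw [← cancel_mono j, hpt, a.lift_mul_act, hpt, hpt]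
  · exact hc₀
  · apply Magnet.MonAct.ext'
    rw [Magnet.MonAct.restrict_act, Magnet.MonAct.mk'_act, Magnet.MonAct.ofAction_act,
      ← cancel_mono j, Category.assoc, hc₀]
    exact key

end Groth.Agent.H23.MagCl3
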