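import Mathlib
import Groth.Prelude.Def_Magnet3
import Groth.Agent.Lib.helper23.MagDom

set_option autoImplicit false
open CategoryTheory AlgebraicGeometry Limits MonoidalCategory CartesianMonoidalCategory Opposite

namespace Groth.Agent.H23.MagComap
universe u
open Groth.Agent.H23.MagDom Magnet

lemma AMon_map_id (R : Type u) [CommRing R] (N : Type) [AddCommMonoid N] :
    Magnet.AMon.map R (AddMonoidHom.id N) = 𝟙 _ := by
  ext : 1
  rw [Magnet.AMon.map_left, Over.id_left]
  change Spec.map _ = 𝟙 (Spec (CommRingCat.of (MonoidAlgebra R (Multiplicative N))))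
  rw [← Spec.map_id]
  congr 1
  apply CommRingCat.hom_ext
  apply MonoidAlgebra.ringHom_ext
  · intro r; simp
  · intro m; simp

lemma AMonS_map_id (S : Scheme.{u}) (N : Type) [AddCommMonoid N] :
    Magnet.AMonS.map S (AddMonoidHom.id N) = 𝟙 _ := by
  rw [Magnet.AMonS.map, AMon_map_id, CategoryTheory.Functor.map_id]

open MonObj in
theorem main18288 (S : Scheme.{u}) (M Z : Type) [AddCommMonoid M]
    [AddCommGroup Z] (f : M →+ Z) (hf : Function.Injective f) (Y : AddSubmonoid Z)
    (hY : Y ≤ AddMonoidHom.mrange f) (X : Over S) [IsSeparated X.hom]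
    (a : Magnet.MonAct (Magnet.AMonS S M) X) :
    IsIso (Magnet.attrComap a f Y) := by
  let g : ↥(Y.comap f) →+ ↥Y := (f.comp (Y.comap f).subtype).codRestrict Y (fun x => x.2)
  have hginj : Function.Injective g := fun x y h =>
    Subtype.ext (hf (congrArg Subtype.val h))
  have hgsurj : Function.Surjective g := fun y => by
    obtain ⟨m, hm⟩ := hY y.2
    exact ⟨⟨m, by show f m ∈ Y; rw [hm]; exact y.2⟩, Subtype.ext hm⟩
  let ge : ↥(Y.comap f) ≃+ ↥Y := AddEquiv.ofBijective g ⟨hginj, hgsurj⟩
  let gi : ↥Y →+ ↥(Y.comap f) := ge.symm.toAddMonoidHom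
  have hgi : g.comp gi = AddMonoidHom.id ↥Y := by
    ext y
    exact congrArg Subtype.val (ge.apply_symm_apply y)
  have h1 : AMonS.map S g ≫ AMonS.map S gi = 𝟙 _ := by
    rw [← AMonS.map_comp, hgi, AMonS_map_id]
  have hiso : ∀ T, IsIso ((attrComap a f Y).app T) := fun T => by
    rw [isIso_iff_bijective]
    constructor
    · intro φ₁ φ₂ h
      apply Subtype.ext
      have h' := congrArg Subtype.val h
      simp only [attrComap_app_coe] at h'
      exact eq_of_ker_eq_bot _ (ker_whisker S g hginj (unop T)) φ₁.1 φ₂.1 h'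
    · intro ψ
      let T₀ := unop T
      let W := AMonS S ↥(Y.comap f) ⊗ T₀
      let φ : AMonS S ↥(Y.comap f) ⊗ T₀ ⟶ X := (AMonS.map S gi ▷ T₀) ≫ ψ.1
      have hψ := (Magnet.MonAct.mem_eqvHom_iff ψ.1).mp ψ.2
      -- equivariance of ρgi
      have heq : Magnet.MonAct.IsEquivariant ((subAct S M (Y.comap f)).restrict (AMonS.map S f))
          (subAct S Z Y) (AMonS.map S gi) := by
        rw [subAct, subAct, Magnet.MonAct.restrict_restrict]
        refine Magnet.MonAct.isEquivariant_restrict_regular _ _ _ ?_
        rw [← AMonS.map_comp, ← AMonS.map_comp]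
        congr 1
        ext y
        have := congrArg Subtype.val (ge.apply_symm_apply y)
        exact this
      rw [Magnet.MonAct.isEquivariant_iff] at heq
      let L : AMonS S M ⊗ W ⟶ X :=
        lift (lift (fst (AMonS S M) W) (snd (AMonS S M) W ≫ fst _ T₀) ≫
          (subAct S M (Y.comap f)).act) (snd (AMonS S M) W ≫ snd _ T₀) ≫ φ
      let R' : AMonS S M ⊗ W ⟶ X :=
        lift (fst (AMonS S M) W) (snd (AMonS S M) W ≫ φ) ≫ a.act
      have hLR : L = R' := by
        refine eq_of_ker_eq_bot (AMonS.map S f ▷ W) (ker_whisker S f hf W) L R' ?_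
        have e1 := hψ (AMonS S Z ⊗ W) (fst (AMonS S Z) W)
          (snd (AMonS S Z) W ≫ fst _ T₀ ≫ AMonS.map S gi) (snd (AMonS S Z) W ≫ snd _ T₀)
        have e2 := heq (AMonS S Z ⊗ W) (fst (AMonS S Z) W) (snd (AMonS S Z) W ≫ fst _ T₀)
        rw [Magnet.MonAct.lift_restrict_act_assoc] at e2
        rw [Magnet.MonAct.lift_restrict_act] at e1
        have e3 : lift (snd (AMonS S Z) W ≫ fst _ T₀ ≫ AMonS.map S gi) (snd (AMonS S Z) W ≫ snd _ T₀) =
            snd (AMonS S Z) W ≫ (AMonS.map S gi ▷ T₀) := by
          apply CartesianMonoidalCategory.hom_ext <;> simp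
        have lhs : (AMonS.map S f ▷ W) ≫ L =
            lift (lift (fst (AMonS S Z) W ≫ AMonS.map S f) (snd (AMonS S Z) W ≫ fst _ T₀) ≫
              (subAct S M (Y.comap f)).act ≫ AMonS.map S gi) (snd (AMonS S Z) W ≫ snd _ T₀) ≫ ψ.1 := by
          simp only [L, φ]
          rw [← Category.assoc, ← Category.assoc]
          congr 1
          apply CartesianMonoidalCategory.hom_ext
          · simp
            rw [← Category.assoc]
            congr 1
            apply CartesianMonoidalCategory.hom_ext <;> simp
          · simp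
        have rhs : (AMonS.map S f ▷ W) ≫ R' =
            lift (fst (AMonS S Z) W ≫ AMonS.map S f)
              (snd (AMonS S Z) W ≫ (AMonS.map S gi ▷ T₀) ≫ ψ.1) ≫ a.act := by
          simp only [R', φ]
          rw [← Category.assoc]
          congr 1
          apply CartesianMonoidalCategory.hom_ext <;> simp
        simp only [Category.assoc] at e2
        rw [lhs, rhs, e2, e1, e3, Category.assoc]
      refine ⟨⟨φ, ?_⟩, ?_⟩
      · rw [Magnet.MonAct.mem_eqvHom_iff]
        intro T' m b t
        have p1 : lift m (lift b t) ≫ fst (AMonS S M) W = m := lift_fst _ _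
        have p2 : lift m (lift b t) ≫ snd (AMonS S M) W = lift b t := lift_snd _ _
        have p3 : lift b t ≫ fst (AMonS S ↥(Y.comap f)) T₀ = b := lift_fst _ _
        have p4 : lift b t ≫ snd (AMonS S ↥(Y.comap f)) T₀ = t := lift_snd _ _
        have hl : lift (lift m b ≫ (subAct S M (Y.comap f)).act) t ≫ φ = lift m (lift b t) ≫ L := by
          have h0 : lift m (lift b t) ≫ lift (fst (AMonS S M) W) (snd (AMonS S M) W ≫ fst _ T₀) =
              lift m b := by
            apply CartesianMonoidalCategory.hom_ext
            · rw [Category.assoc, lift_fst, lift_fst, lift_fst]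
            · rw [Category.assoc, lift_snd, lift_snd, ← Category.assoc, p2, p3]
          have : lift m (lift b t) ≫ lift (lift (fst (AMonS S M) W) (snd (AMonS S M) W ≫ fst _ T₀) ≫
              (subAct S M (Y.comap f)).act) (snd (AMonS S M) W ≫ snd _ T₀) =
              lift (lift m b ≫ (subAct S M (Y.comap f)).act) t := by
            apply CartesianMonoidalCategory.hom_ext
            · rw [Category.assoc]
              erw [lift_fst, lift_fst]
              rw [← Category.assoc, h0]
            · rw [Category.assoc]
              erw [lift_snd, lift_snd]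
              rw [← Category.assoc, p2, p4]
          rw [← this, Category.assoc]
        have hr : lift m (lift b t ≫ φ) ≫ a.act = lift m (lift b t) ≫ R' := by
          have : lift m (lift b t) ≫ lift (fst (AMonS S M) W) (snd (AMonS S M) W ≫ φ) =
              lift m (lift b t ≫ φ) := by
            apply CartesianMonoidalCategory.hom_ext
            · rw [Category.assoc, lift_fst, lift_fst, lift_fst]
            · rw [Category.assoc, lift_snd, lift_snd, ← Category.assoc, p2]
          rw [← this, Category.assoc]
        rw [hl, hr, hLR]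
      · apply Subtype.ext
        simp only [attrComap_app_coe]
        change (AMonS.map S g ▷ T₀) ≫ (AMonS.map S gi ▷ T₀) ≫ ψ.1 = ψ.1
        rw [← comp_whiskerRight_assoc, h1, id_whiskerRight, Category.id_comp]
  exact NatIso.isIso_of_isIso_app _

end Groth.Agent.H23.MagComap
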