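import Mathlib
import Groth.Prelude.Def_Magnet3
import Groth.Agent.Lib.helper23.MagCl2
import Groth.Agent.Lib.helper23.MagUnr

set_option autoImplicit false
open CategoryTheory AlgebraicGeometry Limits MonoidalCategory CartesianMonoidalCategory Opposite

namespace Groth.Agent.H23.MagOp
universe u
open Groth.Agent.H23.MagCl Groth.Agent.H23.MagUnr Magnet

lemma exists_factor_open {S : Scheme.{u}} {P Y Z : Over S} (ψ : P ⟶ Y) (f : Z ⟶ Y)
    [IsOpenImmersion f.left] (h : Set.range ψ.left ⊆ Set.range f.left) :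
    ∃ φ : P ⟶ Z, φ ≫ f = ψ := by
  have hfac : IsOpenImmersion.lift f.left ψ.left h ≫ f.left = ψ.left :=
    IsOpenImmersion.lift_fac _ _ _
  have hw : IsOpenImmersion.lift f.left ψ.left h ≫ Z.hom = P.hom := by
    rw [← Over.w f, ← Category.assoc, hfac, Over.w ψ]
  refine ⟨Over.homMk _ hw, ?_⟩
  ext : 1
  exact hfac

lemma act_mem_range {S : Scheme.{u}} {G X U : Over S} (actX : G ⊗ X ⟶ X) (actU : G ⊗ U ⟶ U)
    (j : U ⟶ X) (hj : actU ≫ j = (G ◁ j) ≫ actX) (q' : (G ⊗ X).left)
    (hq' : (snd G X).left q' ∈ Set.range j.left) : actX.left q' ∈ Set.range j.left := by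
  obtain ⟨u, hu⟩ := hq'
  obtain ⟨q'', h1, h2⟩ := Scheme.exists_preimage_of_isPullback (isPullback_whisker G j) u q' hu
  refine ⟨actU.left q'', ?_⟩
  have e : (actU.left ≫ j.left) q'' = ((G ◁ j).left ≫ actX.left) q'' := by
    rw [← Over.comp_left, ← Over.comp_left, hj]
  rw [Scheme.Hom.comp_apply, Scheme.Hom.comp_apply] at e
  rw [e]
  exact congrArg _ h2

open MonObj in
theorem main18958 (k : Type u) [Field k]
    (M G X U : Over (Spec (CommRingCat.of k))) [MonObj M] [GrpObj G] (i : G ⟶ M) [IsMonHom i]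
    (o : 𝟙_ (Over (Spec (CommRingCat.of k))) ⟶ M)
    (hM : ∀ (T : Over (Spec (CommRingCat.of k))) (K : Type u) [Field K] (eT : T.left ≅ Spec (CommRingCat.of K))
      (W : (M ⊗ T).left.Opens),
      (CartesianMonoidalCategory.snd G (M ⊗ T)).left ⁻¹ᵁ W ≤
          ((((Magnet.MonAct.regular M).restrict i).prod (Magnet.MonAct.trivial G T)).act).left ⁻¹ᵁ W →
      (CartesianMonoidalCategory.lift (toUnit T ≫ o) (𝟙 T)).left ⁻¹ᵁ W = ⊤ → W = ⊤)
    (aX : AlgGrp.Action G X) (aU : AlgGrp.Action G U) (j : U ⟶ X) [IsOpenImmersion j.left]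
    (hj : Magnet.MonAct.IsEquivariant (Magnet.MonAct.ofAction aU) (Magnet.MonAct.ofAction aX) j) :
    IsPullback
      (Magnet.MonAct.eqvHom.postcomp ((Magnet.MonAct.regular M).restrict i) j hj)
      (Magnet.MonAct.eqvHom.evalAt ((Magnet.MonAct.regular M).restrict i) (Magnet.MonAct.ofAction aU) o)
      (Magnet.MonAct.eqvHom.evalAt ((Magnet.MonAct.regular M).restrict i) (Magnet.MonAct.ofAction aX) o)
      (yoneda.map j) := by
  have : Mono j.left := inferInstance
  have hmono : Mono j := Over.mono_of_mono_left j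
  have hj0 : aU.act ≫ j = (G ◁ j) ≫ aX.act := hj
  refine IsPullback.of_forall_isPullback_app fun T => ?_
  rw [Types.isPullback_iff]
  refine ⟨?_, ?_, ?_⟩
  · ext φ
    exact (Category.assoc _ _ _).symm
  · rintro φ φ' ⟨h1, -⟩
    have h1' := congrArg Subtype.val h1
    rw [Magnet.MonAct.eqvHom.postcomp_app_coe, Magnet.MonAct.eqvHom.postcomp_app_coe] at h1'
    apply Subtype.ext
    exact (cancel_mono j).mp h1'
  · intro ψ z h
    have h2 : lift (toUnit (unop T) ≫ o) (𝟙 (unop T)) ≫ ψ.1 = z ≫ j := h
    have hrange : Set.range ψ.1.left ⊆ Set.range j.left := by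
      rintro _ ⟨p, rfl⟩
      let T₀ := unop T
      let t := (snd M T₀).left p
      let T' : Over (Spec (CommRingCat.of k)) := Over.mk (T₀.left.fromSpecResidueField t ≫ T₀.hom)
      let τ : T' ⟶ T₀ := Over.homMk (T₀.left.fromSpecResidueField t) rfl
      let s₀ : Spec (T₀.left.residueField t) := IsLocalRing.closedPoint _
      obtain ⟨p', hp1, hp2⟩ := Scheme.exists_preimage_of_isPullback (isPullback_whisker M τ) s₀ p
        (Scheme.fromSpecResidueField_apply _ _)
      let ψ' : M ⊗ T' ⟶ X := (M ◁ τ) ≫ ψ.1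
      have hψ' : (((Magnet.MonAct.regular M).restrict i).prod (Magnet.MonAct.trivial G T')).act ≫ ψ' =
          (G ◁ ψ') ≫ aX.act :=
        ((Magnet.MonAct.eqvHom ((Magnet.MonAct.regular M).restrict i)
          (Magnet.MonAct.ofAction aX)).map τ.op ψ).2
      let W' : (M ⊗ T').left.Opens := ψ'.left ⁻¹ᵁ j.left.opensRange
      have hW' : W' = ⊤ := by
        refine hM T' (T₀.left.residueField t) (Iso.refl _) W' ?_ ?_
        · intro q hq
          have hq' : ψ'.left ((snd G (M ⊗ T')).left q) ∈ Set.range j.left := hq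
          show ψ'.left ((((Magnet.MonAct.regular M).restrict i).prod
            (Magnet.MonAct.trivial G T')).act.left q) ∈ Set.range j.left
          have e : ((((Magnet.MonAct.regular M).restrict i).prod
              (Magnet.MonAct.trivial G T')).act.left ≫ ψ'.left) q =
              ((G ◁ ψ').left ≫ aX.act.left) q := by
            rw [← Over.comp_left, ← Over.comp_left, hψ']
          rw [Scheme.Hom.comp_apply, Scheme.Hom.comp_apply] at e
          rw [e]
          apply act_mem_range aX.act aU.act j hj0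
          have e' : ((G ◁ ψ').left ≫ (snd G X).left) q =
              ((snd G (M ⊗ T')).left ≫ ψ'.left) q := by
            rw [← Over.comp_left, ← Over.comp_left, whiskerLeft_snd]
          rw [Scheme.Hom.comp_apply, Scheme.Hom.comp_apply] at e'
          rw [e']
          exact hq'
        · have hz : lift (toUnit T' ≫ o) (𝟙 T') ≫ ψ' = (τ ≫ z) ≫ j := by
            have : lift (toUnit T' ≫ o) (𝟙 T') ≫ (M ◁ τ) =
                τ ≫ lift (toUnit T₀ ≫ o) (𝟙 T₀) := by
              apply CartesianMonoidalCategory.hom_ext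
              · rw [Category.assoc, whiskerLeft_fst, lift_fst, Category.assoc, lift_fst,
                  ← Category.assoc]
                congr 1
              · rw [Category.assoc, whiskerLeft_snd, lift_snd_assoc, Category.assoc, lift_snd,
                  Category.id_comp, Category.comp_id]
            rw [← Category.assoc, this, Category.assoc, h2, Category.assoc]
          ext x
          simp only [TopologicalSpace.Opens.coe_top, Set.mem_univ, iff_true]
          show ψ'.left ((lift (toUnit T' ≫ o) (𝟙 T')).left x) ∈ Set.range j.left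
          have e : ((lift (toUnit T' ≫ o) (𝟙 T')).left ≫ ψ'.left) x = ((τ ≫ z).left ≫ j.left) x := by
            rw [← Over.comp_left, ← Over.comp_left, hz]
          rw [Scheme.Hom.comp_apply, Scheme.Hom.comp_apply] at e
          rw [e]
          exact ⟨_, rfl⟩
      have hp' : p' ∈ W' := by rw [hW']; trivial
      have hp'' : ψ'.left p' ∈ Set.range j.left := hp'
      have e : ((M ◁ τ).left ≫ ψ.1.left) p' = ψ'.left p' := by
        rw [← Over.comp_left]
      rw [Scheme.Hom.comp_apply] at e
      rw [← hp2, e]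
      exact hp''
    obtain ⟨φ, hφ⟩ := exists_factor_open ψ.1 j hrange
    refine ⟨⟨φ, mem_of_factor _ (Magnet.MonAct.ofAction aX) (Magnet.MonAct.ofAction aU) j hj ψ.1 ψ.2 φ hφ⟩, ?_, ?_⟩
    · apply Subtype.ext
      rw [Magnet.MonAct.eqvHom.postcomp_app_coe]
      exact hφ
    · have : (lift (toUnit (unop T) ≫ o) (𝟙 (unop T)) ≫ φ) ≫ j = z ≫ j := by
        rw [Category.assoc, hφ, h2]
      exact (cancel_mono j).mp this

end Groth.Agent.H23.MagOp
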