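import Mathlib
import Groth.Prelude.Def_W4c2invhilbsl2HJ

set_option autoImplicit false

namespace Groth.Agent.Lib.helper23.Mono

theorem nt' (p q m : ℕ) (hp : 0 < p) (hpq : p < q) (hcop : Nat.Coprime p q) (hm : 0 < m)
    (d0 d1 d2 e0 e1 e2 : ℕ) (hn : (e0 : ℤ) - (p : ℤ) * e1 + (q : ℤ) * e2 = (d0 : ℤ) - (p : ℤ) * d1 + (q : ℤ) * d2)
    (hc : (m : ℤ) ∣ ((e1 : ℤ) - e2) - ((d1 : ℤ) - d2))
    (hd0 : d0 < Nat.gcd m (q - p)) (he0 : e0 < Nat.gcd m (q - p)) :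
    d0 = e0 ∧ ∃ T : ℤ, ((e1 : ℤ) - e2) - ((d1 : ℤ) - d2) = (m : ℤ) * ((q - p) / Nat.gcd m (q - p) : ℕ) * T ∧
      (e1 : ℤ) = d1 + ((m / Nat.gcd m (q - p) * q : ℕ) : ℤ) * T ∧
      (e2 : ℤ) = d2 + ((m / Nat.gcd m (q - p) * p : ℕ) : ℤ) * T := by
  set D := q - p with hDdef
  set g := Nat.gcd m D with hg
  have hDpos : 0 < D := Nat.sub_pos_of_lt hpq
  have hgpos : 0 < g := Nat.gcd_pos_of_pos_left _ hm
  have hDcast : ((D : ℕ) : ℤ) = (q : ℤ) - p := Nat.cast_sub hpq.le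
  obtain ⟨a, ha⟩ : g ∣ m := Nat.gcd_dvd_left m D
  obtain ⟨b, hb⟩ : g ∣ D := Nat.gcd_dvd_right m D
  have hma : m / g = a := by rw [ha]; exact Nat.mul_div_cancel_left a hgpos
  have hDb : D / g = b := by rw [hb]; exact Nat.mul_div_cancel_left b hgpos
  rw [hma, hDb]
  have hbpos : 0 < b := by
    rcases Nat.eq_zero_or_pos b with h | h
    · rw [h, mul_zero] at hb; omega
    · exact h
  obtain ⟨c0, hc0⟩ := hc
  -- key identity
  have hkey : (e0 : ℤ) - d0 = (p : ℤ) * (((e1 : ℤ) - e2) - ((d1 : ℤ) - d2)) - (D : ℤ) * ((e2 : ℤ) - d2) := by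
    rw [hDcast]; linarith
  have hgd : (g : ℤ) ∣ (e0 : ℤ) - d0 := by
    rw [hkey, hc0]
    have h1 : (g : ℤ) ∣ (m : ℤ) := by exact_mod_cast Nat.gcd_dvd_left m D
    have h2 : (g : ℤ) ∣ (D : ℤ) := by exact_mod_cast Nat.gcd_dvd_right m D
    apply dvd_sub
    · apply Dvd.dvd.mul_left
      exact Dvd.dvd.mul_right h1 _
    · exact Dvd.dvd.mul_right h2 _
  have h00 : (e0 : ℤ) - d0 = 0 := by
    apply Int.eq_zero_of_abs_lt_dvd hgd
    rw [abs_lt]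
    constructor <;> [skip; skip] <;> omega
  have hde : d0 = e0 := by omega
  refine ⟨hde, ?_⟩
  -- D ∣ c' - c
  set Δ : ℤ := ((e1 : ℤ) - e2) - ((d1 : ℤ) - d2) with hΔ
  have hpΔ : (p : ℤ) * Δ = (D : ℤ) * ((e2 : ℤ) - d2) := by rw [h00] at hkey; linarith
  have hcopD : Nat.Coprime D p := ((Nat.coprime_sub_self_right hpq.le).mpr hcop).symm
  have hDΔ : (D : ℤ) ∣ Δ := by
    have h1 : (D : ℤ) ∣ (p : ℤ) * Δ := ⟨_, hpΔ⟩
    have hcop' : IsCoprime (D : ℤ) (p : ℤ) := Nat.isCoprime_iff_coprime.mpr hcopD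
    exact hcop'.dvd_of_dvd_mul_left h1
  have hmΔ : (m : ℤ) ∣ Δ := ⟨c0, hc0⟩
  have hlcm : ((Nat.lcm m D : ℕ) : ℤ) ∣ Δ := by
    rw [Int.natCast_dvd] at hDΔ hmΔ ⊢
    exact Nat.lcm_dvd hmΔ hDΔ
  have hlcm_eq : Nat.lcm m D = m * b := by
    have h1 := Nat.gcd_mul_lcm m D
    rw [← hg] at h1
    have : g * Nat.lcm m D = g * (m * b) := by
      rw [h1]
      conv_lhs => rw [hb]
      ring
    exact Nat.eq_of_mul_eq_mul_left hgpos this
  rw [hlcm_eq] at hlcm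
  obtain ⟨T, hT⟩ := hlcm
  push_cast at hT
  refine ⟨T, hT, ?_⟩
  -- e2 - d2 = a p T
  have hgb : ((g : ℤ) * b) ≠ 0 := by positivity
  have h2 : (e2 : ℤ) - d2 = (a : ℤ) * p * T := by
    have : ((g : ℤ) * b) * ((e2 : ℤ) - d2) = ((g : ℤ) * b) * ((a : ℤ) * p * T) := by
      have hD' : (D : ℤ) = (g : ℤ) * b := by exact_mod_cast hb
      have hm' : (m : ℤ) = (g : ℤ) * a := by exact_mod_cast ha
      rw [← hD', ← hpΔ, hT, hm', hD']; ring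
    exact mul_left_cancel₀ hgb this
  have h1 : (e1 : ℤ) - d1 = (a : ℤ) * q * T := by
    have hD' : (D : ℤ) = (g : ℤ) * b := by exact_mod_cast hb
    have hm' : (m : ℤ) = (g : ℤ) * a := by exact_mod_cast ha
    have : (e1 : ℤ) - d1 = Δ + ((e2 : ℤ) - d2) := by rw [hΔ]; ring
    rw [this, h2, hT, hm']
    have hq : (q : ℤ) = p + (g : ℤ) * b := by rw [← hD', hDcast]; ring
    rw [hq]; ring
  constructor
  · push_cast; linarith
  · push_cast; linarith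


end Groth.Agent.Lib.helper23.Mono
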