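import Mathlib
import Groth.Prelude.Def_EtOpen
import Groth.Prelude.Def_EtShriek2
import Groth.Agent.Lib.helper23.EtOpenSub
import Groth.Agent.Lib.helper23.FFSite
import Groth.Agent.Lib.helper23.CompEtCocont
import Groth.Agent.Lib.helper23.EtOpenImm

set_option autoImplicit false
open CategoryTheory CategoryTheory.Limits AlgebraicGeometry Opposite
universe u

namespace Groth.Agent.H23.OpenSlice

open EtDesc Groth.Agent.H23.EtOpenSub

variable {X : Scheme.{u}} (U : X.Opens)

/-- the site functor -/
noncomputable abbrev Gf : (U : Scheme.{u}).Etale ⥤ X.Etale := EtShriek.compEtale U.ι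

/-- restriction of sheaves of sets -/
noncomputable abbrev rho : Sh X ⥤ Sh (U : Scheme.{u}) :=
  (Gf U).sheafPushforwardContinuous (Type (u + 1)) (U : Scheme.{u}).smallEtaleTopology
    X.smallEtaleTopology

/-- `V` factors through `U`. -/
def fac (V : X.Etale) : Prop := Set.range (hm V).base ⊆ (U : Set X)

lemma fac_G (W : (U : Scheme.{u}).Etale) : fac U ((Gf U).obj W) := by
  rintro _ ⟨w, rfl⟩
  have : hm ((Gf U).obj W) = hm W ≫ U.ι := rfl
  rw [this]
  exact ((hm W).base w).2

lemma fac_of_hom {V₁ V₂ : X.Etale} (g : V₁ ⟶ V₂) (h : fac U V₂) : fac U V₁ := by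
  rintro _ ⟨w, rfl⟩
  have hw : g.left ≫ hm V₂ = hm V₁ := MorphismProperty.Over.w g
  rw [← hw]
  exact h ⟨g.left.base w, rfl⟩

lemma exists_lift (V : X.Etale) (h : fac U V) :
    ∃ V' : (U : Scheme.{u}).Etale, Nonempty ((Gf U).obj V' ≅ V) := by
  obtain ⟨g⟩ := (key2 U V).2 h
  have hl : g.left ≫ U.ι = hm V := MorphismProperty.Over.w g
  let g' : V ⟶ (Gf U).obj (EtCoh.top (U : Scheme.{u})) :=
    MorphismProperty.Over.homMk g.left (by
      show g.left ≫ (𝟙 _ ≫ U.ι) = hm V
      rw [Category.id_comp, hl])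
  exact ⟨(EtShriek.compEtaleLift U.ι g').1, ⟨(EtShriek.compEtaleLift U.ι g').2⟩⟩

lemma isEmpty_of_not_fac (A : Sh X) (a : A ⟶ repSh (ofOpen U)) (V : X.Etale) (h : ¬ fac U V) :
    IsEmpty (A.obj.obj (op V)) := by
  constructor
  intro s
  apply h
  rw [fac, ← key2]
  exact ⟨((a ≫ (repIso U).hom).hom.app (op V) s).down⟩

lemma hom_T_subsingleton (A : Sh X) : Subsingleton (A ⟶ repSh (ofOpen U)) := by
  apply hom_subsingleton_of_iso (repIso U)
  intro G
  apply hom_subsingleton_of_sections
  intro V
  show Subsingleton ((P U).obj (op V))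
  infer_instance

/-- the functor in question (with restriction instead of pullback). -/
noncomputable abbrev Phi' : Over (repSh (ofOpen U)) ⥤ Sh (U : Scheme.{u}) :=
  Over.forget (repSh (ofOpen U)) ⋙ rho U

lemma app_eq_of_iso {A B : Sh X} (φ : A ⟶ B) {V V' : X.Etale} (e : V' ≅ V)
    (s : A.obj.obj (op V)) :
    φ.hom.app (op V) s = B.obj.map e.inv.op (φ.hom.app (op V') (A.obj.map e.hom.op s)) := by
  have n1 : φ.hom.app (op V') (A.obj.map e.hom.op s) = B.obj.map e.hom.op (φ.hom.app (op V) s) :=
    ConcreteCategory.congr_hom (φ.hom.naturality e.hom.op) s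
  rw [n1]
  simp only [← Functor.map_comp_apply, ← op_comp, Iso.inv_hom_id, op_id, Functor.map_id_apply]

instance faithful_Phi' : (Phi' U).Faithful := by
  constructor
  intro A B φ ψ h
  apply Over.OverMorphism.ext
  apply Sheaf.hom_ext
  ext V s
  induction V using Opposite.rec with | _ V => ?_
  by_cases hV : fac U V
  · obtain ⟨V', ⟨e⟩⟩ := exists_lift U V hV
    show φ.left.hom.app (op V) s = ψ.left.hom.app (op V) s
    rw [app_eq_of_iso φ.left e, app_eq_of_iso ψ.left e]
    congr 1
    have h' := congrArg (fun m => m.hom.app (op V')) h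
    exact ConcreteCategory.congr_hom h' (A.left.obj.map e.hom.op s)
  · exact ((isEmpty_of_not_fac U A.left A.hom V hV).false s).elim

section Full

variable {U}
variable {A B : Sh X} (a : A ⟶ repSh (ofOpen U)) (θ : (rho U).obj A ⟶ (rho U).obj B)

lemma mapmap (F : Sh X) {V₁ V₂ V₃ : X.Etale} (f : V₁ ⟶ V₂) (g : V₂ ⟶ V₃)
    (x : F.obj.obj (op V₃)) :
    F.obj.map f.op (F.obj.map g.op x) = F.obj.map (f ≫ g).op x := by
  simp only [← Functor.map_comp_apply, ← op_comp]

lemma mapid (F : Sh X) {V : X.Etale} (x : F.obj.obj (op V)) :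
    F.obj.map (𝟙 V).op x = x := by
  simp only [op_id, Functor.map_id_apply]

noncomputable def lift (V : X.Etale) (h : fac U V) : (U : Scheme.{u}).Etale :=
  (exists_lift U V h).choose

noncomputable def liftIso (V : X.Etale) (h : fac U V) : (Gf U).obj (lift V h) ≅ V :=
  (exists_lift U V h).choose_spec.some

/-- `θ` on sections. -/
def thApp (W : (U : Scheme.{u}).Etale) :
    A.obj.obj (op ((Gf U).obj W)) → B.obj.obj (op ((Gf U).obj W)) :=
  fun x => θ.hom.app (op W) x

lemma theta_nat {W W' : (U : Scheme.{u}).Etale} (k : W ⟶ W') (x : A.obj.obj (op ((Gf U).obj W'))) :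
    thApp θ W (A.obj.map ((Gf U).map k).op x) =
      B.obj.map ((Gf U).map k).op (thApp θ W' x) :=
  ConcreteCategory.congr_hom (θ.hom.naturality k.op) x

/-- the components of the lifted morphism. -/
noncomputable def comp (V : X.Etale) : A.obj.obj (op V) → B.obj.obj (op V) := by
  classical
  exact fun s => if h : fac U V then
    B.obj.map (liftIso V h).inv.op (thApp θ (lift V h) (A.obj.map (liftIso V h).hom.op s))
  else ((isEmpty_of_not_fac U A a V h).false s).elim

lemma comp_map (V : X.Etale) (W : (U : Scheme.{u}).Etale) (m : (Gf U).obj W ⟶ V)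
    (s : A.obj.obj (op V)) :
    B.obj.map m.op (comp a θ V s) = thApp θ W (A.obj.map m.op s) := by
  classical
  by_cases h : fac U V
  · have hc : comp a θ V s = B.obj.map (liftIso V h).inv.op
        (thApp θ (lift V h) (A.obj.map (liftIso V h).hom.op s)) := by
      unfold comp
      rw [dif_pos h]
    obtain ⟨k, hk⟩ := (Gf U).map_surjective (m ≫ (liftIso V h).inv)
    have e1 : (Gf U).map k ≫ (liftIso V h).hom = m := by
      rw [hk, Category.assoc, Iso.inv_hom_id, Category.comp_id]
    rw [hc, mapmap, ← hk, ← theta_nat, mapmap, e1]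
  · exact ((isEmpty_of_not_fac U A a V h).false s).elim

lemma comp_G (W : (U : Scheme.{u}).Etale) (s : A.obj.obj (op ((Gf U).obj W))) :
    comp a θ ((Gf U).obj W) s = thApp θ W s := by
  have h := comp_map a θ ((Gf U).obj W) W (𝟙 _) s
  rw [mapid, mapid] at h
  exact h

lemma comp_nat {V₁ V₂ : X.Etale} (g : V₁ ⟶ V₂) (s : A.obj.obj (op V₂)) :
    comp a θ V₁ (A.obj.map g.op s) = B.obj.map g.op (comp a θ V₂ s) := by
  classical
  by_cases h : fac U V₂
  · have h1 : fac U V₁ := fac_of_hom U g h
    have hc : comp a θ V₁ (A.obj.map g.op s) = B.obj.map (liftIso V₁ h1).inv.op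
        (thApp θ (lift V₁ h1) (A.obj.map (liftIso V₁ h1).hom.op (A.obj.map g.op s))) := by
      unfold comp
      rw [dif_pos h1]
    have k := comp_map a θ V₂ (lift V₁ h1) ((liftIso V₁ h1).hom ≫ g) s
    rw [hc, mapmap, ← k, mapmap, Iso.inv_hom_id_assoc]
  · exact ((isEmpty_of_not_fac U A a V₂ h).false s).elim

/-- the lifted morphism. -/
noncomputable def liftHom : A ⟶ B :=
  (fullyFaithfulSheafToPresheaf _ _).preimage
    { app := fun V => TypeCat.ofHom (comp a θ V.unop)
      naturality := by
        intro V₁ V₂ g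
        ext s
        exact comp_nat a θ g.unop s }

lemma rho_liftHom : (rho U).map (liftHom a θ) = θ := by
  apply Sheaf.hom_ext
  ext W s
  induction W using Opposite.rec with | _ W => ?_
  show (liftHom a θ).hom.app (op ((Gf U).obj W)) s = _
  have : (liftHom a θ).hom = _ := (fullyFaithfulSheafToPresheaf _ _).map_preimage _
  rw [this]
  exact comp_G a θ W s

end Full

instance full_Phi' : (Phi' U).Full := by
  constructor
  intro A B θ
  refine ⟨Over.homMk (liftHom A.hom θ) ((hom_T_subsingleton U _).elim _ _), ?_⟩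
  exact rho_liftHom A.hom θ

section EssSurj

instance : (Gf U).IsCocontinuous (U : Scheme.{u}).smallEtaleTopology X.smallEtaleTopology :=
  CompEtCocont.cocont_compEtale U.ι

/-- extension by the empty set. -/
noncomputable abbrev Lsh : Sh (U : Scheme.{u}) ⥤ Sh X :=
  (Gf U).sheafPullback (Type (u + 1)) (U : Scheme.{u}).smallEtaleTopology X.smallEtaleTopology

noncomputable abbrev adjL : Lsh U ⊣ rho U :=
  (Gf U).sheafAdjunctionContinuous (Type (u + 1)) (U : Scheme.{u}).smallEtaleTopology
    X.smallEtaleTopology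

lemma isIso_unit_L : IsIso (adjL U).unit :=
  _root_.FFSite.isIso_unit (Gf U) (Type (u + 1)) (U : Scheme.{u}).smallEtaleTopology
    X.smallEtaleTopology

/-- the canonical map to the restriction of the representable. -/
noncomputable def toRhoP (G' : Sh (U : Scheme.{u})) : G' ⟶ (rho U).obj (shP U) :=
  (fullyFaithfulSheafToPresheaf _ _).preimage
    { app := fun W => TypeCat.ofHom (fun _ =>
        (⟨MorphismProperty.Over.homMk (hm W.unop) rfl⟩ :
          ULift.{u + 1, u} ((Gf U).obj W.unop ⟶ ofOpen U)))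
      naturality := by
        intro W₁ W₂ g
        ext s
        exact Subsingleton.elim (α := (P U).obj (op ((Gf U).obj W₂.unop))) _ _ }

instance essSurj_Phi' : (Phi' U).EssSurj := by
  constructor
  intro G'
  haveI := isIso_unit_L U
  let c' : G' ⟶ (rho U).obj (repSh (ofOpen U)) := toRhoP U G' ≫ (rho U).map (repIso U).inv
  let c : (Lsh U).obj G' ⟶ repSh (ofOpen U) := ((adjL U).homEquiv _ _).symm c'
  exact ⟨Over.mk c, ⟨(asIso ((adjL U).unit.app G')).symm⟩⟩

end EssSurj

instance isEquivalence_Phi' : (Phi' U).IsEquivalence where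

/-- restriction is left adjoint to direct image (sheaves of sets). -/
noncomputable def restrPushAdjSh : rho U ⊣ pushSh U.ι :=
  (EtOpenImm.siteAdj U.ι).sheafPushforwardContinuous (U : Scheme.{u}).smallEtaleTopology
    X.smallEtaleTopology

noncomputable def pullIsoRestrSh : pullSh U.ι ≅ rho U :=
  (adjSh U.ι).leftAdjointUniq (restrPushAdjSh U)

theorem isEquivalence_Phi :
    (Over.forget (repSh (ofOpen U)) ⋙ pullSh U.ι).IsEquivalence :=
  Functor.isEquivalence_of_iso (Functor.isoWhiskerLeft (Over.forget (repSh (ofOpen U)))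
    (pullIsoRestrSh U)).symm

end Groth.Agent.H23.OpenSlice
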