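import Mathlib
import Groth.Prelude.Def_DCoh3
import Groth.Agent.Lib.helper23.NullHtpy

open AlgebraicGeometry CategoryTheory CategoryTheory.Limits Opposite TopologicalSpace

attribute [local instance] HasDerivedCategory.standard

namespace Groth.Agent.H23.PerfLocal
universe u

open Scheme.Modules NullHtpy

variable {X : Scheme.{u}}

set_option backward.isDefEq.respectTransparency false in
lemma isFinLocFree_of_iso_freeMod {M : X.Modules} {n : ℕ} (e : M ≅ FlatMod.freeMod X n) :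
    FlatMod.IsFinLocFree M := by
  intro x
  exact ⟨⊤, n, trivial, ⟨(restrictFunctor (⊤ : X.Opens).ι).mapIso e ≪≫
    StrPerf.freeModRestrictIso _ n⟩⟩

/-- a zero module is free of rank `0` -/
lemma nonempty_iso_freeMod_zero {M : X.Modules} (hM : IsZero M) :
    Nonempty (M ≅ FlatMod.freeMod X 0) := by
  have h0 : IsZero (FlatMod.freeMod X 0) := by
    rw [IsZero.iff_id_eq_zero]
    apply Sigma.hom_ext
    intro k
    exact k.elim0
  exact ⟨hM.iso h0⟩

section
variable {Z : Scheme.{u}} (k : Z ⟶ X) [IsOpenImmersion k]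

/-- restriction on derived categories -/
noncomputable abbrev resD : DCoh.D X ⥤ DCoh.D Z := (restrictFunctor k).mapDerivedCategory

/-- `resD (Q F) ≅ Q (F|)` -/
noncomputable def resDQ (F : CochainComplex X.Modules ℤ) :
    (resD k).obj (DerivedCategory.Q.obj F) ≅ DerivedCategory.Q.obj ((resCx k).obj F) :=
  (restrictFunctor k).mapDerivedCategoryFactors.app F

end

set_option backward.isDefEq.respectTransparency false in
/-- shrink to make all terms of a strictly perfect complex free -/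
lemma exists_open_all_free {E : CochainComplex X.Modules ℤ} (hE : DCoh.IsStrictlyPerfect E) (x : X) :
    ∃ W : X.Opens, x ∈ W ∧ ∀ i : ℤ, ∃ n : ℕ,
      Nonempty ((E.X i).restrict W.ι ≅ FlatMod.freeMod (↑W) n) := by
  obtain ⟨⟨a', b', hab⟩, hflf⟩ := hE
  choose U n hxU iso using fun i => hflf i x
  let W : X.Opens := (Finset.Icc a' b').inf U
  have hxW : x ∈ W := by
    have : x ∈ (((Finset.Icc a' b').inf U : X.Opens) : Set X) := by
      rw [Opens.coe_finset_inf, Finset.inf_set_eq_iInter]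
      simp only [Set.mem_iInter]
      intro i _
      exact hxU i
    exact this
  refine ⟨W, hxW, fun i => ?_⟩
  by_cases hi : i ∈ Finset.Icc a' b'
  · have hle : W ≤ U i := Finset.inf_le hi
    obtain ⟨e⟩ := iso i
    refine ⟨n i, StrPerf.restrict_iso_freeMod_of_range_subset (E.X i) (n i) e W.ι ?_⟩
    rw [Scheme.Opens.range_ι]
    exact hle
  · have hz : IsZero (E.X i) := by
      apply hab
      rw [Finset.mem_Icc] at hi
      omega
    exact ⟨0, nonempty_iso_freeMod_zero ((restrictFunctor W.ι).map_isZero hz)⟩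

/-- perfect ⇒ locally (restriction in the derived category) strictly perfect -/
lemma local_of_isPerfect {K : DCoh.D X} (hK : DCoh.IsPerfect K) (x : X) :
    ∃ V : X.Opens, x ∈ V ∧ ∃ E : CochainComplex (V : Scheme.{u}).Modules ℤ,
      DCoh.IsStrictlyPerfect E ∧ Nonempty ((resD V.ι).obj K ≅ DerivedCategory.Q.obj E) := by
  obtain ⟨V, hxV, h⟩ := hK x
  let F₀ := DerivedCategory.Q.objPreimage K
  let e₀ : DerivedCategory.Q.obj F₀ ≅ K := DerivedCategory.Q.objObjPreimageIso K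
  obtain ⟨E, hE, ⟨i⟩⟩ := h F₀ ⟨e₀⟩
  exact ⟨V, hxV, E, hE, ⟨(resD V.ι).mapIso e₀.symm ≪≫ resDQ V.ι F₀ ≪≫ i⟩⟩

lemma isPerfect_of_local {K : DCoh.D X}
    (h : ∀ x : X, ∃ V : X.Opens, x ∈ V ∧ ∃ E : CochainComplex (V : Scheme.{u}).Modules ℤ,
      DCoh.IsStrictlyPerfect E ∧ Nonempty ((resD V.ι).obj K ≅ DerivedCategory.Q.obj E)) :
    DCoh.IsPerfect K := by
  intro x
  obtain ⟨V, hxV, E, hE, ⟨i⟩⟩ := h x
  refine ⟨V, hxV, fun F ⟨eF⟩ => ⟨E, hE, ⟨?_⟩⟩⟩
  exact (resDQ V.ι F).symm ≪≫ (resD V.ι).mapIso eF ≪≫ i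

set_option backward.isDefEq.respectTransparency false in
theorem main0923 (E : DCoh.D X) :
    DCoh.IsPerfect E ↔ ∀ x : X, ∃ V : X.Opens, x ∈ V ∧
      ∀ F : CochainComplex X.Modules ℤ, Nonempty (DCoh.toD X F ≅ E) →
        ∃ (P : CochainComplex (V : Scheme.{u}).Modules ℤ) (a b : ℤ), DCoh.VanishesOutside P a b ∧
          (∀ i : ℤ, ∃ n : ℕ, Nonempty (P.X i ≅ FlatMod.freeMod (V : Scheme.{u}) n)) ∧
          Nonempty (DerivedCategory.Q.obj ((DCoh.restrictCx V).obj F) ≅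
            DerivedCategory.Q.obj P) := by
  constructor
  · intro hE x
    obtain ⟨V₀, hxV₀, E₀, hE₀, ⟨ι₀⟩⟩ := local_of_isPerfect hE x
    obtain ⟨W, hxW, hfree⟩ := exists_open_all_free hE₀ ⟨x, hxV₀⟩
    obtain ⟨a', b', hab⟩ := hE₀.1
    let V : X.Opens := V₀.ι ''ᵁ W
    let e : (W : Scheme.{u}) ≅ (V : Scheme.{u}) := V₀.ι.isoImage W
    have he : V.ι = e.inv ≫ W.ι ≫ V₀.ι := (V₀.ι.isoImage_inv_ι W).symm
    let P := (resCx e.inv).obj ((resCx W.ι).obj E₀)
    refine ⟨V, ⟨⟨x, hxV₀⟩, hxW, rfl⟩, fun F ⟨eF⟩ => ⟨P, a', b', ?_, ?_, ⟨?_⟩⟩⟩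
    · intro i hi
      exact (restrictFunctor e.inv).map_isZero ((restrictFunctor W.ι).map_isZero (hab i hi))
    · intro i
      obtain ⟨n, ⟨j⟩⟩ := hfree i
      exact ⟨n, ⟨(restrictFunctor e.inv).mapIso j ≪≫ StrPerf.freeModRestrictIso e.inv n⟩⟩
    · let T : DCoh.D (V₀ : Scheme.{u}) ⥤ DCoh.D (V : Scheme.{u}) := resD W.ι ⋙ resD e.inv
      have τ : ∀ G : CochainComplex (V₀ : Scheme.{u}).Modules ℤ,
          T.obj (DerivedCategory.Q.obj G) ≅
            DerivedCategory.Q.obj ((resCx e.inv).obj ((resCx W.ι).obj G)) := fun G =>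
        (resD e.inv).mapIso (resDQ W.ι G) ≪≫ resDQ e.inv _
      let η : restrictFunctor V.ι ≅
          restrictFunctor V₀.ι ⋙ restrictFunctor W.ι ⋙ restrictFunctor e.inv :=
        restrictFunctorCongr he ≪≫ restrictFunctorComp e.inv (W.ι ≫ V₀.ι) ≪≫
          Functor.isoWhiskerRight (restrictFunctorComp W.ι V₀.ι) (restrictFunctor e.inv)
      let cF : (resCx V.ι).obj F ≅
          (resCx e.inv).obj ((resCx W.ι).obj ((resCx V₀.ι).obj F)) :=
        (NatIso.mapHomologicalComplex η (ComplexShape.up ℤ)).app F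
      exact DerivedCategory.Q.mapIso cF ≪≫ (τ ((resCx V₀.ι).obj F)).symm ≪≫
        T.mapIso ((resDQ V₀.ι F).symm ≪≫ (resD V₀.ι).mapIso eF ≪≫ ι₀) ≪≫ τ E₀
  · intro h x
    obtain ⟨V, hxV, hV⟩ := h x
    refine ⟨V, hxV, fun F hF => ?_⟩
    obtain ⟨P, a, b, hab, hfree, hiso⟩ := hV F hF
    refine ⟨P, ⟨⟨a, b, hab⟩, fun i => ?_⟩, hiso⟩
    obtain ⟨n, ⟨j⟩⟩ := hfree i
    exact isFinLocFree_of_iso_freeMod j

end Groth.Agent.H23.PerfLocal
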