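import Mathlib
import Groth.Prelude.Def_DCoh3
import Groth.Agent.Lib.helper23.PerfLocal
import Groth.Agent.Lib.helper23.LocRep

open AlgebraicGeometry CategoryTheory CategoryTheory.Limits Opposite TopologicalSpace

attribute [local instance] HasDerivedCategory.standard

namespace Groth.Agent.H23.Perf23
universe u

open Scheme.Modules NullHtpy PerfLocal

variable {X : Scheme.{u}}

section comp
variable {Z Y : Scheme.{u}} (k : Z ⟶ X) [IsOpenImmersion k] (j : Y ⟶ Z) [IsOpenImmersion j]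

set_option backward.isDefEq.respectTransparency false in
/-- objectwise: restriction along a composite is the composite of restrictions -/
lemma nonempty_resD_comp (K : DCoh.D X) :
    Nonempty ((resD (j ≫ k)).obj K ≅ (resD j).obj ((resD k).obj K)) := by
  let F₀ := DerivedCategory.Q.objPreimage K
  let e₀ : DerivedCategory.Q.obj F₀ ≅ K := DerivedCategory.Q.objObjPreimageIso K
  let c : (resCx (j ≫ k)).obj F₀ ≅ (resCx j).obj ((resCx k).obj F₀) :=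
    (NatIso.mapHomologicalComplex (restrictFunctorComp j k) (ComplexShape.up ℤ)).app F₀
  exact ⟨(resD (j ≫ k)).mapIso e₀.symm ≪≫ resDQ (j ≫ k) F₀ ≪≫ DerivedCategory.Q.mapIso c ≪≫
    (resDQ j _).symm ≪≫ (resD j).mapIso ((resDQ k F₀).symm ≪≫ (resD k).mapIso e₀)⟩

lemma nonempty_resD_comp' (k' : Y ⟶ X) [IsOpenImmersion k'] (h : k' = j ≫ k) (K : DCoh.D X) :
    Nonempty ((resD k').obj K ≅ (resD j).obj ((resD k).obj K)) := by
  subst h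
  exact nonempty_resD_comp k j K

end comp

lemma isStrictlyPerfect_resCx {Z : Scheme.{u}} (k : Z ⟶ X) [IsOpenImmersion k]
    {E : CochainComplex X.Modules ℤ} (hE : DCoh.IsStrictlyPerfect E) :
    DCoh.IsStrictlyPerfect ((resCx k).obj E) := by
  obtain ⟨⟨a, b, hab⟩, hflf⟩ := hE
  exact ⟨⟨a, b, fun i hi => (restrictFunctor k).map_isZero (hab i hi)⟩,
    fun i => isFinLocFree_restrict k _ (hflf i)⟩

/-- the local condition -/
def LocPerf (K : DCoh.D X) (V : X.Opens) : Prop :=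
  ∃ E : CochainComplex (V : Scheme.{u}).Modules ℤ,
    DCoh.IsStrictlyPerfect E ∧ Nonempty ((resD V.ι).obj K ≅ DerivedCategory.Q.obj E)

/-- refinement to a smaller open -/
lemma locPerf_of_le {K : DCoh.D X} {V₁ V : X.Opens} (hV : V ≤ V₁) (h : LocPerf K V₁) :
    LocPerf K V := by
  obtain ⟨E₁, hE₁, ⟨i₁⟩⟩ := h
  let k : (V : Scheme.{u}) ⟶ V₁ := X.homOfLE hV
  have hk : V.ι = k ≫ V₁.ι := (X.homOfLE_ι hV).symm
  obtain ⟨c⟩ := nonempty_resD_comp' V₁.ι k V.ι hk K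
  exact ⟨(resCx k).obj E₁, isStrictlyPerfect_resCx k hE₁,
    ⟨c ≪≫ (resD k).mapIso i₁ ≪≫ resDQ k E₁⟩⟩

/-- transfer from an open of an open subscheme -/
lemma locPerf_image {K : DCoh.D X} (V₀ : X.Opens) (W : (V₀ : Scheme.{u}).Opens)
    (G : CochainComplex (W : Scheme.{u}).Modules ℤ) (hG : DCoh.IsStrictlyPerfect G)
    (i : (resD W.ι).obj ((resD V₀.ι).obj K) ≅ DerivedCategory.Q.obj G) :
    LocPerf K (V₀.ι ''ᵁ W) := by
  let e : (W : Scheme.{u}) ≅ ((V₀.ι ''ᵁ W : X.Opens) : Scheme.{u}) := V₀.ι.isoImage W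
  have he : (V₀.ι ''ᵁ W).ι = e.inv ≫ (W.ι ≫ V₀.ι) := (V₀.ι.isoImage_inv_ι W).symm
  obtain ⟨c₁⟩ := nonempty_resD_comp' (W.ι ≫ V₀.ι) e.inv (V₀.ι ''ᵁ W).ι he K
  obtain ⟨c₂⟩ := nonempty_resD_comp V₀.ι W.ι K
  exact ⟨(resCx e.inv).obj G, isStrictlyPerfect_resCx e.inv hG,
    ⟨c₁ ≪≫ (resD e.inv).mapIso (c₂ ≪≫ i) ≪≫ resDQ e.inv G⟩⟩

lemma isPerfect_iff_locPerf (K : DCoh.D X) :
    DCoh.IsPerfect K ↔ ∀ x : X, ∃ V : X.Opens, x ∈ V ∧ LocPerf K V :=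
  ⟨fun h x => local_of_isPerfect h x, fun h => isPerfect_of_local h⟩

open Pretriangulated CochainComplex in
set_option backward.isDefEq.respectTransparency false in
theorem isPerfect_obj₃ (T : Triangle (DCoh.D X)) (hT : T ∈ distTriang _)
    (h₁ : DCoh.IsPerfect T.obj₁) (h₂ : DCoh.IsPerfect T.obj₂) : DCoh.IsPerfect T.obj₃ := by
  rw [isPerfect_iff_locPerf] at h₁ h₂ ⊢
  intro x
  obtain ⟨V₁, hx₁, hl₁⟩ := h₁ x
  obtain ⟨V₂, hx₂, hl₂⟩ := h₂ x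
  obtain ⟨E₁, hE₁, ⟨i₁⟩⟩ := locPerf_of_le (inf_le_left : V₁ ⊓ V₂ ≤ V₁) hl₁
  obtain ⟨E₂, hE₂, ⟨i₂⟩⟩ := locPerf_of_le (inf_le_right : V₁ ⊓ V₂ ≤ V₂) hl₂
  let α : DerivedCategory.Q.obj E₁ ⟶ DerivedCategory.Q.obj E₂ :=
    i₁.inv ≫ (resD (V₁ ⊓ V₂).ι).map T.mor₁ ≫ i₂.hom
  obtain ⟨W, hxW, hW⟩ := LocRep.main0944 hE₁ α ⟨x, ⟨hx₁, hx₂⟩⟩
  obtain ⟨β, hβ⟩ := hW
  let TW := (resD W.ι).mapTriangle.obj ((resD (V₁ ⊓ V₂).ι).mapTriangle.obj T)
  have hTW : TW ∈ distTriang _ :=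
    (resD W.ι).map_distinguished _ ((resD (V₁ ⊓ V₂).ι).map_distinguished T hT)
  let T₂ := DerivedCategory.Q.mapTriangle.obj (mappingCone.triangle β)
  have hT₂ : T₂ ∈ distTriang _ := DerivedCategory.mappingCone_triangle_distinguished β
  let a₁ : TW.obj₁ ≅ T₂.obj₁ := (resD W.ι).mapIso i₁ ≪≫ resDQ W.ι E₁
  let a₂ : TW.obj₂ ≅ T₂.obj₂ := (resD W.ι).mapIso i₂ ≪≫ resDQ W.ι E₂
  have comm : TW.mor₁ ≫ a₂.hom = a₁.hom ≫ T₂.mor₁ := by
    change (resD W.ι).map ((resD (V₁ ⊓ V₂).ι).map T.mor₁) ≫ (resD W.ι).map i₂.hom ≫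
      (resDQ W.ι E₂).hom = ((resD W.ι).map i₁.hom ≫ (resDQ W.ι E₁).hom) ≫
        DerivedCategory.Q.map β
    have h' : (resD W.ι).map i₁.inv ≫ (resD W.ι).map ((resD (V₁ ⊓ V₂).ι).map T.mor₁) ≫
        (resD W.ι).map i₂.hom = (resDQ W.ι E₁).hom ≫ DerivedCategory.Q.map β ≫
          (resDQ W.ι E₂).inv := by
      rw [← Functor.map_comp, ← Functor.map_comp]
      exact hβ
    rw [← cancel_epi ((resD W.ι).map i₁.inv), ← cancel_mono (resDQ W.ι E₂).inv]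
    simp only [Category.assoc, Iso.hom_inv_id, Category.comp_id]
    rw [h', ← Functor.map_comp_assoc, Iso.inv_hom_id, CategoryTheory.Functor.map_id,
      Category.id_comp]
  let e3 := isoTriangleOfIso₁₂ TW T₂ hTW hT₂ a₁ a₂ comm
  have i₃ : (resD W.ι).obj ((resD (V₁ ⊓ V₂).ι).obj T.obj₃) ≅
      DerivedCategory.Q.obj (mappingCone β) := Triangle.π₃.mapIso e3
  have hcone : DCoh.IsStrictlyPerfect (mappingCone β) :=
    StrPerf.main6516 β (isStrictlyPerfect_resCx W.ι hE₁) (isStrictlyPerfect_resCx W.ι hE₂)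
  exact ⟨(V₁ ⊓ V₂).ι ''ᵁ W, ⟨⟨x, ⟨hx₁, hx₂⟩⟩, hxW, rfl⟩, locPerf_image (V₁ ⊓ V₂) W _ hcone i₃⟩

lemma isPerfect_of_iso {K K' : DCoh.D X} (e : K ≅ K') (h : DCoh.IsPerfect K) :
    DCoh.IsPerfect K' := by
  intro x
  obtain ⟨V, hxV, hV⟩ := h x
  exact ⟨V, hxV, fun F ⟨eF⟩ => hV F ⟨eF ≪≫ e.symm⟩⟩

lemma isStrictlyPerfect_shift {Y : Scheme.{u}} {E : CochainComplex Y.Modules ℤ}
    (hE : DCoh.IsStrictlyPerfect E) (n : ℤ) : DCoh.IsStrictlyPerfect (E⟦n⟧) := by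
  obtain ⟨⟨a, b, hab⟩, hflf⟩ := hE
  refine ⟨⟨a - n, b - n, fun i hi => ?_⟩, fun i => ?_⟩
  · exact hab (i + n) (by omega)
  · exact hflf (i + n)

set_option backward.isDefEq.respectTransparency false in
lemma isPerfect_shift {K : DCoh.D X} (h : DCoh.IsPerfect K) (n : ℤ) :
    DCoh.IsPerfect (K⟦n⟧) := by
  rw [isPerfect_iff_locPerf] at h ⊢
  intro x
  obtain ⟨V, hxV, E, hE, ⟨i⟩⟩ := h x
  refine ⟨V, hxV, E⟦n⟧, isStrictlyPerfect_shift hE n, ⟨?_⟩⟩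
  exact ((resD V.ι).commShiftIso n).app K ≪≫ (shiftFunctor _ n).mapIso i ≪≫
    ((DerivedCategory.Q.commShiftIso n).app E).symm

open Pretriangulated in
theorem main0887 (T : Triangle (DCoh.D X)) (hT : T ∈ distTriang _) :
    (DCoh.IsPerfect T.obj₁ → DCoh.IsPerfect T.obj₂ → DCoh.IsPerfect T.obj₃) ∧
    (DCoh.IsPerfect T.obj₁ → DCoh.IsPerfect T.obj₃ → DCoh.IsPerfect T.obj₂) ∧
    (DCoh.IsPerfect T.obj₂ → DCoh.IsPerfect T.obj₃ → DCoh.IsPerfect T.obj₁) := by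
  refine ⟨isPerfect_obj₃ T hT, fun h₁ h₃ => ?_, fun h₂ h₃ => ?_⟩
  · exact isPerfect_obj₃ T.invRotate (inv_rot_of_distTriang _ hT) (isPerfect_shift h₃ (-1)) h₁
  · have h := isPerfect_obj₃ T.rotate (rot_of_distTriang _ hT) h₂ h₃
    have h' := isPerfect_shift h (-1)
    exact isPerfect_of_iso ((shiftEquiv (DCoh.D X) (1 : ℤ)).unitIso.app T.obj₁).symm h'

end Groth.Agent.H23.Perf23
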