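import Mathlib

/-!
# Colimits over categories with pushouts and coequalizers are exact for abelian groups
-/

universe u

open CategoryTheory CategoryTheory.Limits Opposite

namespace PseudoFilt

variable {I : Type u} [SmallCategory I] [HasPushouts I] [HasCoequalizers I]

lemma exists_cospan_of_zigzag {i i' : I} (h : Zigzag i i') :
    ∃ (k : I), Nonempty (i ⟶ k) ∧ Nonempty (i' ⟶ k) := by
  induction h with
  | refl => exact ⟨i, ⟨𝟙 _⟩, ⟨𝟙 _⟩⟩
  | tail _ hz ih =>
    obtain ⟨k, ⟨a⟩, ⟨b⟩⟩ := ih
    rcases hz with ⟨⟨f⟩⟩ | ⟨⟨f⟩⟩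
    · exact ⟨pushout b f, ⟨a ≫ pushout.inl b f⟩, ⟨pushout.inr b f⟩⟩
    · exact ⟨k, ⟨a⟩, ⟨f ≫ b⟩⟩

/-- the functor to the discrete category of connected components -/
abbrev q : I ⥤ Discrete (ConnectedComponents I) :=
  ConnectedComponents.functorToDiscrete (ConnectedComponents I) id

lemma q_obj_eq {i k : I} (f : i ⟶ k) : (q (I := I)).obj i = (q (I := I)).obj k := by
  show Discrete.mk _ = Discrete.mk _
  congr 1
  exact Quotient.sound (Zigzag.of_hom f)

lemma q_obj_eq_of_costr {α : Discrete (ConnectedComponents I)}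
    (A : CostructuredArrow (q (I := I)) α) : (q (I := I)).obj A.left = α := by
  ext
  exact Discrete.eq_of_hom A.hom

/-- push a costructured arrow along a map -/
def mkB {α : Discrete (ConnectedComponents I)} (A : CostructuredArrow (q (I := I)) α) {k : I}
    (f : A.left ⟶ k) : CostructuredArrow (q (I := I)) α :=
  CostructuredArrow.mk (Y := k) (eqToHom ((q_obj_eq f).symm.trans (q_obj_eq_of_costr A)))

/-- the map to the pushed costructured arrow -/
def mkHom {α : Discrete (ConnectedComponents I)} (A : CostructuredArrow (q (I := I)) α) {k : I}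
    (f : A.left ⟶ k) : A ⟶ mkB A f :=
  CostructuredArrow.homMk f (Subsingleton.elim _ _)

instance isFiltered_costructuredArrow (α : Discrete (ConnectedComponents I)) :
    IsFiltered (CostructuredArrow (q (I := I)) α) := by
  have hne : Nonempty (CostructuredArrow (q (I := I)) α) := by
    obtain ⟨α⟩ := α
    obtain ⟨i, rfl⟩ := Quotient.exists_rep α
    exact ⟨CostructuredArrow.mk (Y := i) (𝟙 _)⟩
  refine @IsFiltered.mk _ _ ?_ hne
  refine ⟨?_, ?_⟩
  · intro A B
    have hz : Zigzag A.left B.left := by
      have h1 : (q (I := I)).obj A.left = (q (I := I)).obj B.left := by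
        rw [q_obj_eq_of_costr A, q_obj_eq_of_costr B]
      have h2 := congrArg Discrete.as h1
      exact Quotient.exact h2
    obtain ⟨k, ⟨a⟩, ⟨b⟩⟩ := exists_cospan_of_zigzag hz
    exact ⟨mkB A a, mkHom A a, CostructuredArrow.homMk b (Subsingleton.elim _ _), trivial⟩
  · intro A B f g
    refine ⟨mkB B (coequalizer.π f.left g.left), mkHom B (coequalizer.π f.left g.left), ?_⟩
    apply CostructuredArrow.hom_ext
    rw [CostructuredArrow.comp_left, CostructuredArrow.comp_left]
    exact coequalizer.condition f.left g.left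

end PseudoFilt
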