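import Mathlib
import Groth.Agent.Lib.helper23.PseudoFilt

/-!
# Colimits over categories with pushouts and coequalizers are exact for abelian groups, part 2
-/

universe u

open CategoryTheory CategoryTheory.Limits Opposite

namespace PseudoFilt

variable {I : Type u} [SmallCategory I] [HasPushouts I] [HasCoequalizers I]

lemma qlan_preservesFiniteLimits :
    PreservesFiniteLimits ((q (I := I)).lan :
      (I ⥤ AddCommGrpCat.{u}) ⥤ (Discrete (ConnectedComponents I) ⥤ AddCommGrpCat.{u})) := by
  apply preservesFiniteLimits_of_preservesFiniteLimitsOfSize.{u}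
  intro J _ _
  apply preservesLimitsOfShape_of_evaluation _ J
  intro α
  exact preservesLimitsOfShape_of_natIso (lanEvaluationIsoColim _ _ _).symm

/-- colimit over `I` factors through the left Kan extension to `π₀`. -/
noncomputable def colimIso :
    (colim : (I ⥤ AddCommGrpCat.{u}) ⥤ AddCommGrpCat.{u}) ≅ (q (I := I)).lan ⋙ colim :=
  Adjunction.leftAdjointUniq colimConstAdj
    ((((q (I := I)).lanAdjunction AddCommGrpCat.{u}).comp colimConstAdj).ofNatIsoRight
      (Functor.constCompWhiskeringLeftIso I (q (I := I))))

lemma colim_preservesFiniteLimits :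
    PreservesFiniteLimits (colim : (I ⥤ AddCommGrpCat.{u}) ⥤ AddCommGrpCat.{u}) := by
  have h1 := qlan_preservesFiniteLimits (I := I)
  have h2 : PreservesFiniteLimits
      (colim : (Discrete (ConnectedComponents I) ⥤ AddCommGrpCat.{u}) ⥤ AddCommGrpCat.{u}) :=
    inferInstance
  have h3 : PreservesFiniteLimits ((q (I := I)).lan ⋙
      (colim : (Discrete (ConnectedComponents I) ⥤ AddCommGrpCat.{u}) ⥤ AddCommGrpCat.{u})) :=
    comp_preservesFiniteLimits _ _
  exact preservesFiniteLimits_of_natIso (colimIso (I := I)).symm

end PseudoFilt
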