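import Mathlib
import Groth.Prelude.Def_SchFin2
import Groth.Agent.Lib.helper23.InvAlg
import Groth.Agent.Lib.helper23.InvOrbit
import Groth.Agent.Lib.helper23.FibFun

/-! Quotients by finite groups in the opposite of the category of étale covers and their
preservation by the fibre functor. -/

set_option autoImplicit false

open CategoryTheory CategoryTheory.Limits

universe u

namespace Groth.Agent.Lib.helper23.FinCatLib

/-- a cocone over a group action on a finite type is a colimit as soon as its leg is surjective
with the orbits as fibres -/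
noncomputable def isColimitOfOrbits {G : Type u} [Group G] (L : SingleObj G ⥤ FintypeCat.{u})
    (c : Cocone L) (hsurj : Function.Surjective (c.ι.app (SingleObj.star G)))
    (horb : ∀ y y' : L.obj (SingleObj.star G),
      c.ι.app (SingleObj.star G) y = c.ι.app (SingleObj.star G) y' →
        ∃ g : G, L.map (X := SingleObj.star G) (Y := SingleObj.star G) g y = y') :
    IsColimit c where
  desc s := FintypeCat.homMk (fun w => s.ι.app (SingleObj.star G) (Classical.choose (hsurj w)))
  fac s j := by
    ext y
    show s.ι.app (SingleObj.star G)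
      (Classical.choose (hsurj (c.ι.app (SingleObj.star G) y))) = s.ι.app (SingleObj.star G) y
    obtain ⟨g, hg⟩ := horb _ _ (Classical.choose_spec (hsurj (c.ι.app (SingleObj.star G) y)))
    have hn := s.ι.naturality (X := SingleObj.star G) (Y := SingleObj.star G) g
    have hn' : L.map (X := SingleObj.star G) (Y := SingleObj.star G) g ≫
        s.ι.app (SingleObj.star G) = s.ι.app (SingleObj.star G) :=
      hn.trans (Category.comp_id _)
    have := ConcreteCategory.congr_hom hn'
      (Classical.choose (hsurj (c.ι.app (SingleObj.star G) y)))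
    exact this.symm.trans ((ConcreteCategory.comp_apply _ _ _).trans
      (congrArg (fun z => s.ι.app (SingleObj.star G) z) hg))
  uniq s m hm := by
    ext w
    show m w = s.ι.app (SingleObj.star G) (Classical.choose (hsurj w))
    have h1 := ConcreteCategory.congr_hom (hm (SingleObj.star G)) (Classical.choose (hsurj w))
    have e : m w = m (c.ι.app (SingleObj.star G) (Classical.choose (hsurj w))) :=
      congrArg (fun z => m z) (Classical.choose_spec (hsurj w)).symm
    exact e.trans h1

end Groth.Agent.Lib.helper23.FinCatLib

namespace Groth.Agent.Lib.helper23.FEtLib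

open SchFin SchFin.GeomPt TensorProduct
open Groth.Agent.Lib.helper23.InvEt Groth.Agent.Lib.helper23.FinCatLib

variable {X : RSpace.{u}}

section Quot

variable {G : Type u} [Group G] (K : SingleObj G ⥤ (FEt X)ᵒᵖ)

/-- the étale cover acted upon -/
def actObj : FEt X := (K.obj (SingleObj.star G)).unop

/-- the action -/
def actHom : G → ((actObj K).obj ⟶ (actObj K).obj) := fun g =>
  (K.map (X := SingleObj.star G) (Y := SingleObj.star G) g).unop.hom

lemma actHom_one : actHom K 1 = 𝟙 _ := by
  have h : K.map (X := SingleObj.star G) (Y := SingleObj.star G) 1 = 𝟙 _ :=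
    K.map_id (SingleObj.star G)
  show (K.map (X := SingleObj.star G) (Y := SingleObj.star G) 1).unop.hom = 𝟙 _
  rw [h]
  rfl

lemma actHom_mul (g h : G) : actHom K (g * h) = actHom K g ≫ actHom K h := by
  have e : K.map (X := SingleObj.star G) (Y := SingleObj.star G) (g * h) =
      K.map (X := SingleObj.star G) (Y := SingleObj.star G) h ≫
        K.map (X := SingleObj.star G) (Y := SingleObj.star G) g :=
    K.map_comp (X := SingleObj.star G) (Y := SingleObj.star G) (Z := SingleObj.star G) h g
  show (K.map (X := SingleObj.star G) (Y := SingleObj.star G) (g * h)).unop.hom = _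
  rw [e]
  rfl

/-- local triviality of a single algebra -/
def LocTriv (A : Alg X) : Prop :=
  ∀ p : X.pt, ∃ (T : Type u) (_ : CommRing T) (_ : Algebra (X.ring p) T) (n : ℕ),
    Module.FaithfullyFlat (X.ring p) T ∧
    Nonempty (T ⊗[X.ring p] A.carrier p ≃ₐ[T] (Fin n → T))

variable [Finite G] (hX : X.IsFinSp) (hlt : LocTriv (actObj K).obj)

/-- the invariants as an étale cover -/
def quotObj : FEt X :=
  ⟨invAlg (actObj K).obj (actHom K), invAlg_isEtCover _ _ hX (actObj K).property hlt⟩

/-- the inclusion of the invariants -/
def quotIncl : quotObj K hX hlt ⟶ actObj K :=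
  ObjectProperty.homMk (invIncl (actObj K).obj (actHom K))

lemma quotIncl_comp (g : G) :
    quotIncl K hX hlt ≫ (K.map (X := SingleObj.star G) (Y := SingleObj.star G) g).unop =
      quotIncl K hX hlt := by
  apply ObjectProperty.hom_ext
  exact invIncl_comp (actObj K).obj (actHom K) g

/-- the quotient cocone -/
def quotCocone : Cocone K where
  pt := Opposite.op (quotObj K hX hlt)
  ι :=
    { app := fun _ => (quotIncl K hX hlt).op
      naturality := fun _ _ g =>
        (congrArg Quiver.Hom.op (quotIncl_comp K hX hlt g)).trans (Category.comp_id _).symm }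

lemma cocone_inv (s : Cocone K) (g : G) :
    (s.ι.app (SingleObj.star G)).unop.hom ≫ actHom K g = (s.ι.app (SingleObj.star G)).unop.hom := by
  have := s.ι.naturality (X := SingleObj.star G) (Y := SingleObj.star G) g
  have e : K.map (X := SingleObj.star G) (Y := SingleObj.star G) g ≫ s.ι.app (SingleObj.star G) =
      s.ι.app (SingleObj.star G) := this.trans (Category.comp_id _)
  exact congrArg (fun w => w.unop.hom) e

/-- the quotient cocone is a colimit -/
def quotIsColimit : IsColimit (quotCocone K hX hlt) where
  desc s := (ObjectProperty.homMk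
    (invLift (s.ι.app (SingleObj.star G)).unop.hom (cocone_inv K s)) :
      s.pt.unop ⟶ quotObj K hX hlt).op
  fac s j := by
    apply Quiver.Hom.unop_inj
    apply ObjectProperty.hom_ext
    exact invLift_incl (s.ι.app (SingleObj.star G)).unop.hom (cocone_inv K s)
  uniq s m hm := by
    apply Quiver.Hom.unop_inj
    apply ObjectProperty.hom_ext
    apply inv_hom_ext
    refine Eq.trans ?_ (invLift_incl (s.ι.app (SingleObj.star G)).unop.hom (cocone_inv K s)).symm
    exact congrArg (fun w => w.unop.hom) (hm (SingleObj.star G))

include hX hlt in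
theorem hasColimit_singleObj_op : HasColimit K :=
  ⟨⟨⟨quotCocone K hX hlt, quotIsColimit K hX hlt⟩⟩⟩

variable {Ω : Type u} [Field Ω] [IsAlgClosed Ω] (ξ : GeomPt X Ω)

attribute [local instance] algΩ

include hX hlt in
theorem preservesColimit_singleObj_fibFunctor : PreservesColimit K ξ.fibFunctor := by
  apply preservesColimit_of_preserves_colimit_cocone (quotIsColimit K hX hlt)
  have hA : Module.Finite (X.ring ξ.base) ((actObj K).obj.carrier ξ.base) :=
    ((actObj K).property.2 ξ.base).1
  have hI : Module.Finite (X.ring ξ.base) ((quotObj K hX hlt).obj.carrier ξ.base) :=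
    ((quotObj K hX hlt).property.2 ξ.base).1
  apply isColimitOfOrbits
  · exact fibMap_surjective_of_injective ξ (invIncl (actObj K).obj (actHom K))
      (invIncl_injective (actObj K).obj (actHom K) ξ.base) hI hA
  · intro y y' hyy
    obtain ⟨φ, rfl⟩ := fibPt_surjective ξ (actObj K).obj hA y
    obtain ⟨ψ, rfl⟩ := fibPt_surjective ξ (actObj K).obj hA y'
    have h1 : ξ.fibMap (invIncl (actObj K).obj (actHom K)) (fibPt ξ (actObj K).obj φ) =
        ξ.fibMap (invIncl (actObj K).obj (actHom K)) (fibPt ξ (actObj K).obj ψ) := hyy
    rw [fibMap_fibPt, fibMap_fibPt] at h1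
    have h2 := fibPt_injective ξ _ h1
    obtain ⟨T, _, _, n, hff, ⟨φT⟩⟩ := hlt ξ.base
    have hρ1 : endoAt (actObj K).obj (actHom K) ξ.base 1 =
        AlgHom.id (X.ring ξ.base) ((actObj K).obj.carrier ξ.base) := by
      show (actHom K 1).app ξ.base = _
      rw [actHom_one]
      rfl
    have hρm : ∀ g h, endoAt (actObj K).obj (actHom K) ξ.base (g * h) =
        (endoAt (actObj K).obj (actHom K) ξ.base h).comp
          (endoAt (actObj K).obj (actHom K) ξ.base g) := by
      intro g h
      show (actHom K (g * h)).app ξ.base = _
      rw [actHom_mul]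
      rfl
    obtain ⟨g, hg⟩ := exists_conj (endoAt (actObj K).obj (actHom K) ξ.base) T hρ1 hρm φT ψ φ
      (fun a ha => AlgHom.congr_fun h2.symm ⟨a, ha⟩)
    refine ⟨g, ?_⟩
    show ξ.fibMap (actHom K g) (fibPt ξ (actObj K).obj φ) = fibPt ξ (actObj K).obj ψ
    rw [fibMap_fibPt]
    exact congrArg _ hg.symm

end Quot

end Groth.Agent.Lib.helper23.FEtLib
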