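import Mathlib

/-!
# Exact functors have no higher right derived functors
-/

universe v v' u u'

open CategoryTheory CategoryTheory.Limits

namespace RDExact

variable {A : Type u} [Category.{v} A] [Abelian A] [HasInjectiveResolutions A]
  {B : Type u'} [Category.{v'} B] [Abelian B] (F : A ⥤ B) [F.Additive]

lemma isZero_rightDerived_succ [PreservesFiniteLimits F] [PreservesFiniteColimits F]
    (X : A) (q : ℕ) : IsZero ((F.rightDerived (q + 1)).obj X) := by
  let I : InjectiveResolution X := (HasInjectiveResolution.out (Z := X)).some
  refine IsZero.of_iso ?_ (I.isoRightDerivedObj F (q + 1))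
  have hex : (ShortComplex.mk _ _ (I.cocomplex.d_comp_d q (q + 1) (q + 2))).Exact := I.exact_succ q
  have hex2 := hex.map F
  have h3 : ((F.mapHomologicalComplex (ComplexShape.up ℕ)).obj I.cocomplex).ExactAt (q + 1) := by
    rw [HomologicalComplex.exactAt_iff' _ q (q + 1) (q + 2) (by simp)
      (by simp only [CochainComplex.next]; rfl)]
    exact hex2
  exact h3.isZero_homology

end RDExact
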