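import Mathlib

/-!
# Right derived functors and precomposition with an exact functor preserving injectives
-/

open CategoryTheory CategoryTheory.Limits

namespace RDPrecomp

universe v₁ u₁ v₂ u₂ v₃ u₃

variable {A : Type u₁} [Category.{v₁} A] [Abelian A] [HasInjectiveResolutions A]
  {B : Type u₂} [Category.{v₂} B] [Abelian B] [HasInjectiveResolutions B]
  {D : Type u₃} [Category.{v₃} D] [Abelian D]

/-- isomorphic additive functors have isomorphic right derived functors -/
noncomputable def rightDerivedIsoOfIso {F F' : A ⥤ D} [F.Additive] [F'.Additive] (e : F ≅ F')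
    (n : ℕ) : F.rightDerived n ≅ F'.rightDerived n where
  hom := NatTrans.rightDerived e.hom n
  inv := NatTrans.rightDerived e.inv n
  hom_inv_id := by rw [← NatTrans.rightDerived_comp, e.hom_inv_id, NatTrans.rightDerived_id]
  inv_hom_id := by rw [← NatTrans.rightDerived_comp, e.inv_hom_id, NatTrans.rightDerived_id]

variable (E : A ⥤ B) [E.Additive] [E.PreservesHomology]
  (hE : ∀ I : A, Injective I → Injective (E.obj I))
  (T : B ⥤ D) [T.Additive]

/-- An exact functor preserving injectives maps injective resolutions to injective resolutions. -/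
noncomputable def mapRes {X : A} (I : InjectiveResolution X) : InjectiveResolution (E.obj X) where
  cocomplex := (E.mapHomologicalComplex _).obj I.cocomplex
  injective n := hE _ (I.injective n)
  ι := (HomologicalComplex.singleMapHomologicalComplex E (ComplexShape.up ℕ) 0).inv.app X ≫
    (E.mapHomologicalComplex _).map I.ι
  quasiIso := inferInstance

/-- `(E ⋙ T).mapHomologicalComplex` versus the composition -/
noncomputable def compIso (K : CochainComplex A ℕ) :
    ((E ⋙ T).mapHomologicalComplex (ComplexShape.up ℕ)).obj K ≅
      (T.mapHomologicalComplex (ComplexShape.up ℕ)).obj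
        ((E.mapHomologicalComplex (ComplexShape.up ℕ)).obj K) :=
  HomologicalComplex.Hom.isoOfComponents (fun i => Iso.refl _) (by
    intro i j _
    simp only [Iso.refl_hom]
    exact (Category.id_comp _).trans (Category.comp_id _).symm)

/-- `R^n(E ⋙ T) X ≅ R^n T (E X)` -/
noncomputable def objIso (X : A) (n : ℕ) :
    ((E ⋙ T).rightDerived n).obj X ≅ (T.rightDerived n).obj (E.obj X) :=
  (injectiveResolution X).isoRightDerivedObj (E ⋙ T) n ≪≫
    (HomologicalComplex.homologyFunctor D (ComplexShape.up ℕ) n).mapIso
      (compIso E T (injectiveResolution X).cocomplex) ≪≫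
    ((mapRes E hE (injectiveResolution X)).isoRightDerivedObj T n).symm

end RDPrecomp
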