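import Groth.Prelude.Def_W4c2azumayainvolQEt
import Mathlib

/-! Helper lemmas on rings with involution (`RInv`). -/

set_option autoImplicit false
universe u v

namespace Groth.Agent.Lib.helper23.RInvLib

variable {S : Type u} {R : Type v} [CommRing S] [CommRing R] [Algebra S R] (lam : R ≃+* R)

theorem lam_algebraMap (hS : RInv.IsFixedRing S R lam) (s : S) :
    lam (algebraMap S R s) = algebraMap S R s := (hS.2 _).2 ⟨s, rfl⟩

/-- The decomposition `x = c₀ + c₁ r` when `r - lam r` is a unit. -/
theorem exists_decomp (hlam : Function.Involutive lam) (hS : RInv.IsFixedRing S R lam)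
    (r : R) (hu : IsUnit (r - lam r)) (x : R) :
    ∃ s₀ s₁ : S, x = algebraMap S R s₀ + algebraMap S R s₁ * r := by
  obtain ⟨w, hw⟩ := hu.exists_right_inv
  set u := r - lam r with hu_def
  have hlu : lam u = -u := by rw [hu_def, map_sub, hlam r]; ring
  have hlw : lam w = -w := by
    have h1 : lam u * lam w = 1 := by rw [← map_mul, hw, map_one]
    rw [hlu] at h1
    calc lam w = (u * w) * lam w := by rw [hw, one_mul]
      _ = -((-u * lam w) * w) := by ring
      _ = -w := by rw [h1, one_mul]
  set c₁ := (x - lam x) * w with hc₁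
  have hc₁fix : lam c₁ = c₁ := by
    rw [hc₁, map_mul, map_sub, hlam x, hlw]; ring
  obtain ⟨s₁, hs₁⟩ := (hS.2 c₁).1 hc₁fix
  set c₀ := x - c₁ * r with hc₀
  have hc₀fix : lam c₀ = c₀ := by
    rw [hc₀, map_sub, map_mul, hc₁fix]
    have : c₁ * (r - lam r) = x - lam x := by
      rw [hc₁, mul_assoc, mul_comm w, ← hu_def, hw, mul_one]
    linear_combination this
  obtain ⟨s₀, hs₀⟩ := (hS.2 c₀).1 hc₀fix
  exact ⟨s₀, s₁, by rw [hs₀, hs₁, hc₀]; ring⟩

/-- Uniqueness of the decomposition. -/
theorem decomp_unique (hS : RInv.IsFixedRing S R lam)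
    (r : R) (hu : IsUnit (r - lam r)) (s₀ s₁ : S)
    (h : algebraMap S R s₀ + algebraMap S R s₁ * r = 0) : s₀ = 0 ∧ s₁ = 0 := by
  obtain ⟨w, hw⟩ := hu.exists_right_inv
  have h' := congrArg lam h
  rw [map_add, map_mul, lam_algebraMap lam hS, lam_algebraMap lam hS, map_zero] at h'
  have h1 : algebraMap S R s₁ * (r - lam r) = 0 := by linear_combination h - h'
  have h2 : algebraMap S R s₁ = 0 := by
    calc algebraMap S R s₁ = algebraMap S R s₁ * (r - lam r) * w := by rw [mul_assoc, hw, mul_one]
      _ = 0 := by rw [h1, zero_mul]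
  have h3 : algebraMap S R s₀ = 0 := by rw [h2, zero_mul, add_zero] at h; exact h
  exact ⟨hS.1 (by rw [h3, map_zero]), hS.1 (by rw [h2, map_zero])⟩

/-- The linear equivalence `S × S ≃ R`. -/
noncomputable def equivProd (hlam : Function.Involutive lam) (hS : RInv.IsFixedRing S R lam)
    (r : R) (hu : IsUnit (r - lam r)) : (S × S) ≃ₗ[S] R :=
  LinearEquiv.ofBijective
    ((Algebra.linearMap S R).coprod ((Algebra.linearMap S R).smulRight r ∘ₗ LinearMap.id))
    (by
      constructor
      · rw [injective_iff_map_eq_zero]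
        rintro ⟨s₀, s₁⟩ h
        have h' : algebraMap S R s₀ + algebraMap S R s₁ * r = 0 := by
          simpa [Algebra.smul_def] using h
        obtain ⟨h0, h1⟩ := decomp_unique lam hS r hu s₀ s₁ h'
        rw [h0, h1]; rfl
      · intro x
        obtain ⟨s₀, s₁, hx⟩ := exists_decomp lam hlam hS r hu x
        exact ⟨(s₀, s₁), by simp [Algebra.smul_def, hx]⟩)

theorem isQuadEtale_of_unit (hlam : Function.Involutive lam) (hS : RInv.IsFixedRing S R lam)
    (r : R) (hu : IsUnit (r - lam r)) : RInv.IsQuadEtale S R := by
  have e := equivProd lam hlam hS r hu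
  have : Module.Free S R := Module.Free.of_equiv e
  have : Module.Finite S R := Module.Finite.equiv e
  refine ⟨inferInstance, inferInstance, ⟨?_⟩, ?_⟩
  · -- Ω = 0
    have hD : KaehlerDifferential.D S R r = 0 := by
      have hrel : r * r - (r + lam r) * r + r * lam r = 0 := by ring
      obtain ⟨t, ht⟩ := (hS.2 (r + lam r)).1 (by rw [map_add, hlam r]; ring)
      obtain ⟨n, hn⟩ := (hS.2 (r * lam r)).1 (by rw [map_mul, hlam r]; ring)
      have h1 := congrArg (KaehlerDifferential.D S R) hrel
      rw [map_zero, map_add, map_sub, Derivation.leibniz, ← ht, ← hn, Derivation.leibniz,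
        Derivation.map_algebraMap, Derivation.map_algebraMap, smul_zero, add_zero, add_zero] at h1
      have h2 : (r - lam r) • KaehlerDifferential.D S R r = 0 := by
        have : (r - lam r) = r + r - algebraMap S R t := by rw [ht]; ring
        rw [this, sub_smul, add_smul]
        exact h1
      obtain ⟨w, hw⟩ := hu.exists_right_inv
      calc KaehlerDifferential.D S R r = (w * (r - lam r)) • KaehlerDifferential.D S R r := by
            rw [mul_comm, hw, one_smul]
        _ = 0 := by rw [mul_smul, h2, smul_zero]
    have hDall : ∀ y, KaehlerDifferential.D S R y = 0 := by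
      intro y
      obtain ⟨s₀, s₁, rfl⟩ := exists_decomp lam hlam hS r hu y
      rw [map_add, Derivation.leibniz, Derivation.map_algebraMap, Derivation.map_algebraMap, hD]
      simp
    refine subsingleton_of_forall_eq 0 (fun x => ?_)
    have hx : x ∈ Submodule.span R (Set.range (KaehlerDifferential.D S R)) := by
      rw [KaehlerDifferential.span_range_derivation]; trivial
    induction hx using Submodule.span_induction with
    | mem y hy => obtain ⟨z, rfl⟩ := hy; exact hDall z
    | zero => rfl
    | add a b _ _ ha hb => rw [ha, hb, add_zero]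
    | smul c a _ ha => rw [ha, smul_zero]
  · intro p
    have : Nontrivial S := ⟨⟨0, 1, fun h => p.isPrime.ne_top
      ((Ideal.eq_top_iff_one _).2 (h ▸ p.asIdeal.zero_mem))⟩⟩
    rw [Module.rankAtStalk_eq_finrank_of_free]
    show Module.finrank S R = 2
    rw [← e.finrank_eq, Module.finrank_prod, Module.finrank_self]

/-- For `S` local, every maximal ideal of `R` contains the image of the maximal ideal of `S`. -/
theorem algebraMap_mem_of_isMaximal [IsLocalRing S] (hlam : Function.Involutive lam)
    (hS : RInv.IsFixedRing S R lam) (M : Ideal R) (hM : M.IsMaximal) (s : S)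
    (hs : s ∈ IsLocalRing.maximalIdeal S) : algebraMap S R s ∈ M := by
  by_contra hnot
  obtain ⟨y, i, hi, hyi⟩ := hM.exists_inv hnot
  obtain ⟨a, ha⟩ := (hS.2 (y + lam y)).1 (by rw [map_add, hlam y]; ring)
  obtain ⟨b, hb⟩ := (hS.2 (y * lam y)).1 (by rw [map_mul, hlam y]; ring)
  have hi' : i = 1 - y * algebraMap S R s := by rw [← hyi]; ring
  have hprod : i * lam i = algebraMap S R (1 - s * (a - s * b)) := by
    rw [hi', map_sub, map_one, map_mul, lam_algebraMap lam hS, map_sub, map_one, map_mul, map_sub,
      map_mul, ha, hb]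
    ring
  have hunit : IsUnit (1 - s * (a - s * b)) := by
    apply IsLocalRing.isUnit_one_sub_self_of_mem_nonunits
    exact Ideal.mul_mem_right _ _ hs
  have hunit' : IsUnit (i * lam i) := by rw [hprod]; exact hunit.map _
  exact hM.ne_top (Ideal.eq_top_of_isUnit_mem _ (Ideal.mul_mem_right _ _ hi) hunit')

/-- For `S` local, the image of the maximal ideal lies in the Jacobson radical. -/
theorem algebraMap_mem_jacobson [IsLocalRing S] (hlam : Function.Involutive lam)
    (hS : RInv.IsFixedRing S R lam) (s : S)
    (hs : s ∈ IsLocalRing.maximalIdeal S) : algebraMap S R s ∈ Ring.jacobson R := by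
  rw [Ring.jacobson_eq_sInf_isMaximal, Ideal.mem_sInf]
  intro M hM
  exact algebraMap_mem_of_isMaximal lam hlam hS M hM s hs

/-- For `S` local: a fixed element is a unit or lies in the Jacobson radical. -/
theorem isUnit_or_mem_jacobson_of_fixed [IsLocalRing S] (hlam : Function.Involutive lam)
    (hS : RInv.IsFixedRing S R lam) (c : R) (hc : lam c = c) :
    IsUnit c ∨ c ∈ Ring.jacobson R := by
  obtain ⟨s, rfl⟩ := (hS.2 c).1 hc
  by_cases hs : IsUnit s
  · exact Or.inl (hs.map _)
  · exact Or.inr (algebraMap_mem_jacobson lam hlam hS s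
      ((IsLocalRing.mem_maximalIdeal s).2 hs))

/-- If some power of `x` lies in the Jacobson radical then so does `x`. -/
theorem mem_jacobson_of_pow_mem (x : R) (n : ℕ) (h : x ^ n ∈ Ring.jacobson R) :
    x ∈ Ring.jacobson R := by
  rw [Ring.jacobson_eq_sInf_isMaximal, Ideal.mem_sInf] at h ⊢
  intro M hM
  haveI : M.IsMaximal := hM
  exact Ideal.IsPrime.mem_of_pow_mem (Ideal.IsMaximal.isPrime hM) n (h hM)

/-- `lam` as an `S`-algebra homomorphism. -/
def lamAlgHom (hS : RInv.IsFixedRing S R lam) : R →ₐ[S] R :=
  { (lam : R →+* R) with commutes' := fun s => lam_algebraMap lam hS s }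

open TensorProduct in
/-- If `R` is finite and formally unramified over `S` and `lam` is the identity modulo the Jacobson
radical, then `lam` is the identity. -/
theorem eq_id_of_sub_mem_jacobson (hS : RInv.IsFixedRing S R lam)
    [Module.Finite S R] [Algebra.FormallyUnramified S R]
    (h : ∀ r : R, lam r - r ∈ Ring.jacobson R) : ∀ r : R, lam r = r := by
  obtain ⟨t, ht1, ht2⟩ := (Algebra.FormallyUnramified.iff_exists_tensorProduct (R := S) (S := R)).1
    inferInstance
  let f : R ⊗[S] R →ₐ[S] R :=
    Algebra.TensorProduct.lift (AlgHom.id S R) (lamAlgHom lam hS) (fun _ _ => Commute.all _ _)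
  have hf : ∀ x y : R, f (x ⊗ₜ y) = x * lam y := fun x y => by
    simp [f, lamAlgHom]
  have hdiff : ∀ z : R ⊗[S] R, f z - Algebra.TensorProduct.lmul' S z ∈ Ring.jacobson R := by
    intro z
    induction z using TensorProduct.induction_on with
    | zero => simp
    | tmul x y =>
      rw [hf, Algebra.TensorProduct.lmul'_apply_tmul]
      have : x * lam y - x * y = x * (lam y - y) := by ring
      rw [this]
      exact Ideal.mul_mem_left _ _ (h y)
    | add a b ha hb =>
      have : f (a + b) - Algebra.TensorProduct.lmul' S (a + b) =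
          (f a - Algebra.TensorProduct.lmul' S a) + (f b - Algebra.TensorProduct.lmul' S b) := by
        rw [map_add, map_add]; ring
      rw [this]
      exact Ideal.add_mem _ ha hb
  have hτ : IsUnit (f t) := by
    have h1 := hdiff t
    rw [ht2, ← Ideal.jacobson_bot, Ideal.mem_jacobson_bot] at h1
    have := h1 1
    rwa [mul_one, sub_add_cancel] at this
  intro r
  have h2 := congrArg f (ht1 r)
  rw [map_mul, map_sub, hf, hf, map_zero, one_mul, map_one, mul_one] at h2
  have h3 : lam r - r = 0 := by
    obtain ⟨w, hw⟩ := hτ.exists_right_inv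
    calc lam r - r = (lam r - r) * f t * w := by rw [mul_assoc, hw, mul_one]
      _ = 0 := by rw [h2, zero_mul]
  exact sub_eq_zero.1 h3

/-- A quadratic etale algebra whose fixed ring for an involution is the base admits no involution
that is the identity modulo the Jacobson radical. -/
theorem not_quadEtale_of_sub_mem_jacobson (hS : RInv.IsFixedRing S R lam) [Nontrivial S]
    (h : ∀ r : R, lam r - r ∈ Ring.jacobson R) : ¬ RInv.IsQuadEtale S R := by
  rintro ⟨hfin, hproj, hunr, hrank⟩
  have hid := eq_id_of_sub_mem_jacobson lam hS h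
  have hsurj : Function.Surjective (algebraMap S R) := fun r => (hS.2 r).1 (hid r)
  let e : S ≃ₗ[S] R := LinearEquiv.ofBijective (Algebra.linearMap S R) ⟨hS.1, hsurj⟩
  obtain ⟨p⟩ := (inferInstance : Nonempty (PrimeSpectrum S))
  have h1 := hrank p
  rw [← Module.rankAtStalk_eq_of_equiv e, Module.rankAtStalk_self] at h1
  simp at h1

/-- For `S` local: if `lam r - r` is not in the Jacobson radical then `r - lam r` is a unit. -/
theorem isUnit_sub_of_notMem_jacobson [IsLocalRing S] (hlam : Function.Involutive lam)
    (hS : RInv.IsFixedRing S R lam) (r : R) (hr : lam r - r ∉ Ring.jacobson R) :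
    IsUnit (r - lam r) := by
  set d := lam r - r with hd
  have hld : lam d = -d := by rw [hd, map_sub, hlam r]; ring
  have hfix : lam (d ^ 2) = d ^ 2 := by rw [map_pow, hld]; ring
  rcases isUnit_or_mem_jacobson_of_fixed lam hlam hS (d ^ 2) hfix with hu | hj
  · have hdu : IsUnit d := (isUnit_pow_iff (by norm_num)).1 hu
    have : r - lam r = -d := by rw [hd]; ring
    rw [this]
    exact hdu.neg
  · exact absurd (mem_jacobson_of_pow_mem d 2 hj) hr

/-- For `S` local: if `lam` is the identity modulo the Jacobson radical, `R` is local. -/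
theorem isLocalRing_of_sub_mem_jacobson [IsLocalRing S] (hlam : Function.Involutive lam)
    (hS : RInv.IsFixedRing S R lam) (h : ∀ r : R, lam r - r ∈ Ring.jacobson R) :
    IsLocalRing R := by
  haveI : Nontrivial R := hS.1.nontrivial
  apply IsLocalRing.of_isUnit_or_isUnit_one_sub_self
  intro x
  have hfix : lam (x * lam x) = x * lam x := by rw [map_mul, hlam x]; ring
  rcases isUnit_or_mem_jacobson_of_fixed lam hlam hS (x * lam x) hfix with hu | hj
  · exact Or.inl (isUnit_of_mul_isUnit_left hu)
  · right
    have hx2 : x ^ 2 ∈ Ring.jacobson R := by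
      have : x ^ 2 = x * lam x - x * (lam x - x) := by ring
      rw [this]
      exact Ideal.sub_mem _ hj (Ideal.mul_mem_left _ _ (h x))
    have hxJ := mem_jacobson_of_pow_mem x 2 hx2
    rw [← Ideal.jacobson_bot, Ideal.mem_jacobson_bot] at hxJ
    have := hxJ (-1)
    have e : x * -1 + 1 = 1 - x := by ring
    rwa [e] at this

end Groth.Agent.Lib.helper23.RInvLib
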