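import Groth.Prelude.Def_W4c2azumayainvolQEt
import Mathlib
import Groth.Agent.Lib.helper23.RInvLib
import Groth.Agent.S15586
import Groth.Agent.S15573
import Groth.Agent.S15574

/-! Base change of rings with involution along flat maps and localisations. -/

set_option autoImplicit false
universe u v w
open scoped TensorProduct

namespace Groth.Agent.Lib.helper23.RInvLoc

open Groth.Agent.Lib.helper23.RInvLib

variable {S : Type u} {R : Type v} [CommRing S] [CommRing R] [Algebra S R] (lam : R ≃+* R)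

/-- `lam` as an `S`-algebra equivalence. -/
def lamAlgEquiv (hS : RInv.IsFixedRing S R lam) : R ≃ₐ[S] R :=
  AlgEquiv.ofRingEquiv (f := lam) (lam_algebraMap lam hS)

@[simp] lemma lamAlgEquiv_apply (hS : RInv.IsFixedRing S R lam) (r : R) :
    lamAlgEquiv lam hS r = lam r := rfl

/-- the base-changed involution -/
noncomputable def lamBC (hS : RInv.IsFixedRing S R lam) (S' : Type w) [CommRing S'] [Algebra S S'] :
    (S' ⊗[S] R) ≃+* (S' ⊗[S] R) :=
  (Algebra.TensorProduct.congr (AlgEquiv.refl : S' ≃ₐ[S] S') (lamAlgEquiv lam hS)).toRingEquiv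

variable (S' : Type w) [CommRing S'] [Algebra S S']

@[simp] lemma lamBC_tmul (hS : RInv.IsFixedRing S R lam) (a : S') (r : R) :
    lamBC lam hS S' (a ⊗ₜ[S] r) = a ⊗ₜ[S] lam r := by
  simp [lamBC]

lemma lamBC_involutive (hS : RInv.IsFixedRing S R lam) (hlam : Function.Involutive lam) :
    Function.Involutive (lamBC lam hS S') := by
  intro x
  induction x using TensorProduct.induction_on with
  | zero => simp
  | tmul a b => simp [hlam b]
  | add a b ha hb => simp only [map_add, ha, hb]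

lemma isFixedRing_lamBC (hS : RInv.IsFixedRing S R lam) (hlam : Function.Involutive lam)
    (h : Module.Flat S S' ∨ IsUnit (2 : S)) :
    RInv.IsFixedRing S' (S' ⊗[S] R) (lamBC lam hS S') :=
  Groth.Agent.S15586.result S R S' (lamAlgEquiv lam hS) hlam hS h


section loc

attribute [local instance] Algebra.TensorProduct.rightAlgebra

variable (M : Submonoid S) [IsLocalization M S']

lemma rightAlgebraMap_apply (r : R) : algebraMap R (S' ⊗[S] R) r = 1 ⊗ₜ[S] r := rfl

/-- every element of `S_M ⊗ R` is `r / m`. -/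
lemma exists_mul_eq (x : S' ⊗[S] R) : ∃ (r : R) (t : S), t ∈ M ∧
    x * (1 ⊗ₜ[S] (algebraMap S R t)) = 1 ⊗ₜ[S] r := by
  obtain ⟨⟨r, m⟩, h⟩ := IsLocalization.surj (Algebra.algebraMapSubmonoid R M) x
  obtain ⟨t, ht, htm⟩ := m.2
  refine ⟨r, t, ht, ?_⟩
  simp only at h
  rw [← htm] at h
  exact h

lemma isUnit_one_tmul_algebraMap (t : S) (ht : t ∈ M) :
    IsUnit ((1 : S') ⊗ₜ[S] (algebraMap S R t)) :=
  IsLocalization.map_units (S' ⊗[S] R)
    (⟨algebraMap S R t, t, ht, rfl⟩ : Algebra.algebraMapSubmonoid R M)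

include M in
/-- If some `x - lam x` is a unit in `S_M ⊗ R`, then so is some `1 ⊗ (r - lam r)`. -/
lemma exists_isUnit_one_tmul (hS : RInv.IsFixedRing S R lam) (x : S' ⊗[S] R)
    (hx : IsUnit (x - lamBC lam hS S' x)) :
    ∃ r : R, IsUnit ((1 : S') ⊗ₜ[S] (r - lam r)) := by
  obtain ⟨r, t, ht, h⟩ := exists_mul_eq S' M x
  refine ⟨r, ?_⟩
  have h' := congrArg (lamBC lam hS S') h
  rw [map_mul, lamBC_tmul, lamBC_tmul, lam_algebraMap lam hS] at h'
  have : (1 : S') ⊗ₜ[S] (r - lam r) =
      (x - lamBC lam hS S' x) * (1 ⊗ₜ[S] (algebraMap S R t)) := by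
    rw [TensorProduct.tmul_sub, ← h, ← h']
    ring
  rw [this]
  exact hx.mul (isUnit_one_tmul_algebraMap S' M t ht)

/-- If `1 ⊗ d` is a unit in `S_M ⊗ R` then `d` divides an element of `M`. -/
lemma exists_mul_eq_algebraMap_of_isUnit (d : R) (hd : IsUnit ((1 : S') ⊗ₜ[S] d)) :
    ∃ (r' : R) (s : S), s ∈ M ∧ d * r' = algebraMap S R s := by
  obtain ⟨z, hz⟩ := hd.exists_right_inv
  obtain ⟨r', t, ht, h⟩ := exists_mul_eq S' M z
  have h1 : algebraMap R (S' ⊗[S] R) (d * r') = algebraMap R (S' ⊗[S] R) (algebraMap S R t) := by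
    rw [rightAlgebraMap_apply, rightAlgebraMap_apply]
    have : (1 : S') ⊗ₜ[S] (d * r') = (1 ⊗ₜ[S] d) * (1 ⊗ₜ[S] r') := by
      rw [Algebra.TensorProduct.tmul_mul_tmul, mul_one]
    rw [this, ← h, ← mul_assoc, hz, one_mul]
  obtain ⟨c, hc⟩ := (IsLocalization.eq_iff_exists (Algebra.algebraMapSubmonoid R M) _).1 h1
  obtain ⟨c', hc', hcc⟩ := c.2
  refine ⟨c * r', c' * t, M.mul_mem hc' ht, ?_⟩
  rw [map_mul, hcc]
  linear_combination hc

end loc

/-- If `d * r' = s` then `1 ⊗ d` is a unit in `S_s ⊗ R`. -/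
lemma isUnit_one_tmul_away (s : S) (d r' : R) (h : d * r' = algebraMap S R s) :
    IsUnit ((1 : Localization.Away s) ⊗ₜ[S] d) := by
  have h1 : ((1 : Localization.Away s) ⊗ₜ[S] d) * (1 ⊗ₜ[S] r') =
      algebraMap (Localization.Away s) (Localization.Away s ⊗[S] R)
        (algebraMap S (Localization.Away s) s) := by
    rw [Algebra.TensorProduct.tmul_mul_tmul, mul_one, h, Algebra.TensorProduct.algebraMap_apply,
      Algebra.algebraMap_self, RingHom.id_apply, Algebra.algebraMap_eq_smul_one (A := R),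
      ← TensorProduct.smul_tmul, Algebra.smul_def, mul_one]
  have h2 : IsUnit (algebraMap (Localization.Away s) (Localization.Away s ⊗[S] R)
        (algebraMap S (Localization.Away s) s)) :=
    (IsLocalization.Away.algebraMap_isUnit s).map _
  rw [← h1] at h2
  exact isUnit_of_mul_isUnit_left h2

/-- Spreading out quadratic etaleness from a localisation. -/
theorem exists_away_quadEtale (hlam : Function.Involutive lam) (hS : RInv.IsFixedRing S R lam)
    (M : Submonoid S) [IsLocalization M S'] [IsLocalRing S']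
    (hq : RInv.IsQuadEtale S' (S' ⊗[S] R)) :
    ∃ s : S, s ∈ M ∧ ∃ r : R, IsUnit ((1 : Localization.Away s) ⊗ₜ[S] (r - lam r)) := by
  have : Module.Flat S S' := IsLocalization.flat S' M
  have hfix := isFixedRing_lamBC lam S' hS hlam (Or.inl inferInstance)
  obtain ⟨x, hx⟩ := Groth.Agent.S15574.result S' (S' ⊗[S] R) (lamBC lam hS S')
    (lamBC_involutive lam S' hS hlam) hfix hq
  obtain ⟨r, hr⟩ := exists_isUnit_one_tmul lam S' M hS x hx
  obtain ⟨r', s, hs, h⟩ := exists_mul_eq_algebraMap_of_isUnit S' M _ hr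
  exact ⟨s, hs, r, isUnit_one_tmul_away s _ r' h⟩

/-- quadratic etaleness of `S_s ⊗ R` from a unit `1 ⊗ (r - lam r)` -/
theorem quadEtale_away (hlam : Function.Involutive lam) (hS : RInv.IsFixedRing S R lam)
    (s : S) (r : R) (hr : IsUnit ((1 : Localization.Away s) ⊗ₜ[S] (r - lam r))) :
    RInv.IsQuadEtale (Localization.Away s) (Localization.Away s ⊗[S] R) := by
  have : Module.Flat S (Localization.Away s) := IsLocalization.flat _ (Submonoid.powers s)
  have hfix := isFixedRing_lamBC lam (Localization.Away s) hS hlam (Or.inl inferInstance)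
  refine Groth.Agent.S15573.result _ _ (lamBC lam hS (Localization.Away s))
    (lamBC_involutive lam _ hS hlam) hfix ⟨1 ⊗ₜ[S] r, ?_⟩
  rw [lamBC_tmul, ← TensorProduct.tmul_sub]
  exact hr

/-- If `d * r' = s` and `s` is a unit of `S'` then `1 ⊗ d` is a unit in `S' ⊗ R`. -/
lemma isUnit_one_tmul_of_mul_eq (s : S) (d r' : R) (h : d * r' = algebraMap S R s)
    (hs : IsUnit (algebraMap S S' s)) :
    IsUnit ((1 : S') ⊗ₜ[S] d) := by
  have h1 : ((1 : S') ⊗ₜ[S] d) * (1 ⊗ₜ[S] r') =
      algebraMap S' (S' ⊗[S] R) (algebraMap S S' s) := by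
    rw [Algebra.TensorProduct.tmul_mul_tmul, mul_one, h, Algebra.TensorProduct.algebraMap_apply,
      Algebra.algebraMap_self, RingHom.id_apply, Algebra.algebraMap_eq_smul_one (A := R),
      ← TensorProduct.smul_tmul, Algebra.smul_def, mul_one]
  have h2 : IsUnit (algebraMap S' (S' ⊗[S] R) (algebraMap S S' s)) := hs.map _
  rw [← h1] at h2
  exact isUnit_of_mul_isUnit_left h2

/-- quadratic etaleness of `S' ⊗ R` from a unit `1 ⊗ (r - lam r)`, `S'` flat -/
theorem quadEtale_of_isUnit_one_tmul (hlam : Function.Involutive lam)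
    (hS : RInv.IsFixedRing S R lam) [Module.Flat S S']
    (r : R) (hr : IsUnit ((1 : S') ⊗ₜ[S] (r - lam r))) :
    RInv.IsQuadEtale S' (S' ⊗[S] R) := by
  have hfix := isFixedRing_lamBC lam S' hS hlam (Or.inl inferInstance)
  refine Groth.Agent.S15573.result _ _ (lamBC lam hS S')
    (lamBC_involutive lam _ hS hlam) hfix ⟨1 ⊗ₜ[S] r, ?_⟩
  rw [lamBC_tmul, ← TensorProduct.tmul_sub]
  exact hr

/-- characterisation of the quadratic etale locus -/
theorem quadEtale_atPrime_iff (hlam : Function.Involutive lam) (hS : RInv.IsFixedRing S R lam)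
    (p : PrimeSpectrum S) :
    RInv.IsQuadEtale (Localization.AtPrime p.asIdeal) (Localization.AtPrime p.asIdeal ⊗[S] R) ↔
      ∃ (r r' : R) (s : S), s ∉ p.asIdeal ∧ (r - lam r) * r' = algebraMap S R s := by
  have hflat : Module.Flat S (Localization.AtPrime p.asIdeal) :=
    IsLocalization.flat _ p.asIdeal.primeCompl
  constructor
  · intro hq
    have hfix := isFixedRing_lamBC lam (Localization.AtPrime p.asIdeal) hS hlam (Or.inl hflat)
    obtain ⟨x, hx⟩ := Groth.Agent.S15574.result _ _ (lamBC lam hS _)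
      (lamBC_involutive lam _ hS hlam) hfix hq
    obtain ⟨r, hr⟩ := exists_isUnit_one_tmul lam _ p.asIdeal.primeCompl hS x hx
    obtain ⟨r', s, hs, h⟩ := exists_mul_eq_algebraMap_of_isUnit _ p.asIdeal.primeCompl _ hr
    exact ⟨r, r', s, hs, h⟩
  · rintro ⟨r, r', s, hs, h⟩
    refine quadEtale_of_isUnit_one_tmul lam _ hlam hS r
      (isUnit_one_tmul_of_mul_eq _ s _ r' h ?_)
    exact IsLocalization.map_units _ (⟨s, hs⟩ : p.asIdeal.primeCompl)

/-- the branch locus is closed -/
theorem isClosed_branch (hlam : Function.Involutive lam) (hS : RInv.IsFixedRing S R lam) :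
    IsClosed {p : PrimeSpectrum S | ¬ RInv.IsQuadEtale (Localization.AtPrime p.asIdeal)
      (Localization.AtPrime p.asIdeal ⊗[S] R)} := by
  rw [← isOpen_compl_iff]
  have : {p : PrimeSpectrum S | ¬ RInv.IsQuadEtale (Localization.AtPrime p.asIdeal)
      (Localization.AtPrime p.asIdeal ⊗[S] R)}ᶜ =
      ⋃ (x : {x : R × R × S // (x.1 - lam x.1) * x.2.1 = algebraMap S R x.2.2}),
        (PrimeSpectrum.basicOpen x.1.2.2 : Set (PrimeSpectrum S)) := by
    ext p
    simp only [Set.mem_compl_iff, Set.mem_ofPred_eq, not_not, Set.mem_iUnion, SetLike.mem_coe,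
      PrimeSpectrum.mem_basicOpen]
    rw [quadEtale_atPrime_iff lam hlam hS p]
    constructor
    · rintro ⟨r, r', s, hs, h⟩
      exact ⟨⟨(r, r', s), h⟩, hs⟩
    · rintro ⟨⟨⟨r, r', s⟩, h⟩, hs⟩
      exact ⟨r, r', s, hs, h⟩
  rw [this]
  exact isOpen_iUnion fun x => (PrimeSpectrum.basicOpen x.1.2.2).isOpen

end Groth.Agent.Lib.helper23.RInvLoc
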