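import Mathlib

/-!
# Section calculus in `Sheaf J (Type w)` for arbitrary universes (helper23)

Pullbacks on sections, monomorphisms/epimorphisms on sections, epimorphisms are stable under base
change and are effective, descent of morphisms along epimorphisms.
-/

set_option autoImplicit false
open CategoryTheory CategoryTheory.Limits Opposite
universe w v₁ u₁

namespace Groth.Agent.Lib.helper23.SC

variable {C : Type u₁} [Category.{v₁} C] {J : GrothendieckTopology C}

/-- The map on sections induced by a morphism of sheaves. -/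
def sec {X Y : Sheaf J (Type w)} (a : X ⟶ Y) (V : Cᵒᵖ) (z : X.obj.obj V) : Y.obj.obj V :=
  a.hom.app V z

lemma sec_def {X Y : Sheaf J (Type w)} (a : X ⟶ Y) (V : Cᵒᵖ) (z : X.obj.obj V) :
    sec a V z = a.hom.app V z := rfl

@[simp] lemma sec_comp {X Y Z : Sheaf J (Type w)} (a : X ⟶ Y) (b : Y ⟶ Z) (V : Cᵒᵖ)
    (z : X.obj.obj V) : sec (a ≫ b) V z = sec b V (sec a V z) := rfl

@[simp] lemma sec_id {X : Sheaf J (Type w)} (V : Cᵒᵖ) (z : X.obj.obj V) : sec (𝟙 X) V z = z := rfl

lemma sec_map {X Y : Sheaf J (Type w)} (a : X ⟶ Y) {V W : Cᵒᵖ} (g : V ⟶ W) (z : X.obj.obj V) :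
    sec a W (X.obj.map g z) = Y.obj.map g (sec a V z) :=
  NatTrans.naturality_apply a.hom g z

lemma sec_congr {X Y : Sheaf J (Type w)} {a b : X ⟶ Y} (h : a = b) (V : Cᵒᵖ) (z : X.obj.obj V) :
    sec a V z = sec b V z := by rw [h]

lemma hom_ext_sec {X Y : Sheaf J (Type w)} {a b : X ⟶ Y}
    (h : ∀ (V : Cᵒᵖ) (z : X.obj.obj V), sec a V z = sec b V z) : a = b := by
  apply Sheaf.hom_ext
  ext V z
  exact h V z

lemma presieve_isSheaf (X : Sheaf J (Type w)) : Presieve.IsSheaf J X.obj :=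
  (isSheaf_iff_isSheaf_of_type J _).1 X.property

lemma exists_section_of_isPullback {P X Y Z : Sheaf J (Type w)} {p : P ⟶ X} {q : P ⟶ Y}
    {f : X ⟶ Z} {g : Y ⟶ Z}
    (sq : IsPullback p q f g) (V : Cᵒᵖ) (x : X.obj.obj V) (y : Y.obj.obj V)
    (h : sec f V x = sec g V y) :
    ∃ z : P.obj.obj V, sec p V z = x ∧ sec q V z = y := by
  have sq' := sq.map (sheafToPresheaf J (Type w) ⋙ (evaluation Cᵒᵖ (Type w)).obj V)
  exact ((Types.isPullback_iff _ _ _ _).1 sq').2.2 x y h

lemma section_ext_of_isPullback {P X Y Z : Sheaf J (Type w)} {p : P ⟶ X} {q : P ⟶ Y}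
    {f : X ⟶ Z} {g : Y ⟶ Z}
    (sq : IsPullback p q f g) (V : Cᵒᵖ) (z z' : P.obj.obj V)
    (h1 : sec p V z = sec p V z') (h2 : sec q V z = sec q V z') : z = z' := by
  have sq' := sq.map (sheafToPresheaf J (Type w) ⋙ (evaluation Cᵒᵖ (Type w)).obj V)
  exact ((Types.isPullback_iff _ _ _ _).1 sq').2.1 z z' ⟨h1, h2⟩

lemma pb_exists {X Y Z : Sheaf J (Type w)} (f : X ⟶ Z) (g : Y ⟶ Z) (V : Cᵒᵖ) (x : X.obj.obj V)
    (y : Y.obj.obj V) (h : sec f V x = sec g V y) :
    ∃ z : (pullback f g).obj.obj V,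
      sec (pullback.fst f g) V z = x ∧ sec (pullback.snd f g) V z = y :=
  exists_section_of_isPullback (IsPullback.of_hasPullback f g) V x y h

lemma pb_ext {X Y Z : Sheaf J (Type w)} (f : X ⟶ Z) (g : Y ⟶ Z) (V : Cᵒᵖ)
    (z z' : (pullback f g).obj.obj V)
    (h1 : sec (pullback.fst f g) V z = sec (pullback.fst f g) V z')
    (h2 : sec (pullback.snd f g) V z = sec (pullback.snd f g) V z') : z = z' :=
  section_ext_of_isPullback (IsPullback.of_hasPullback f g) V z z' h1 h2

lemma pb_condition {X Y Z : Sheaf J (Type w)} (f : X ⟶ Z) (g : Y ⟶ Z) (V : Cᵒᵖ)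
    (z : (pullback f g).obj.obj V) :
    sec f V (sec (pullback.fst f g) V z) = sec g V (sec (pullback.snd f g) V z) := by
  rw [← sec_comp, ← sec_comp, pullback.condition]

lemma sec_lift_fst {T X Y Z : Sheaf J (Type w)} {f : X ⟶ Z} {g : Y ⟶ Z} (h : T ⟶ X) (k : T ⟶ Y)
    (w : h ≫ f = k ≫ g) (V : Cᵒᵖ) (z : T.obj.obj V) :
    sec (pullback.fst f g) V (sec (pullback.lift h k w) V z) = sec h V z := by
  rw [← sec_comp, pullback.lift_fst]

lemma sec_lift_snd {T X Y Z : Sheaf J (Type w)} {f : X ⟶ Z} {g : Y ⟶ Z} (h : T ⟶ X) (k : T ⟶ Y)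
    (w : h ≫ f = k ≫ g) (V : Cᵒᵖ) (z : T.obj.obj V) :
    sec (pullback.snd f g) V (sec (pullback.lift h k w) V z) = sec k V z := by
  rw [← sec_comp, pullback.lift_snd]

lemma isIso_of_bijective_sections {X Y : Sheaf J (Type w)} (a : X ⟶ Y)
    (h : ∀ V, Function.Bijective (sec a V)) : IsIso a := by
  rw [← isIso_iff_of_reflects_iso a (sheafToPresheaf J (Type w))]
  have : ∀ V, IsIso (((sheafToPresheaf J (Type w)).map a).app V) := by
    intro V
    rw [isIso_iff_bijective]
    exact h V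
  exact NatIso.isIso_of_isIso_app _

lemma bijective_sections_of_isIso {X Y : Sheaf J (Type w)} (a : X ⟶ Y) [IsIso a] (V : Cᵒᵖ) :
    Function.Bijective (sec a V) := by
  refine Function.bijective_iff_has_inverse.2 ⟨sec (inv a) V, fun z => ?_, fun z => ?_⟩
  · rw [← sec_comp, IsIso.hom_inv_id, sec_id]
  · rw [← sec_comp, IsIso.inv_hom_id, sec_id]

/-- A commutative square of sheaves which is a pullback on sections is a pullback. -/
lemma isPullback_of_sections {P X Y Z : Sheaf J (Type w)} {p : P ⟶ X} {q : P ⟶ Y} {f : X ⟶ Z}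
    {g : Y ⟶ Z} (w : p ≫ f = q ≫ g)
    (hinj : ∀ (V : Cᵒᵖ) (z z' : P.obj.obj V), sec p V z = sec p V z' → sec q V z = sec q V z' →
      z = z')
    (hsurj : ∀ (V : Cᵒᵖ) (x : X.obj.obj V) (y : Y.obj.obj V), sec f V x = sec g V y →
      ∃ z, sec p V z = x ∧ sec q V z = y) : IsPullback p q f g := by
  have hiso : IsIso (pullback.lift p q w) := by
    apply isIso_of_bijective_sections
    intro V
    constructor
    · intro z z' hzz
      apply hinj V z z'
      · have := congrArg (sec (pullback.fst f g) V) hzz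
        rwa [sec_lift_fst, sec_lift_fst] at this
      · have := congrArg (sec (pullback.snd f g) V) hzz
        rwa [sec_lift_snd, sec_lift_snd] at this
    · intro t
      obtain ⟨z, hz1, hz2⟩ := hsurj V _ _ (pb_condition f g V t)
      refine ⟨z, pb_ext f g V _ _ ?_ ?_⟩
      · rw [sec_lift_fst, hz1]
      · rw [sec_lift_snd, hz2]
  exact IsPullback.of_iso_pullback ⟨w⟩ (asIso (pullback.lift p q w))
    (pullback.lift_fst _ _ _) (pullback.lift_snd _ _ _)

/-- Monomorphisms of sheaves of sets are the sectionwise injective morphisms. -/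
lemma mono_iff_injective_sec {X Y : Sheaf J (Type w)} (a : X ⟶ Y) :
    Mono a ↔ ∀ V : Cᵒᵖ, Function.Injective (sec a V) := by
  constructor
  · intro h V z z' hzz
    have sq : IsPullback (𝟙 X) (𝟙 X) a a := IsKernelPair.id_of_mono a
    obtain ⟨t, ht1, ht2⟩ := exists_section_of_isPullback sq V z z' hzz
    rw [sec_id] at ht1 ht2
    rw [← ht1, ← ht2]
  · intro h
    refine ⟨fun {T} b c hbc => hom_ext_sec (fun V z => h V ?_)⟩
    rw [← sec_comp, ← sec_comp, hbc]

/-- The sieve along which a section lifts through a morphism. -/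
def liftS {X Y : Sheaf J (Type w)} (a : X ⟶ Y) {U : C} (s : Y.obj.obj (op U)) : Sieve U :=
  Presheaf.imageSieve a.hom s

lemma liftS_apply {X Y : Sheaf J (Type w)} (a : X ⟶ Y) {U V : C} (s : Y.obj.obj (op U))
    (v : V ⟶ U) : liftS a s v ↔ ∃ t : X.obj.obj (op V), sec a (op V) t = Y.obj.map v.op s :=
  Iff.rfl

/-- Epimorphisms of sheaves of sets are the locally surjective morphisms. -/
lemma epi_iff_liftS [HasSheafify J (Type w)] {X Y : Sheaf J (Type w)} (a : X ⟶ Y) :
    Epi a ↔ ∀ (U : C) (s : Y.obj.obj (op U)), liftS a s ∈ J U := by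
  rw [← Sheaf.isLocallySurjective_iff_epi]
  constructor
  · intro h U s
    exact Presheaf.imageSieve_mem J a.hom (U := op U) s
  · intro h
    exact ⟨fun {U} s => h U s⟩

/-- Locally surjective morphisms are epimorphisms (no sheafification needed). -/
lemma epi_of_liftS {X Y : Sheaf J (Type w)} (a : X ⟶ Y)
    (h : ∀ (U : C) (s : Y.obj.obj (op U)), liftS a s ∈ J U) : Epi a := by
  haveI : Sheaf.IsLocallySurjective a := ⟨fun {U} s => h U s⟩
  infer_instance

/-- Epimorphisms of sheaves of sets are stable under base change. -/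
lemma epi_of_isPullback [HasSheafify J (Type w)] {P X Y Z : Sheaf J (Type w)} {p : P ⟶ X}
    {q : P ⟶ Y} {f : X ⟶ Z} {g : Y ⟶ Z} (sq : IsPullback p q f g) [hg : Epi g] : Epi p := by
  rw [epi_iff_liftS] at hg ⊢
  intro U s
  refine J.superset_covering ?_ (hg U (sec f (op U) s))
  rintro V v ⟨t, ht⟩
  obtain ⟨z, hz1, hz2⟩ := exists_section_of_isPullback sq (op V) (X.obj.map v.op s) t (by
    rw [sec_map]; exact ht.symm)
  exact ⟨z, hz1⟩

lemma epi_of_isPullback' [HasSheafify J (Type w)] {P X Y Z : Sheaf J (Type w)} {p : P ⟶ X}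
    {q : P ⟶ Y} {f : X ⟶ Z} {g : Y ⟶ Z} (sq : IsPullback p q f g) [hf : Epi f] : Epi q :=
  epi_of_isPullback sq.flip

instance epi_pullback_fst [HasSheafify J (Type w)] {X Y Z : Sheaf J (Type w)} (f : X ⟶ Z)
    (g : Y ⟶ Z) [Epi g] : Epi (pullback.fst f g) :=
  epi_of_isPullback (IsPullback.of_hasPullback f g)

instance epi_pullback_snd [HasSheafify J (Type w)] {X Y Z : Sheaf J (Type w)} (f : X ⟶ Z)
    (g : Y ⟶ Z) [Epi f] : Epi (pullback.snd f g) :=
  epi_of_isPullback' (IsPullback.of_hasPullback f g)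

/-- Epimorphisms of sheaves of sets are effective. -/
lemma effectiveEpi_of_epi [HasSheafify J (Type w)] {X Y : Sheaf J (Type w)} (f : X ⟶ Y) [Epi f] :
    EffectiveEpi f := by
  have := IsRegularEpiCategory.regularEpiOfEpi f
  infer_instance

/-- Epimorphisms of sheaves of sets are universal effective epimorphisms. -/
theorem universally_effectiveEpi_of_epi [HasSheafify J (Type w)] {X Y : Sheaf J (Type w)}
    (f : X ⟶ Y) [Epi f] :
    (MorphismProperty.universally
      (fun (A B : Sheaf J (Type w)) (p : A ⟶ B) => EffectiveEpi p)) f := by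
  intro A B a b f' sq
  haveI : Epi f' := epi_of_isPullback sq
  exact effectiveEpi_of_epi f'

/-- Descent of a morphism along an epimorphism of sheaves of sets. -/
theorem existsUnique_desc_of_epi [HasSheafify J (Type w)] {A B Z : Sheaf J (Type w)} (e : A ⟶ B)
    [Epi e] (f : A ⟶ Z)
    (h : ∀ (Y : Sheaf J (Type w)) (x y : Y ⟶ A), x ≫ e = y ≫ e → x ≫ f = y ≫ f) :
    ∃! g : B ⟶ Z, e ≫ g = f := by
  haveI := effectiveEpi_of_epi e
  refine ⟨EffectiveEpi.desc e f (fun {Y} x y hxy => h Y x y hxy), EffectiveEpi.fac _ _ _, ?_⟩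
  intro g hg
  rw [← cancel_epi e, hg, EffectiveEpi.fac]

end Groth.Agent.Lib.helper23.SC
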