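import Mathlib
import Groth.Prelude.Def_W4sga3iivvp2RelPsh

/-!
# The relative presheaf over a representable sheaf (helper23)
-/

set_option autoImplicit false
open CategoryTheory Opposite
universe v₁ u₁

namespace Groth.Agent.Lib.helper23.SC

variable {C : Type u₁} [Category.{v₁} C] (J : GrothendieckTopology C)
variable {S : C} {F : Cᵒᵖ ⥤ Type v₁} (φ : F ⟶ yoneda.obj S)

lemma fam_congr {D : Type*} [Category D] {P : Dᵒᵖ ⥤ Type*} {X : D} {R : Presieve X}
    (x : Presieve.FamilyOfElements P R) {Y : D} {f f' : Y ⟶ X} (e : f = f') (h : R f) :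
    x f h = x f' (e ▸ h) := by
  subst e
  rfl

/-- Separatedness criterion in terms of restrictions. -/
lemma isSeparatedFor_of_ext {D : Type*} [Category D] {P : Dᵒᵖ ⥤ Type*} {X : D} {R : Presieve X}
    (h : ∀ t₁ t₂ : P.obj (op X), (∀ ⦃Y : D⦄ ⦃f : Y ⟶ X⦄, R f → P.map f.op t₁ = P.map f.op t₂) →
      t₁ = t₂) : Presieve.IsSeparatedFor P R := by
  intro x t₁ t₂ h₁ h₂
  exact h t₁ t₂ (fun Y f hf => (h₁ f hf).trans (h₂ f hf).symm)

lemma relPsh_isSeparated_of (hF : Presieve.IsSeparated J F) :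
    Presieve.IsSeparated (J.over S) (ShfCat.relPsh φ) := by
  intro T R hR
  apply isSeparatedFor_of_ext
  intro a b hab
  apply Subtype.ext
  refine (hF _ ((J.mem_over_iff R).1 hR)).ext ?_
  intro V f hf
  have hf' := (Sieve.overEquiv_iff R f).1 hf
  have := congrArg Subtype.val (hab hf')
  exact this

lemma isSeparated_of_relPsh (hS : Presieve.IsSheaf J (yoneda.obj S))
    (h : Presieve.IsSeparated (J.over S) (ShfCat.relPsh φ)) : Presieve.IsSeparated J F := by
  intro U R hR
  apply isSeparatedFor_of_ext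
  intro a b hab
  have hφ : φ.app (op U) a = φ.app (op U) b := by
    refine ((hS.isSeparated) _ hR).ext ?_
    intro V f hf
    have h1 := NatTrans.naturality_apply φ f.op a
    have h2 := NatTrans.naturality_apply φ f.op b
    rw [← h1, ← h2, hab hf]
  let T : Over S := Over.mk (φ.app (op U) a)
  let a' : (ShfCat.relPsh φ).obj (op T) := ⟨a, rfl⟩
  let b' : (ShfCat.relPsh φ).obj (op T) := ⟨b, hφ.symm⟩
  have hR' : (Sieve.overEquiv T).symm R ∈ (J.over S) T := J.overEquiv_symm_mem_over T R hR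
  have : a' = b' := by
    refine (h _ hR').ext ?_
    intro T' k hk
    apply Subtype.ext
    exact hab ((Sieve.overEquiv_symm_iff R k).1 hk)
  exact congrArg Subtype.val this

/-- The canonical arrow of `Over S` attached to `f : V ⟶ T.left`. -/
def ov {T : Over S} {V : C} (f : V ⟶ T.left) : Over.mk (f ≫ T.hom) ⟶ T := Over.homMk f rfl

lemma ov_comp {T : Over S} {V W : C} (f : V ⟶ T.left) (g : W ⟶ V) :
    (Over.homMk g (by simp) : Over.mk ((g ≫ f) ≫ T.hom) ⟶ Over.mk (f ≫ T.hom)) ≫ ov f =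
      ov (g ≫ f) := by
  ext
  simp [ov]

lemma ov_left {T T' : Over S} (k : T' ⟶ T) :
    (Over.homMk (𝟙 _) (by simp) : Over.mk (k.left ≫ T.hom) ⟶ T') ≫ k = ov k.left := by
  ext
  simp [ov]

lemma overEquiv_iff' {T : Over S} (R : Sieve T) {V : C} (f : V ⟶ T.left) :
    (Sieve.overEquiv T R) f ↔ R (ov f) := Sieve.overEquiv_iff R f

lemma relPsh_isSheaf_of (hS : Presieve.IsSheaf J (yoneda.obj S)) (hF : Presieve.IsSheaf J F) :
    Presieve.IsSheaf (J.over S) (ShfCat.relPsh φ) := by
  intro T R hR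
  rw [← Presieve.isSeparatedFor_and_exists_isAmalgamation_iff_isSheafFor]
  refine ⟨relPsh_isSeparated_of J φ hF.isSeparated R hR, ?_⟩
  intro x hx
  rw [Presieve.compatible_iff_sieveCompatible] at hx
  have hR₀ : Sieve.overEquiv T R ∈ J T.left := (J.mem_over_iff R).1 hR
  -- the induced family for `F`
  let y : Presieve.FamilyOfElements F (Sieve.overEquiv T R).arrows :=
    fun V f hf => (x (ov f) ((overEquiv_iff' R f).1 hf)).1
  have hy : y.Compatible := by
    rw [Presieve.compatible_iff_sieveCompatible]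
    intro V W f g hf
    have hf' := (overEquiv_iff' R f).1 hf
    have h1 := hx (ov f) (Over.homMk g (by simp) :
      Over.mk ((g ≫ f) ≫ T.hom) ⟶ Over.mk (f ≫ T.hom)) hf'
    have h2 := fam_congr x (ov_comp f g) (R.downward_closed hf' _)
    show (x (ov (g ≫ f)) _).1 = F.map g.op (x (ov f) _).1
    rw [← h2, h1]
    rfl
  obtain ⟨t₀, ht₀, -⟩ := hF _ hR₀ y hy
  have hφ : φ.app (op T.left) t₀ = T.hom := by
    refine ((hS.isSeparated) _ hR₀).ext ?_
    intro V f hf
    have h1 := NatTrans.naturality_apply φ f.op t₀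
    rw [← h1, ht₀ f hf]
    exact (x (ov f) ((overEquiv_iff' R f).1 hf)).2
  refine ⟨⟨t₀, hφ⟩, ?_⟩
  intro T' k hk
  apply Subtype.ext
  have hk₀ : (Sieve.overEquiv T R) k.left := by
    rw [overEquiv_iff', ← ov_left k]
    exact R.downward_closed hk _
  show F.map k.left.op t₀ = (x k hk).1
  rw [ht₀ k.left hk₀]
  have h1 := hx k (Over.homMk (𝟙 _) (by simp) : Over.mk (k.left ≫ T.hom) ⟶ T') hk
  have h2 := fam_congr x (ov_left k) (R.downward_closed hk _)
  show (x (ov k.left) _).1 = _
  rw [← h2, h1]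
  show F.map (𝟙 _).op (x k hk).1 = _
  simp

lemma isSheaf_of_relPsh (hS : Presieve.IsSheaf J (yoneda.obj S))
    (h : Presieve.IsSheaf (J.over S) (ShfCat.relPsh φ)) : Presieve.IsSheaf J F := by
  intro U R hR
  rw [← Presieve.isSeparatedFor_and_exists_isAmalgamation_iff_isSheafFor]
  refine ⟨isSeparated_of_relPsh J φ hS h.isSeparated R hR, ?_⟩
  intro y hy
  rw [Presieve.compatible_iff_sieveCompatible] at hy
  -- the induced family for `h_S`
  let z : Presieve.FamilyOfElements (yoneda.obj S) R.arrows :=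
    fun V f hf => φ.app (op V) (y f hf)
  have hz : z.Compatible := by
    rw [Presieve.compatible_iff_sieveCompatible]
    intro V W f g hf
    show φ.app (op W) (y (g ≫ f) _) = (yoneda.obj S).map g.op (φ.app (op V) (y f hf))
    rw [hy f g hf]
    exact NatTrans.naturality_apply φ g.op (y f hf)
  obtain ⟨t, ht, -⟩ := hS _ hR z hz
  let T : Over S := Over.mk t
  have hR' : (Sieve.overEquiv T).symm R ∈ (J.over S) T := J.overEquiv_symm_mem_over T R hR
  have hmem : ∀ {T' : Over S} (k : T' ⟶ T), ((Sieve.overEquiv T).symm R) k → R k.left :=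
    fun k hk => (Sieve.overEquiv_symm_iff R k).1 hk
  let x : Presieve.FamilyOfElements (ShfCat.relPsh φ) ((Sieve.overEquiv T).symm R).arrows :=
    fun T' k hk => ⟨y k.left (hmem k hk), by
      have h1 : φ.app (op T'.left) (y k.left (hmem k hk)) = k.left ≫ t := (ht k.left (hmem k hk)).symm
      rw [h1]
      exact Over.w k⟩
  have hx : x.Compatible := by
    rw [Presieve.compatible_iff_sieveCompatible]
    intro T' T'' k g hk
    apply Subtype.ext
    show y (g ≫ k).left _ = F.map g.left.op (y k.left _)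
    rw [← hy k.left g.left (hmem k hk)]
    rfl
  obtain ⟨a, ha, -⟩ := h _ hR' x hx
  refine ⟨a.1, ?_⟩
  intro V f hf
  have hk : ((Sieve.overEquiv T).symm R) (ov (T := T) f) :=
    (Sieve.overEquiv_symm_iff (Y := T) R (ov (T := T) f)).2 hf
  have := congrArg Subtype.val (ha (ov (T := T) f) hk)
  exact this

theorem isSheaf_relPsh_over_iff (hS : Presieve.IsSheaf J (yoneda.obj S)) :
    (Presieve.IsSeparated (J.over S) (ShfCat.relPsh φ) ↔ Presieve.IsSeparated J F) ∧
    (Presieve.IsSheaf (J.over S) (ShfCat.relPsh φ) ↔ Presieve.IsSheaf J F) :=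
  ⟨⟨isSeparated_of_relPsh J φ hS, relPsh_isSeparated_of J φ⟩,
    ⟨isSheaf_of_relPsh J φ hS, relPsh_isSheaf_of J φ hS⟩⟩

end Groth.Agent.Lib.helper23.SC
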