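import Mathlib

/-!
# Topologies generated by two precoverages with refinement conditions (helper23)
-/

set_option autoImplicit false
open CategoryTheory Opposite Limits
universe w v₁ u₁

namespace Groth.Agent.Lib.helper23.PC

variable {C : Type u₁} [Category.{v₁} C]

lemma bind_mem (P : Precoverage C) [P.IsStableUnderComposition] {X : C} {R : Presieve X}
    (hR : R ∈ P X) (R' : ∀ ⦃Y : C⦄ ⦃f : Y ⟶ X⦄, R f → Presieve Y)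
    (hR' : ∀ ⦃Y : C⦄ ⦃f : Y ⟶ X⦄ (hf : R f), R' hf ∈ P Y) :
    R.bind R' ∈ P X := by
  let ι := { x : Σ Z, (Z ⟶ X) // R x.2 }
  let σ (i : ι) := { y : Σ W, (W ⟶ i.1.1) // R' i.2 y.2 }
  have h1 : Presieve.ofArrows (fun i : ι => i.1.1) (fun i => i.1.2) = R :=
    le_antisymm (fun Z g ⟨x⟩ ↦ x.2) (fun Z g hg ↦ .mk (⟨⟨_, _⟩, hg⟩ : ι))
  have h2 : ∀ i : ι, Presieve.ofArrows (fun j : σ i => j.1.1) (fun j => j.1.2) = R' i.2 :=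
    fun i => le_antisymm (fun Z g ⟨x⟩ ↦ x.2) (fun Z g hg ↦ .mk (⟨⟨_, _⟩, hg⟩ : σ i))
  have h3 := Precoverage.comp_mem_coverings (J := P) (fun i : ι => i.1.2) (by rw [h1]; exact hR)
    (fun i (j : σ i) => j.1.2) (fun i => by rw [h2 i]; exact hR' i.2)
  convert h3 using 1
  refine le_antisymm ?_ ?_
  · rintro Z h ⟨Y, g, f, H, hg, rfl⟩
    exact .mk (⟨⟨⟨_, f⟩, H⟩, ⟨⟨_, g⟩, hg⟩⟩ : Σ i : ι, σ i)
  · rintro Z h ⟨p⟩
    exact ⟨_, p.2.1.2, p.1.1.2, p.1.2, p.2.2, rfl⟩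

variable (C' : C → Prop) (P P' : Precoverage C)

/-- `S'` contains a composite family `P' ∘ P` with middle sources in `C'`. -/
def Good (X : C) (S' : Sieve X) : Prop :=
  ∃ R ∈ P X, ∀ ⦃Y : C⦄ ⦃f : Y ⟶ X⦄, R f →
    C' Y ∧ ∃ R' ∈ P' Y, ∀ ⦃Z : C⦄ ⦃g : Z ⟶ Y⦄, R' g → S' (g ≫ f)

variable {C' P P'}

lemma good_iff {X : C} {S' : Sieve X} : Good C' P P' X S' ↔
    ∃ (R : Presieve X) (_ : R ∈ P X) (_ : ∀ ⦃Y : C⦄ ⦃f : Y ⟶ X⦄, R f → C' Y)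
      (R' : ∀ ⦃Y : C⦄ ⦃f : Y ⟶ X⦄, R f → Presieve Y),
      (∀ ⦃Y : C⦄ ⦃f : Y ⟶ X⦄ (hf : R f), R' hf ∈ P' Y) ∧
      ∀ ⦃Y : C⦄ ⦃f : Y ⟶ X⦄ (hf : R f) ⦃Z : C⦄ ⦃g : Z ⟶ Y⦄, R' hf g → S' (g ≫ f) := by
  constructor
  · rintro ⟨R, hR, h⟩
    choose hC R' hR' hcomp using h
    exact ⟨R, hR, hC, R', hR', hcomp⟩
  · rintro ⟨R, hR, hC, R', hR', hcomp⟩
    exact ⟨R, hR, fun Y f hf => ⟨hC hf, R' hf, hR' hf, fun Z g hg => hcomp hf hg⟩⟩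

lemma mem_of_good {X : C} {S' : Sieve X} (h : Good C' P P' X S') :
    S' ∈ (P ⊔ P').toGrothendieck X := by
  obtain ⟨R, hR, h⟩ := h
  have h1 : Sieve.generate R ∈ (P ⊔ P').toGrothendieck X :=
    Precoverage.generate_mem_toGrothendieck (Or.inl hR)
  refine (P ⊔ P').toGrothendieck.transitive h1 _ ?_
  rintro Y f ⟨Y', k, f₀, hf₀, rfl⟩
  obtain ⟨-, R', hR', hcomp⟩ := h hf₀
  rw [Sieve.pullback_comp]
  apply (P ⊔ P').toGrothendieck.pullback_stable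
  have h2 : Sieve.generate R' ∈ (P ⊔ P').toGrothendieck Y' :=
    Precoverage.generate_mem_toGrothendieck (Or.inr hR')
  refine (P ⊔ P').toGrothendieck.superset_covering ?_ h2
  rw [Sieve.generate_le_iff]
  intro Z g hg
  exact hcomp hg

lemma good_mono {X : C} {S' S'' : Sieve X} (hle : S' ≤ S'') (h : Good C' P P' X S') :
    Good C' P P' X S'' := by
  obtain ⟨R, hR, h⟩ := h
  refine ⟨R, hR, fun Y f hf => ?_⟩
  obtain ⟨hC, R', hR', hcomp⟩ := h hf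
  exact ⟨hC, R', hR', fun Z g hg => hle _ (hcomp hg)⟩

section

variable [P.HasPullbacks] [P.IsStableUnderBaseChange] [P.IsStableUnderComposition]
    (hP'C : ∀ ⦃X : C⦄ ⦃R : Presieve X⦄, R ∈ P' X → C' X ∧ ∀ ⦃Y : C⦄ ⦃f : Y ⟶ X⦄, R f → C' Y)
    (hP'id : ∀ ⦃X : C⦄, C' X → Presieve.singleton (𝟙 X) ∈ P' X)
    (ha : ∀ ⦃X : C⦄ ⦃R : Presieve X⦄, R ∈ P' X → ∀ ⦃T : C⦄ (g : T ⟶ X), C' T →
      ∃ _ : R.HasPullbacks g, Presieve.pullbackArrows g R ∈ P' T)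
    (hb : ∀ X : C, ∃ R ∈ P X, ∀ ⦃Y : C⦄ ⦃f : Y ⟶ X⦄, R f → C' Y)
    (hc : ∀ ⦃S : C⦄ ⦃R₁ : Presieve S⦄, R₁ ∈ P' S →
      ∀ (R₂ : ∀ ⦃Y : C⦄ ⦃f : Y ⟶ S⦄, R₁ f → Presieve Y),
        (∀ ⦃Y : C⦄ ⦃f : Y ⟶ S⦄ (hf : R₁ f), R₂ hf ∈ P Y ∧ ∀ ⦃Z : C⦄ ⦃g : Z ⟶ Y⦄, R₂ hf g → C' Z) →
      ∀ (R₃ : ∀ ⦃Y : C⦄ ⦃f : Y ⟶ S⦄ (hf : R₁ f) ⦃Z : C⦄ ⦃g : Z ⟶ Y⦄, R₂ hf g → Presieve Z),
        (∀ ⦃Y : C⦄ ⦃f : Y ⟶ S⦄ (hf : R₁ f) ⦃Z : C⦄ ⦃g : Z ⟶ Y⦄ (hg : R₂ hf g), R₃ hf hg ∈ P' Z) →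
      ∃ T ∈ P' S, ∀ ⦃W : C⦄ ⦃q : W ⟶ S⦄, T q →
        ∃ (Y Z V : C) (f : Y ⟶ S) (hf : R₁ f) (g : Z ⟶ Y) (hg : R₂ hf g) (h : V ⟶ Z) (_ : R₃ hf hg h)
          (r : W ⟶ V), r ≫ h ≫ g ≫ f = q)

include hP'id hb in
lemma good_of_P {X : C} {S : Presieve X} (hS : S ∈ P X) : Good C' P P' X (Sieve.generate S) := by
  choose Rb hRb hRbC using hb
  refine ⟨S.bind (fun Y _ _ => Rb Y), bind_mem P hS _ (fun Y f _ => hRb Y), ?_⟩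
  rintro W k ⟨Y, g, f, hf, hg, rfl⟩
  refine ⟨hRbC Y hg, Presieve.singleton (𝟙 W), hP'id (hRbC Y hg), ?_⟩
  have hmem : Sieve.generate S (g ≫ f) := ⟨Y, g, f, hf, rfl⟩
  rintro Z _ ⟨⟩
  rw [Category.id_comp]
  exact hmem

include ha hb in
lemma good_of_P' {X : C} {S : Presieve X} (hS : S ∈ P' X) :
    Good C' P P' X (Sieve.generate S) := by
  obtain ⟨R₀, hR₀, hR₀C⟩ := hb X
  refine ⟨R₀, hR₀, fun Y f hf => ⟨hR₀C hf, ?_⟩⟩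
  obtain ⟨hpb, hmem⟩ := ha hS f (hR₀C hf)
  refine ⟨Presieve.pullbackArrows f S, hmem, ?_⟩
  rintro Z _ ⟨Z', h, hh⟩
  have := S.hasPullback f hh
  rw [← pullback.condition]
  exact ⟨Z', pullback.fst h f, h, hh, rfl⟩

include hP'id hb in
lemma good_top (X : C) : Good C' P P' X ⊤ := by
  obtain ⟨R₀, hR₀, hR₀C⟩ := hb X
  refine ⟨R₀, hR₀, fun Y f hf => ⟨hR₀C hf, Presieve.singleton (𝟙 Y), hP'id (hR₀C hf), ?_⟩⟩
  intro Z g _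
  trivial

include ha hb in
lemma good_pullback {X : C} {S : Sieve X} (h : Good C' P P' X S) {Y : C} (f : Y ⟶ X) :
    Good C' P P' Y (S.pullback f) := by
  obtain ⟨R, hR, h⟩ := h
  choose Rb hRb hRbC using hb
  haveI := P.hasPullbacks_of_mem f hR
  have hR₁ : R.pullbackArrows f ∈ P Y := Precoverage.pullbackArrows_mem f hR
  refine ⟨(R.pullbackArrows f).bind (fun Y' _ _ => Rb Y'),
    bind_mem P hR₁ _ (fun Y' _ _ => hRb Y'), ?_⟩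
  rintro W k ⟨Y', g, p, hp, hg, rfl⟩
  refine ⟨hRbC Y' hg, ?_⟩
  obtain ⟨Z, r, hr⟩ := hp
  haveI := R.hasPullback f hr
  obtain ⟨hZ, R', hR', hcomp⟩ := h hr
  obtain ⟨hpb, hmem⟩ := ha hR' (g ≫ pullback.fst r f) (hRbC _ hg)
  refine ⟨Presieve.pullbackArrows (g ≫ pullback.fst r f) R', hmem, ?_⟩
  rintro V _ ⟨V', s, hs⟩
  haveI := R'.hasPullback (g ≫ pullback.fst r f) hs
  show S ((pullback.snd s (g ≫ pullback.fst r f) ≫ g ≫ pullback.snd r f) ≫ f)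
  have e : (pullback.snd s (g ≫ pullback.fst r f) ≫ g ≫ pullback.snd r f) ≫ f =
      pullback.fst s (g ≫ pullback.fst r f) ≫ s ≫ r := by
    rw [Category.assoc, Category.assoc, ← pullback.condition, ← Category.assoc g,
      ← pullback.condition_assoc]
  rw [e]
  exact S.downward_closed (hcomp hs) _

include hc in
lemma good_transitive {X : C} {S R : Sieve X} (hS : Good C' P P' X S)
    (hR : ∀ ⦃Y : C⦄ ⦃f : Y ⟶ X⦄, S f → Good C' P P' Y (R.pullback f)) :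
    Good C' P P' X R := by
  obtain ⟨R₁, hR₁, h⟩ := hS
  refine ⟨R₁, hR₁, fun Y f hf => ?_⟩
  obtain ⟨hY, R', hR', hcomp⟩ := h hf
  refine ⟨hY, ?_⟩
  have key : ∀ ⦃Z : C⦄ ⦃g : Z ⟶ Y⦄ (hg : R' g), Good C' P P' Z (R.pullback (g ≫ f)) :=
    fun Z g hg => hR (hcomp hg)
  unfold Good at key
  choose R₂ hR₂ hR₂' using key
  choose hC R₃ hR₃ hR₃' using hR₂'
  obtain ⟨T, hT, hTq⟩ := hc hR' (fun Z g hg => R₂ hg)
    (fun Z g hg => ⟨hR₂ hg, fun W k hk => hC hg hk⟩)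
    (fun Z g hg W k hk => R₃ hg hk) (fun Z g hg W k hk => hR₃ hg hk)
  refine ⟨T, hT, ?_⟩
  intro W q hq
  obtain ⟨Z, W', V, g, hg, k, hk, l, hl, r, rfl⟩ := hTq hq
  have := hR₃' hg hk hl
  rw [Sieve.pullback_apply] at this
  have e : (r ≫ l ≫ k ≫ g) ≫ f = r ≫ (l ≫ k) ≫ g ≫ f := by simp
  rw [e]
  exact R.downward_closed this r

include hP'id ha hb hc in
theorem mem_iff_good {X : C} {S' : Sieve X} :
    S' ∈ (P ⊔ P').toGrothendieck X ↔ Good C' P P' X S' := by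
  refine ⟨fun h => ?_, mem_of_good⟩
  rw [Precoverage.mem_toGrothendieck_iff] at h
  induction h with
  | of X S hS =>
    rcases hS with hS | hS
    · exact good_of_P hP'id hb hS
    · exact good_of_P' ha hb hS
  | top X => exact good_top hP'id hb X
  | pullback X S _ Y f ih => exact good_pullback ha hb ih f
  | transitive X S R _ _ ih1 ih2 => exact good_transitive hc ih1 ih2

end

end Groth.Agent.Lib.helper23.PC
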