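import Mathlib

/-!
# The sheaf condition for a topology generated by two precoverages (helper23)
-/

set_option autoImplicit false
open CategoryTheory Opposite Limits
universe w v₁ u₁

namespace Groth.Agent.Lib.helper23.PC

variable {C : Type u₁} [Category.{v₁} C] (F : Cᵒᵖ ⥤ Type w)

/-- Separatedness criterion in terms of restrictions. -/
lemma isSeparatedFor_of_ext' {X : C} {R : Presieve X}
    (h : ∀ t₁ t₂ : F.obj (op X), (∀ ⦃Y : C⦄ ⦃f : Y ⟶ X⦄, R f → F.map f.op t₁ = F.map f.op t₂) →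
      t₁ = t₂) : Presieve.IsSeparatedFor F R := by
  intro x t₁ t₂ h₁ h₂
  exact h t₁ t₂ (fun Y f hf => (h₁ f hf).trans (h₂ f hf).symm)

lemma isSeparatedFor_trans' {Y : C} (S : Sieve Y) (Q : Presieve Y)
    (hQ : Presieve.IsSeparatedFor F Q)
    (hS : ∀ ⦃Yi : C⦄ ⦃fi : Yi ⟶ Y⦄, Q fi → Presieve.IsSeparatedFor F (S.pullback fi).arrows) :
    Presieve.IsSeparatedFor F S.arrows := by
  apply isSeparatedFor_of_ext'
  intro t₁ t₂ h
  refine hQ.ext ?_
  intro Yi fi hfi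
  refine (hS hfi).ext ?_
  intro Z g hg
  have := h hg
  simpa using this

lemma isSheafFor_trans' {Y : C} (S : Sieve Y) (Q : Presieve Y)
    (hQ : Presieve.IsSheafFor F Q)
    (hQsep : ∀ ⦃Z : C⦄ (g : Z ⟶ Y), S g →
      Presieve.IsSeparatedFor F ((Sieve.generate Q).pullback g).arrows)
    (hS : ∀ ⦃Yi : C⦄ ⦃fi : Yi ⟶ Y⦄, Q fi → Presieve.IsSheafFor F (S.pullback fi).arrows)
    (hSsep : ∀ ⦃Z : C⦄ (g : Z ⟶ Y), Presieve.IsSeparatedFor F (S.pullback g).arrows) :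
    Presieve.IsSheafFor F S.arrows := by
  rw [← Presieve.isSeparatedFor_and_exists_isAmalgamation_iff_isSheafFor]
  refine ⟨by simpa using hSsep (𝟙 Y), ?_⟩
  intro x hx
  rw [Presieve.compatible_iff_sieveCompatible] at hx
  -- Step 1: the local amalgamations
  have h1 : ∀ ⦃Yi : C⦄ ⦃fi : Yi ⟶ Y⦄ (hfi : Q fi), ∃ ti : F.obj (op Yi),
      ∀ ⦃Z : C⦄ (k : Z ⟶ Yi) (hk : S (k ≫ fi)), F.map k.op ti = x (k ≫ fi) hk := by
    intro Yi fi hfi
    let xi : Presieve.FamilyOfElements F (S.pullback fi).arrows := fun Z k hk => x (k ≫ fi) hk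
    have hxi : xi.Compatible := by
      rw [Presieve.compatible_iff_sieveCompatible]
      intro Z W k l hk
      show x ((l ≫ k) ≫ fi) _ = F.map l.op (x (k ≫ fi) hk)
      rw [← hx (k ≫ fi) l hk]
      congr 1
      simp
    obtain ⟨ti, hti, -⟩ := hS hfi xi hxi
    exact ⟨ti, fun Z k hk => hti k hk⟩
  choose t ht using h1
  -- Step 2: compatibility
  let y : Presieve.FamilyOfElements F Q := fun Yi fi hfi => t hfi
  have hy : y.Compatible := by
    intro Y₁ Y₂ W g₁ g₂ f₁ f₂ hf₁ hf₂ e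
    refine (hSsep (g₁ ≫ f₁)).ext ?_
    intro Z h hh
    have hh₁ : S ((h ≫ g₁) ≫ f₁) := by simpa using hh
    have hh₂ : S ((h ≫ g₂) ≫ f₂) := by
      have : (h ≫ g₂) ≫ f₂ = (h ≫ g₁) ≫ f₁ := by simp [e]
      rw [this]
      exact hh₁
    have e₁ : F.map h.op (F.map g₁.op (y f₁ hf₁)) = F.map (h ≫ g₁).op (t hf₁) := by
      simp [y]
    have e₂ : F.map h.op (F.map g₂.op (y f₂ hf₂)) = F.map (h ≫ g₂).op (t hf₂) := by
      simp [y]
    rw [e₁, e₂, ht hf₁ (h ≫ g₁) hh₁, ht hf₂ (h ≫ g₂) hh₂]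
    congr 1
    simp [e]
  obtain ⟨a, ha, -⟩ := hQ y hy
  refine ⟨a, ?_⟩
  intro Z g hg
  refine (hQsep g hg).ext ?_
  rintro W h ⟨Yi, k, fi, hfi, e⟩
  have hk : S (k ≫ fi) := by
    rw [e]
    exact S.downward_closed hg h
  have e₁ : F.map h.op (F.map g.op a) = F.map k.op (F.map fi.op a) := by
    rw [← Functor.map_comp_apply, ← Functor.map_comp_apply, ← op_comp, ← op_comp, e]
  rw [e₁, ha fi hfi]
  show F.map k.op (t hfi) = _
  rw [ht hfi k hk, ← hx g h hg]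
  congr 1

section

variable (C' : C → Prop) (P P' : Precoverage C)
    [P.HasPullbacks] [P.IsStableUnderBaseChange]
    (ha : ∀ ⦃X : C⦄ ⦃R : Presieve X⦄, R ∈ P' X → ∀ ⦃T : C⦄ (g : T ⟶ X), C' T →
      ∃ _ : R.HasPullbacks g, Presieve.pullbackArrows g R ∈ P' T)
    (hb : ∀ X : C, ∃ R ∈ P X, ∀ ⦃Y : C⦄ ⦃f : Y ⟶ X⦄, R f → C' Y)
    (hP : ∀ ⦃X : C⦄ ⦃R : Presieve X⦄, R ∈ P X → Presieve.IsSheafFor F R)
    (hP' : ∀ ⦃X : C⦄ ⦃R : Presieve X⦄, R ∈ P' X → Presieve.IsSheafFor F R)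

include hP in
lemma isSheafFor_pullback_P {X : C} {R : Presieve X} (hR : R ∈ P X) {Y : C} (f : Y ⟶ X) :
    Presieve.IsSheafFor F ((Sieve.generate R).pullback f).arrows := by
  have := P.hasPullbacks_of_mem f hR
  rw [← Sieve.pullbackArrows_comm, ← Presieve.isSheafFor_iff_generate]
  exact hP (Precoverage.pullbackArrows_mem f hR)

include ha hP' in
omit [P.HasPullbacks] [P.IsStableUnderBaseChange] in
lemma isSheafFor_pullback_P' {X : C} {R : Presieve X} (hR : R ∈ P' X) {Y : C} (f : Y ⟶ X)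
    (hY : C' Y) :
    Presieve.IsSheafFor F ((Sieve.generate R).pullback f).arrows := by
  obtain ⟨hpb, hmem⟩ := ha hR f hY
  rw [← Sieve.pullbackArrows_comm, ← Presieve.isSheafFor_iff_generate]
  exact hP' hmem

include ha hb hP hP' in
omit [P.HasPullbacks] [P.IsStableUnderBaseChange] in
lemma isSeparatedFor_pullback_P' {X : C} {R : Presieve X} (hR : R ∈ P' X) {Y : C} (f : Y ⟶ X) :
    Presieve.IsSeparatedFor F ((Sieve.generate R).pullback f).arrows := by
  obtain ⟨Q, hQ, hQC⟩ := hb Y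
  refine isSeparatedFor_trans' F _ Q (hP hQ).isSeparatedFor ?_
  intro Yi fi hfi
  rw [← Sieve.pullback_comp]
  exact (isSheafFor_pullback_P' F C' P' ha hP' hR (fi ≫ f) (hQC hfi)).isSeparatedFor

include ha hb hP hP' in
lemma isSheafFor_pullback_P'_all {X : C} {R : Presieve X} (hR : R ∈ P' X) {Y : C} (f : Y ⟶ X) :
    Presieve.IsSheafFor F ((Sieve.generate R).pullback f).arrows := by
  obtain ⟨Q, hQ, hQC⟩ := hb Y
  refine isSheafFor_trans' F _ Q (hP hQ) ?_ ?_ ?_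
  · intro Z g _
    exact (isSheafFor_pullback_P F P hP hQ g).isSeparatedFor
  · intro Yi fi hfi
    rw [← Sieve.pullback_comp]
    exact isSheafFor_pullback_P' F C' P' ha hP' hR (fi ≫ f) (hQC hfi)
  · intro Z g
    rw [← Sieve.pullback_comp]
    exact isSeparatedFor_pullback_P' F C' P P' ha hb hP hP' hR (g ≫ f)

include ha hb in
theorem isSheaf_generated_iff :
    Presieve.IsSheaf (P ⊔ P').toGrothendieck F ↔
      (∀ ⦃X : C⦄ ⦃R : Presieve X⦄, R ∈ P X → Presieve.IsSheafFor F R) ∧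
      (∀ ⦃X : C⦄ ⦃R : Presieve X⦄, R ∈ P' X → Presieve.IsSheafFor F R) := by
  constructor
  · intro h
    exact ⟨fun X R hR => h.isSheafFor_of_mem_precoverage (J := P ⊔ P') (Or.inl hR),
      fun X R hR => h.isSheafFor_of_mem_precoverage (J := P ⊔ P') (Or.inr hR)⟩
  · rintro ⟨hP, hP'⟩
    rw [Precoverage.isSheaf_toGrothendieck_iff]
    intro X Y f R hR
    rcases hR with hR | hR
    · exact isSheafFor_pullback_P F P hP hR f
    · exact isSheafFor_pullback_P'_all F C' P P' ha hb hP hP' hR f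

end

end Groth.Agent.Lib.helper23.PC
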