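import Mathlib
import Groth.Agent.Lib.helper23.SC1

/-!
# Quotients by equivalence relations for presheaves and sheaves of sets (helper23)
-/

set_option autoImplicit false
open CategoryTheory CategoryTheory.Limits Opposite
universe w v₁ u₁

namespace Groth.Agent.Lib.helper23.SC

section Presheaf

variable {C : Type u₁} [Category.{v₁} C]
variable {R X : Cᵒᵖ ⥤ Type w} (q₁ q₂ : R ⟶ X)

/-- The sectionwise relation attached to a pair of morphisms of presheaves. -/
def relV (V : Cᵒᵖ) (x y : X.obj V) : Prop := ∃ r : R.obj V, q₁.app V r = x ∧ q₂.app V r = y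

lemma relV_map {V W : Cᵒᵖ} (g : V ⟶ W) {x y : X.obj V} (h : relV q₁ q₂ V x y) :
    relV q₁ q₂ W (X.map g x) (X.map g y) := by
  obtain ⟨r, rfl, rfl⟩ := h
  exact ⟨R.map g r, NatTrans.naturality_apply q₁ g r, NatTrans.naturality_apply q₂ g r⟩

/-- The presheaf quotient. -/
def quotPsh : Cᵒᵖ ⥤ Type w where
  obj V := Quot (relV q₁ q₂ V)
  map {V W} g := TypeCat.ofHom (Quot.map (X.map g) (fun _ _ h => relV_map q₁ q₂ g h))
  map_id V := by
    ext x
    induction x using Quot.ind with
    | mk x => simp [Quot.map]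
  map_comp f g := by
    ext x
    induction x using Quot.ind with
    | mk x => simp [Quot.map]

/-- The quotient map. -/
def quotπ : X ⟶ quotPsh q₁ q₂ where
  app V := TypeCat.ofHom (Quot.mk _)
  naturality V W g := by
    ext x
    rfl

lemma quotπ_app (V : Cᵒᵖ) (x : X.obj V) : (quotπ q₁ q₂).app V x = Quot.mk _ x := rfl

lemma quotπ_condition : q₁ ≫ quotπ q₁ q₂ = q₂ ≫ quotπ q₁ q₂ := by
  ext V r
  exact Quot.sound ⟨r, rfl, rfl⟩

/-- Descent to the presheaf quotient. -/
def quotDesc {Z : Cᵒᵖ ⥤ Type w} (k : X ⟶ Z) (hk : q₁ ≫ k = q₂ ≫ k) : quotPsh q₁ q₂ ⟶ Z where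
  app V := TypeCat.ofHom (Quot.lift (k.app V) (by
    rintro x y ⟨r, rfl, rfl⟩
    exact congrArg (fun (t : R ⟶ Z) => t.app V r) hk))
  naturality V W g := by
    ext x
    induction x using Quot.ind with
    | mk x => exact NatTrans.naturality_apply k g x

lemma quotπ_desc {Z : Cᵒᵖ ⥤ Type w} (k : X ⟶ Z) (hk : q₁ ≫ k = q₂ ≫ k) :
    quotπ q₁ q₂ ≫ quotDesc q₁ q₂ k hk = k := by
  ext V x
  rfl

lemma quot_hom_ext {Z : Cᵒᵖ ⥤ Type w} {a b : quotPsh q₁ q₂ ⟶ Z}
    (h : quotπ q₁ q₂ ≫ a = quotπ q₁ q₂ ≫ b) : a = b := by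
  ext V x
  induction x using Quot.ind with
  | mk x => exact congrArg (fun (t : X ⟶ Z) => t.app V x) h

/-- The presheaf quotient is a coequalizer. -/
def quotIsColimit : IsColimit (Cofork.ofπ (quotπ q₁ q₂) (quotπ_condition q₁ q₂)) :=
  Cofork.IsColimit.mk _ (fun s => quotDesc q₁ q₂ s.π s.condition)
    (fun s => quotπ_desc q₁ q₂ s.π s.condition)
    (fun s m hm => quot_hom_ext q₁ q₂ (by rw [quotπ_desc]; exact hm))

/-- Sectionwise equivalence relation. -/
structure SecEquiv : Prop where
  inj : ∀ (V : Cᵒᵖ) (r r' : R.obj V), q₁.app V r = q₁.app V r' → q₂.app V r = q₂.app V r' → r = r'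
  eqv : ∀ V : Cᵒᵖ, Equivalence (relV q₁ q₂ V)

variable {q₁ q₂}

lemma isPullback_quot (h : SecEquiv q₁ q₂) :
    IsPullback q₁ q₂ (quotπ q₁ q₂) (quotπ q₁ q₂) := by
  apply IsPullback.of_forall_isPullback_app
  intro V
  rw [Types.isPullback_iff]
  refine ⟨congrArg (fun (t : R ⟶ quotPsh q₁ q₂) => t.app V) (quotπ_condition q₁ q₂), ?_, ?_⟩
  · rintro r r' ⟨h1, h2⟩
    exact h.inj V r r' h1 h2
  · intro x y hxy
    have := ((h.eqv V).quot_mk_eq_iff x y).1 hxy
    exact this

/-- Sections of a product of presheaves are determined by their components. -/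
lemma prod_section_ext {A B : Cᵒᵖ ⥤ Type w} (V : Cᵒᵖ) (z z' : (A ⨯ B).obj V)
    (h1 : (prod.fst : A ⨯ B ⟶ A).app V z = (prod.fst : A ⨯ B ⟶ A).app V z')
    (h2 : (prod.snd : A ⨯ B ⟶ B).app V z = (prod.snd : A ⨯ B ⟶ B).app V z') : z = z' := by
  have sq : IsPullback (prod.fst : A ⨯ B ⟶ A) prod.snd (terminal.from A) (terminal.from B) :=
    IsPullback.of_hasBinaryProduct' A B
  have sq' := sq.app V
  exact ((Types.isPullback_iff _ _ _ _).1 sq').2.1 z z' ⟨h1, h2⟩

/-- An internal equivalence relation of presheaves of sets is a sectionwise equivalence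
relation. -/
lemma secEquiv_of_equivalenceRelation (e : EquivalenceRelation q₁ q₂) : SecEquiv q₁ q₂ := by
  constructor
  · intro V r r' h1 h2
    have hm : Mono (prod.lift q₁ q₂) := by
      refine ⟨fun {Y} a b hab => e.right_cancellation a b ?_ ?_⟩
      · have := hab =≫ prod.fst
        simpa only [Category.assoc, prod.lift_fst] using this
      · have := hab =≫ prod.snd
        simpa only [Category.assoc, prod.lift_snd] using this
    have hm' := (NatTrans.mono_iff_mono_app _).1 hm V
    rw [mono_iff_injective] at hm'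
    apply hm'
    apply prod_section_ext
    · have e1 : ∀ t, (prod.fst : X ⨯ X ⟶ X).app V ((prod.lift q₁ q₂).app V t) = q₁.app V t := by
        intro t
        exact congrArg (fun (k : R ⟶ X) => k.app V t) (prod.lift_fst q₁ q₂)
      rw [e1, e1, h1]
    · have e2 : ∀ t, (prod.snd : X ⨯ X ⟶ X).app V ((prod.lift q₁ q₂).app V t) = q₂.app V t := by
        intro t
        exact congrArg (fun (k : R ⟶ X) => k.app V t) (prod.lift_snd q₁ q₂)
      rw [e2, e2, h2]
  · intro V
    refine ⟨fun x => ⟨e.r.app V x, ?_, ?_⟩, ?_, ?_⟩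
    · exact congrArg (fun (k : X ⟶ X) => k.app V x) e.reflexivity₁
    · exact congrArg (fun (k : X ⟶ X) => k.app V x) e.reflexivity₂
    · rintro x y ⟨r, rfl, rfl⟩
      refine ⟨e.s.app V r, ?_, ?_⟩
      · exact congrArg (fun (k : R ⟶ X) => k.app V r) e.symmetry₁
      · exact congrArg (fun (k : R ⟶ X) => k.app V r) e.symmetry₂
    · rintro x y z ⟨r, rfl, hr⟩ ⟨r', hr', rfl⟩
      have sq : IsPullback e.c.fst e.c.snd q₂ q₁ := IsPullback.of_isLimit e.isLimit
      have sq' := sq.app V
      obtain ⟨c, hc1, hc2⟩ := ((Types.isPullback_iff _ _ _ _).1 sq').2.2 r r' (hr.trans hr'.symm)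
      refine ⟨e.t.app V c, ?_, ?_⟩
      · have := congrArg (fun (k : e.c.pt ⟶ X) => k.app V c) e.transitivity₁
        refine this.trans ?_
        show q₁.app V (e.c.fst.app V c) = _
        rw [hc1]
      · have := congrArg (fun (k : e.c.pt ⟶ X) => k.app V c) e.transitivity₂
        refine this.trans ?_
        show q₂.app V (e.c.snd.app V c) = _
        rw [hc2]

end Presheaf

section General

variable {D : Type*} [Category D]

/-- A coequalizer of a reflexive pair is a pushout. -/
lemma isPushout_of_isColimit_cofork {R X Q : D} {p₁ p₂ : R ⟶ X} {π : X ⟶ Q}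
    (w : p₁ ≫ π = p₂ ≫ π) (hc : IsColimit (Cofork.ofπ π w)) (r : X ⟶ R) (h1 : r ≫ p₁ = 𝟙 X)
    (h2 : r ≫ p₂ = 𝟙 X) : IsPushout p₁ p₂ π π := by
  have key : ∀ s : PushoutCocone p₁ p₂, s.inl = s.inr := by
    intro s
    calc s.inl = r ≫ p₁ ≫ s.inl := by rw [← Category.assoc, h1, Category.id_comp]
      _ = r ≫ p₂ ≫ s.inr := by rw [s.condition]
      _ = s.inr := by rw [← Category.assoc, h2, Category.id_comp]
  refine ⟨⟨w⟩, ⟨PushoutCocone.IsColimit.mk _
    (fun s => hc.desc (Cofork.ofπ s.inl (by rw [s.condition, key s]))) ?_ ?_ ?_⟩⟩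
  · intro s
    exact hc.fac (Cofork.ofπ s.inl (by rw [s.condition, key s])) WalkingParallelPair.one
  · intro s
    exact (hc.fac (Cofork.ofπ s.inl (by rw [s.condition, key s])) WalkingParallelPair.one).trans
      (key s)
  · intro s m hm1 hm2
    apply Cofork.IsColimit.hom_ext hc
    rw [Cofork.π_ofπ, hm1]
    exact (hc.fac (Cofork.ofπ s.inl (by rw [s.condition, key s])) WalkingParallelPair.one).symm

end General

section Presheaf'

variable {C : Type u₁} [Category.{v₁} C]

lemma presheaf_epi_of_isPullback {P A B Z : Cᵒᵖ ⥤ Type w} {p : P ⟶ A} {q : P ⟶ B} {f : A ⟶ Z}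
    {g : B ⟶ Z} (sq : IsPullback p q f g) (hg : ∀ V, Function.Surjective (g.app V)) : Epi p := by
  rw [NatTrans.epi_iff_epi_app]
  intro V
  rw [epi_iff_surjective]
  intro x
  obtain ⟨y, hy⟩ := hg V (f.app V x)
  obtain ⟨z, hz1, hz2⟩ := ((Types.isPullback_iff _ _ _ _).1 (sq.app V)).2.2 x y hy.symm
  exact ⟨z, hz1⟩

/-- Equivalence relations of presheaves of sets are universally effective. -/
noncomputable def presheafUniversallyEffective {R X : Cᵒᵖ ⥤ Type w} {p₁ p₂ : R ⟶ X}
    (e : EquivalenceRelation p₁ p₂) : UniversallyEffectiveEquivalenceRelation p₁ p₂ :=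
  { e with
    B := quotPsh p₁ p₂
    π := quotπ p₁ p₂
    isKernelPair := isPullback_quot (secEquiv_of_equivalenceRelation e)
    isPushout := isPushout_of_isColimit_cofork _ (quotIsColimit _ _) e.r e.reflexivity₁
      e.reflexivity₂
    universally_effectiveEpi_π := by
      intro A B a b f' sq
      have : Epi f' := presheaf_epi_of_isPullback sq (fun V y => by
        induction y using Quot.ind with
        | mk x => exact ⟨x, rfl⟩)
      have := IsRegularEpiCategory.regularEpiOfEpi f'
      infer_instance }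

end Presheaf'

section Sheaf

variable {C : Type u₁} [Category.{v₁} C] {J : GrothendieckTopology C}

/-- Sections of a product of sheaves are determined by their components. -/
lemma prod_sec_ext {A B : Sheaf J (Type w)} (V : Cᵒᵖ) (z z' : (A ⨯ B).obj.obj V)
    (h1 : sec (prod.fst : A ⨯ B ⟶ A) V z = sec (prod.fst : A ⨯ B ⟶ A) V z')
    (h2 : sec (prod.snd : A ⨯ B ⟶ B) V z = sec (prod.snd : A ⨯ B ⟶ B) V z') : z = z' := by
  have sq : IsPullback (prod.fst : A ⨯ B ⟶ A) prod.snd (terminal.from A) (terminal.from B) :=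
    IsPullback.of_hasBinaryProduct' A B
  exact section_ext_of_isPullback sq V z z' h1 h2

/-- Jointly monic pairs of morphisms of sheaves are jointly injective on sections. -/
lemma jointly_injective_sec {R X₁ X₂ : Sheaf J (Type w)} {p₁ : R ⟶ X₁} {p₂ : R ⟶ X₂}
    (h : JointlyMono₂ p₁ p₂) (V : Cᵒᵖ) (r r' : R.obj.obj V) (h1 : sec p₁ V r = sec p₁ V r')
    (h2 : sec p₂ V r = sec p₂ V r') : r = r' := by
  have hm : Mono (prod.lift p₁ p₂) := by
    refine ⟨fun {Y} a b hab => h.right_cancellation a b ?_ ?_⟩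
    · have := hab =≫ prod.fst
      simpa only [Category.assoc, prod.lift_fst] using this
    · have := hab =≫ prod.snd
      simpa only [Category.assoc, prod.lift_snd] using this
  apply (mono_iff_injective_sec _).1 hm V
  apply prod_sec_ext
  · rw [← sec_comp, ← sec_comp, prod.lift_fst, h1]
  · rw [← sec_comp, ← sec_comp, prod.lift_snd, h2]

/-- An internal equivalence relation of sheaves of sets is a sectionwise equivalence relation. -/
lemma secEquiv_of_equivalenceRelation_sheaf {R X : Sheaf J (Type w)} {p₁ p₂ : R ⟶ X}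
    (e : EquivalenceRelation p₁ p₂) : SecEquiv p₁.hom p₂.hom := by
  constructor
  · intro V r r' h1 h2
    exact jointly_injective_sec e.toJointlyMono₂ V r r' h1 h2
  · intro V
    refine ⟨fun x => ⟨sec e.r V x, ?_, ?_⟩, ?_, ?_⟩
    · show sec p₁ V (sec e.r V x) = x
      rw [← sec_comp, e.reflexivity₁, sec_id]
    · show sec p₂ V (sec e.r V x) = x
      rw [← sec_comp, e.reflexivity₂, sec_id]
    · rintro x y ⟨r, rfl, rfl⟩
      refine ⟨sec e.s V r, ?_, ?_⟩
      · show sec p₁ V (sec e.s V r) = sec p₂ V r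
        rw [← sec_comp, e.symmetry₁]
      · show sec p₂ V (sec e.s V r) = sec p₁ V r
        rw [← sec_comp, e.symmetry₂]
    · rintro x y z ⟨r, rfl, hr⟩ ⟨r', hr', rfl⟩
      have sq : IsPullback e.c.fst e.c.snd p₂ p₁ := IsPullback.of_isLimit e.isLimit
      obtain ⟨c, hc1, hc2⟩ := exists_section_of_isPullback sq V r r' (hr.trans hr'.symm)
      refine ⟨sec e.t V c, ?_, ?_⟩
      · show sec p₁ V (sec e.t V c) = sec p₁ V r
        rw [← sec_comp, e.transitivity₁, sec_comp, hc1]
      · show sec p₂ V (sec e.t V c) = sec p₂ V r'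
        rw [← sec_comp, e.transitivity₂, sec_comp, hc2]

section Quot

variable [HasSheafify J (Type w)] {R X : Sheaf J (Type w)} (p₁ p₂ : R ⟶ X)

/-- The quotient sheaf of a pair of morphisms: the sheafification of the presheaf quotient. -/
noncomputable def quotSh : Sheaf J (Type w) :=
  (presheafToSheaf J (Type w)).obj (quotPsh p₁.hom p₂.hom)

/-- The quotient map to the quotient sheaf. -/
noncomputable def quotShπ : X ⟶ quotSh p₁ p₂ :=
  inv ((sheafificationAdjunction J (Type w)).counit.app X) ≫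
    (presheafToSheaf J (Type w)).map (quotπ p₁.hom p₂.hom)

variable {p₁ p₂}

lemma isKernelPair_quotShπ (h : SecEquiv p₁.hom p₂.hom) :
    IsKernelPair (quotShπ p₁ p₂) p₁ p₂ := by
  have sq := (isPullback_quot h).map (presheafToSheaf J (Type w))
  refine IsPullback.of_iso sq (asIso ((sheafificationAdjunction J (Type w)).counit.app R))
    (asIso ((sheafificationAdjunction J (Type w)).counit.app X))
    (asIso ((sheafificationAdjunction J (Type w)).counit.app X)) (Iso.refl _) ?_ ?_ ?_ ?_
  · exact (sheafificationAdjunction J (Type w)).counit.naturality p₁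
  · exact (sheafificationAdjunction J (Type w)).counit.naturality p₂
  · rw [Iso.refl_hom, asIso_hom, quotShπ, IsIso.hom_inv_id_assoc]
    exact Category.comp_id _
  · rw [Iso.refl_hom, asIso_hom, quotShπ, IsIso.hom_inv_id_assoc]
    exact Category.comp_id _

lemma isPushout_quotShπ (r : X ⟶ R) (h1 : r ≫ p₁ = 𝟙 X) (h2 : r ≫ p₂ = 𝟙 X) :
    IsPushout p₁ p₂ (quotShπ p₁ p₂) (quotShπ p₁ p₂) := by
  have h1' : r.hom ≫ p₁.hom = 𝟙 X.obj := congrArg (fun (k : X ⟶ X) => k.hom) h1
  have h2' : r.hom ≫ p₂.hom = 𝟙 X.obj := congrArg (fun (k : X ⟶ X) => k.hom) h2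
  have sq0 : IsPushout p₁.hom p₂.hom (quotπ p₁.hom p₂.hom) (quotπ p₁.hom p₂.hom) :=
    isPushout_of_isColimit_cofork _ (quotIsColimit _ _) r.hom h1' h2'
  have : PreservesColimitsOfSize.{0, 0} (presheafToSheaf J (Type w)) :=
    (sheafificationAdjunction J (Type w)).leftAdjoint_preservesColimits
  have sq := sq0.map (presheafToSheaf J (Type w))
  refine IsPushout.of_iso sq (asIso ((sheafificationAdjunction J (Type w)).counit.app R))
    (asIso ((sheafificationAdjunction J (Type w)).counit.app X))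
    (asIso ((sheafificationAdjunction J (Type w)).counit.app X)) (Iso.refl _) ?_ ?_ ?_ ?_
  · exact (sheafificationAdjunction J (Type w)).counit.naturality p₁
  · exact (sheafificationAdjunction J (Type w)).counit.naturality p₂
  · rw [Iso.refl_hom, asIso_hom, quotShπ, IsIso.hom_inv_id_assoc]
    exact Category.comp_id _
  · rw [Iso.refl_hom, asIso_hom, quotShπ, IsIso.hom_inv_id_assoc]
    exact Category.comp_id _

/-- Equivalence relations of sheaves of sets are universally effective. -/
noncomputable def sheafUniversallyEffective (e : EquivalenceRelation p₁ p₂) :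
    UniversallyEffectiveEquivalenceRelation p₁ p₂ :=
  { e with
    B := quotSh p₁ p₂
    π := quotShπ p₁ p₂
    isKernelPair := isKernelPair_quotShπ (secEquiv_of_equivalenceRelation_sheaf e)
    isPushout := isPushout_quotShπ e.r e.reflexivity₁ e.reflexivity₂
    universally_effectiveEpi_π := by
      have hc : IsColimit (Cofork.ofπ (quotShπ p₁ p₂) _) :=
        (isPushout_quotShπ e.r e.reflexivity₁ e.reflexivity₂).isLimitFork
      haveI : Epi (quotShπ p₁ p₂) := Cofork.IsColimit.epi hc
      exact universally_effectiveEpi_of_epi _ }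

end Quot

end Sheaf

end Groth.Agent.Lib.helper23.SC
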