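import Mathlib
import Groth.Agent.Lib.helper23.SC2

/-!
# Covers and liftings in `Sheaf J (Type w)` (helper23)
-/

set_option autoImplicit false
open CategoryTheory CategoryTheory.Limits Opposite
universe w v₁ u₁

namespace Groth.Agent.Lib.helper23.SC

variable {C : Type u₁} [Category.{v₁} C] {J : GrothendieckTopology C} [HasSheafify J (Type w)]

/-- A generalized element of the target of an epimorphism lifts after passing to a cover. -/
lemma exists_cover_lift {A B T : Sheaf J (Type w)} (e : A ⟶ B) [Epi e] (b : T ⟶ B) :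
    ∃ (T' : Sheaf J (Type w)) (ε : T' ⟶ T) (a : T' ⟶ A), Epi ε ∧ ε ≫ b = a ≫ e :=
  ⟨pullback b e, pullback.fst b e, pullback.snd b e, inferInstance, pullback.condition⟩

/-- Epimorphisms of sheaves of sets have the left lifting property against monomorphisms. -/
lemma exists_lift_of_epi_mono {A B X Y : Sheaf J (Type w)} (ε : A ⟶ B) [Epi ε] (m : X ⟶ Y)
    [Mono m] (f : A ⟶ X) (g : B ⟶ Y) (h : f ≫ m = ε ≫ g) :
    ∃ l : B ⟶ X, ε ≫ l = f ∧ l ≫ m = g := by
  haveI : StrongEpi ε := strongEpi_of_epi ε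
  have sq : CommSq f ε m g := ⟨h⟩
  exact ⟨sq.lift, sq.fac_left, sq.fac_right⟩

lemma epi_comp' {A B D : Sheaf J (Type w)} (f : A ⟶ B) (g : B ⟶ D) (hf : Epi f) (hg : Epi g) :
    Epi (f ≫ g) := epi_comp f g

end Groth.Agent.Lib.helper23.SC
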