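import Mathlib
import Groth.Agent.Lib.helper23.SC3

/-!
# Quotients of group objects by subgroup objects (helper23)
-/

set_option autoImplicit false
open CategoryTheory CategoryTheory.Limits Opposite MonoidalCategory
open MonObj CartesianMonoidalCategory SemiCartesianMonoidalCategory
universe w v₁ u₁

namespace Groth.Agent.Lib.helper23.SC

section General

variable {D : Type*} [Category D]

/-- A commutative square is a pullback as soon as generalized elements lift uniquely. -/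
lemma isPullback_of_elements {P X Y Z : D} {p : P ⟶ X} {q : P ⟶ Y} {f : X ⟶ Z} {g : Y ⟶ Z}
    (w : p ≫ f = q ≫ g)
    (hex : ∀ (T : D) (x : T ⟶ X) (y : T ⟶ Y), x ≫ f = y ≫ g →
      ∃ t : T ⟶ P, t ≫ p = x ∧ t ≫ q = y)
    (huniq : ∀ (T : D) (t t' : T ⟶ P), t ≫ p = t' ≫ p → t ≫ q = t' ≫ q → t = t') :
    IsPullback p q f g := by
  refine ⟨⟨w⟩, ⟨PullbackCone.IsLimit.mk w
    (fun s => (hex s.pt s.fst s.snd s.condition).choose) ?_ ?_ ?_⟩⟩
  · intro s
    exact (hex s.pt s.fst s.snd s.condition).choose_spec.1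
  · intro s
    exact (hex s.pt s.fst s.snd s.condition).choose_spec.2
  · intro s m h1 h2
    apply huniq
    · rw [h1, (hex s.pt s.fst s.snd s.condition).choose_spec.1]
    · rw [h2, (hex s.pt s.fst s.snd s.condition).choose_spec.2]

end General

section Grp

variable {D : Type u₁} [Category.{v₁} D] [CartesianMonoidalCategory D]

section
variable {K G : D} [MonObj G] (k : K ⟶ G)

/-- The action map `G ⊗ K ⟶ G`, `(g, x) ↦ g * k x`, in terms of the monoid of points. -/
lemma act_eq : (G ◁ k) ≫ μ[G] = fst G K * (snd G K ≫ k) := by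
  rw [Hom.mul_def, ← lift_whiskerLeft, lift_fst_snd, Category.id_comp]

lemma lift_act {Y : D} (g : Y ⟶ G) (h : Y ⟶ K) : lift g h ≫ (G ◁ k) ≫ μ[G] = g * (h ≫ k) := by
  rw [act_eq, MonObj.comp_mul, lift_fst, ← Category.assoc, lift_snd]

lemma comp_act {Y : D} (t : Y ⟶ G ⊗ K) :
    t ≫ (G ◁ k) ≫ μ[G] = (t ≫ fst G K) * ((t ≫ snd G K) ≫ k) := by
  rw [act_eq, MonObj.comp_mul, Category.assoc]

end

variable {H G : D} [GrpObj H] [GrpObj G] (u : H ⟶ G)

variable [IsMonHom u] [Mono u]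

/-- The relation `G ⊗ H ⇉ G` defined by a subgroup object is an equivalence relation. -/
noncomputable def grpEquivRel [HasPullbacks D] :
    EquivalenceRelation (fst G H) ((G ◁ u) ≫ μ[G]) where
  right_cancellation := by
    intro Y f g h1 h2
    rw [comp_act, comp_act, h1] at h2
    have h3 := mul_left_cancel h2
    have h4 : f ≫ snd G H = g ≫ snd G H := (cancel_mono u).1 h3
    exact CartesianMonoidalCategory.hom_ext _ _ h1 h4
  r := lift (𝟙 G) 1
  reflexivity₁ := lift_fst _ _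
  reflexivity₂ := by
    rw [lift_act, MonObj.one_comp, _root_.mul_one]
  s := lift ((G ◁ u) ≫ μ[G]) (snd G H)⁻¹
  symmetry₁ := lift_fst _ _
  symmetry₂ := by
    rw [lift_act, act_eq, GrpObj.inv_comp, mul_inv_cancel_right]
  c := pullback.cone ((G ◁ u) ≫ μ[G]) (fst G H)
  isLimit := pullback.isLimit _ _
  t := lift (pullback.fst ((G ◁ u) ≫ μ[G]) (fst G H) ≫ fst G H)
    ((pullback.fst ((G ◁ u) ≫ μ[G]) (fst G H) ≫ snd G H) *
      (pullback.snd ((G ◁ u) ≫ μ[G]) (fst G H) ≫ snd G H))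
  transitivity₁ := lift_fst _ _
  transitivity₂ := by
    rw [lift_act, MonObj.mul_comp, ← _root_.mul_assoc]
    have h1 := comp_act u (pullback.fst ((G ◁ u) ≫ μ[G]) (fst G H))
    have h2 := comp_act u (pullback.snd ((G ◁ u) ≫ μ[G]) (fst G H))
    have h3 := pullback.condition (f := (G ◁ u) ≫ μ[G]) (g := fst G H)
    show _ = pullback.snd ((G ◁ u) ≫ μ[G]) (fst G H) ≫ (G ◁ u) ≫ μ[G]
    rw [h2, ← h3, h1]

end Grp

section SheafQuot

variable {C : Type u₁} [Category.{v₁} C] {J : GrothendieckTopology C} [HasSheafify J (Type w)]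

/-- Any coequalizer of an equivalence relation of sheaves of sets has the relation as its kernel
pair. -/
lemma isKernelPair_of_isColimit {R X Q : Sheaf J (Type w)} {p₁ p₂ : R ⟶ X}
    (e : EquivalenceRelation p₁ p₂) {π : X ⟶ Q} (w : p₁ ≫ π = p₂ ≫ π)
    (hc : IsColimit (Cofork.ofπ π w)) : IsKernelPair π p₁ p₂ := by
  let E := sheafUniversallyEffective e
  have hE : IsColimit (Cofork.ofπ E.π E.isPushout.w) := E.isPushout.isLimitFork
  let i := hc.coconePointUniqueUpToIso hE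
  have hi : π ≫ i.hom = E.π := hc.comp_coconePointUniqueUpToIso_hom hE WalkingParallelPair.one
  have hk : IsKernelPair (π ≫ i.hom) p₁ p₂ := by
    rw [hi]
    exact E.isKernelPair
  exact hk.cancel_right_of_mono

lemma isKernelPair_coequalizer {R X : Sheaf J (Type w)} {p₁ p₂ : R ⟶ X}
    (e : EquivalenceRelation p₁ p₂) : IsKernelPair (coequalizer.π p₁ p₂) p₁ p₂ :=
  isKernelPair_of_isColimit e (coequalizer.condition p₁ p₂) (coequalizerIsCoequalizer p₁ p₂)

end SheafQuot

/-- The exactness properties of a category of sheaves of sets which are used to study quotients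
(stated abstractly so that the group-object arguments can be run in any cartesian monoidal
category enjoying them). -/
structure IsNice (D : Type u₁) [Category.{v₁} D] : Prop where
  epi_of_isPullback : ∀ {P X Y Z : D} {p : P ⟶ X} {q : P ⟶ Y} {f : X ⟶ Z} {g : Y ⟶ Z},
    IsPullback p q f g → Epi g → Epi p
  desc_of_epi : ∀ {A B Z : D} (e : A ⟶ B), Epi e → ∀ (f : A ⟶ Z),
    (∀ (Y : D) (x y : Y ⟶ A), x ≫ e = y ≫ e → x ≫ f = y ≫ f) → ∃ g : B ⟶ Z, e ≫ g = f
  isKernelPair_of_isColimit : ∀ {R X Q : D} {p₁ p₂ : R ⟶ X} (_ : EquivalenceRelation p₁ p₂)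
    {π : X ⟶ Q} (w : p₁ ≫ π = p₂ ≫ π), IsColimit (Cofork.ofπ π w) → IsKernelPair π p₁ p₂
  lift_of_epi_mono : ∀ {A B X Y : D} (ε : A ⟶ B), Epi ε → ∀ (m : X ⟶ Y), Mono m →
    ∀ (f : A ⟶ X) (g : B ⟶ Y), f ≫ m = ε ≫ g → ∃ l : B ⟶ X, ε ≫ l = f ∧ l ≫ m = g

lemma isNice_sheaf {C : Type u₁} [Category.{v₁} C] (J : GrothendieckTopology C)
    [HasSheafify J (Type w)] : IsNice (Sheaf J (Type w)) where
  epi_of_isPullback sq hg := by
    have := hg
    exact epi_of_isPullback sq
  desc_of_epi e he f h := by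
    have := he
    exact (existsUnique_desc_of_epi e f h).exists
  isKernelPair_of_isColimit e _ w hc := isKernelPair_of_isColimit e w hc
  lift_of_epi_mono ε hε m hm f g h := by
    have := hε
    have := hm
    exact exists_lift_of_epi_mono ε m f g h

section GrpNice

variable {D : Type u₁} [Category.{v₁} D] [CartesianMonoidalCategory D] [HasPullbacks D]
variable (hD : IsNice D)
variable {H G : D} [GrpObj H] [GrpObj G] (u : H ⟶ G) [IsMonHom u] [Mono u]

include hD

lemma isKernelPair_gq [HasCoequalizer (fst G H) ((G ◁ u) ≫ μ[G])] :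
    IsKernelPair (coequalizer.π (fst G H) ((G ◁ u) ≫ μ[G])) (fst G H) ((G ◁ u) ≫ μ[G]) :=
  hD.isKernelPair_of_isColimit (grpEquivRel u) (coequalizer.condition _ _)
    (coequalizerIsCoequalizer _ _)

omit hD [HasPullbacks D] [IsMonHom u] [Mono u] in
lemma gq_mul_right [HasCoequalizer (fst G H) ((G ◁ u) ≫ μ[G])] {Y : D} (g : Y ⟶ G) (h : Y ⟶ H) :
    (g * (h ≫ u)) ≫ coequalizer.π (fst G H) ((G ◁ u) ≫ μ[G]) =
      g ≫ coequalizer.π (fst G H) ((G ◁ u) ≫ μ[G]) := by
  have h1 := coequalizer.condition (fst G H) ((G ◁ u) ≫ μ[G])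
  have h2 := congrArg (fun k => lift g h ≫ k) h1
  simp only [← Category.assoc] at h2
  rw [lift_fst] at h2
  rw [h2]
  congr 1
  rw [Category.assoc, lift_act]

lemma gq_eq_iff [HasCoequalizer (fst G H) ((G ◁ u) ≫ μ[G])] {Y : D} (g₁ g₂ : Y ⟶ G) :
    g₁ ≫ coequalizer.π (fst G H) ((G ◁ u) ≫ μ[G]) =
      g₂ ≫ coequalizer.π (fst G H) ((G ◁ u) ≫ μ[G]) ↔ ∃ h : Y ⟶ H, g₂ = g₁ * (h ≫ u) := by
  constructor
  · intro h
    refine ⟨(isKernelPair_gq hD u).lift g₁ g₂ h ≫ snd G H, ?_⟩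
    have h1 := (isKernelPair_gq hD u).lift_fst g₁ g₂ h
    have h2 := (isKernelPair_gq hD u).lift_snd g₁ g₂ h
    rw [comp_act, h1] at h2
    exact h2.symm
  · rintro ⟨h, rfl⟩
    exact (gq_mul_right u g₁ h).symm

/-- Second isomorphism theorem, kernel pair form. -/
lemma isKernelPair_second_iso [HasCoequalizer (fst G H) ((G ◁ u) ≫ μ[G])] {L : D} [GrpObj L]
    (l : L ⟶ G) [IsMonHom l] [Mono l] :
    IsKernelPair (l ≫ coequalizer.π (fst G H) ((G ◁ u) ≫ μ[G]))
      (fst L (pullback u l)) ((L ◁ pullback.snd u l) ≫ μ[L]) := by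
  apply isPullback_of_elements
  · -- commutativity
    have h1 : ((L ◁ pullback.snd u l) ≫ μ[L]) ≫ l =
        (fst L (pullback u l) ≫ l) * ((snd L (pullback u l) ≫ pullback.fst u l) ≫ u) := by
      rw [act_eq, MonObj.mul_comp, Category.assoc, Category.assoc, pullback.condition]
    rw [← Category.assoc, ← Category.assoc, h1, gq_mul_right]
  · intro T x y hxy
    rw [← Category.assoc, ← Category.assoc, gq_eq_iff hD u] at hxy
    obtain ⟨h, hh⟩ := hxy
    have hk : h ≫ u = (x⁻¹ * y) ≫ l := by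
      rw [MonObj.mul_comp, GrpObj.inv_comp, hh, inv_mul_cancel_left]
    refine ⟨lift x (pullback.lift h (x⁻¹ * y) hk), lift_fst _ _, ?_⟩
    rw [lift_act, pullback.lift_snd, mul_inv_cancel_left]
  · intro T t t' h1 h2
    rw [comp_act, comp_act, h1] at h2
    have h3 := mul_left_cancel h2
    exact CartesianMonoidalCategory.hom_ext _ _ h1 ((cancel_mono (pullback.snd u l)).1 h3)

omit hD [HasPullbacks D] [GrpObj H] [GrpObj G] in
/-- `A ◁ f` is a base change of `f`. -/
lemma isPullback_whiskerLeft (A : D) {X Y : D} (f : X ⟶ Y) :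
    IsPullback (A ◁ f) (snd A X) (snd A Y) f := by
  apply isPullback_of_elements (whiskerLeft_snd A f)
  · intro T x y hxy
    refine ⟨lift (x ≫ fst A Y) y, ?_, lift_snd _ _⟩
    rw [lift_whiskerLeft, ← hxy]
    exact CartesianMonoidalCategory.hom_ext _ _ (by simp) (by simp)
  · intro T t t' h1 h2
    refine CartesianMonoidalCategory.hom_ext _ _ ?_ h2
    have := congrArg (fun k => k ≫ fst A Y) h1
    simpa only [Category.assoc, whiskerLeft_fst] using this

omit [HasPullbacks D] [GrpObj H] [GrpObj G] in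
lemma epi_whiskerLeft (A : D) {X Y : D} (f : X ⟶ Y) [Epi f] : Epi (A ◁ f) :=
  hD.epi_of_isPullback (isPullback_whiskerLeft A f) inferInstance

omit hD [HasPullbacks D] [GrpObj H] [GrpObj G] in
/-- `f ▷ A` is a base change of `f`. -/
lemma isPullback_whiskerRight (A : D) {X Y : D} (f : X ⟶ Y) :
    IsPullback (f ▷ A) (fst X A) (fst Y A) f := by
  apply isPullback_of_elements (whiskerRight_fst f A)
  · intro T x y hxy
    refine ⟨lift y (x ≫ snd Y A), ?_, lift_fst _ _⟩
    rw [lift_whiskerRight, ← hxy]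
    exact CartesianMonoidalCategory.hom_ext _ _ (by simp) (by simp)
  · intro T t t' h1 h2
    refine CartesianMonoidalCategory.hom_ext _ _ h2 ?_
    have := congrArg (fun k => k ≫ snd Y A) h1
    simpa only [Category.assoc, whiskerRight_snd] using this

omit [HasPullbacks D] [GrpObj H] [GrpObj G] in
lemma epi_whiskerRight (A : D) {X Y : D} (f : X ⟶ Y) [Epi f] : Epi (f ▷ A) :=
  hD.epi_of_isPullback (isPullback_whiskerRight A f) inferInstance

omit hD [HasPullbacks D] [GrpObj H] in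
lemma comp_mul_eq {M : D} [MonObj M] {Y : D} (x : Y ⟶ M ⊗ M) :
    x ≫ μ[M] = (x ≫ fst M M) * (x ≫ snd M M) := by
  rw [MonObj.mul_eq_mul, MonObj.comp_mul]

/-- The quotient `G/H` carries a unique `G`-action making the quotient map equivariant. -/
theorem existsUnique_action [HasCoequalizer (fst G H) ((G ◁ u) ≫ μ[G])] :
    ∃! act : G ⊗ coequalizer (fst G H) ((G ◁ u) ≫ μ[G]) ⟶ coequalizer (fst G H) ((G ◁ u) ≫ μ[G]),
      (η[G] ▷ coequalizer (fst G H) ((G ◁ u) ≫ μ[G])) ≫ act =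
          (λ_ (coequalizer (fst G H) ((G ◁ u) ≫ μ[G]))).hom ∧
        (μ[G] ▷ coequalizer (fst G H) ((G ◁ u) ≫ μ[G])) ≫ act =
          (α_ G G (coequalizer (fst G H) ((G ◁ u) ≫ μ[G]))).hom ≫ (G ◁ act) ≫ act ∧
        μ[G] ≫ coequalizer.π (fst G H) ((G ◁ u) ≫ μ[G]) =
          (G ◁ coequalizer.π (fst G H) ((G ◁ u) ≫ μ[G])) ≫ act := by
  obtain ⟨q, hq⟩ : ∃ q : G ⟶ coequalizer (fst G H) ((G ◁ u) ≫ μ[G]),
      q = coequalizer.π (fst G H) ((G ◁ u) ≫ μ[G]) := ⟨_, rfl⟩
  haveI : Epi q := by rw [hq]; infer_instance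
  rw [← hq]
  haveI : Epi (G ◁ q) := epi_whiskerLeft hD G q
  obtain ⟨act, hact⟩ := hD.desc_of_epi (G ◁ q) inferInstance (μ[G] ≫ q) (by
    intro Y x y hxy
    have h1 : x ≫ fst G G = y ≫ fst G G := by
      have := congrArg (fun k => k ≫ fst G _) hxy
      simpa only [Category.assoc, whiskerLeft_fst] using this
    have h2 : (x ≫ snd G G) ≫ q = (y ≫ snd G G) ≫ q := by
      have := congrArg (fun k => k ≫ snd G _) hxy
      simpa only [Category.assoc, whiskerLeft_snd] using this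
    rw [hq, gq_eq_iff hD u] at h2
    obtain ⟨h, hh⟩ := h2
    rw [← Category.assoc, ← Category.assoc, comp_mul_eq x, comp_mul_eq y, ← h1, hh,
      ← _root_.mul_assoc, hq, gq_mul_right])
  refine ⟨act, ⟨?_, ?_, hact.symm⟩, ?_⟩
  · haveI : Epi (𝟙_ D ◁ q) := epi_whiskerLeft hD _ q
    rw [← cancel_epi (𝟙_ D ◁ q), ← Category.assoc, whisker_exchange, Category.assoc, hact,
      ← Category.assoc, MonObj.one_mul, leftUnitor_naturality]
  · haveI : Epi ((G ⊗ G) ◁ q) := epi_whiskerLeft hD _ q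
    rw [← cancel_epi ((G ⊗ G) ◁ q)]
    calc (G ⊗ G) ◁ q ≫ μ[G] ▷ _ ≫ act = μ[G] ▷ G ≫ (G ◁ q ≫ act) := by
          rw [← Category.assoc, whisker_exchange, Category.assoc]
      _ = (μ[G] ▷ G ≫ μ[G]) ≫ q := by rw [hact, Category.assoc]
      _ = (α_ G G G).hom ≫ G ◁ μ[G] ≫ (G ◁ q ≫ act) := by
          rw [MonObj.mul_assoc, hact]; simp only [Category.assoc]
      _ = (α_ G G G).hom ≫ G ◁ (G ◁ q ≫ act) ≫ act := by
          rw [hact, MonoidalCategory.whiskerLeft_comp, Category.assoc, hact]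
      _ = ((α_ G G G).hom ≫ G ◁ G ◁ q) ≫ G ◁ act ≫ act := by
          rw [MonoidalCategory.whiskerLeft_comp]; simp only [Category.assoc]
      _ = (G ⊗ G) ◁ q ≫ (α_ G G _).hom ≫ G ◁ act ≫ act := by
          rw [← associator_naturality_right, Category.assoc]
  · rintro act' ⟨-, -, h3⟩
    rw [← cancel_epi (G ◁ q), hact, ← h3]

end GrpNice

end Groth.Agent.Lib.helper23.SC
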