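import Mathlib
import Groth.Prelude.Def_SGA4c
import Groth.Prelude.Def_ToposFin2
import Groth.Agent.Lib.helper9.ToposFin

/-!
# Jointly epimorphic families in a sheaf topos (helper23)

`JEpi π` : the family `π i : F i ⟶ X` is jointly epimorphic (elementary form).
Characterisation by local liftings of sections, stability under base change and composition,
and the basic permanence properties of quasi-compact objects.
-/

set_option autoImplicit false
open CategoryTheory CategoryTheory.Limits Opposite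
universe w w' u

namespace Groth.Agent.Lib.helper23.TF

open ToposFin

variable {C : Type u} [SmallCategory C] {J : GrothendieckTopology C}

/-- Elementary form of "jointly epimorphic family". -/
def JEpi {ι : Type w} {X : Sh J} {F : ι → Sh J} (π : ∀ i, F i ⟶ X) : Prop :=
  ∀ ⦃Z : Sh J⦄ (a b : X ⟶ Z), (∀ i, π i ≫ a = π i ≫ b) → a = b

lemma jepi_iff_epi {ι : Type w} {X : Sh J} {F : ι → Sh J} [HasCoproduct F] (π : ∀ i, F i ⟶ X) :
    JEpi π ↔ Epi (Sigma.desc π) := by
  constructor
  · intro h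
    refine ⟨fun {Z} a b hab => h a b (fun i => ?_)⟩
    have := congrArg (fun t => Sigma.ι F i ≫ t) hab
    simpa using this
  · intro h Z a b hab
    rw [← cancel_epi (Sigma.desc π)]
    apply Sigma.hom_ext
    intro i
    simpa using hab i

/-- The union of the images of the family, as a subfunctor. -/
def imgSub {ι : Type w} {X : Sh J} {F : ι → Sh J} (π : ∀ i, F i ⟶ X) : Subfunctor X.obj where
  obj U := {s | ∃ (i : ι) (t : (F i).obj.obj U), (π i).hom.app U t = s}
  map := by
    rintro U V g s ⟨i, t, rfl⟩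
    exact ⟨i, (F i).obj.map g t, NatTrans.naturality_apply (π i).hom g t⟩

/-- The sieve of arrows along which a section lifts to a member of the family. -/
def liftSieve {ι : Type w} {X : Sh J} {F : ι → Sh J} (π : ∀ i, F i ⟶ X) {U : C}
    (s : X.obj.obj (op U)) : Sieve U :=
  (imgSub π).sieveOfSection s

lemma liftSieve_apply {ι : Type w} {X : Sh J} {F : ι → Sh J} (π : ∀ i, F i ⟶ X) {U V : C}
    (s : X.obj.obj (op U)) (v : V ⟶ U) :
    liftSieve π s v ↔ ∃ (i : ι) (t : (F i).obj.obj (op V)),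
      (π i).hom.app (op V) t = X.obj.map v.op s := Iff.rfl

lemma presieve_isSheaf (X : Sh J) : Presieve.IsSheaf J X.obj :=
  (isSheaf_iff_isSheaf_of_type J _).1 X.property

/-- If every section lifts locally to the family, the family is jointly epimorphic. -/
lemma jepi_of_liftSieve {ι : Type w} {X : Sh J} {F : ι → Sh J} (π : ∀ i, F i ⟶ X)
    (h : ∀ (U : C) (s : X.obj.obj (op U)), liftSieve π s ∈ J U) : JEpi π := by
  intro Z a b hab
  apply Sheaf.hom_ext
  ext U s
  obtain ⟨U⟩ := U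
  refine ((presieve_isSheaf Z).isSeparated _ (h U s)).ext ?_
  rintro V v ⟨i, t, ht⟩
  have ha := NatTrans.naturality_apply a.hom v.op s
  have hb := NatTrans.naturality_apply b.hom v.op s
  have hm : a.hom.app (op V) (X.obj.map v.op s) = b.hom.app (op V) (X.obj.map v.op s) := by
    rw [← ht]
    have := congrArg (fun (k : F i ⟶ Z) => k.hom.app (op V) t) (hab i)
    simpa using this
  exact ha.symm.trans (hm.trans hb)

/-- The subsheaf generated by the images. -/
noncomputable def imgSheaf {ι : Type w} {X : Sh J} {F : ι → Sh J} (π : ∀ i, F i ⟶ X) : Sh J :=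
  ⟨((imgSub π).sheafify J).toFunctor,
    (isSheaf_iff_isSheaf_of_type J _).2 (Subfunctor.sheafify_isSheaf _ (presieve_isSheaf X))⟩

noncomputable def imgSheafι {ι : Type w} {X : Sh J} {F : ι → Sh J} (π : ∀ i, F i ⟶ X) :
    imgSheaf π ⟶ X :=
  ObjectProperty.homMk ((imgSub π).sheafify J).ι

noncomputable def toImgSheaf {ι : Type w} {X : Sh J} {F : ι → Sh J} (π : ∀ i, F i ⟶ X) (i : ι) :
    F i ⟶ imgSheaf π :=
  ObjectProperty.homMk (Subfunctor.lift (π i).hom (by
    rintro U s ⟨t, rfl⟩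
    exact Subfunctor.le_sheafify J _ _ ⟨i, t, rfl⟩))

lemma toImgSheaf_ι {ι : Type w} {X : Sh J} {F : ι → Sh J} (π : ∀ i, F i ⟶ X) (i : ι) :
    toImgSheaf π i ≫ imgSheafι π = π i := rfl

/-- A jointly epimorphic family lifts every section locally. -/
lemma liftSieve_mem_of_jepi {ι : Type w} {X : Sh J} {F : ι → Sh J} (π : ∀ i, F i ⟶ X)
    (h : JEpi π) (U : C) (s : X.obj.obj (op U)) : liftSieve π s ∈ J U := by
  have hepi : Epi (imgSheafι π) := by
    refine ⟨fun {Z} a b hab => h a b (fun i => ?_)⟩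
    rw [← toImgSheaf_ι π i, Category.assoc, Category.assoc, hab]
  have hls : Sheaf.IsLocallySurjective (imgSheafι π) :=
    (Sheaf.isLocallySurjective_iff_epi _).2 hepi
  have h1 : Presheaf.imageSieve (imgSheafι π).hom s ∈ J U :=
    Presheaf.imageSieve_mem J (imgSheafι π).hom (U := op U) s
  refine J.transitive h1 _ ?_
  rintro V v ⟨t, ht⟩
  -- `X.map v s` lies in the sheafified image
  have h2 : (imgSub π).sieveOfSection (X.obj.map v.op s) ∈ J V := by
    have : X.obj.map v.op s = t.1 := ht.symm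
    rw [this]
    exact t.2
  refine J.superset_covering ?_ h2
  intro W g hg
  show (imgSub π).obj (op W) _
  have : X.obj.map (g ≫ v).op s = X.obj.map g.op (X.obj.map v.op s) := by
    rw [op_comp, Functor.map_comp_apply]
  rw [this]
  exact hg

lemma jepi_iff_liftSieve {ι : Type w} {X : Sh J} {F : ι → Sh J} (π : ∀ i, F i ⟶ X) :
    JEpi π ↔ ∀ (U : C) (s : X.obj.obj (op U)), liftSieve π s ∈ J U :=
  ⟨liftSieve_mem_of_jepi π, jepi_of_liftSieve π⟩

/-- Sections of a pullback square of sheaves: a compatible pair of sections comes from a section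
of the pullback. -/
lemma exists_section_of_isPullback {P X Y Z : Sh J} {p : P ⟶ X} {q : P ⟶ Y} {f : X ⟶ Z} {g : Y ⟶ Z}
    (sq : IsPullback p q f g) (V : Cᵒᵖ) (x : X.obj.obj V) (y : Y.obj.obj V)
    (h : f.hom.app V x = g.hom.app V y) :
    ∃ z : P.obj.obj V, p.hom.app V z = x ∧ q.hom.app V z = y := by
  have sq' := sq.map (sheafToPresheaf J (Type u) ⋙ (evaluation Cᵒᵖ (Type u)).obj V)
  exact ((Types.isPullback_iff _ _ _ _).1 sq').2.2 x y h

lemma section_ext_of_isPullback {P X Y Z : Sh J} {p : P ⟶ X} {q : P ⟶ Y} {f : X ⟶ Z} {g : Y ⟶ Z}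
    (sq : IsPullback p q f g) (V : Cᵒᵖ) (z z' : P.obj.obj V)
    (h1 : p.hom.app V z = p.hom.app V z') (h2 : q.hom.app V z = q.hom.app V z') : z = z' := by
  have sq' := sq.map (sheafToPresheaf J (Type u) ⋙ (evaluation Cᵒᵖ (Type u)).obj V)
  exact ((Types.isPullback_iff _ _ _ _).1 sq').2.1 z z' ⟨h1, h2⟩

/-- Jointly epimorphic families are stable under base change. -/
lemma JEpi.of_isPullback {ι : Type w} {X X' : Sh J} {F F' : ι → Sh J} {π : ∀ i, F i ⟶ X}
    (h : JEpi π) (g : X' ⟶ X) (π' : ∀ i, F' i ⟶ X') (g' : ∀ i, F' i ⟶ F i)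
    (sq : ∀ i, IsPullback (g' i) (π' i) (π i) g) : JEpi π' := by
  rw [jepi_iff_liftSieve] at h ⊢
  intro U s
  refine J.superset_covering ?_ (h U (g.hom.app (op U) s))
  rintro V v ⟨i, t, ht⟩
  have hn := NatTrans.naturality_apply g.hom v.op s
  obtain ⟨z, -, hz⟩ := exists_section_of_isPullback (sq i) (op V) t (X'.obj.map v.op s)
    (ht.trans hn.symm)
  exact ⟨i, z, hz⟩

lemma JEpi.pullback_snd {ι : Type w} {X X' : Sh J} {F : ι → Sh J} {π : ∀ i, F i ⟶ X}
    (h : JEpi π) (g : X' ⟶ X) : JEpi (fun i => pullback.snd (π i) g) :=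
  h.of_isPullback g _ (fun i => pullback.fst (π i) g) (fun i => IsPullback.of_hasPullback _ _)

lemma JEpi.pullback_fst {ι : Type w} {X X' : Sh J} {F : ι → Sh J} {π : ∀ i, F i ⟶ X}
    (h : JEpi π) (g : X' ⟶ X) : JEpi (fun i => pullback.fst g (π i)) :=
  h.of_isPullback g _ (fun i => pullback.snd g (π i)) (fun i => (IsPullback.of_hasPullback _ _).flip)

/-- A family through which a jointly epimorphic family factors is jointly epimorphic. -/
lemma JEpi.of_factor {ι : Type w} {κ : Type w'} {X : Sh J} {F : ι → Sh J} {G : κ → Sh J}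
    {π : ∀ i, F i ⟶ X} (h : JEpi π) (ρ : ∀ k, G k ⟶ X)
    (hfac : ∀ i, ∃ (k : κ) (φ : F i ⟶ G k), φ ≫ ρ k = π i) : JEpi ρ := by
  intro Z a b hab
  refine h a b (fun i => ?_)
  obtain ⟨k, φ, hφ⟩ := hfac i
  rw [← hφ, Category.assoc, Category.assoc, hab k]

/-- Composition of jointly epimorphic families. -/
lemma JEpi.comp {ι : Type w} {κ : ι → Type w'} {X : Sh J} {F : ι → Sh J} {π : ∀ i, F i ⟶ X}
    (h : JEpi π) {G : ∀ i, κ i → Sh J} (ρ : ∀ i (k : κ i), G i k ⟶ F i) (hρ : ∀ i, JEpi (ρ i)) :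
    JEpi (fun p : Σ i, κ i => ρ p.1 p.2 ≫ π p.1) := by
  intro Z a b hab
  refine h a b (fun i => hρ i _ _ (fun k => ?_))
  simpa using hab ⟨i, k⟩

/-- An epimorphism as a one-member jointly epimorphic family. -/
lemma jepi_of_epi {X Y : Sh J} (f : X ⟶ Y) [Epi f] : JEpi (fun _ : PUnit.{w + 1} => f) := by
  intro Z a b hab
  rw [← cancel_epi f]
  exact hab ⟨⟩

lemma epi_of_jepi_const {ι : Type w} [Nonempty ι] {X Y : Sh J} (f : X ⟶ Y)
    (h : JEpi (fun _ : ι => f)) : Epi f :=
  ⟨fun a b hab => h a b (fun _ => hab)⟩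

/-- Reindexing along a surjection (or any map hitting all needed indices). -/
lemma JEpi.reindex {ι : Type w} {κ : Type w'} {X : Sh J} {F : ι → Sh J} {π : ∀ i, F i ⟶ X}
    (h : JEpi π) (e : κ → ι) (he : Function.Surjective e) : JEpi (fun k => π (e k)) := by
  intro Z a b hab
  refine h a b (fun i => ?_)
  obtain ⟨k, rfl⟩ := he i
  exact hab k

/-- Quasi-compactness in terms of `JEpi`. -/
lemma isQC_iff {X : Sh J} : IsQC X ↔ ∀ (ι : Type u) (F : ι → Sh J) (π : ∀ i, F i ⟶ X), JEpi π →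
    ∃ s : Finset ι, JEpi (fun i : s => π i) := by
  constructor
  · intro h ι F π hπ
    obtain ⟨s, hs⟩ := h ι F π ((jepi_iff_epi π).1 hπ)
    exact ⟨s, (jepi_iff_epi _).2 hs⟩
  · intro h ι F π hπ
    obtain ⟨s, hs⟩ := h ι F π ((jepi_iff_epi π).2 hπ)
    exact ⟨s, (jepi_iff_epi _).1 hs⟩

/-- A finite jointly epimorphic family with quasi-compact sources has quasi-compact target. -/
lemma isQC_of_finite_jepi {κ : Type w} [Finite κ] {X : Sh J} (F : κ → Sh J) (π : ∀ k, F k ⟶ X)
    (hπ : JEpi π) (hF : ∀ k, IsQC (F k)) : IsQC X := by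
  classical
  rw [isQC_iff]
  intro ι G ρ hρ
  have h1 : ∀ k, ∃ s : Finset ι, JEpi (fun j : s => pullback.snd (ρ j) (π k)) := by
    intro k
    exact isQC_iff.1 (hF k) ι _ _ (hρ.pullback_snd (π k))
  choose s hs using h1
  haveI := Fintype.ofFinite κ
  refine ⟨Finset.univ.biUnion s, ?_⟩
  intro Z a b hab
  refine hπ a b (fun k => hs k _ _ (fun j => ?_))
  have hj : (j : ι) ∈ Finset.univ.biUnion s := Finset.mem_biUnion.2 ⟨k, Finset.mem_univ _, j.2⟩
  have := hab ⟨j, hj⟩
  simp only at this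
  rw [← Category.assoc, ← Category.assoc, ← pullback.condition, Category.assoc, Category.assoc,
    this]

/-- The image of a quasi-compact object is quasi-compact. -/
lemma isQC_of_epi {X Y : Sh J} (f : X ⟶ Y) [Epi f] (hX : IsQC X) : IsQC Y :=
  isQC_of_finite_jepi (fun _ : PUnit.{1} => X) (fun _ => f) (jepi_of_epi f) (fun _ => hX)

end Groth.Agent.Lib.helper23.TF
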