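import Mathlib
import Groth.Agent.Lib.helper23.TF1

/-!
# Quasi-compact / quasi-separated morphisms: formal calculus (helper23)
-/

set_option autoImplicit false
open CategoryTheory CategoryTheory.Limits Opposite
universe w w' u

namespace Groth.Agent.Lib.helper23.TF

open ToposFin Groth.Agent.Lib.helper9.TF

variable {C : Type u} [SmallCategory C] {J : GrothendieckTopology C}

instance : (qcHom (J := J)).ContainsIdentities := ⟨fun X => isQCHom_of_isIso (𝟙 X)⟩

instance : (qcHom (J := J)).IsMultiplicative := {}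

lemma isQC_of_isPullback {X Y P Y' : Sh J} {f : X ⟶ Y} (hf : IsQCHom f) {p : P ⟶ X}
    {q : P ⟶ Y'} {g : Y' ⟶ Y} (sq : IsPullback p q f g) (hY' : IsQC Y') : IsQC P :=
  isQC_of_iso sq.isoPullback.symm (hf Y' g hY')

lemma isQC_source {X Y : Sh J} {f : X ⟶ Y} (hf : IsQCHom f) (hY : IsQC Y) : IsQC X :=
  isQC_of_isPullback hf (IsPullback.of_horiz_isIso (fst := 𝟙 X) (snd := f) (g := 𝟙 Y) ⟨by simp⟩) hY

lemma isQCHom_of_isQS {X Y : Sh J} (f : X ⟶ Y) (hX : IsQC X) (hY : IsQS Y) : IsQCHom f :=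
  fun Y' g hY' => hY X Y' f g hX hY'

/-- If `g` is quasi-separated and `f ≫ g` is quasi-compact then `f` is quasi-compact. -/
lemma isQCHom_of_postcomp {X Y Z : Sh J} (f : X ⟶ Y) (g : Y ⟶ Z) (hg : IsQSHom g)
    (h : IsQCHom (f ≫ g)) : IsQCHom f := by
  have : (qcHom (J := J)).HasOfPostcompProperty (qcHom (J := J)).diagonal :=
    MorphismProperty.hasOfPostcompProperty_iff_le_diagonal.2 le_rfl
  exact MorphismProperty.of_postcomp (W := qcHom (J := J)) (W' := (qcHom (J := J)).diagonal) f g hg h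

/-- If `f ≫ g` is quasi-separated then `f` is quasi-separated. -/
lemma isQSHom_of_postcomp {X Y Z : Sh J} (f : X ⟶ Y) (g : Y ⟶ Z) (h : IsQSHom (f ≫ g)) :
    IsQSHom f := by
  have h0 : (⊤ : MorphismProperty (Sh J)) ≤ ((qcHom (J := J)).diagonal).diagonal := by
    intro A B k _
    show IsQCHom (pullback.diagonal (pullback.diagonal k))
    exact isQCHom_of_isIso _
  have : ((qcHom (J := J)).diagonal).HasOfPostcompProperty (⊤ : MorphismProperty (Sh J)) :=
    MorphismProperty.hasOfPostcompProperty_iff_le_diagonal.2 h0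
  exact MorphismProperty.of_postcomp (W := (qcHom (J := J)).diagonal)
    (W' := (⊤ : MorphismProperty (Sh J))) f g trivial h

lemma isQSHom_of_mono {X Y : Sh J} (f : X ⟶ Y) [Mono f] : IsQSHom f := by
  have : IsIso (pullback.diagonal f) := (pullback.isIso_diagonal_iff f).mpr inferInstance
  exact isQCHom_of_isIso _

lemma isQSHom_comp {X Y Z : Sh J} {f : X ⟶ Y} {g : Y ⟶ Z} (hf : IsQSHom f) (hg : IsQSHom g) :
    IsQSHom (f ≫ g) :=
  ((qcHom (J := J)).diagonal).comp_mem f g hf hg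

lemma isQSHom_of_isPullback {X Y X' Y' : Sh J} {f : X ⟶ Y} {f' : X' ⟶ Y'} {g' : X' ⟶ X}
    {g : Y' ⟶ Y} (h : IsPullback g' f' f g) (hf : IsQSHom f) : IsQSHom f' :=
  ((qcHom (J := J)).diagonal).of_isPullback h hf

/-- Source of a quasi-separated morphism to a quasi-separated object is quasi-separated. -/
lemma isQS_of_isQSHom {X Y : Sh J} (f : X ⟶ Y) (hf : IsQSHom f) (hY : IsQS Y) : IsQS X := by
  intro A B a b hA hB
  exact isQC_of_isPullback hf (pullback_map_diagonal_isPullback a b f)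
    (hY A B (a ≫ f) (b ≫ f) hA hB)

lemma isQS_of_mono {X Y : Sh J} (f : X ⟶ Y) [Mono f] (hY : IsQS Y) : IsQS X :=
  isQS_of_isQSHom f (isQSHom_of_mono f) hY

lemma isQS_of_iso {X Y : Sh J} (e : X ≅ Y) (hX : IsQS X) : IsQS Y :=
  isQS_of_mono e.inv hX

end Groth.Agent.Lib.helper23.TF
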