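import Mathlib
import Groth.Agent.Lib.helper23.TF2
set_option autoImplicit false
open CategoryTheory CategoryTheory.Limits Opposite
universe w w' u
namespace Groth.Agent.Lib.helper23.TF
open ToposFin Groth.Agent.Lib.helper9.TF
variable {C : Type u} [SmallCategory C] {J : GrothendieckTopology C}

/-- The map on sections induced by a morphism of sheaves. -/
def sec {X Y : Sh J} (a : X ⟶ Y) (V : Cᵒᵖ) (z : X.obj.obj V) : Y.obj.obj V := a.hom.app V z

lemma sec_def {X Y : Sh J} (a : X ⟶ Y) (V : Cᵒᵖ) (z : X.obj.obj V) : sec a V z = a.hom.app V z := rfl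

@[simp] lemma sec_comp {X Y Z : Sh J} (a : X ⟶ Y) (b : Y ⟶ Z) (V : Cᵒᵖ) (z : X.obj.obj V) :
    sec (a ≫ b) V z = sec b V (sec a V z) := rfl

@[simp] lemma sec_id {X : Sh J} (V : Cᵒᵖ) (z : X.obj.obj V) : sec (𝟙 X) V z = z := rfl

lemma sec_map {X Y : Sh J} (a : X ⟶ Y) {V W : Cᵒᵖ} (g : V ⟶ W) (z : X.obj.obj V) :
    sec a W (X.obj.map g z) = Y.obj.map g (sec a V z) :=
  NatTrans.naturality_apply a.hom g z

lemma sec_congr {X Y : Sh J} {a b : X ⟶ Y} (h : a = b) (V : Cᵒᵖ) (z : X.obj.obj V) :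
    sec a V z = sec b V z := by rw [h]

lemma pb_exists {X Y Z : Sh J} (f : X ⟶ Z) (g : Y ⟶ Z) (V : Cᵒᵖ) (x : X.obj.obj V) (y : Y.obj.obj V)
    (h : sec f V x = sec g V y) :
    ∃ z : (pullback f g).obj.obj V, sec (pullback.fst f g) V z = x ∧ sec (pullback.snd f g) V z = y :=
  exists_section_of_isPullback (IsPullback.of_hasPullback f g) V x y h

lemma pb_ext {X Y Z : Sh J} (f : X ⟶ Z) (g : Y ⟶ Z) (V : Cᵒᵖ) (z z' : (pullback f g).obj.obj V)
    (h1 : sec (pullback.fst f g) V z = sec (pullback.fst f g) V z')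
    (h2 : sec (pullback.snd f g) V z = sec (pullback.snd f g) V z') : z = z' :=
  section_ext_of_isPullback (IsPullback.of_hasPullback f g) V z z' h1 h2

lemma pb_condition {X Y Z : Sh J} (f : X ⟶ Z) (g : Y ⟶ Z) (V : Cᵒᵖ) (z : (pullback f g).obj.obj V) :
    sec f V (sec (pullback.fst f g) V z) = sec g V (sec (pullback.snd f g) V z) := by
  rw [← sec_comp, ← sec_comp, pullback.condition]

lemma sec_lift_fst {T X Y Z : Sh J} {f : X ⟶ Z} {g : Y ⟶ Z} (h : T ⟶ X) (k : T ⟶ Y)
    (w : h ≫ f = k ≫ g) (V : Cᵒᵖ) (z : T.obj.obj V) :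
    sec (pullback.fst f g) V (sec (pullback.lift h k w) V z) = sec h V z := by
  rw [← sec_comp, pullback.lift_fst]

lemma sec_lift_snd {T X Y Z : Sh J} {f : X ⟶ Z} {g : Y ⟶ Z} (h : T ⟶ X) (k : T ⟶ Y)
    (w : h ≫ f = k ≫ g) (V : Cᵒᵖ) (z : T.obj.obj V) :
    sec (pullback.snd f g) V (sec (pullback.lift h k w) V z) = sec k V z := by
  rw [← sec_comp, pullback.lift_snd]

lemma isIso_of_bijective_sections {X Y : Sh J} (a : X ⟶ Y)
    (h : ∀ V, Function.Bijective (sec a V)) : IsIso a := by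
  rw [← isIso_iff_of_reflects_iso a (sheafToPresheaf J (Type u))]
  have : ∀ V, IsIso (((sheafToPresheaf J (Type u)).map a).app V) := by
    intro V
    rw [isIso_iff_bijective]
    exact h V
  exact NatIso.isIso_of_isIso_app _

/-- A commutative square of sheaves which is a pullback on sections is a pullback. -/
lemma isPullback_of_sections {P X Y Z : Sh J} {p : P ⟶ X} {q : P ⟶ Y} {f : X ⟶ Z} {g : Y ⟶ Z}
    (w : p ≫ f = q ≫ g)
    (hinj : ∀ (V : Cᵒᵖ) (z z' : P.obj.obj V), sec p V z = sec p V z' → sec q V z = sec q V z' → z = z')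
    (hsurj : ∀ (V : Cᵒᵖ) (x : X.obj.obj V) (y : Y.obj.obj V), sec f V x = sec g V y →
      ∃ z, sec p V z = x ∧ sec q V z = y) : IsPullback p q f g := by
  have hiso : IsIso (pullback.lift p q w) := by
    apply isIso_of_bijective_sections
    intro V
    constructor
    · intro z z' hzz
      apply hinj V z z'
      · have := congrArg (sec (pullback.fst f g) V) hzz
        rwa [sec_lift_fst, sec_lift_fst] at this
      · have := congrArg (sec (pullback.snd f g) V) hzz
        rwa [sec_lift_snd, sec_lift_snd] at this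
    · intro t
      obtain ⟨z, hz1, hz2⟩ := hsurj V _ _ (pb_condition f g V t)
      refine ⟨z, pb_ext f g V _ _ ?_ ?_⟩
      · rw [sec_lift_fst, hz1]
      · rw [sec_lift_snd, hz2]
  exact IsPullback.of_iso_pullback ⟨w⟩ (asIso (pullback.lift p q w))
    (pullback.lift_fst _ _ _) (pullback.lift_snd _ _ _)

/-- Fibre products of jointly epimorphic families are jointly epimorphic. -/
lemma jepi_pullback_map {A B Y : Sh J} (a : A ⟶ Y) (b : B ⟶ Y) {ι : Type w} {κ : Type w'}
    {A' : ι → Sh J} (α : ∀ i, A' i ⟶ A) (hα : JEpi α) {B' : κ → Sh J} (β : ∀ j, B' j ⟶ B)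
    (hβ : JEpi β) :
    JEpi (fun p : ι × κ => pullback.map (α p.1 ≫ a) (β p.2 ≫ b) a b (α p.1) (β p.2) (𝟙 Y)
      (by simp) (by simp)) := by
  rw [jepi_iff_liftSieve] at hα hβ ⊢
  intro U s
  refine J.transitive (hα U (sec (pullback.fst a b) (op U) s)) _ ?_
  rintro V v ⟨i, t, ht⟩
  refine J.superset_covering ?_
    (hβ V (sec (pullback.snd a b) (op V) ((pullback a b).obj.map v.op s)))
  rintro W w ⟨j, r, hr⟩
  have ht' : sec (α i) (op V) t = sec (pullback.fst a b) (op V) ((pullback a b).obj.map v.op s) := by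
    rw [sec_map]; exact ht
  have hr' : sec (β j) (op W) r = sec (pullback.snd a b) (op W)
      ((pullback a b).obj.map w.op ((pullback a b).obj.map v.op s)) := by
    rw [sec_map]; exact hr
  have ht'' : sec (α i) (op W) ((A' i).obj.map w.op t) = sec (pullback.fst a b) (op W)
      ((pullback a b).obj.map w.op ((pullback a b).obj.map v.op s)) := by
    rw [sec_map, sec_map, ht']
  obtain ⟨z, hz1, hz2⟩ := pb_exists (α i ≫ a) (β j ≫ b) (op W) ((A' i).obj.map w.op t) r (by
    rw [sec_comp, sec_comp, ht'', hr', pb_condition])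
  refine ⟨(i, j), z, ?_⟩
  have hcomp : (pullback a b).obj.map (w ≫ v).op s =
      (pullback a b).obj.map w.op ((pullback a b).obj.map v.op s) := by
    rw [op_comp, Functor.map_comp_apply]
  show sec _ (op W) z = _
  rw [hcomp]
  apply pb_ext
  · rw [← sec_comp, pullback.lift_fst, sec_comp, hz1, ht'']
  · rw [← sec_comp, pullback.lift_snd, sec_comp, hz2, hr']

lemma isQC_pullback_symm {X Y Z : Sh J} (f : X ⟶ Z) (g : Y ⟶ Z) (h : IsQC (pullback f g)) :
    IsQC (pullback g f) :=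
  isQC_of_iso (pullbackSymmetry f g) h

lemma isQC_pullback_congr {X Y Z : Sh J} {f f' : X ⟶ Z} {g g' : Y ⟶ Z} (hf : f = f') (hg : g = g')
    (h : IsQC (pullback f g)) : IsQC (pullback f' g') := by
  subst hf; subst hg; exact h

/-- `X ×_Y Y'` is quasi-compact if `Y'` has a finite jointly epimorphic cover `G k → Y'` with each
`X ×_Y G k` quasi-compact. -/
lemma isQC_pullback_of_cover_right {X Y Y' : Sh J} (f : X ⟶ Y) (g : Y' ⟶ Y) {κ : Type w} [Finite κ]
    {G : κ → Sh J} (π : ∀ k, G k ⟶ Y') (hπ : JEpi π) (h : ∀ k, IsQC (pullback f (π k ≫ g))) :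
    IsQC (pullback f g) :=
  isQC_of_finite_jepi _ (fun k => pullback.fst (pullback.snd f g) (π k)) (hπ.pullback_fst _)
    (fun k => isQC_of_iso (pullbackLeftPullbackSndIso f g (π k)).symm (h k))

lemma isQC_pullback_of_cover_left {X Y Y' : Sh J} (f : X ⟶ Y) (g : Y' ⟶ Y) {κ : Type w} [Finite κ]
    {G : κ → Sh J} (π : ∀ k, G k ⟶ X) (hπ : JEpi π) (h : ∀ k, IsQC (pullback (π k ≫ f) g)) :
    IsQC (pullback f g) :=
  isQC_of_finite_jepi _ (fun k => pullback.snd (π k) (pullback.fst f g)) (hπ.pullback_snd _)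
    (fun k => isQC_of_iso (pullbackRightPullbackFstIso f g (π k)).symm (h k))

lemma isQC_pullback_of_covers {A B Y : Sh J} (a : A ⟶ Y) (b : B ⟶ Y) {ι : Type w} {κ : Type w'}
    [Finite ι] [Finite κ] {A' : ι → Sh J} (α : ∀ i, A' i ⟶ A) (hα : JEpi α) {B' : κ → Sh J}
    (β : ∀ j, B' j ⟶ B) (hβ : JEpi β) (h : ∀ i j, IsQC (pullback (α i ≫ a) (β j ≫ b))) :
    IsQC (pullback a b) :=
  isQC_pullback_of_cover_left a b α hα (fun i =>
    isQC_pullback_of_cover_right (α i ≫ a) b β hβ (fun j => h i j))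

/-- A quasi-compact object has a finite cover by generators. -/
lemma exists_finite_cover_of_isQC {X : Sh J} (hX : IsQC X) {ι : Type u} {F : ι → Sh J}
    (π : ∀ i, F i ⟶ X) (hπ : JEpi π) : ∃ s : Finset ι, JEpi (fun i : s => π i) :=
  isQC_iff.1 hX ι F π hπ

/-- Quasi-compact morphisms can be tested on a generating family of quasi-compact objects. -/
lemma isQCHom_iff_on_generators {α : Type w} (G : α → Sh J) (hG : ∀ a, IsQC (G a))
    (hgen : ∀ X : Sh J, ∃ (ι : Type u) (a : ι → α) (π : ∀ i, G (a i) ⟶ X), Epi (Sigma.desc π))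
    {X Y : Sh J} (f : X ⟶ Y) :
    IsQCHom f ↔ ∀ (a : α) (s : G a ⟶ Y), IsQC (pullback f s) := by
  constructor
  · intro h a s
    exact h _ s (hG a)
  · intro h Y' g hY'
    obtain ⟨ι, a, π, hπ⟩ := hgen Y'
    obtain ⟨s, hs⟩ := exists_finite_cover_of_isQC hY' π ((jepi_iff_epi π).2 hπ)
    exact isQC_pullback_of_cover_right f g (fun i : s => π i) hs
      (fun k => h (a k) (π k ≫ g))

/-- A quasi-compact morphism can be tested on a finite jointly epimorphic cover of the source. -/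
lemma isQCHom_of_finite_cover_source {Y Z : Sh J} (g : Y ⟶ Z) {κ : Type w} [Finite κ]
    {X : κ → Sh J} (f : ∀ k, X k ⟶ Y) (hf : JEpi f) (h : ∀ k, IsQCHom (f k ≫ g)) : IsQCHom g :=
  fun Z' k hZ' => isQC_pullback_of_cover_left g k f hf (fun i => h i Z' k hZ')

/-- An object is quasi-separated iff maps from a generating family of quasi-compact objects are
quasi-compact. -/
lemma isQS_iff_on_generators {α : Type w} (G : α → Sh J) (hG : ∀ a, IsQC (G a))
    (hgen : ∀ X : Sh J, ∃ (ι : Type u) (a : ι → α) (π : ∀ i, G (a i) ⟶ X), Epi (Sigma.desc π))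
    (Y : Sh J) : IsQS Y ↔ ∀ (a : α) (s : G a ⟶ Y), IsQCHom s := by
  constructor
  · intro hY a s
    exact isQCHom_of_isQS s (hG a) hY
  · intro h A B a b hA hB
    obtain ⟨ι, aA, α', hα⟩ := hgen A
    obtain ⟨sA, hsA⟩ := exists_finite_cover_of_isQC hA α' ((jepi_iff_epi α').2 hα)
    obtain ⟨κ, aB, β', hβ⟩ := hgen B
    obtain ⟨sB, hsB⟩ := exists_finite_cover_of_isQC hB β' ((jepi_iff_epi β').2 hβ)
    exact isQC_pullback_of_covers a b (fun i : sA => α' i) hsA (fun j : sB => β' j) hsB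
      (fun i j => h _ (α' i ≫ a) _ (β' j ≫ b) (hG _))

/-- If `(g i : Yi i ⟶ Y)` is a jointly epimorphic family of quasi-compact morphisms with
quasi-separated sources, then `Y` is quasi-separated. -/
lemma isQS_of_qs_cover {Y : Sh J} {ι : Type u} (Yi : ι → Sh J) (g : ∀ i, Yi i ⟶ Y) (hg : JEpi g)
    (hqs : ∀ i, IsQS (Yi i)) (hqc : ∀ i, IsQCHom (g i)) : IsQS Y := by
  intro A B a b hA hB
  obtain ⟨sA, hsA⟩ := exists_finite_cover_of_isQC hA _ (hg.pullback_fst a)
  obtain ⟨sB, hsB⟩ := exists_finite_cover_of_isQC hB _ (hg.pullback_fst b)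
  refine isQC_pullback_of_covers a b (fun i : sA => pullback.fst a (g i)) hsA
    (fun j : sB => pullback.fst b (g j)) hsB (fun i j => ?_)
  have hAi : IsQC (pullback a (g i)) := isQC_pullback_symm _ _ (hqc i A a hA)
  have hBj : IsQC (pullback b (g j)) := isQC_pullback_symm _ _ (hqc j B b hB)
  have h1 : IsQC (pullback (g i) (pullback.fst b (g j) ≫ b)) := hqc i _ _ hBj
  have h2 : IsQC (pullback (pullback.snd a (g i)) (pullback.fst (g i) (pullback.fst b (g j) ≫ b))) :=
    hqs i _ _ _ _ hAi h1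
  have h3 : IsQC (pullback (pullback.snd a (g i) ≫ g i) (pullback.fst b (g j) ≫ b)) :=
    isQC_of_iso (pullbackRightPullbackFstIso _ _ _) h2
  exact isQC_pullback_congr pullback.condition.symm rfl h3

/-- Quasi-compactness of a morphism is local on the target (given quasi-compact generators). -/
lemma isQCHom_of_cover_target (hE : HasQCGenerators J) {X Y : Sh J} (f : X ⟶ Y) {ι : Type u}
    (Yi : ι → Sh J) (g : ∀ i, Yi i ⟶ Y) (hg : JEpi g)
    (h : ∀ i, IsQCHom (pullback.snd f (g i))) : IsQCHom f := by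
  intro Y' g' hY'
  -- cover `Y'` by quasi-compact objects mapping into the `Yi`
  have h1 : ∀ i, ∃ (κ : Type u) (G : κ → Sh J) (ρ : ∀ k, G k ⟶ pullback (g i) g'),
      (∀ k, IsQC (G k)) ∧ JEpi ρ := by
    intro i
    obtain ⟨κ, G, ρ, hG, hρ⟩ := hE (pullback (g i) g')
    exact ⟨κ, G, ρ, hG, (jepi_iff_epi ρ).2 hρ⟩
  choose κ G ρ hG hρ using h1
  have hcov : JEpi (fun p : Σ i, κ i => ρ p.1 p.2 ≫ pullback.snd (g p.1) g') :=
    (hg.pullback_snd g').comp ρ hρ
  obtain ⟨s, hs⟩ := exists_finite_cover_of_isQC hY' _ hcov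
  refine isQC_pullback_of_cover_right f g' _ hs (fun p => ?_)
  have h2 : IsQC (pullback (pullback.snd f (g p.1.1)) (ρ p.1.1 p.1.2 ≫ pullback.fst (g p.1.1) g')) :=
    h p.1.1 _ _ (hG _ _)
  have h3 : IsQC (pullback f ((ρ p.1.1 p.1.2 ≫ pullback.fst (g p.1.1) g') ≫ g p.1.1)) :=
    isQC_of_iso (pullbackLeftPullbackSndIso _ _ _) h2
  refine isQC_pullback_congr rfl ?_ h3
  simp only [Category.assoc, pullback.condition]

end Groth.Agent.Lib.helper23.TF
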