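import Mathlib
import Groth.Agent.Lib.helper23.TF3
set_option autoImplicit false
open CategoryTheory CategoryTheory.Limits Opposite
universe w w' u
namespace Groth.Agent.Lib.helper23.TF
open ToposFin Groth.Agent.Lib.helper9.TF
variable {C : Type u} [SmallCategory C] {J : GrothendieckTopology C}

/-- Two base changes of the same morphism along the same map are simultaneously quasi-compact. -/
lemma isQCHom_of_isPullback_of_isPullback {X Y Y' P P' : Sh J} {f : X ⟶ Y} {g : Y' ⟶ Y}
    {p : P ⟶ X} {f' : P ⟶ Y'} {p' : P' ⟶ X} {f'' : P' ⟶ Y'}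
    (sq : IsPullback p f' f g) (sq' : IsPullback p' f'' f g) (h : IsQCHom f') : IsQCHom f'' := by
  have e : (sq'.isoIsPullback _ _ sq).hom ≫ f' = f'' := IsPullback.isoIsPullback_hom_snd _ _ _ _
  rw [← e]
  exact isQCHom_comp (isQCHom_of_isIso _) h

/-- Quasi-compactness of a morphism is local on the target (general squares). -/
lemma isQCHom_of_cover_target' (hE : HasQCGenerators J) {X Y : Sh J} (f : X ⟶ Y) {ι : Type u}
    {Yi : ι → Sh J} (g : ∀ i, Yi i ⟶ Y) (hg : JEpi g) {Xi : ι → Sh J} (p : ∀ i, Xi i ⟶ X)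
    (f' : ∀ i, Xi i ⟶ Yi i) (sq : ∀ i, IsPullback (p i) (f' i) f (g i))
    (h : ∀ i, IsQCHom (f' i)) : IsQCHom f :=
  isQCHom_of_cover_target hE f Yi g hg (fun i =>
    isQCHom_of_isPullback_of_isPullback (sq i) (IsPullback.of_hasPullback f (g i)) (h i))

lemma sq_exists {P X Y Z : Sh J} {p : P ⟶ X} {q : P ⟶ Y} {f : X ⟶ Z} {g : Y ⟶ Z}
    (sq : IsPullback p q f g) (V : Cᵒᵖ) (x : X.obj.obj V) (y : Y.obj.obj V)
    (h : sec f V x = sec g V y) : ∃ z : P.obj.obj V, sec p V z = x ∧ sec q V z = y :=
  exists_section_of_isPullback sq V x y h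

lemma sq_ext {P X Y Z : Sh J} {p : P ⟶ X} {q : P ⟶ Y} {f : X ⟶ Z} {g : Y ⟶ Z}
    (sq : IsPullback p q f g) (V : Cᵒᵖ) (z z' : P.obj.obj V)
    (h1 : sec p V z = sec p V z') (h2 : sec q V z = sec q V z') : z = z' :=
  section_ext_of_isPullback sq V z z' h1 h2

section diag

variable {X Y X' Y' : Sh J} {f : X ⟶ Y} {g : Y' ⟶ Y} {p : X' ⟶ X} {f' : X' ⟶ Y'}

/-- The map between diagonal objects induced by a commutative square. -/
noncomputable abbrev diagMap (sq : IsPullback p f' f g) : pullback f' f' ⟶ pullback f f :=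
  pullback.map f' f' f f p p g sq.w.symm sq.w.symm

@[reassoc]
lemma diagMap_fst (sq : IsPullback p f' f g) :
    diagMap sq ≫ pullback.fst f f = pullback.fst f' f' ≫ p := pullback.lift_fst _ _ _

@[reassoc]
lemma diagMap_snd (sq : IsPullback p f' f g) :
    diagMap sq ≫ pullback.snd f f = pullback.snd f' f' ≫ p := pullback.lift_snd _ _ _

lemma sec_diagMap_fst (sq : IsPullback p f' f g) (V : Cᵒᵖ) (d : (pullback f' f').obj.obj V) :
    sec (pullback.fst f f) V (sec (diagMap sq) V d) = sec p V (sec (pullback.fst f' f') V d) := by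
  rw [← sec_comp, ← sec_comp, pullback.lift_fst]

lemma sec_diagMap_snd (sq : IsPullback p f' f g) (V : Cᵒᵖ) (d : (pullback f' f').obj.obj V) :
    sec (pullback.snd f f) V (sec (diagMap sq) V d) = sec p V (sec (pullback.snd f' f') V d) := by
  rw [← sec_comp, ← sec_comp, pullback.lift_snd]

lemma sec_diagonal_fst {A B : Sh J} (k : A ⟶ B) (V : Cᵒᵖ) (z : A.obj.obj V) :
    sec (pullback.fst k k) V (sec (pullback.diagonal k) V z) = z := by
  rw [← sec_comp, pullback.diagonal_fst, sec_id]

lemma sec_diagonal_snd {A B : Sh J} (k : A ⟶ B) (V : Cᵒᵖ) (z : A.obj.obj V) :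
    sec (pullback.snd k k) V (sec (pullback.diagonal k) V z) = z := by
  rw [← sec_comp, pullback.diagonal_snd, sec_id]

/-- The diagonal of a base change is the base change of the diagonal. -/
lemma isPullback_diagonal (sq : IsPullback p f' f g) :
    IsPullback p (pullback.diagonal f') (pullback.diagonal f) (diagMap sq) := by
  apply isPullback_of_sections
  · apply pullback.hom_ext
    · rw [Category.assoc, Category.assoc, diagMap_fst, pullback.diagonal_fst,
        pullback.diagonal_fst_assoc, Category.comp_id]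
    · rw [Category.assoc, Category.assoc, diagMap_snd, pullback.diagonal_snd,
        pullback.diagonal_snd_assoc, Category.comp_id]
  · intro V z z' _ h2
    have := congrArg (sec (pullback.fst f' f') V) h2
    rwa [sec_diagonal_fst, sec_diagonal_fst] at this
  · intro V x d hxd
    have h1 : sec p V (sec (pullback.fst f' f') V d) = x := by
      rw [← sec_diagMap_fst sq, ← hxd, sec_diagonal_fst]
    have h2 : sec p V (sec (pullback.snd f' f') V d) = x := by
      rw [← sec_diagMap_snd sq, ← hxd, sec_diagonal_snd]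
    have h3 : sec (pullback.fst f' f') V d = sec (pullback.snd f' f') V d :=
      sq_ext sq V _ _ (h1.trans h2.symm) (pb_condition f' f' V d)
    refine ⟨sec (pullback.fst f' f') V d, h1, ?_⟩
    apply pb_ext
    · rw [sec_diagonal_fst]
    · rw [sec_diagonal_snd, h3]

/-- The induced map on diagonal objects is a base change of `g`. -/
lemma isPullback_diagMap (sq : IsPullback p f' f g) :
    IsPullback (diagMap sq) (pullback.fst f' f' ≫ f') (pullback.fst f f ≫ f) g := by
  apply isPullback_of_sections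
  · rw [diagMap_fst_assoc, Category.assoc, sq.w]
  · intro V d d' h1 h2
    have hw : ∀ e : (pullback f' f').obj.obj V,
        sec f' V (sec (pullback.snd f' f') V e) = sec f' V (sec (pullback.fst f' f') V e) :=
      fun e => (pb_condition f' f' V e).symm
    apply pb_ext
    · apply sq_ext sq V
      · rw [← sec_diagMap_fst sq, ← sec_diagMap_fst sq, h1]
      · exact h2
    · apply sq_ext sq V
      · rw [← sec_diagMap_snd sq, ← sec_diagMap_snd sq, h1]
      · rw [hw, hw]; exact h2
  · intro V e t het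
    have het' : sec f V (sec (pullback.fst f f) V e) = sec g V t := het
    obtain ⟨z₁, hz₁, hz₁'⟩ := sq_exists sq V (sec (pullback.fst f f) V e) t het'
    obtain ⟨z₂, hz₂, hz₂'⟩ := sq_exists sq V (sec (pullback.snd f f) V e) t
      ((pb_condition f f V e).symm.trans het')
    obtain ⟨d, hd1, hd2⟩ := pb_exists f' f' V z₁ z₂ (hz₁'.trans hz₂'.symm)
    refine ⟨d, ?_, ?_⟩
    · apply pb_ext
      · rw [sec_diagMap_fst, hd1]; exact hz₁
      · rw [sec_diagMap_snd, hd2]; exact hz₂
    · rw [sec_comp, hd1]; exact hz₁'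

end diag

/-- Quasi-separatedness of a morphism is local on the target. -/
lemma isQSHom_of_cover_target (hE : HasQCGenerators J) {X Y : Sh J} (f : X ⟶ Y) {ι : Type u}
    (Yi : ι → Sh J) (g : ∀ i, Yi i ⟶ Y) (hg : JEpi g)
    (h : ∀ i, IsQSHom (pullback.snd f (g i))) : IsQSHom f := by
  have sq : ∀ i, IsPullback (pullback.fst f (g i)) (pullback.snd f (g i)) f (g i) :=
    fun i => IsPullback.of_hasPullback f (g i)
  refine isQCHom_of_cover_target' hE (pullback.diagonal f) (fun i => diagMap (sq i)) ?_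
    (fun i => pullback.fst f (g i)) (fun i => pullback.diagonal (pullback.snd f (g i)))
    (fun i => isPullback_diagonal (sq i)) h
  exact hg.of_isPullback (pullback.fst f f ≫ f) _ _ (fun i => (isPullback_diagMap (sq i)).flip)

/-- Quasi-separatedness can be tested on a jointly epimorphic family of quasi-compact morphisms
to the source. -/
lemma isQSHom_of_cover_source (hE : HasQCGenerators J) {Y Z : Sh J} (g : Y ⟶ Z) {ι : Type u}
    (X : ι → Sh J) (f : ∀ i, X i ⟶ Y) (hf : JEpi f) (hqc : ∀ i, IsQCHom (f i))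
    (hqs : ∀ i, IsQSHom (f i ≫ g)) : IsQSHom g := by
  refine isQCHom_of_cover_target' hE (pullback.diagonal g) (ι := ι × ι)
    (fun p => pullback.map (f p.1 ≫ g) (f p.2 ≫ g) g g (f p.1) (f p.2) (𝟙 Z) (by simp) (by simp))
    (jepi_pullback_map g g f hf f hf)
    (fun p => pullback.fst (f p.1) (f p.2) ≫ f p.1)
    (fun p => pullback.map (f p.1) (f p.2) (f p.1 ≫ g) (f p.2 ≫ g) (𝟙 _) (𝟙 _) g
      (by simp) (by simp))
    (fun p => pullback_map_diagonal_isPullback (f p.1) (f p.2) g) ?_
  intro p
  apply isQCHom_of_postcomp _ (pullback.fst (f p.1 ≫ g) (f p.2 ≫ g))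
  · exact isQSHom_of_isPullback (IsPullback.of_hasPullback _ _).flip (hqs p.2)
  · have : pullback.map (f p.1) (f p.2) (f p.1 ≫ g) (f p.2 ≫ g) (𝟙 _) (𝟙 _) g (by simp) (by simp) ≫
        pullback.fst (f p.1 ≫ g) (f p.2 ≫ g) = pullback.fst (f p.1) (f p.2) := by
      rw [pullback.lift_fst, Category.comp_id]
    rw [this]
    exact isQCHom_of_isPullback (IsPullback.of_hasPullback _ _).flip (hqc p.2)

/-- A morphism with quasi-separated source is quasi-separated as soon as the source has a cover by
quasi-compact objects whose fibre products over the target are quasi-separated. -/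
lemma isQSHom_of_cover_qs (hE : HasQCGenerators J) {X Y : Sh J} (f : X ⟶ Y) {ι : Type u}
    (Xi : ι → Sh J) (g : ∀ i, Xi i ⟶ X) (hg : JEpi g) (hqc : ∀ i, IsQC (Xi i))
    (hqs : ∀ i j, IsQS (pullback (g i ≫ f) (g j ≫ f))) (hX : IsQS X) : IsQSHom f := by
  refine isQCHom_of_cover_target' hE (pullback.diagonal f) (ι := ι × ι)
    (fun p => pullback.map (g p.1 ≫ f) (g p.2 ≫ f) f f (g p.1) (g p.2) (𝟙 Y) (by simp) (by simp))
    (jepi_pullback_map f f g hg g hg)
    (fun p => pullback.fst (g p.1) (g p.2) ≫ g p.1)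
    (fun p => pullback.map (g p.1) (g p.2) (g p.1 ≫ f) (g p.2 ≫ f) (𝟙 _) (𝟙 _) f
      (by simp) (by simp))
    (fun p => pullback_map_diagonal_isPullback (g p.1) (g p.2) f) ?_
  intro p
  exact isQCHom_of_isQS _ (hX _ _ _ _ (hqc _) (hqc _)) (hqs _ _)

lemma hasQCGenerators_of_generating {α : Type w} (G : α → Sh J) (hG : ∀ a, IsQC (G a))
    (hgen : ∀ X : Sh J, ∃ (ι : Type u) (a : ι → α) (π : ∀ i, G (a i) ⟶ X), Epi (Sigma.desc π)) :
    HasQCGenerators J := by
  intro X
  obtain ⟨ι, a, π, hπ⟩ := hgen X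
  exact ⟨ι, fun i => G (a i), π, fun i => hG _, hπ⟩

instance mono_prod_lift_pullback {A B Y : Sh J} (a : A ⟶ Y) (b : B ⟶ Y) :
    Mono (prod.lift (pullback.fst a b) (pullback.snd a b)) := by
  refine ⟨fun u v h => pullback.hom_ext ?_ ?_⟩
  · have := congrArg (fun k => k ≫ prod.fst) h
    simp only [Category.assoc] at this
    rwa [prod.lift_fst] at this
  · have := congrArg (fun k => k ≫ prod.snd) h
    simp only [Category.assoc] at this
    rwa [prod.lift_snd] at this

/-- If a generating family of coherent objects has quasi-separated binary products, every morphism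
out of a quasi-separated object is quasi-separated. -/
lemma isQSHom_of_generators_products {α : Type w} (G : α → Sh J) (hG : ∀ a, IsCoherent (G a))
    (hgen : ∀ X : Sh J, ∃ (ι : Type u) (a : ι → α) (π : ∀ i, G (a i) ⟶ X), Epi (Sigma.desc π))
    (hprod : ∀ a b, IsQS (G a ⨯ G b)) {X Y : Sh J} (f : X ⟶ Y) (hX : IsQS X) : IsQSHom f := by
  have hE := hasQCGenerators_of_generating G (fun a => (hG a).1) hgen
  obtain ⟨ι, a, π, hπ⟩ := hgen X
  refine isQSHom_of_cover_qs hE f _ π ((jepi_iff_epi π).2 hπ) (fun i => (hG _).1) (fun i j => ?_) hX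
  exact isQS_of_mono (prod.lift (pullback.fst (π i ≫ f) (π j ≫ f)) (pullback.snd _ _)) (hprod _ _)

end Groth.Agent.Lib.helper23.TF
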