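import Mathlib
import Groth.Agent.Lib.helper23.TF4
set_option autoImplicit false
open CategoryTheory CategoryTheory.Limits Opposite
universe w w' u
namespace Groth.Agent.Lib.helper23.TF
open ToposFin Groth.Agent.Lib.helper9.TF
variable {C : Type u} [SmallCategory C] {J : GrothendieckTopology C}

lemma exists_cover_of_isGenerating {S : Set (Sh J)} (hgen : IsGenerating S) (X : Sh J) :
    ∃ (ι : Type u) (F : ι → Sh J) (π : ∀ i, F i ⟶ X), (∀ i, F i ∈ S) ∧ JEpi π := by
  obtain ⟨ι, F, π, hF, hπ⟩ := hgen X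
  exact ⟨ι, F, π, hF, fun Z a b hab => hπ Z a b hab⟩

lemma gen_indexed {S : Set (Sh J)} (hgen : IsGenerating S) (X : Sh J) :
    ∃ (ι : Type u) (a : ι → S) (π : ∀ i, ((a i : S) : Sh J) ⟶ X), Epi (Sigma.desc π) := by
  obtain ⟨ι, F, π, hF, hπ⟩ := exists_cover_of_isGenerating hgen X
  exact ⟨ι, fun i => ⟨F i, hF i⟩, π, (jepi_iff_epi π).1 hπ⟩

lemma hasQCGenerators_of_isGenerating {S : Set (Sh J)} (hqc : ∀ K ∈ S, IsQC K)
    (hgen : IsGenerating S) : HasQCGenerators J :=
  hasQCGenerators_of_generating (fun a : S => (a : Sh J)) (fun a => hqc _ a.2) (gen_indexed hgen)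

lemma isQCHom_iff_of_isGenerating {S : Set (Sh J)} (hqc : ∀ K ∈ S, IsQC K)
    (hgen : IsGenerating S) {X Y : Sh J} (f : X ⟶ Y) :
    IsQCHom f ↔ ∀ K ∈ S, ∀ s : K ⟶ Y, IsQC (pullback f s) := by
  rw [isQCHom_iff_on_generators (fun a : S => (a : Sh J)) (fun a => hqc _ a.2) (gen_indexed hgen)]
  exact ⟨fun h K hK s => h ⟨K, hK⟩ s, fun h a s => h _ a.2 s⟩

lemma isQS_iff_of_isGenerating {S : Set (Sh J)} (hqc : ∀ K ∈ S, IsQC K)
    (hgen : IsGenerating S) (Y : Sh J) :
    IsQS Y ↔ ∀ K ∈ S, ∀ s : K ⟶ Y, IsQCHom s := by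
  rw [isQS_iff_on_generators (fun a : S => (a : Sh J)) (fun a => hqc _ a.2) (gen_indexed hgen)]
  exact ⟨fun h K hK s => h ⟨K, hK⟩ s, fun h a s => h _ a.2 s⟩

/-- Members of a generating set of quasi-compact objects closed under fibre products are
coherent. -/
lemma isCoherent_of_mem {S : Set (Sh J)} (hqc : ∀ K ∈ S, IsQC K) (hgen : IsGenerating S)
    (hpb : ClosedUnderPullbacks S) {K : Sh J} (hK : K ∈ S) : IsCoherent K := by
  refine ⟨hqc K hK, ?_⟩
  rw [isQS_iff_of_isGenerating hqc hgen]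
  intro G hG s
  rw [isQCHom_iff_of_isGenerating hqc hgen]
  intro G' hG' t
  obtain ⟨P, p, q, hP, sq⟩ := hpb s t hG hG' hK
  exact isQC_of_iso sq.isoPullback (hqc P hP)

section functor

variable {D : Type u} [SmallCategory D] {K : GrothendieckTopology D}
  (F : Sh K ⥤ Sh J) (R : Sh J ⥤ Sh K) (adj : F ⊣ R)

include adj in
/-- A left adjoint preserves jointly epimorphic families. -/
lemma JEpi.map_of_adjunction {ι : Type w} {X : Sh K} {G : ι → Sh K} {π : ∀ i, G i ⟶ X}
    (h : JEpi π) : JEpi (fun i => F.map (π i)) := by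
  intro Z a b hab
  apply (adj.homEquiv X Z).injective
  apply h
  intro i
  have := congrArg (adj.homEquiv (G i) Z) (hab i)
  simpa [Adjunction.homEquiv_naturality_left] using this

include adj in
/-- The inverse image functor preserves quasi-compact objects as soon as it does so on a
generating set of quasi-compact objects. -/
lemma preserves_isQC_of_generators {S : Set (Sh K)} (hgen : IsGenerating S)
    (h : ∀ X ∈ S, IsQC (F.obj X)) (X : Sh K) (hX : IsQC X) : IsQC (F.obj X) := by
  obtain ⟨ι, G, π, hG, hπ⟩ := exists_cover_of_isGenerating hgen X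
  obtain ⟨s, hs⟩ := exists_finite_cover_of_isQC hX π hπ
  exact isQC_of_finite_jepi _ (fun i : s => F.map (π i)) (hs.map_of_adjunction F R adj)
    (fun i => h _ (hG i))

include adj in
/-- The inverse image functor preserves quasi-separated objects as soon as it sends a generating
set of coherent objects to coherent objects. -/
lemma preserves_isQS_of_generators [PreservesFiniteLimits F] (hE' : HasQCGenerators J)
    {S : Set (Sh K)} (hS : ∀ X ∈ S, IsCoherent X) (hgen : IsGenerating S)
    (h : ∀ X ∈ S, IsCoherent (F.obj X)) (X : Sh K) (hX : IsQS X) : IsQS (F.obj X) := by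
  obtain ⟨ι, G, π, hG, hπ⟩ := exists_cover_of_isGenerating hgen X
  have hqcF : ∀ X : Sh K, IsQC X → IsQC (F.obj X) :=
    preserves_isQC_of_generators F R adj hgen (fun X hX => (h X hX).1)
  refine isQS_of_qs_cover (fun i => F.obj (G i)) (fun i => F.map (π i))
    (hπ.map_of_adjunction F R adj) (fun i => (h _ (hG i)).2) (fun i => ?_)
  refine isQCHom_of_cover_target' hE' (F.map (π i)) (fun j => F.map (π j))
    (hπ.map_of_adjunction F R adj) (fun j => F.map (pullback.fst (π i) (π j)))
    (fun j => F.map (pullback.snd (π i) (π j)))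
    (fun j => (IsPullback.of_hasPullback (π i) (π j)).map F) (fun j => ?_)
  exact isQCHom_of_isQS _ (hqcF _ (hX _ _ _ _ (hS _ (hG i)).1 (hS _ (hG j)).1)) (h _ (hG j)).2

include adj in
/-- A coherent morphism of locally coherent topoi preserves quasi-compact morphisms. -/
lemma map_isQCHom [PreservesFiniteLimits F] {S : Set (Sh K)} (hqc : ∀ X ∈ S, IsQC X)
    (hgen : IsGenerating S) (hpb : ClosedUnderPullbacks S) (hE' : HasQCGenerators J)
    (hFqc : ∀ X : Sh K, IsQC X → IsQC (F.obj X)) (hFqs : ∀ X : Sh K, IsQS X → IsQS (F.obj X))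
    {X Y : Sh K} (v : X ⟶ Y) (hv : IsQCHom v) : IsQCHom (F.map v) := by
  obtain ⟨ι, G, π, hG, hπ⟩ := exists_cover_of_isGenerating hgen Y
  refine isQCHom_of_cover_target' hE' (F.map v) (fun j => F.map (π j))
    (hπ.map_of_adjunction F R adj) (fun j => F.map (pullback.fst v (π j)))
    (fun j => F.map (pullback.snd v (π j)))
    (fun j => (IsPullback.of_hasPullback v (π j)).map F) (fun j => ?_)
  exact isQCHom_of_isQS _ (hFqc _ (hv _ (π j) (hqc _ (hG j))))
    (hFqs _ (isCoherent_of_mem hqc hgen hpb (hG j)).2)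

end functor

end Groth.Agent.Lib.helper23.TF
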