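import Mathlib
import Groth.Agent.Lib.helper23.TF5
set_option autoImplicit false
open CategoryTheory CategoryTheory.Limits Opposite
universe w w' u
namespace Groth.Agent.Lib.helper23.TF
open ToposFin Groth.Agent.Lib.helper9.TF
variable {C : Type u} [SmallCategory C] {J : GrothendieckTopology C}

/-- In a locally coherent topos, a morphism from a quasi-separated object to a member of the
generating set is quasi-separated. -/
lemma isQSHom_to_mem {S : Set (Sh J)} (hqc : ∀ K ∈ S, IsQC K) (hgen : IsGenerating S)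
    (hpb : ClosedUnderPullbacks S) {X G : Sh J} (f : X ⟶ G) (hG : G ∈ S) (hX : IsQS X) :
    IsQSHom f := by
  have hE := hasQCGenerators_of_isGenerating hqc hgen
  obtain ⟨ι, H, π, hH, hπ⟩ := exists_cover_of_isGenerating hgen X
  refine isQSHom_of_cover_qs hE f H π hπ (fun i => hqc _ (hH i)) (fun i j => ?_) hX
  obtain ⟨P, p, q, hP, sq⟩ := hpb (π i ≫ f) (π j ≫ f) (hH i) (hH j) hG
  exact isQS_of_iso sq.isoPullback (isCoherent_of_mem hqc hgen hpb hP).2

/-- S5587 -/
lemma isQSHom_iff_pullback_qs {S : Set (Sh J)} (hqc : ∀ K ∈ S, IsQC K) (hgen : IsGenerating S)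
    (hpb : ClosedUnderPullbacks S) {X Y : Sh J} (f : X ⟶ Y) :
    IsQSHom f ↔ ∀ (Y' : Sh J) (g : Y' ⟶ Y), IsQS Y' → IsQS (pullback f g) := by
  have hE := hasQCGenerators_of_isGenerating hqc hgen
  constructor
  · intro hf Y' g hY'
    exact isQS_of_isQSHom (pullback.snd f g)
      (isQSHom_of_isPullback (IsPullback.of_hasPullback f g) hf) hY'
  · intro h
    obtain ⟨ι, G, π, hG, hπ⟩ := exists_cover_of_isGenerating hgen Y
    exact isQSHom_of_cover_target hE f G π hπ (fun i =>
      isQSHom_to_mem hqc hgen hpb _ (hG i) (h _ (π i) (isCoherent_of_mem hqc hgen hpb (hG i)).2))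

/-- A fibre product over a binary product, computed as an equalizer of a fibre product. -/
lemma isPullback_of_prod {G G' H H' P E : Sh J} (s : G ⟶ H ⨯ H') (t : G' ⟶ H ⨯ H')
    {p : P ⟶ G} {q : P ⟶ G'} (sq : IsPullback p q (s ≫ prod.fst) (t ≫ prod.fst))
    {e : E ⟶ P} (w : e ≫ (p ≫ s ≫ prod.snd) = e ≫ (q ≫ t ≫ prod.snd))
    (lim : IsLimit (Fork.ofι e w)) : IsPullback (e ≫ p) (e ≫ q) s t := by
  have w' : (e ≫ p) ≫ s = (e ≫ q) ≫ t := by
    apply prod.hom_ext
    · simp only [Category.assoc]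
      rw [sq.w]
    · simpa only [Category.assoc] using w
  refine ⟨⟨w'⟩, ⟨PullbackCone.IsLimit.mk _ (fun c => ?_) (fun c => ?_) (fun c => ?_)
    (fun c m h1 h2 => ?_)⟩⟩
  · have hc : c.fst ≫ s ≫ prod.fst = c.snd ≫ t ≫ prod.fst := by
      rw [← Category.assoc, c.condition, Category.assoc]
    have hl : sq.lift c.fst c.snd hc ≫ (p ≫ s ≫ prod.snd) =
        sq.lift c.fst c.snd hc ≫ (q ≫ t ≫ prod.snd) := by
      rw [sq.lift_fst_assoc, sq.lift_snd_assoc, ← Category.assoc, c.condition, Category.assoc]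
    exact Fork.IsLimit.lift lim (sq.lift c.fst c.snd hc) hl
  · simp only
    rw [← Category.assoc]
    erw [Fork.IsLimit.lift_ι]
    exact sq.lift_fst _ _ _
  · simp only
    rw [← Category.assoc]
    erw [Fork.IsLimit.lift_ι]
    exact sq.lift_snd _ _ _
  · apply Fork.IsLimit.hom_ext lim
    erw [Fork.IsLimit.lift_ι]
    apply sq.hom_ext
    · show (m ≫ e) ≫ p = sq.lift c.fst c.snd _ ≫ p
      rw [sq.lift_fst, Category.assoc]; exact h1
    · show (m ≫ e) ≫ q = sq.lift c.fst c.snd _ ≫ q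
      rw [sq.lift_snd, Category.assoc]; exact h2

/-- In an algebraic topos, binary products of members of the generating set are quasi-separated. -/
lemma isQS_prod_of_mem {S : Set (Sh J)} (hqc : ∀ K ∈ S, IsQC K) (hgen : IsGenerating S)
    (hpb : ClosedUnderPullbacks S) (heq : ClosedUnderEqualizers S) {H H' : Sh J} (hH : H ∈ S)
    (hH' : H' ∈ S) : IsQS (H ⨯ H') := by
  rw [isQS_iff_of_isGenerating hqc hgen]
  intro G hG s
  rw [isQCHom_iff_of_isGenerating hqc hgen]
  intro G' hG' t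
  obtain ⟨P, p, q, hP, sq⟩ := hpb (s ≫ prod.fst) (t ≫ prod.fst) hG hG' hH
  obtain ⟨E, e, w, hE, ⟨lim⟩⟩ := heq (p ≫ s ≫ prod.snd) (q ≫ t ≫ prod.snd) hP hH'
  exact isQC_of_iso (isPullback_of_prod s t sq w lim).isoPullback (hqc E hE)

lemma hasQCGenerators_of_isAlgebraic (hE : IsAlgebraic J) : HasQCGenerators J := by
  obtain ⟨S, hqc, hgen, -, -⟩ := hE
  exact hasQCGenerators_of_isGenerating hqc hgen

/-- In an algebraic topos every morphism with quasi-separated source is quasi-separated. -/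
lemma isQSHom_of_isQS_of_isAlgebraic (hE : IsAlgebraic J) {X Y : Sh J} (f : X ⟶ Y)
    (hX : IsQS X) : IsQSHom f := by
  obtain ⟨S, hqc, hgen, hpb, heq⟩ := hE
  exact isQSHom_of_generators_products (fun a : S => (a : Sh J))
    (fun a => isCoherent_of_mem hqc hgen hpb a.2) (gen_indexed hgen)
    (fun a b => isQS_prod_of_mem hqc hgen hpb heq a.2 b.2) f hX

end Groth.Agent.Lib.helper23.TF
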