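import Mathlib
import Groth.Agent.Lib.helper23.TF6
set_option autoImplicit false
open CategoryTheory CategoryTheory.Limits Opposite
universe w w' u
namespace Groth.Agent.Lib.helper23.TF
open ToposFin Groth.Agent.Lib.helper9.TF
variable {C : Type u} [SmallCategory C] (J : GrothendieckTopology C)


/-- The image in `eps X` of a morphism `h : U ⟶ X`. -/
noncomputable def can {X U : C} (h : U ⟶ X) : (eps J X).obj.obj (op U) :=
  (toSheafify J (yoneda.obj X)).app (op U) h

/-- `eps` on morphisms. -/
noncomputable def epsMap {U X : C} (g : U ⟶ X) : eps J U ⟶ eps J X :=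
  (presheafToSheaf J (Type u)).map (yoneda.map g)

lemma can_map {X U U' : C} (h : U ⟶ X) (r : U' ⟶ U) :
    (eps J X).obj.map r.op (can J h) = can J (r ≫ h) := by
  have := NatTrans.naturality_apply (toSheafify J (yoneda.obj X)) r.op h
  exact this.symm

lemma epsMap_can {U V X : C} (g : V ⟶ X) (m : U ⟶ V) :
    sec (epsMap J g) (op U) (can J m) = can J (m ≫ g) := by
  have h1 : toSheafify J (yoneda.obj V) ≫ (epsMap J g).hom =
      yoneda.map g ≫ toSheafify J (yoneda.obj X) := (toSheafify_naturality J (yoneda.map g)).symm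
  have := congrArg (fun (k : yoneda.obj V ⟶ (eps J X).obj) => k.app (op U) m) h1
  exact this

/-- Sections of `eps X` locally come from morphisms to `X`. -/
lemma can_locally_surjective {X U : C} (σ : (eps J X).obj.obj (op U)) :
    (Sieve.mk (fun W (w : W ⟶ U) => ∃ h : W ⟶ X, (eps J X).obj.map w.op σ = can J h)
      (by
        rintro W W' w ⟨h, hh⟩ r
        refine ⟨r ≫ h, ?_⟩
        rw [op_comp, Functor.map_comp_apply, hh, can_map]) : Sieve U) ∈ J U := by
  refine J.superset_covering ?_
    (Presheaf.imageSieve_mem J (toSheafify J (yoneda.obj X)) (U := op U) σ)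
  rintro W w ⟨h, hh⟩
  exact ⟨h, hh.symm⟩

/-- Two morphisms to `X` with the same image in `eps X` agree locally. -/
lemma can_locally_injective {X W : C} (h h' : W ⟶ X) (e : can J h = can J h') :
    (Sieve.mk (fun W' (r : W' ⟶ W) => r ≫ h = r ≫ h')
      (by
        rintro A B r hr t
        simp only [Category.assoc, hr]) : Sieve W) ∈ J W := by
  refine J.superset_covering ?_
    (Presheaf.equalizerSieve_mem J (toSheafify J (yoneda.obj X)) (X := op W) h h' e)
  intro W' r hr
  exact hr

/-- Sections of a sheaf over `U` are morphisms out of `eps U`. -/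
noncomputable def ofSection {F : Sh J} {U : C} (s : F.obj.obj (op U)) : eps J U ⟶ F :=
  ObjectProperty.homMk (sheafifyLift J (yonedaEquiv.symm s) F.property)

lemma ofSection_can {F : Sh J} {U W : C} (s : F.obj.obj (op U)) (m : W ⟶ U) :
    sec (ofSection J s) (op W) (can J m) = F.obj.map m.op s := by
  have h1 : toSheafify J (yoneda.obj U) ≫ (ofSection J s).hom = yonedaEquiv.symm s :=
    toSheafify_sheafifyLift J _ _
  have := congrArg (fun (k : yoneda.obj U ⟶ F.obj) => k.app (op W) m) h1
  refine this.trans ?_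
  exact yonedaEquiv_symm_app_apply s (op W) m

lemma eps_hom_ext {F : Sh J} {U : C} (φ ψ : eps J U ⟶ F)
    (h : sec φ (op U) (can J (𝟙 U)) = sec ψ (op U) (can J (𝟙 U))) : φ = ψ := by
  apply Sheaf.hom_ext
  apply sheafify_hom_ext J _ _ F.property
  apply yonedaEquiv.injective
  exact h

/-- The sheaves `eps U` generate the topos. -/
lemma eps_generating (F : Sh J) :
    ∃ (ι : Type u) (a : ι → C) (π : ∀ i, eps J (a i) ⟶ F), Epi (Sigma.desc π) := by
  refine ⟨Σ U : C, F.obj.obj (op U), fun p => p.1, fun p => ofSection J p.2, ?_⟩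
  rw [← jepi_iff_epi]
  apply jepi_of_liftSieve
  intro U s
  apply J.covering_of_eq_top
  rw [← Sieve.id_mem_iff_eq_top]
  exact ⟨⟨U, s⟩, can J (𝟙 U), ofSection_can J s (𝟙 U)⟩

/-- A covering family induces a jointly epimorphic family of associated sheaves. -/
lemma jepi_epsMap_of_covering {X : C} {ι : Type w} {V : ι → C} (g : ∀ k, V k ⟶ X)
    (hg : Sieve.ofArrows V g ∈ J X) : JEpi (fun k => epsMap J (g k)) := by
  apply jepi_of_liftSieve
  intro U σ
  refine J.transitive (can_locally_surjective J σ) _ ?_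
  rintro W w ⟨h, hh⟩
  refine J.superset_covering ?_ (J.pullback_stable h hg)
  intro W' r hr
  obtain ⟨k, m, hm⟩ := (Sieve.mem_ofArrows_iff V g (r ≫ h)).1 hr
  refine ⟨k, can J m, ?_⟩
  show sec (epsMap J (g k)) (op W') (can J m) = _
  rw [epsMap_can, ← hm, op_comp, Functor.map_comp_apply, hh, can_map]

/-- Conversely, a jointly epimorphic family of associated sheaves comes from a covering family. -/
lemma covering_of_jepi_epsMap {X : C} {ι : Type w} {V : ι → C} (g : ∀ k, V k ⟶ X)
    (hg : JEpi (fun k => epsMap J (g k))) : Sieve.ofArrows V g ∈ J X := by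
  have h1 := liftSieve_mem_of_jepi _ hg X (can J (𝟙 X))
  refine J.transitive h1 _ ?_
  rintro W v ⟨k, t, ht⟩
  -- `t` is locally of the form `can m`
  refine J.transitive (can_locally_surjective J t) _ ?_
  rintro W' r ⟨m, hm⟩
  -- then `can (r ≫ v) = can (m ≫ g k)`
  have ht' : sec (epsMap J (g k)) (op W) t = (eps J X).obj.map v.op (can J (𝟙 X)) := ht
  have h2 : can J (r ≫ v ≫ 𝟙 X) = can J (m ≫ g k) := by
    calc can J (r ≫ v ≫ 𝟙 X) = (eps J X).obj.map r.op ((eps J X).obj.map v.op (can J (𝟙 X))) := by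
          rw [can_map, can_map]
      _ = (eps J X).obj.map r.op (sec (epsMap J (g k)) (op W) t) := by rw [ht']
      _ = sec (epsMap J (g k)) (op W') ((eps J (V k)).obj.map r.op t) := (sec_map _ _ _).symm
      _ = sec (epsMap J (g k)) (op W') (can J m) := by rw [hm]
      _ = can J (m ≫ g k) := epsMap_can J _ _
  refine J.superset_covering ?_ (can_locally_injective J _ _ h2)
  intro W'' q hq
  show Sieve.ofArrows V g ((q ≫ r) ≫ v)
  rw [Sieve.mem_ofArrows_iff]
  refine ⟨k, q ≫ m, ?_⟩
  have hq' : q ≫ r ≫ v ≫ 𝟙 X = q ≫ m ≫ g k := hq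
  simpa using hq'

/-- Site-level quasi-compactness is quasi-compactness of the associated sheaf. -/
theorem isQCSite_iff_isQC_eps (X : C) : IsQCSite J X ↔ IsQC (eps J X) := by
  classical
  constructor
  · intro hX
    rw [isQC_iff]
    intro ι F π hπ
    obtain ⟨n, V, g, hS, hcov⟩ := hX _ (liftSieve_mem_of_jepi π hπ X (can J (𝟙 X)))
    choose i t ht using hS
    refine ⟨Finset.univ.image i, ?_⟩
    refine (jepi_epsMap_of_covering J g hcov).of_factor _ (fun k => ?_)
    refine ⟨⟨i k, Finset.mem_image_of_mem i (Finset.mem_univ k)⟩, ofSection J (t k), ?_⟩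
    apply eps_hom_ext
    rw [sec_comp, ofSection_can, epsMap_can]
    have h1 : (F (i k)).obj.map (𝟙 (V k)).op (t k) = t k := by simp
    rw [h1]
    have h2 : sec (π (i k)) (op (V k)) (t k) = (eps J X).obj.map (g k).op (can J (𝟙 X)) := ht k
    rw [h2, can_map]
    simp
  · intro hqc S hS
    let ι := Σ V : C, {g : V ⟶ X // S g}
    have hcov : Sieve.ofArrows (fun p : ι => p.1) (fun p => p.2.1) ∈ J X := by
      refine J.superset_covering ?_ hS
      intro W f hf
      rw [Sieve.mem_ofArrows_iff]
      exact ⟨⟨W, f, hf⟩, 𝟙 W, by simp⟩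
    obtain ⟨s, hs⟩ := exists_finite_cover_of_isQC hqc _ (jepi_epsMap_of_covering J _ hcov)
    let e : Fin s.card ≃ s := s.equivFin.symm
    refine ⟨s.card, fun k => (e k).1.1, fun k => (e k).1.2.1, fun k => (e k).1.2.2, ?_⟩
    exact covering_of_jepi_epsMap J _ (hs.reindex e e.surjective)

/-- `eps` preserves fibre products. -/
lemma isPullback_epsMap [HasPullbacks C] {U V X : C} (h : U ⟶ X) (h' : V ⟶ X) :
    IsPullback (epsMap J (pullback.fst h h')) (epsMap J (pullback.snd h h')) (epsMap J h)
      (epsMap J h') :=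
  (IsPullback.of_hasPullback h h').map (yoneda ⋙ presheafToSheaf J (Type u))

/-- A morphism `eps U ⟶ eps X` is induced by morphisms of the site on a finite cover of `U`. -/
lemma exists_finite_cover_epsMap (hC : ∀ X : C, IsQCSite J X) {U X : C} (s : eps J U ⟶ eps J X) :
    ∃ (n : ℕ) (V : Fin n → C) (u : ∀ k, V k ⟶ U) (h : ∀ k, V k ⟶ X),
      JEpi (fun k => epsMap J (u k)) ∧ ∀ k, epsMap J (u k) ≫ s = epsMap J (h k) := by
  obtain ⟨n, V, u, hS, hcov⟩ := hC U _ (can_locally_surjective J (sec s (op U) (can J (𝟙 U))))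
  choose h hh using hS
  refine ⟨n, V, u, h, jepi_epsMap_of_covering J u hcov, fun k => ?_⟩
  apply eps_hom_ext
  rw [sec_comp, epsMap_can, epsMap_can, Category.id_comp, Category.id_comp, ← hh k, ← sec_map,
    can_map, Category.comp_id]

lemma isQC_eps (hC : ∀ X : C, IsQCSite J X) (X : C) : IsQC (eps J X) :=
  (isQCSite_iff_isQC_eps J X).1 (hC X)

lemma hasQCGenerators_of_isQCSite (hC : ∀ X : C, IsQCSite J X) : HasQCGenerators J :=
  hasQCGenerators_of_generating (fun U : C => eps J U) (isQC_eps J hC) (eps_generating J)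

/-- Fibre products of associated sheaves over an associated sheaf are quasi-compact. -/
lemma isQC_pullback_eps [HasPullbacks C] (hC : ∀ X : C, IsQCSite J X) {U V X : C}
    (s : eps J U ⟶ eps J X) (t : eps J V ⟶ eps J X) : IsQC (pullback s t) := by
  obtain ⟨n, A, u, h, hu, hs⟩ := exists_finite_cover_epsMap J hC s
  obtain ⟨m, B, v, h', hv, ht⟩ := exists_finite_cover_epsMap J hC t
  refine isQC_pullback_of_covers s t _ hu _ hv (fun k l => ?_)
  refine isQC_pullback_congr (hs k).symm (ht l).symm ?_
  exact isQC_of_iso (isPullback_epsMap J (h k) (h' l)).isoPullback (isQC_eps J hC _)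

/-- On a site with fibre products all of whose objects are quasi-compact, associated sheaves of
representables are coherent. -/
theorem isCoherent_eps [HasPullbacks C] (hC : ∀ X : C, IsQCSite J X) (X : C) :
    IsCoherent (eps J X) := by
  refine ⟨isQC_eps J hC X, ?_⟩
  rw [isQS_iff_on_generators (fun U : C => eps J U) (isQC_eps J hC) (eps_generating J)]
  intro U s
  rw [isQCHom_iff_on_generators (fun U : C => eps J U) (isQC_eps J hC) (eps_generating J)]
  intro V t
  exact isQC_pullback_eps J hC s t

end Groth.Agent.Lib.helper23.TF
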