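import Mathlib
import Groth.Agent.Lib.helper23.TF7
set_option autoImplicit false
open CategoryTheory CategoryTheory.Limits Opposite
universe w w' u
namespace Groth.Agent.Lib.helper23.TF
open ToposFin Groth.Agent.Lib.helper9.TF
variable {C : Type u} [SmallCategory C] {J : GrothendieckTopology C}


/-- `isQS_of_qs_cover` for an essentially small index type. -/
lemma isQS_of_qs_cover' {Y : Sh J} {ι : Type w} [Small.{u} ι] (Yi : ι → Sh J) (g : ∀ i, Yi i ⟶ Y)
    (hg : JEpi g) (hqs : ∀ i, IsQS (Yi i)) (hqc : ∀ i, IsQCHom (g i)) : IsQS Y :=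
  isQS_of_qs_cover (fun i : Shrink.{u} ι => Yi ((equivShrink ι).symm i))
    (fun i => g ((equivShrink ι).symm i)) (hg.reindex _ (equivShrink ι).symm.surjective)
    (fun i => hqs _) (fun i => hqc _)

/-- The comparison `A' ×_Y B ⟶ A ×_Y B` is a base change of `A' ⟶ A`. -/
lemma isPullback_map_left {A B Y A' : Sh J} (a : A ⟶ Y) (b : B ⟶ Y) (α : A' ⟶ A) :
    IsPullback (pullback.fst (α ≫ a) b)
      (pullback.map (α ≫ a) b a b α (𝟙 B) (𝟙 Y) (by simp) (by simp)) α (pullback.fst a b) := by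
  have hm : pullback.map (α ≫ a) b a b α (𝟙 B) (𝟙 Y) (by simp) (by simp) ≫ pullback.snd a b =
      pullback.snd (α ≫ a) b := by
    rw [pullback.lift_snd, Category.comp_id]
  have big : IsPullback (pullback.map (α ≫ a) b a b α (𝟙 B) (𝟙 Y) (by simp) (by simp) ≫
      pullback.snd a b) (pullback.fst (α ≫ a) b) b (α ≫ a) := by
    rw [hm]
    exact (IsPullback.of_hasPullback (α ≫ a) b).flip
  exact (IsPullback.of_right big (pullback.lift_fst _ _ _) (IsPullback.of_hasPullback a b).flip).flip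

lemma isPullback_map_right {A B Y B' : Sh J} (a : A ⟶ Y) (b : B ⟶ Y) (β : B' ⟶ B) :
    IsPullback (pullback.snd a (β ≫ b))
      (pullback.map a (β ≫ b) a b (𝟙 A) β (𝟙 Y) (by simp) (by simp)) β (pullback.snd a b) := by
  have hm : pullback.map a (β ≫ b) a b (𝟙 A) β (𝟙 Y) (by simp) (by simp) ≫ pullback.fst a b =
      pullback.fst a (β ≫ b) := by
    rw [pullback.lift_fst, Category.comp_id]
  have big : IsPullback (pullback.map a (β ≫ b) a b (𝟙 A) β (𝟙 Y) (by simp) (by simp) ≫
      pullback.fst a b) (pullback.snd a (β ≫ b)) a (β ≫ b) := by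
    rw [hm]
    exact IsPullback.of_hasPullback a (β ≫ b)
  exact (IsPullback.of_right big (pullback.lift_snd _ _ _) (IsPullback.of_hasPullback a b)).flip

/-- Fibre products of quasi-compact morphisms are quasi-compact. -/
lemma isQCHom_pullback_map {A B Y A' B' : Sh J} (a : A ⟶ Y) (b : B ⟶ Y) (α : A' ⟶ A) (β : B' ⟶ B)
    (hα : IsQCHom α) (hβ : IsQCHom β) :
    IsQCHom (pullback.map (α ≫ a) (β ≫ b) a b α β (𝟙 Y) (by simp) (by simp)) := by
  have h1 : IsQCHom (pullback.map (α ≫ a) (β ≫ b) (α ≫ a) b (𝟙 A') β (𝟙 Y) (by simp) (by simp)) :=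
    isQCHom_of_isPullback (isPullback_map_right (α ≫ a) b β) hβ
  have h2 : IsQCHom (pullback.map (α ≫ a) b a b α (𝟙 B) (𝟙 Y) (by simp) (by simp)) :=
    isQCHom_of_isPullback (isPullback_map_left a b α) hα
  have : pullback.map (α ≫ a) (β ≫ b) a b α β (𝟙 Y) (by simp) (by simp) =
      pullback.map (α ≫ a) (β ≫ b) (α ≫ a) b (𝟙 A') β (𝟙 Y) (by simp) (by simp) ≫
      pullback.map (α ≫ a) b a b α (𝟙 B) (𝟙 Y) (by simp) (by simp) := by
    apply pullback.hom_ext
    · simp [pullback.map]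
      rw [pullback.lift_fst, pullback.lift_fst, pullback.lift_fst_assoc]
    · simp [pullback.map]
      rw [pullback.lift_snd, pullback.lift_snd, pullback.lift_snd]
  rw [this]
  exact isQCHom_comp h1 h2

lemma isQS_pullback_congr {X Y Z : Sh J} {f f' : X ⟶ Z} {g g' : Y ⟶ Z} (hf : f = f') (hg : g = g')
    (h : IsQS (pullback f g)) : IsQS (pullback f' g') := by
  subst hf; subst hg; exact h

variable (J)

/-- Fibre products `eps U ×_{eps X} eps V` are quasi-separated. -/
lemma isQS_pullback_eps [HasPullbacks C] (hC : ∀ X : C, IsQCSite J X) {U V X : C}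
    (s : eps J U ⟶ eps J X) (t : eps J V ⟶ eps J X) : IsQS (pullback s t) := by
  obtain ⟨n, A, u, h, hu, hs⟩ := exists_finite_cover_epsMap J hC s
  obtain ⟨m, B, v, h', hv, ht⟩ := exists_finite_cover_epsMap J hC t
  have hcov := jepi_pullback_map s t (fun k => epsMap J (u k)) hu (fun l => epsMap J (v l)) hv
  refine isQS_of_qs_cover' _ _ hcov (fun p => ?_) (fun p => ?_)
  · have : IsQS (pullback (epsMap J (h p.1)) (epsMap J (h' p.2))) :=
      isQS_of_iso (isPullback_epsMap J _ _).isoPullback (isCoherent_eps J hC _).2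
    exact isQS_pullback_congr (hs p.1).symm (ht p.2).symm this
  · exact isQCHom_pullback_map s t _ _
      (isQCHom_of_isQS _ (isQC_eps J hC _) (isCoherent_eps J hC _).2)
      (isQCHom_of_isQS _ (isQC_eps J hC _) (isCoherent_eps J hC _).2)

/-- Every morphism from a quasi-separated object to `eps X` is quasi-separated. -/
theorem isQSHom_to_eps [HasPullbacks C] (hC : ∀ X : C, IsQCSite J X) (X : C) {G : Sh J}
    (g : G ⟶ eps J X) (hG : IsQS G) : IsQSHom g := by
  have hE := hasQCGenerators_of_isQCSite J hC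
  obtain ⟨ι, a, π, hπ⟩ := eps_generating J G
  exact isQSHom_of_cover_qs hE g _ π ((jepi_iff_epi π).2 hπ) (fun i => isQC_eps J hC _)
    (fun i j => isQS_pullback_eps J hC _ _) hG

theorem isQS_pullback_over_eps [HasPullbacks C] (hC : ∀ X : C, IsQCSite J X) (X : C)
    {G H : Sh J} (g : G ⟶ eps J X) (h : H ⟶ eps J X) (hG : IsQS G) (hH : IsQS H) :
    IsQS (pullback g h) :=
  isQS_of_isQSHom (pullback.snd g h)
    (isQSHom_of_isPullback (IsPullback.of_hasPullback g h) (isQSHom_to_eps J hC X g hG)) hH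

theorem isCoherent_pullback_over_eps [HasPullbacks C] (hC : ∀ X : C, IsQCSite J X)
    {G H F : Sh J} (a : G ⟶ F) (b : H ⟶ F) (hG : IsCoherent G) (hH : IsCoherent H)
    (hF : IsCoherent F) (X : C) (w : F ⟶ eps J X) : IsCoherent (pullback a b) := by
  refine ⟨hF.2 _ _ a b hG.1 hH.1, ?_⟩
  let m : pullback a b ⟶ pullback (a ≫ w) (b ≫ w) :=
    pullback.map a b (a ≫ w) (b ≫ w) (𝟙 _) (𝟙 _) w (by simp) (by simp)
  have hm : Mono m :=
    (MorphismProperty.monomorphisms (Sh J)).of_isPullback (pullback_map_diagonal_isPullback a b w)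
      (show Mono (pullback.diagonal w) from inferInstance)
  exact isQS_of_mono m (isQS_pullback_over_eps J hC X (a ≫ w) (b ≫ w) hG.2 hH.2)

end Groth.Agent.Lib.helper23.TF
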