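import Mathlib
import Groth.Agent.Lib.helper23.TF8
set_option autoImplicit false
open CategoryTheory CategoryTheory.Limits Opposite
universe w w' u
namespace Groth.Agent.Lib.helper23.TF
open ToposFin Groth.Agent.Lib.helper9.TF
variable {C : Type u} [SmallCategory C] {J : GrothendieckTopology C}


/-- An object admitting a morphism to an initial object is initial. -/
lemma nonempty_isInitial_of_hom {P I : Sh J} (hI : IsInitial I) (f : P ⟶ I) :
    Nonempty (IsInitial P) := by
  have : IsIso f := hI.isIso_to f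
  exact ⟨hI.ofIso (asIso f).symm⟩

/-- Sources that are initial can be dropped from a jointly epimorphic family. -/
lemma JEpi.of_initial_compl {κ : Type w} {X : Sh J} {F : κ → Sh J} {π : ∀ k, F k ⟶ X}
    (h : JEpi π) (p : κ → Prop) (hp : ∀ k, ¬ p k → Nonempty (IsInitial (F k))) :
    JEpi (fun k : {k // p k} => π k) := by
  intro Z a b hab
  refine h a b (fun k => ?_)
  by_cases hk : p k
  · exact hab ⟨k, hk⟩
  · obtain ⟨hI⟩ := hp k hk
    exact hI.hom_ext _ _

/-- An object covered by a family of initial objects is initial. -/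
lemma nonempty_isInitial_of_jepi {κ : Type w} {X : Sh J} {F : κ → Sh J} {π : ∀ k, F k ⟶ X}
    (h : JEpi π) (hF : ∀ k, Nonempty (IsInitial (F k))) : Nonempty (IsInitial X) := by
  have hepi : Epi (initial.to X) := by
    refine ⟨fun a b _ => h a b (fun k => ?_)⟩
    obtain ⟨hI⟩ := hF k
    exact hI.hom_ext _ _
  have : IsIso (initial.to X) := Balanced.isIso_of_mono_of_epi _
  exact ⟨initialIsInitial.ofIso (asIso (initial.to X))⟩

/-- A decomposition of `X`: a jointly epimorphic family of pairwise disjoint monomorphisms. -/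
structure IsDecomp {ι : Type w} {X : Sh J} {F : ι → Sh J} (u : ∀ i, F i ⟶ X) : Prop where
  jepi : JEpi u
  mono : ∀ i, Mono (u i)
  disj : ∀ i j, i ≠ j → ∀ (P : Sh J) (p : P ⟶ F i) (q : P ⟶ F j), p ≫ u i = q ≫ u j →
    Nonempty (IsInitial P)

/-- The injections of a coproduct form a decomposition. -/
lemma isDecomp_cofan {ι : Type w} {F : ι → Sh J} (c : Cofan F) (hc : IsColimit c)
    [∀ i : ι, HasCoproduct (fun k : ((Set.range (fun _ : Unit ↦ i))ᶜ : Set ι) => F k)] :
    IsDecomp c.inj := by
  classical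
  refine ⟨fun Z a b hab => Cofan.IsColimit.hom_ext hc _ _ hab, fun i => MonoCoprod.mono_inj F c hc i,
    fun i j hij P p q hpq => ?_⟩
  let T : Sh J := ⊤_ (Sh J)
  let χ : c.pt ⟶ T ⨿ T := Cofan.IsColimit.desc hc (fun k =>
    if k = i then terminal.from (F k) ≫ coprod.inl else terminal.from (F k) ≫ coprod.inr)
  have hi : c.inj i ≫ χ = terminal.from (F i) ≫ coprod.inl := by
    rw [Cofan.IsColimit.fac, if_pos rfl]
  have hj : c.inj j ≫ χ = terminal.from (F j) ≫ coprod.inr := by
    rw [Cofan.IsColimit.fac, if_neg (Ne.symm hij)]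
  have h1 : terminal.from P ≫ (coprod.inl : T ⟶ T ⨿ T) = terminal.from P ≫ coprod.inr := by
    have := congrArg (fun k => k ≫ χ) hpq
    simp only [Category.assoc, hi, hj] at this
    rw [← Category.assoc, ← Category.assoc] at this
    rwa [Subsingleton.elim (p ≫ terminal.from (F i)) (terminal.from P),
      Subsingleton.elim (q ≫ terminal.from (F j)) (terminal.from P)] at this
  have sq : IsPullback (initial.to T) (initial.to T) (coprod.inl : T ⟶ T ⨿ T) coprod.inr :=
    FinitaryExtensive.isPullback_initial_to_binaryCofan (c := BinaryCofan.mk coprod.inl coprod.inr)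
      (coprodIsCoprod T T)
  exact nonempty_isInitial_of_hom initialIsInitial (sq.lift _ _ h1)

/-- The base change of a decomposition is a decomposition. -/
lemma IsDecomp.pullback {ι : Type w} {X A : Sh J} {F : ι → Sh J} {u : ∀ i, F i ⟶ X}
    (h : IsDecomp u) (g : A ⟶ X) : IsDecomp (fun i => pullback.snd (u i) g) := by
  refine ⟨h.jepi.pullback_snd g, fun i => ?_, fun i j hij P p q hpq => ?_⟩
  · haveI := h.mono i
    infer_instance
  · refine h.disj i j hij P (p ≫ pullback.fst (u i) g) (q ≫ pullback.fst (u j) g) ?_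
    rw [Category.assoc, Category.assoc, pullback.condition, pullback.condition, ← Category.assoc,
      ← Category.assoc, hpq]

/-- Summands of a quasi-compact object are quasi-compact. -/
lemma IsDecomp.isQC {ι : Type u} {X : Sh J} {F : ι → Sh J} {u : ∀ i, F i ⟶ X}
    (h : IsDecomp u) (hX : IsQC X) (i : ι) : IsQC (F i) := by
  classical
  rw [isQC_iff]
  intro Λ G ρ hρ
  -- the family on `X` made of the `ρ j ≫ u i` and the other summands
  let FF : Λ ⊕ {k : ι // k ≠ i} → Sh J := Sum.elim G (fun k => F k.1)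
  let π : ∀ x, FF x ⟶ X := fun x => match x with
    | Sum.inl j => ρ j ≫ u i
    | Sum.inr k => u k.1
  have hπ : JEpi π := by
    intro Z a b hab
    refine h.jepi a b (fun k => ?_)
    by_cases hk : k = i
    · subst hk
      refine hρ _ _ (fun j => ?_)
      have h' : (ρ j ≫ u k) ≫ a = (ρ j ≫ u k) ≫ b := hab (Sum.inl j)
      simpa only [Category.assoc] using h'
    · exact hab (Sum.inr ⟨k, hk⟩)
  obtain ⟨s, hs⟩ := exists_finite_cover_of_isQC hX π hπ
  refine ⟨s.toLeft, ?_⟩
  intro Z a b hab
  haveI := h.mono i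
  refine (hs.pullback_snd (u i)) a b (fun x => ?_)
  obtain ⟨x, hx⟩ := x
  cases x with
  | inl j =>
    have hj : j ∈ s.toLeft := Finset.mem_toLeft.2 hx
    have h1 : pullback.snd (π (Sum.inl j)) (u i) = pullback.fst (π (Sum.inl j)) (u i) ≫ ρ j := by
      rw [← cancel_mono (u i), Category.assoc]
      exact pullback.condition.symm
    show pullback.snd (π (Sum.inl j)) (u i) ≫ a = pullback.snd (π (Sum.inl j)) (u i) ≫ b
    rw [h1, Category.assoc, Category.assoc]
    exact congrArg _ (hab ⟨j, hj⟩)
  | inr k =>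
    obtain ⟨hI⟩ := h.disj k.1 i k.2 _ (pullback.fst (π (Sum.inr k)) (u i))
      (pullback.snd (π (Sum.inr k)) (u i)) pullback.condition
    exact hI.hom_ext _ _

/-- Almost all summands of a quasi-compact object are initial. -/
lemma IsDecomp.finite {ι : Type u} {X : Sh J} {F : ι → Sh J} {u : ∀ i, F i ⟶ X}
    (h : IsDecomp u) (hX : IsQC X) : {i | IsEmpty (F i ≅ ⊥_ (Sh J))}.Finite := by
  obtain ⟨s, hs⟩ := exists_finite_cover_of_isQC hX u h.jepi
  refine s.finite_toSet.subset ?_
  intro i hi
  by_contra his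
  have : Nonempty (IsInitial (F i)) := by
    refine nonempty_isInitial_of_jepi (hs.pullback_snd (u i)) (fun k => ?_)
    have hki : (k : ι) ≠ i := fun e => his (e ▸ k.2)
    exact h.disj k i hki _ (pullback.fst (u k) (u i)) (pullback.snd (u k) (u i)) pullback.condition
  obtain ⟨hI⟩ := this
  exact hi.false (hI.uniqueUpToIso initialIsInitial)

/-- The members of a decomposition are quasi-compact morphisms. -/
lemma IsDecomp.isQCHom {ι : Type u} {X : Sh J} {F : ι → Sh J} {u : ∀ i, F i ⟶ X}
    (h : IsDecomp u) (i : ι) : IsQCHom (u i) :=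
  fun A g hA => (h.pullback g).isQC hA i

/-- A finite sub-decomposition of a quasi-compact object which is still jointly epimorphic. -/
lemma IsDecomp.exists_finset {ι : Type u} {X : Sh J} {F : ι → Sh J} {u : ∀ i, F i ⟶ X}
    (h : IsDecomp u) (hX : IsQC X) : ∃ s : Finset ι, JEpi (fun i : s => u i) :=
  exists_finite_cover_of_isQC hX u h.jepi

/-- Quasi-compactness of a morphism can be tested on a decomposition of the target. -/
lemma isQCHom_of_decomp_target {X Y : Sh J} (f : X ⟶ Y) {ι : Type u} {Yi : ι → Sh J}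
    (v : ∀ i, Yi i ⟶ Y) (hv : IsDecomp v) {Xi : ι → Sh J} (p : ∀ i, Xi i ⟶ X)
    (f' : ∀ i, Xi i ⟶ Yi i) (sq : ∀ i, IsPullback (p i) (f' i) f (v i))
    (h : ∀ i, IsQCHom (f' i)) : IsQCHom f := by
  intro T g hT
  have hd := hv.pullback g
  obtain ⟨s, hs⟩ := hd.exists_finset hT
  refine isQC_pullback_of_cover_right f g _ hs (fun i => ?_)
  have hTi : IsQC (pullback (v i) g) := hd.isQC hT i
  have h1 : IsQCHom (pullback.snd f (v i)) :=
    isQCHom_of_isPullback_of_isPullback (sq i) (IsPullback.of_hasPullback f (v i)) (h i)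
  have h2 : IsQC (pullback (pullback.snd f (v i)) (pullback.fst (v i) g)) := h1 _ _ hTi
  have h3 : IsQC (pullback f (pullback.fst (v i) g ≫ v i)) :=
    isQC_of_iso (pullbackLeftPullbackSndIso _ _ _) h2
  exact isQC_pullback_congr rfl pullback.condition h3

lemma IsDecomp.reindex {ι : Type w} {κ : Type w'} {X : Sh J} {F : ι → Sh J} {u : ∀ i, F i ⟶ X}
    (h : IsDecomp u) (e : κ ≃ ι) : IsDecomp (fun k => u (e k)) :=
  ⟨h.jepi.reindex e e.surjective, fun k => h.mono _,
    fun k l hkl P p q hpq => h.disj _ _ (fun he => hkl (e.injective he)) P p q hpq⟩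

lemma isQC_of_isInitial {I : Sh J} (hI : IsInitial I) : IsQC I := by
  rw [isQC_iff]
  intro ι F π _
  exact ⟨∅, fun Z a b _ => hI.hom_ext a b⟩

lemma isQCHom_of_isInitial_source {I Y : Sh J} (hI : IsInitial I) (f : I ⟶ Y) : IsQCHom f := by
  intro T g _
  obtain ⟨hP⟩ := nonempty_isInitial_of_hom hI (pullback.fst f g)
  exact isQC_of_isInitial hP

/-- The theorem on quasi-compactness of coproducts. -/
theorem isQC_sigma_iff {ι : Type u} (F : ι → Sh J) :
    IsQC (∐ F) ↔ (∀ i, IsQC (F i)) ∧ {i | IsEmpty (F i ≅ ⊥_ (Sh J))}.Finite := by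
  have hd : IsDecomp (Sigma.ι F) :=
    isDecomp_cofan (Cofan.mk (∐ F) (Sigma.ι F)) (coproductIsCoproduct F)
  constructor
  · intro h
    exact ⟨fun i => hd.isQC h i, hd.finite h⟩
  · rintro ⟨hF, hfin⟩
    have hj := hd.jepi.of_initial_compl (fun i => IsEmpty (F i ≅ ⊥_ (Sh J))) (fun k hk => by
      rw [not_isEmpty_iff] at hk
      obtain ⟨e⟩ := hk
      exact ⟨initialIsInitial.ofIso e.symm⟩)
    haveI : Finite {k // IsEmpty (F k ≅ ⊥_ (Sh J))} := hfin.to_subtype
    exact isQC_of_finite_jepi _ _ hj (fun k => hF k)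

theorem isQS_sigma_iff {ι : Type u} (F : ι → Sh J) : IsQS (∐ F) ↔ ∀ i, IsQS (F i) := by
  have hd : IsDecomp (Sigma.ι F) :=
    isDecomp_cofan (Cofan.mk (∐ F) (Sigma.ι F)) (coproductIsCoproduct F)
  constructor
  · intro h i
    haveI := hd.mono i
    exact isQS_of_mono (Sigma.ι F i) h
  · intro h
    exact isQS_of_qs_cover F (Sigma.ι F) hd.jepi h (fun i => hd.isQCHom i)

instance mono_pullback_map {A B Y A' B' : Sh J} (a : A ⟶ Y) (b : B ⟶ Y) (α : A' ⟶ A) (β : B' ⟶ B)
    [Mono α] [Mono β] :
    Mono (pullback.map (α ≫ a) (β ≫ b) a b α β (𝟙 Y) (by simp) (by simp)) := by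
  refine ⟨fun x y hxy => pullback.hom_ext ?_ ?_⟩
  · rw [← cancel_mono α]
    have := congrArg (fun k => k ≫ pullback.fst a b) hxy
    simp only [Category.assoc] at this
    rwa [pullback.lift_fst] at this
  · rw [← cancel_mono β]
    have := congrArg (fun k => k ≫ pullback.snd a b) hxy
    simp only [Category.assoc] at this
    rwa [pullback.lift_snd] at this

/-- Quasi-separatedness of a morphism out of a coproduct can be tested on the summands. -/
theorem isQSHom_cofan_desc_iff {Y : Sh J} {ι : Type u} (X : ι → Sh J) (c : Cofan X)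
    (hc : IsColimit c) (f : c.pt ⟶ Y) : IsQSHom f ↔ ∀ i, IsQSHom (c.inj i ≫ f) := by
  have hd : IsDecomp c.inj := isDecomp_cofan c hc
  constructor
  · intro hf i
    haveI := hd.mono i
    exact isQSHom_comp (isQSHom_of_mono (c.inj i)) hf
  · intro h
    have hd2 : IsDecomp (fun p : ι × ι => pullback.map (c.inj p.1 ≫ f) (c.inj p.2 ≫ f) f f
        (c.inj p.1) (c.inj p.2) (𝟙 Y) (by simp) (by simp)) := by
      refine ⟨jepi_pullback_map f f c.inj hd.jepi c.inj hd.jepi, fun p => ?_, ?_⟩
      · haveI := hd.mono p.1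
        haveI := hd.mono p.2
        infer_instance
      · rintro ⟨i, j⟩ ⟨k, l⟩ hne P p q hpq
        by_cases hik : i = k
        · have hjl : j ≠ l := fun e => hne (by rw [hik, e])
          refine hd.disj j l hjl P (p ≫ pullback.snd _ _) (q ≫ pullback.snd _ _) ?_
          have := congrArg (fun t => t ≫ pullback.snd f f) hpq
          simp only [Category.assoc] at this
          rw [pullback.lift_snd, pullback.lift_snd] at this
          simpa only [Category.assoc] using this
        · refine hd.disj i k hik P (p ≫ pullback.fst _ _) (q ≫ pullback.fst _ _) ?_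
          have := congrArg (fun t => t ≫ pullback.fst f f) hpq
          simp only [Category.assoc] at this
          rw [pullback.lift_fst, pullback.lift_fst] at this
          simpa only [Category.assoc] using this
    refine isQCHom_of_decomp_target (pullback.diagonal f) _ hd2
      (fun p => pullback.fst (c.inj p.1) (c.inj p.2) ≫ c.inj p.1)
      (fun p => pullback.map (c.inj p.1) (c.inj p.2) (c.inj p.1 ≫ f) (c.inj p.2 ≫ f) (𝟙 _) (𝟙 _) f
        (by simp) (by simp))
      (fun p => pullback_map_diagonal_isPullback (c.inj p.1) (c.inj p.2) f) ?_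
    rintro ⟨i, j⟩
    by_cases hij : i = j
    · subst hij
      haveI := hd.mono i
      have hiso : IsIso (pullback.diagonal (c.inj i)) := inferInstance
      have hcomp : pullback.diagonal (c.inj i) ≫ pullback.map (c.inj i) (c.inj i) (c.inj i ≫ f)
          (c.inj i ≫ f) (𝟙 _) (𝟙 _) f (by simp) (by simp) = pullback.diagonal (c.inj i ≫ f) := by
        apply pullback.hom_ext
        · rw [Category.assoc, pullback.lift_fst, pullback.diagonal_fst_assoc,
            pullback.diagonal_fst]
        · rw [Category.assoc, pullback.lift_snd, pullback.diagonal_snd_assoc,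
            pullback.diagonal_snd]
      have : pullback.map (c.inj i) (c.inj i) (c.inj i ≫ f) (c.inj i ≫ f) (𝟙 _) (𝟙 _) f
          (by simp) (by simp) = inv (pullback.diagonal (c.inj i)) ≫
            pullback.diagonal (c.inj i ≫ f) := by
        rw [← hcomp, IsIso.inv_hom_id_assoc]
      show IsQCHom (pullback.map (c.inj i) (c.inj i) (c.inj i ≫ f) (c.inj i ≫ f) (𝟙 _) (𝟙 _) f
          (by simp) (by simp))
      rw [this]
      exact isQCHom_comp (isQCHom_of_isIso _) (h i)
    · obtain ⟨hI⟩ := hd.disj i j hij _ (pullback.fst (c.inj i) (c.inj j))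
        (pullback.snd (c.inj i) (c.inj j)) pullback.condition
      exact isQCHom_of_isInitial_source hI _

/-- Quasi-compactness of a morphism out of a finite coproduct can be tested on the summands. -/
theorem isQCHom_cofan_desc_iff {Y : Sh J} {n : ℕ} (X : Fin n → Sh J) (c : Cofan X)
    (hc : IsColimit c) (f : c.pt ⟶ Y) : IsQCHom f ↔ ∀ i, IsQCHom (c.inj i ≫ f) := by
  have hd : IsDecomp c.inj := isDecomp_cofan c hc
  constructor
  · intro hf i
    have := (hd.reindex (Equiv.ulift.{u} (α := Fin n))).isQCHom ⟨i⟩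
    exact isQCHom_comp this hf
  · intro h
    exact isQCHom_of_finite_cover_source f c.inj hd.jepi h

theorem isQSHom_cofan_desc_iff_fin {Y : Sh J} {n : ℕ} (X : Fin n → Sh J) (c : Cofan X)
    (hc : IsColimit c) (f : c.pt ⟶ Y) : IsQSHom f ↔ ∀ i, IsQSHom (c.inj i ≫ f) := by
  let c' : Cofan (fun k : ULift.{u} (Fin n) => X k.down) := Cofan.mk c.pt (fun k => c.inj k.down)
  have hc' : IsColimit c' := by
    refine mkCofanColimit c' (fun s => Cofan.IsColimit.desc hc (fun i => s.inj ⟨i⟩))
      (fun s k => ?_) (fun s m hm => ?_)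
    · exact Cofan.IsColimit.fac hc _ k.down
    · refine Cofan.IsColimit.hom_ext hc _ _ (fun i => ?_)
      rw [Cofan.IsColimit.fac]
      exact hm ⟨i⟩
  have := isQSHom_cofan_desc_iff _ c' hc' f
  exact ⟨fun hf i => this.1 hf ⟨i⟩, fun h => this.2 (fun k => h k.down)⟩

end Groth.Agent.Lib.helper23.TF
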