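import Mathlib
import Groth.Agent.Lib.helper23.TF10
set_option autoImplicit false
open CategoryTheory CategoryTheory.Limits Opposite
universe w w' u
namespace Groth.Agent.Lib.helper23.TF
open ToposFin Groth.Agent.Lib.helper9.TF
variable {C : Type u} [SmallCategory C] {J : GrothendieckTopology C}

section filtered
variable {I : Type u} [SmallCategory I] [IsFiltered I] (D : I ⥤ Sh J)

/-- Two sections with the same image in a filtered colimit of sheaves become equal, locally, at a
later stage. -/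
lemma locally_eq_of_colimit_ι_eq {i j : I} {U : C} (t : (D.obj i).obj.obj (op U))
    (t' : (D.obj j).obj.obj (op U))
    (h : sec (colimit.ι D i) (op U) t = sec (colimit.ι D j) (op U) t') :
    ∃ S ∈ J U, ∀ ⦃V : C⦄ (v : V ⟶ U), S v → ∃ (k : I) (φ : i ⟶ k) (ψ : j ⟶ k),
      sec (D.map φ) (op V) ((D.obj i).obj.map v.op t) =
        sec (D.map ψ) (op V) ((D.obj j).obj.map v.op t') := by
  let E := colimit.cocone (D ⋙ sheafToPresheaf J (Type u))
  have hE : IsColimit E := colimit.isColimit _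
  let c' := Sheaf.sheafifyCocone E
  have hc' : IsColimit c' := Sheaf.isColimitSheafifyCocone E hE
  let e : colimit D ≅ c'.pt := (colimit.isColimit D).coconePointUniqueUpToIso hc'
  have he : ∀ k, colimit.ι D k ≫ e.hom = c'.ι.app k := fun k =>
    IsColimit.comp_coconePointUniqueUpToIso_hom (colimit.isColimit D) hc' k
  have h1 : sec (c'.ι.app i) (op U) t = sec (c'.ι.app j) (op U) t' := by
    rw [← he i, ← he j, sec_comp, sec_comp, h]
  have h2 : (toSheafify J E.pt).app (op U) ((E.ι.app i).app (op U) t) =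
      (toSheafify J E.pt).app (op U) ((E.ι.app j).app (op U) t') := by
    have hi := congrArg (fun (k : (D.obj i).obj ⟶ (sheafify J E.pt)) => k.app (op U) t)
      (Sheaf.sheafifyCocone_ι_app_val E i)
    have hj := congrArg (fun (k : (D.obj j).obj ⟶ (sheafify J E.pt)) => k.app (op U) t')
      (Sheaf.sheafifyCocone_ι_app_val E j)
    exact hi.symm.trans (h1.trans hj)
  refine ⟨_, Presheaf.equalizerSieve_mem J (toSheafify J E.pt) (X := op U) _ _ h2, ?_⟩
  intro V v hv
  have hv' : E.pt.map v.op ((E.ι.app i).app (op U) t) = E.pt.map v.op ((E.ι.app j).app (op U) t') :=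
    hv
  have hn1 := NatTrans.naturality_apply (E.ι.app i) v.op t
  have hn2 := NatTrans.naturality_apply (E.ι.app j) v.op t'
  have h3 : (E.ι.app i).app (op V) ((D.obj i).obj.map v.op t) =
      (E.ι.app j).app (op V) ((D.obj j).obj.map v.op t') := hn1.trans (hv'.trans hn2.symm)
  have hEV : IsColimit (((evaluation Cᵒᵖ (Type u)).obj (op V)).mapCocone E) :=
    isColimitOfPreserves _ hE
  obtain ⟨k, φ, ψ, hk⟩ := (Types.FilteredColimit.isColimit_eq_iff _ hEV).1 h3
  exact ⟨k, φ, ψ, hk⟩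

lemma post_ι_apply (X : Sh J) (i : I) (a : X ⟶ D.obj i) :
    colimit.post D (coyoneda.obj (op X)) (colimit.ι (D ⋙ coyoneda.obj (op X)) i a) =
      a ≫ colimit.ι D i :=
  ConcreteCategory.congr_hom (colimit.ι_post D (coyoneda.obj (op X)) i) a

lemma injective_post_iff (X : Sh J) :
    Function.Injective (colimit.post D (coyoneda.obj (op X))) ↔
      ∀ (i : I) (a b : X ⟶ D.obj i), a ≫ colimit.ι D i = b ≫ colimit.ι D i →
        ∃ (k : I) (φ : i ⟶ k), a ≫ D.map φ = b ≫ D.map φ := by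
  constructor
  · intro hinj i a b hab
    have hxy : colimit.ι (D ⋙ coyoneda.obj (op X)) i a = colimit.ι (D ⋙ coyoneda.obj (op X)) i b := by
      apply hinj
      rw [post_ι_apply, post_ι_apply, hab]
    obtain ⟨k, f, g, hk⟩ := (Types.FilteredColimit.colimit_eq_iff _).1 hxy
    have hk' : a ≫ D.map f = b ≫ D.map g := hk
    refine ⟨IsFiltered.coeq f g, f ≫ IsFiltered.coeqHom f g, ?_⟩
    calc a ≫ D.map (f ≫ IsFiltered.coeqHom f g)
        = (a ≫ D.map f) ≫ D.map (IsFiltered.coeqHom f g) := by rw [D.map_comp, Category.assoc]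
      _ = (b ≫ D.map g) ≫ D.map (IsFiltered.coeqHom f g) := by rw [hk']
      _ = b ≫ D.map (g ≫ IsFiltered.coeqHom f g) := by rw [D.map_comp, Category.assoc]
      _ = b ≫ D.map (f ≫ IsFiltered.coeqHom f g) := by rw [IsFiltered.coeq_condition]
  · intro h x y hxy
    obtain ⟨j, a, b, rfl, rfl⟩ := Types.FilteredColimit.jointly_surjective_of_isColimit₂
      (colimit.isColimit (D ⋙ coyoneda.obj (op X))) x y
    have hab : a ≫ colimit.ι D j = b ≫ colimit.ι D j := by
      have := hxy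
      erw [post_ι_apply, post_ι_apply] at this
      exact this
    obtain ⟨k, φ, hk⟩ := h j a b hab
    exact (Types.FilteredColimit.isColimit_eq_iff _ (colimit.isColimit _)).2 ⟨k, φ, φ, hk⟩

lemma surjective_post_iff (X : Sh J) :
    Function.Surjective (colimit.post D (coyoneda.obj (op X))) ↔
      ∀ f : X ⟶ colimit D, ∃ (i : I) (h : X ⟶ D.obj i), h ≫ colimit.ι D i = f := by
  constructor
  · intro hs f
    obtain ⟨x, hx⟩ := hs f
    obtain ⟨i, h, rfl⟩ := Types.jointly_surjective_of_isColimit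
      (colimit.isColimit (D ⋙ coyoneda.obj (op X))) x
    refine ⟨i, h, ?_⟩
    erw [post_ι_apply] at hx
    exact hx
  · intro h f
    obtain ⟨i, g, hg⟩ := h f
    exact ⟨colimit.ι (D ⋙ coyoneda.obj (op X)) i g, (post_ι_apply D X i g).trans hg⟩

/-- Finitely many arrows out of one object of a filtered category can be equalised. -/
lemma exists_common_target (i : I) {α : Type w} (s : Finset α) (k : α → I) (φ : ∀ a, i ⟶ k a) :
    ∃ (m : I) (χ : i ⟶ m), ∀ a ∈ s, ∃ r : k a ⟶ m, φ a ≫ r = χ := by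
  classical
  induction s using Finset.induction_on with
  | empty => exact ⟨i, 𝟙 i, fun a ha => absurd ha (Finset.notMem_empty a)⟩
  | insert p s hp ih =>
    obtain ⟨m, χ, hm⟩ := ih
    let m' := IsFiltered.max m (k p)
    let f₁ : i ⟶ m' := χ ≫ IsFiltered.leftToMax m (k p)
    let f₂ : i ⟶ m' := φ p ≫ IsFiltered.rightToMax m (k p)
    refine ⟨IsFiltered.coeq f₁ f₂, f₁ ≫ IsFiltered.coeqHom f₁ f₂, fun a ha => ?_⟩
    rcases Finset.mem_insert.1 ha with rfl | ha
    · refine ⟨IsFiltered.rightToMax m (k a) ≫ IsFiltered.coeqHom f₁ f₂, ?_⟩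
      rw [← Category.assoc]
      exact (IsFiltered.coeq_condition f₁ f₂).symm
    · obtain ⟨r, hr⟩ := hm a ha
      refine ⟨r ≫ IsFiltered.leftToMax m (k p) ≫ IsFiltered.coeqHom f₁ f₂, ?_⟩
      rw [← Category.assoc, hr, Category.assoc]

/-- For a quasi-compact `X`, two maps into a stage of a filtered diagram which agree in the
colimit already agree at a later stage. -/
lemma hom_colimit_inj_of_isQC {X : Sh J} (hX : IsQC X) (i : I) (a b : X ⟶ D.obj i)
    (hab : a ≫ colimit.ι D i = b ≫ colimit.ι D i) :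
    ∃ (k : I) (φ : i ⟶ k), a ≫ D.map φ = b ≫ D.map φ := by
  classical
  let ι := Σ (k : I) (φ : i ⟶ k) (V : C),
    {t : X.obj.obj (op V) // sec (a ≫ D.map φ) (op V) t = sec (b ≫ D.map φ) (op V) t}
  let π : ∀ p : ι, eps J p.2.2.1 ⟶ X := fun p => ofSection J p.2.2.2.1
  have hπ : JEpi π := by
    apply jepi_of_liftSieve
    intro U s
    obtain ⟨S, hS, hS'⟩ := locally_eq_of_colimit_ι_eq D (sec a (op U) s) (sec b (op U) s) (by
      rw [← sec_comp, ← sec_comp, hab])
    refine J.superset_covering ?_ hS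
    intro V v hv
    obtain ⟨k, φ, ψ, hk⟩ := hS' v hv
    let ch := IsFiltered.coeqHom φ ψ
    have ht : sec (a ≫ D.map (φ ≫ ch)) (op V) (X.obj.map v.op s) =
        sec (b ≫ D.map (φ ≫ ch)) (op V) (X.obj.map v.op s) := by
      have e1 : sec (a ≫ D.map (φ ≫ ch)) (op V) (X.obj.map v.op s) =
          sec (D.map ch) (op V) (sec (D.map φ) (op V) ((D.obj i).obj.map v.op (sec a (op U) s))) := by
        rw [D.map_comp, sec_comp, sec_comp, sec_map]
      have e2 : sec (b ≫ D.map (φ ≫ ch)) (op V) (X.obj.map v.op s) =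
          sec (D.map ch) (op V) (sec (D.map ψ) (op V) ((D.obj i).obj.map v.op (sec b (op U) s))) := by
        rw [IsFiltered.coeq_condition φ ψ, D.map_comp, sec_comp, sec_comp, sec_map]
      rw [e1, e2, hk]
    refine ⟨⟨_, φ ≫ ch, V, ⟨X.obj.map v.op s, ht⟩⟩, can J (𝟙 V), ?_⟩
    refine (ofSection_can J _ (𝟙 V)).trans ?_
    simp
  obtain ⟨s, hs⟩ := exists_finite_cover_of_isQC hX π hπ
  obtain ⟨m, χ, hm⟩ := exists_common_target i s (fun p => p.1) (fun p => p.2.1)
  refine ⟨m, χ, hs _ _ (fun p => ?_)⟩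
  obtain ⟨r, hr⟩ := hm p.1 p.2
  apply eps_hom_ext
  have h1 : sec (π p.1) (op p.1.2.2.1) (can J (𝟙 _)) = p.1.2.2.2.1 := by
    refine (ofSection_can J _ (𝟙 _)).trans ?_
    simp
  have ha : sec (π p.1 ≫ a ≫ D.map χ) (op p.1.2.2.1) (can J (𝟙 _)) =
      sec (D.map r) (op p.1.2.2.1) (sec (a ≫ D.map p.1.2.1) (op p.1.2.2.1) p.1.2.2.2.1) := by
    rw [sec_comp, h1, ← hr, D.map_comp, ← Category.assoc, sec_comp]
  have hb : sec (π p.1 ≫ b ≫ D.map χ) (op p.1.2.2.1) (can J (𝟙 _)) =
      sec (D.map r) (op p.1.2.2.1) (sec (b ≫ D.map p.1.2.1) (op p.1.2.2.1) p.1.2.2.2.1) := by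
    rw [sec_comp, h1, ← hr, D.map_comp, ← Category.assoc, sec_comp]
  exact ha.trans ((congrArg _ p.1.2.2.2.2).trans hb.symm)

end filtered

section converse
variable {X : Sh J} {κ : Type u} {F : κ → Sh J} (π : ∀ k, F k ⟶ X)

/-- The map from the coproduct of a finite subfamily. -/
noncomputable def qS (s : Finset κ) : (∐ fun k : s => F k) ⟶ X := Sigma.desc (fun k : s => π k)

lemma ι_qS (s : Finset κ) (k : s) : Sigma.ι (fun k : s => F k) k ≫ qS π s = π k := by
  simp [qS]

lemma qS_inl_eq {s s' : Finset κ} (h : s ≤ s') :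
    qS π s ≫ pushout.inl (qS π s') (qS π s') = qS π s ≫ pushout.inr (qS π s') (qS π s') := by
  apply Sigma.hom_ext
  intro k
  rw [← Category.assoc, ← Category.assoc, ι_qS]
  have hk : π k = Sigma.ι (fun k : s' => F k) ⟨k.1, h k.2⟩ ≫ qS π s' := (ι_qS π s' ⟨k.1, h k.2⟩).symm
  rw [hk, Category.assoc, Category.assoc, pushout.condition]

/-- The filtered diagram of cokernel pairs of the finite subfamilies. -/
noncomputable def cokerDiag : Finset κ ⥤ Sh J where
  obj s := pushout (qS π s) (qS π s)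
  map {s s'} f := pushout.desc (pushout.inl _ _) (pushout.inr _ _) (qS_inl_eq π (leOfHom f))
  map_id s := by
    apply pushout.hom_ext
    · rw [pushout.inl_desc, Category.comp_id]
    · rw [pushout.inr_desc, Category.comp_id]
  map_comp f g := by
    apply pushout.hom_ext
    · rw [pushout.inl_desc, pushout.inl_desc_assoc, pushout.inl_desc]
    · rw [pushout.inr_desc, pushout.inr_desc_assoc, pushout.inr_desc]

noncomputable def inlS (s : Finset κ) : X ⟶ (cokerDiag π).obj s := pushout.inl (qS π s) (qS π s)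
noncomputable def inrS (s : Finset κ) : X ⟶ (cokerDiag π).obj s := pushout.inr (qS π s) (qS π s)

lemma inlS_map {s s' : Finset κ} (f : s ⟶ s') : inlS π s ≫ (cokerDiag π).map f = inlS π s' :=
  pushout.inl_desc _ _ _

lemma inrS_map {s s' : Finset κ} (f : s ⟶ s') : inrS π s ≫ (cokerDiag π).map f = inrS π s' :=
  pushout.inr_desc _ _ _

lemma qS_inlS (s : Finset κ) : qS π s ≫ inlS π s = qS π s ≫ inrS π s := pushout.condition

lemma epi_qS_of_inlS_eq (s : Finset κ) (h : inlS π s = inrS π s) : Epi (qS π s) := by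
  refine ⟨fun {Z} u v huv => ?_⟩
  calc u = inlS π s ≫ pushout.desc u v huv := (pushout.inl_desc u v huv).symm
    _ = inrS π s ≫ pushout.desc u v huv := by rw [h]
    _ = v := pushout.inr_desc u v huv

end converse

/-- If `Hom(X, -)` is injective on filtered colimits then `X` is quasi-compact. -/
lemma isQC_of_hom_colimit_inj (X : Sh J)
    (h : ∀ (I : Type u) [SmallCategory I] [IsFiltered I] (D : I ⥤ Sh J),
      Function.Injective (colimit.post D (coyoneda.obj (op X)))) : IsQC X := by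
  classical
  intro κ F π hπ
  have hinj := (injective_post_iff (cokerDiag π) X).1 (h (Finset κ) (cokerDiag π))
  have hab : inlS π ∅ ≫ colimit.ι (cokerDiag π) ∅ = inrS π ∅ ≫ colimit.ι (cokerDiag π) ∅ := by
    have hj : JEpi π := (jepi_iff_epi π).2 hπ
    apply hj
    intro k
    let f : (∅ : Finset κ) ⟶ {k} := homOfLE (Finset.empty_subset _)
    have e1 : inlS π ∅ ≫ colimit.ι (cokerDiag π) ∅ = inlS π {k} ≫ colimit.ι (cokerDiag π) {k} := by
      rw [← colimit.w (cokerDiag π) f, ← Category.assoc, inlS_map]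
    have e2 : inrS π ∅ ≫ colimit.ι (cokerDiag π) ∅ = inrS π {k} ≫ colimit.ι (cokerDiag π) {k} := by
      rw [← colimit.w (cokerDiag π) f, ← Category.assoc, inrS_map]
    have hk : π k = Sigma.ι (fun j : ({k} : Finset κ) => F j) ⟨k, Finset.mem_singleton_self k⟩ ≫
        qS π {k} := (ι_qS π {k} ⟨k, Finset.mem_singleton_self k⟩).symm
    have e3 : π k ≫ inlS π {k} = π k ≫ inrS π {k} := by
      rw [hk, Category.assoc, Category.assoc, qS_inlS]
    rw [e1, e2, ← Category.assoc, e3, Category.assoc]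
  obtain ⟨s, φ, hs⟩ := hinj ∅ _ _ hab
  rw [inlS_map, inrS_map] at hs
  exact ⟨s, epi_qS_of_inlS_eq π s hs⟩

/-- S3059 -/
theorem isQC_iff_hom_colimit_injective (X : Sh J) :
    IsQC X ↔ ∀ (I : Type u) [SmallCategory I] [IsFiltered I] (D : I ⥤ Sh J),
      Function.Injective (colimit.post D (coyoneda.obj (op X))) := by
  constructor
  · intro hX I _ _ D
    rw [injective_post_iff]
    exact fun i a b hab => hom_colimit_inj_of_isQC D hX i a b hab
  · exact isQC_of_hom_colimit_inj X

/-- Gluing of morphisms along a jointly epimorphic family. -/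
lemma JEpi.exists_desc {κ : Type w} {G : κ → Sh J} [HasCoproduct G] {X Z : Sh J}
    {g : ∀ m, G m ⟶ X} (hg : JEpi g) (H : ∀ m, G m ⟶ Z)
    (hH : ∀ (m m' : κ) (P : Sh J) (p : P ⟶ G m) (p' : P ⟶ G m'), p ≫ g m = p' ≫ g m' →
      p ≫ H m = p' ≫ H m') : ∃ h : X ⟶ Z, ∀ m, g m ≫ h = H m := by
  haveI : Epi (Sigma.desc g) := (jepi_iff_epi g).1 hg
  let re := regularEpiOfEpi (Sigma.desc g)
  have hι : JEpi (Sigma.ι G) := fun Z a b hab => Sigma.hom_ext _ _ hab
  have hker : pullback.fst (Sigma.desc g) (Sigma.desc g) ≫ Sigma.desc H =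
      pullback.snd (Sigma.desc g) (Sigma.desc g) ≫ Sigma.desc H := by
    apply jepi_pullback_map (Sigma.desc g) (Sigma.desc g) (Sigma.ι G) hι (Sigma.ι G) hι
    rintro ⟨m, m'⟩
    simp only
    rw [← Category.assoc, ← Category.assoc, pullback.lift_fst, pullback.lift_snd, Category.assoc,
      Category.assoc, Sigma.ι_desc H m, Sigma.ι_desc H m']
    apply hH
    exact (congrArg (fun k => pullback.fst _ _ ≫ k) (Sigma.ι_desc g m).symm).trans
      (pullback.condition.trans (congrArg (fun k => pullback.snd _ _ ≫ k) (Sigma.ι_desc g m')))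
  have hlr : re.left ≫ Sigma.desc H = re.right ≫ Sigma.desc H := by
    calc re.left ≫ Sigma.desc H
        = (pullback.lift re.left re.right re.w ≫ pullback.fst _ _) ≫ Sigma.desc H := by
          rw [pullback.lift_fst]
      _ = (pullback.lift re.left re.right re.w ≫ pullback.snd _ _) ≫ Sigma.desc H := by
          rw [Category.assoc, hker, Category.assoc]
      _ = re.right ≫ Sigma.desc H := by rw [pullback.lift_snd]
  refine ⟨Cofork.IsColimit.desc re.isColimit (Sigma.desc H) hlr, fun m => ?_⟩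
  have hq : Sigma.desc g ≫ Cofork.IsColimit.desc re.isColimit (Sigma.desc H) hlr = Sigma.desc H :=
    Cofork.IsColimit.π_desc re.isColimit
  have := congrArg (fun k => Sigma.ι G m ≫ k) hq
  simp only [← Category.assoc, Sigma.ι_desc] at this
  exact this

section surj
variable {I : Type u} [SmallCategory I] [IsFiltered I] (D : I ⥤ Sh J)

/-- For a coherent `X`, every map into a filtered colimit factors through a stage. -/
lemma hom_colimit_surj_of_isCoherent (hE : HasQCGenerators J) {X : Sh J} (hX : IsCoherent X)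
    (f : X ⟶ colimit D) : ∃ (i : I) (h : X ⟶ D.obj i), h ≫ colimit.ι D i = f := by
  classical
  have hcoc : JEpi (fun i => colimit.ι D i) := fun Z a b hab => colimit.hom_ext hab
  have h1 : ∀ i, ∃ (κ : Type u) (G : κ → Sh J) (ρ : ∀ k, G k ⟶ pullback f (colimit.ι D i)),
      (∀ k, IsQC (G k)) ∧ JEpi ρ := by
    intro i
    obtain ⟨κ, G, ρ, hG, hρ⟩ := hE (pullback f (colimit.ι D i))
    exact ⟨κ, G, ρ, hG, (jepi_iff_epi ρ).2 hρ⟩
  choose κ G ρ hG hρ using h1
  have hcov : JEpi (fun p : Σ i, κ i => ρ p.1 p.2 ≫ pullback.fst f (colimit.ι D p.1)) :=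
    (hcoc.pullback_fst f).comp ρ hρ
  obtain ⟨s, hs⟩ := exists_finite_cover_of_isQC hX.1 _ hcov
  -- a common stage
  obtain ⟨k₀, hk₀⟩ := IsFiltered.sup_objs_exists (s.image (fun p => p.1))
  have hk₀' : ∀ p : s, Nonempty (p.1.1 ⟶ k₀) := fun p =>
    hk₀ (Finset.mem_image_of_mem _ p.2)
  choose e he using fun p => (⟨(hk₀' p).some, trivial⟩ : ∃ _ : p.1.1 ⟶ k₀, True)
  obtain ⟨g, hgdef⟩ : ∃ g : ∀ p : s, G p.1.1 p.1.2 ⟶ X,
      ∀ p, g p = ρ p.1.1 p.1.2 ≫ pullback.fst f (colimit.ι D p.1.1) := ⟨_, fun _ => rfl⟩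
  obtain ⟨h', hh'def⟩ : ∃ h' : ∀ p : s, G p.1.1 p.1.2 ⟶ D.obj k₀,
      ∀ p, h' p = ρ p.1.1 p.1.2 ≫ pullback.snd f (colimit.ι D p.1.1) ≫ D.map (e p) :=
    ⟨_, fun _ => rfl⟩
  have hs' : JEpi g := by
    rw [show g = _ from funext hgdef]
    exact hs
  have hgh : ∀ p : s, g p ≫ f = h' p ≫ colimit.ι D k₀ := by
    intro p
    rw [hgdef, hh'def]
    simp only [Category.assoc, colimit.w, pullback.condition]
  -- equalise on the pairwise fibre products
  have h2 : ∀ pp : s × s, ∃ (k : I) (φ : k₀ ⟶ k),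
      (pullback.fst (g pp.1) (g pp.2) ≫ h' pp.1) ≫ D.map φ =
        (pullback.snd (g pp.1) (g pp.2) ≫ h' pp.2) ≫ D.map φ := by
    intro pp
    refine hom_colimit_inj_of_isQC D (hX.2 _ _ (g pp.1) (g pp.2) (hG _ _) (hG _ _)) k₀ _ _ ?_
    rw [Category.assoc, Category.assoc, ← hgh, ← hgh, ← Category.assoc, ← Category.assoc,
      pullback.condition]
  choose k φ hφ using h2
  obtain ⟨m, χ, hm⟩ := exists_common_target k₀ (Finset.univ : Finset (s × s)) k φ
  obtain ⟨H, hHdef⟩ : ∃ H : ∀ p : s, G p.1.1 p.1.2 ⟶ D.obj m, ∀ p, H p = h' p ≫ D.map χ :=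
    ⟨_, fun _ => rfl⟩
  have hH : ∀ (p p' : s) (P : Sh J) (a : P ⟶ G p.1.1 p.1.2) (a' : P ⟶ G p'.1.1 p'.1.2),
      a ≫ g p = a' ≫ g p' → a ≫ H p = a' ≫ H p' := by
    intro p p' P a a' haa
    obtain ⟨r, hr⟩ := hm (p, p') (Finset.mem_univ _)
    have h3 := hφ (p, p')
    have h4 : (pullback.fst (g p) (g p') ≫ h' p) ≫ D.map χ =
        (pullback.snd (g p) (g p') ≫ h' p') ≫ D.map χ := by
      rw [← hr, D.map_comp, ← Category.assoc, ← Category.assoc, h3]
    have h5 := congrArg (fun t => pullback.lift a a' haa ≫ t) h4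
    simp only [← Category.assoc, pullback.lift_fst, pullback.lift_snd] at h5
    rw [hHdef, hHdef]
    simpa only [Category.assoc] using h5
  obtain ⟨h, hh⟩ := hs'.exists_desc H hH
  refine ⟨m, h, hs' _ _ (fun p => ?_)⟩
  rw [← Category.assoc, hh p, hHdef, Category.assoc, colimit.w, hgh]

/-- S3060 -/
theorem hom_colimit_bijective_of_coherent (hE : HasQCGenerators J) (X : Sh J) (hX : IsCoherent X) :
    Function.Bijective (colimit.post D (coyoneda.obj (op X))) := by
  refine ⟨?_, ?_⟩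
  · rw [injective_post_iff]
    exact fun i a b hab => hom_colimit_inj_of_isQC D hX.1 i a b hab
  · rw [surjective_post_iff]
    exact fun f => hom_colimit_surj_of_isCoherent D hE hX f

end surj

end Groth.Agent.Lib.helper23.TF
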