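import Mathlib
import Groth.Agent.Lib.helper23.TF11
set_option autoImplicit false
open CategoryTheory CategoryTheory.Limits Opposite
universe w w' u
namespace Groth.Agent.Lib.helper23.TF
open ToposFin Groth.Agent.Lib.helper9.TF
variable {C : Type u} [SmallCategory C] {J : GrothendieckTopology C}

/-- Injectivity half of finite presentation. -/
def HomInj (X : Sh J) : Prop :=
  ∀ (I : Type u) [SmallCategory I] [IsFiltered I] (D : I ⥤ Sh J) (i : I) (a b : X ⟶ D.obj i),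
    a ≫ colimit.ι D i = b ≫ colimit.ι D i → ∃ (k : I) (φ : i ⟶ k), a ≫ D.map φ = b ≫ D.map φ

/-- Surjectivity half of finite presentation. -/
def HomSurj (X : Sh J) : Prop :=
  ∀ (I : Type u) [SmallCategory I] [IsFiltered I] (D : I ⥤ Sh J) (f : X ⟶ colimit D),
    ∃ (i : I) (h : X ⟶ D.obj i), h ≫ colimit.ι D i = f

lemma isFP_iff (X : Sh J) : IsFP X ↔ HomInj X ∧ HomSurj X := by
  constructor
  · intro h
    exact ⟨fun I _ _ D => (injective_post_iff D X).1 (h I D).1,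
      fun I _ _ D => (surjective_post_iff D X).1 (h I D).2⟩
  · rintro ⟨h1, h2⟩ I _ _ D
    exact ⟨(injective_post_iff D X).2 (h1 I D), (surjective_post_iff D X).2 (h2 I D)⟩

lemma homInj_iff_isQC (X : Sh J) : HomInj X ↔ IsQC X := by
  rw [isQC_iff_hom_colimit_injective]
  exact ⟨fun h I _ _ D => (injective_post_iff D X).2 (h I D),
    fun h I _ _ D => (injective_post_iff D X).1 (h I D)⟩

lemma isFP_of_isCoherent (hE : HasQCGenerators J) {X : Sh J} (hX : IsCoherent X) : IsFP X :=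
  fun I _ _ D => hom_colimit_bijective_of_coherent D hE X hX

/-- A coequalizer of finitely presentable objects is finitely presentable. -/
lemma isFP_coequalizer {X₀ X₁ : Sh J} (a b : X₁ ⟶ X₀) (h₀ : IsFP X₀) (h₁ : HomInj X₁) :
    IsFP (coequalizer a b) := by
  rw [isFP_iff] at h₀ ⊢
  refine ⟨fun I _ _ D i u v huv => ?_, fun I _ _ D f => ?_⟩
  · obtain ⟨k, φ, hk⟩ := h₀.1 I D i (coequalizer.π a b ≫ u) (coequalizer.π a b ≫ v) (by
      rw [Category.assoc, Category.assoc, huv])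
    refine ⟨k, φ, ?_⟩
    rw [← cancel_epi (coequalizer.π a b), ← Category.assoc, ← Category.assoc, hk]
  · obtain ⟨i, h, hh⟩ := h₀.2 I D (coequalizer.π a b ≫ f)
    obtain ⟨k, φ, hk⟩ := h₁ I D i (a ≫ h) (b ≫ h) (by
      rw [Category.assoc, Category.assoc, hh, ← Category.assoc, ← Category.assoc,
        coequalizer.condition])
    have hk' : a ≫ (h ≫ D.map φ) = b ≫ (h ≫ D.map φ) := by
      rw [← Category.assoc, ← Category.assoc, hk]
    refine ⟨k, coequalizer.desc (h ≫ D.map φ) hk', ?_⟩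
    rw [← cancel_epi (coequalizer.π a b), ← Category.assoc, coequalizer.π_desc, Category.assoc,
      colimit.w, hh]

/-- A retract of a finitely presentable object is finitely presentable. -/
lemma isFP_of_retract {X Q : Sh J} (i : X ⟶ Q) (p : Q ⟶ X) (hip : i ≫ p = 𝟙 X) (hQ : IsFP Q) :
    IsFP X := by
  rw [isFP_iff] at hQ ⊢
  refine ⟨fun I _ _ D j u v huv => ?_, fun I _ _ D f => ?_⟩
  · obtain ⟨k, φ, hk⟩ := hQ.1 I D j (p ≫ u) (p ≫ v) (by rw [Category.assoc, Category.assoc, huv])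
    refine ⟨k, φ, ?_⟩
    have := congrArg (fun t => i ≫ t) hk
    simp only [← Category.assoc, hip, Category.id_comp] at this
    exact this
  · obtain ⟨j, h, hh⟩ := hQ.2 I D (p ≫ f)
    refine ⟨j, i ≫ h, ?_⟩
    rw [Category.assoc, hh, ← Category.assoc, hip, Category.id_comp]

lemma isCoherent_of_retract {X Q : Sh J} (i : X ⟶ Q) (p : Q ⟶ X) (hip : i ≫ p = 𝟙 X)
    (hQ : IsCoherent Q) : IsCoherent X := by
  haveI : IsSplitEpi p := ⟨⟨⟨i, hip⟩⟩⟩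
  haveI : IsSplitMono i := ⟨⟨⟨p, hip⟩⟩⟩
  exact ⟨isQC_of_epi p hQ.1, isQS_of_mono i hQ.2⟩

lemma isCoherent_sigma_of_finite {ι : Type u} [Finite ι] (F : ι → Sh J)
    (h : ∀ i, IsCoherent (F i)) : IsCoherent (∐ F) :=
  ⟨isQC_of_finite_jepi F (Sigma.ι F) (fun Z a b hab => Sigma.hom_ext _ _ hab) (fun i => (h i).1),
    (isQS_sigma_iff F).2 (fun i => (h i).2)⟩

section presentation
variable {X₀ R : Sh J} (r₁ r₂ : R ⟶ X₀) {Λ : Type u} {H : Λ → Sh J} (ρ : ∀ j, H j ⟶ R)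

noncomputable def aT (t : Finset Λ) : (∐ fun j : t => H j) ⟶ X₀ := Sigma.desc (fun j : t => ρ j ≫ r₁)

lemma ι_aT (t : Finset Λ) (j : t) : Sigma.ι (fun j : t => H j) j ≫ aT r₁ ρ t = ρ j ≫ r₁ := by
  simp [aT]

lemma aT_comp_eq {t t' : Finset Λ} (h : t ≤ t') :
    aT r₁ ρ t ≫ coequalizer.π (aT r₁ ρ t') (aT r₂ ρ t') =
      aT r₂ ρ t ≫ coequalizer.π (aT r₁ ρ t') (aT r₂ ρ t') := by
  apply Sigma.hom_ext
  intro j
  rw [← Category.assoc, ← Category.assoc, ι_aT, ι_aT]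
  have h1 : ρ j ≫ r₁ = Sigma.ι (fun j : t' => H j) ⟨j.1, h j.2⟩ ≫ aT r₁ ρ t' :=
    (ι_aT r₁ ρ t' ⟨j.1, h j.2⟩).symm
  have h2 : ρ j ≫ r₂ = Sigma.ι (fun j : t' => H j) ⟨j.1, h j.2⟩ ≫ aT r₂ ρ t' :=
    (ι_aT r₂ ρ t' ⟨j.1, h j.2⟩).symm
  rw [h1, h2, Category.assoc, Category.assoc, coequalizer.condition]

/-- The filtered diagram of coequalizers of finite sub-presentations. -/
noncomputable def coeqDiag : Finset Λ ⥤ Sh J where
  obj t := coequalizer (aT r₁ ρ t) (aT r₂ ρ t)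
  map {t t'} f := coequalizer.desc (coequalizer.π _ _) (aT_comp_eq r₁ r₂ ρ (leOfHom f))
  map_id t := by
    apply coequalizer.hom_ext
    rw [coequalizer.π_desc, Category.comp_id]
  map_comp f g := by
    apply coequalizer.hom_ext
    rw [coequalizer.π_desc, coequalizer.π_desc_assoc, coequalizer.π_desc]

noncomputable def cT (t : Finset Λ) : X₀ ⟶ (coeqDiag r₁ r₂ ρ).obj t :=
  coequalizer.π (aT r₁ ρ t) (aT r₂ ρ t)

lemma cT_map {t t' : Finset Λ} (f : t ⟶ t') :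
    cT r₁ r₂ ρ t ≫ (coeqDiag r₁ r₂ ρ).map f = cT r₁ r₂ ρ t' :=
  coequalizer.π_desc _ _

lemma aT_cT (t : Finset Λ) : aT r₁ ρ t ≫ cT r₁ r₂ ρ t = aT r₂ ρ t ≫ cT r₁ r₂ ρ t :=
  coequalizer.condition _ _

instance epi_cT (t : Finset Λ) : Epi (cT r₁ r₂ ρ t) := by
  unfold cT
  exact coequalizer.π_epi

/-- The two projections are equalised in the colimit of the coequalizers. -/
lemma r_cT_colimit (hρ : JEpi ρ) :
    r₁ ≫ cT r₁ r₂ ρ ∅ ≫ colimit.ι (coeqDiag r₁ r₂ ρ) ∅ =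
      r₂ ≫ cT r₁ r₂ ρ ∅ ≫ colimit.ι (coeqDiag r₁ r₂ ρ) ∅ := by
  classical
  apply hρ
  intro j
  let f : (∅ : Finset Λ) ⟶ {j} := homOfLE (Finset.empty_subset _)
  have e1 : cT r₁ r₂ ρ ∅ ≫ colimit.ι (coeqDiag r₁ r₂ ρ) ∅ =
      cT r₁ r₂ ρ {j} ≫ colimit.ι (coeqDiag r₁ r₂ ρ) {j} := by
    rw [← colimit.w (coeqDiag r₁ r₂ ρ) f, ← Category.assoc, cT_map]
  have h1 : ρ j ≫ r₁ = Sigma.ι (fun k : ({j} : Finset Λ) => H k) ⟨j, Finset.mem_singleton_self j⟩ ≫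
      aT r₁ ρ {j} := (ι_aT r₁ ρ {j} ⟨j, Finset.mem_singleton_self j⟩).symm
  have h2 : ρ j ≫ r₂ = Sigma.ι (fun k : ({j} : Finset Λ) => H k) ⟨j, Finset.mem_singleton_self j⟩ ≫
      aT r₂ ρ {j} := (ι_aT r₂ ρ {j} ⟨j, Finset.mem_singleton_self j⟩).symm
  have e3 : ρ j ≫ r₁ ≫ cT r₁ r₂ ρ {j} = ρ j ≫ r₂ ≫ cT r₁ r₂ ρ {j} := by
    rw [← Category.assoc, h1, Category.assoc, aT_cT, ← Category.assoc, ← h2, Category.assoc]
  calc ρ j ≫ r₁ ≫ cT r₁ r₂ ρ ∅ ≫ colimit.ι (coeqDiag r₁ r₂ ρ) ∅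
      = (ρ j ≫ r₁ ≫ cT r₁ r₂ ρ {j}) ≫ colimit.ι (coeqDiag r₁ r₂ ρ) {j} := by
        rw [e1]; simp only [Category.assoc]
    _ = (ρ j ≫ r₂ ≫ cT r₁ r₂ ρ {j}) ≫ colimit.ι (coeqDiag r₁ r₂ ρ) {j} := by rw [e3]
    _ = ρ j ≫ r₂ ≫ cT r₁ r₂ ρ ∅ ≫ colimit.ι (coeqDiag r₁ r₂ ρ) ∅ := by
        rw [e1]; simp only [Category.assoc]

variable {X : Sh J} (q : X₀ ⟶ X) (hq : r₁ ≫ q = r₂ ≫ q)

include hq in
lemma aT_q (t : Finset Λ) : aT r₁ ρ t ≫ q = aT r₂ ρ t ≫ q := by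
  apply Sigma.hom_ext
  intro j
  rw [← Category.assoc, ← Category.assoc, ι_aT, ι_aT, Category.assoc, Category.assoc, hq]

noncomputable def pT (t : Finset Λ) : (coeqDiag r₁ r₂ ρ).obj t ⟶ X :=
  coequalizer.desc q (aT_q r₁ r₂ ρ q hq t)

lemma cT_pT (t : Finset Λ) : cT r₁ r₂ ρ t ≫ pT r₁ r₂ ρ q hq t = q :=
  coequalizer.π_desc _ _

lemma map_pT {t t' : Finset Λ} (f : t ⟶ t') :
    (coeqDiag r₁ r₂ ρ).map f ≫ pT r₁ r₂ ρ q hq t' = pT r₁ r₂ ρ q hq t := by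
  rw [← cancel_epi (cT r₁ r₂ ρ t), ← Category.assoc, cT_map, cT_pT, cT_pT]

noncomputable def pColim : colimit (coeqDiag r₁ r₂ ρ) ⟶ X :=
  colimit.desc (coeqDiag r₁ r₂ ρ)
    { pt := X
      ι := { app := fun t => pT r₁ r₂ ρ q hq t
             naturality := fun t t' f => by
               simp only [Functor.const_obj_obj, Functor.const_obj_map, Category.comp_id]
               exact map_pT r₁ r₂ ρ q hq f } }

lemma ι_pColim (t : Finset Λ) :
    colimit.ι (coeqDiag r₁ r₂ ρ) t ≫ pColim r₁ r₂ ρ q hq = pT r₁ r₂ ρ q hq t :=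
  colimit.ι_desc _ _

end presentation

/-- Descent of a morphism along an epimorphism. -/
lemma exists_desc_of_epi {X₀ X Z : Sh J} (q : X₀ ⟶ X) [Epi q] (T : X₀ ⟶ Z)
    (hT : pullback.fst q q ≫ T = pullback.snd q q ≫ T) : ∃ σ : X ⟶ Z, q ≫ σ = T := by
  obtain ⟨σ, hσ⟩ := (jepi_of_epi.{u} q).exists_desc (fun _ => T) (fun _ _ P p p' hpp => by
    have := congrArg (fun k => pullback.lift p p' hpp ≫ k) hT
    simp only [← Category.assoc] at this
    rwa [pullback.lift_fst, pullback.lift_snd] at this)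
  exact ⟨σ, hσ ⟨⟩⟩

/-- A finitely presentable object is a retract of a coequalizer of coherent objects. -/
theorem exists_retract_of_isFP (hE : HasCoherentGenerators J) {X : Sh J} (hX : IsFP X) :
    ∃ (X₀ X₁ : Sh J) (a b : X₁ ⟶ X₀) (i : X ⟶ coequalizer a b) (p : coequalizer a b ⟶ X),
      IsCoherent X₀ ∧ IsCoherent X₁ ∧ i ≫ p = 𝟙 X := by
  classical
  have hfp := (isFP_iff X).1 hX
  have hqc : IsQC X := (homInj_iff_isQC X).1 hfp.1
  obtain ⟨ι, G, π, hG, hπ⟩ := hE X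
  obtain ⟨s, hs⟩ := hqc ι G π hπ
  have hX₀ : IsCoherent (∐ fun i : s => G i) := isCoherent_sigma_of_finite _ (fun i => hG i)
  obtain ⟨q₀, hq₀⟩ : ∃ q₀ : (∐ fun i : s => G i) ⟶ X, q₀ = Sigma.desc (fun i : s => π i) := ⟨_, rfl⟩
  haveI : Epi q₀ := hq₀ ▸ hs
  obtain ⟨Λ, H, ρ, hH, hρ⟩ := hE (pullback q₀ q₀)
  have hρ' : JEpi ρ := (jepi_iff_epi ρ).2 hρ
  obtain ⟨σ, hσ⟩ := exists_desc_of_epi q₀ _
    (r_cT_colimit (pullback.fst q₀ q₀) (pullback.snd q₀ q₀) ρ hρ')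
  obtain ⟨t, i, hi⟩ := hfp.2 (Finset Λ) (coeqDiag (pullback.fst q₀ q₀) (pullback.snd q₀ q₀) ρ) σ
  refine ⟨_, ∐ (fun j : t => H j), aT (pullback.fst q₀ q₀) ρ t, aT (pullback.snd q₀ q₀) ρ t, i,
    pT _ _ ρ q₀ pullback.condition t, hX₀, isCoherent_sigma_of_finite _ (fun j => hH j), ?_⟩
  have h1 : σ ≫ pColim _ _ ρ q₀ pullback.condition = 𝟙 X := by
    rw [← cancel_epi q₀, ← Category.assoc, hσ, Category.assoc, ι_pColim, cT_pT, Category.comp_id]
  have h2 : i ≫ pT _ _ ρ q₀ pullback.condition t = σ ≫ pColim _ _ ρ q₀ pullback.condition := by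
    rw [← hi, Category.assoc, ι_pColim]
  exact h2.trans h1

lemma hasQCGenerators_of_hasCoherentGenerators (hE : HasCoherentGenerators J) :
    HasQCGenerators J := fun X => by
  obtain ⟨ι, F, π, hF, hπ⟩ := hE X
  exact ⟨ι, F, π, fun i => (hF i).1, hπ⟩

/-- S3072 -/
theorem isFP_iff_retract_coequalizer_coherent (hE : HasCoherentGenerators J) (X : Sh J) :
    IsFP X ↔ ∃ (X₀ X₁ : Sh J) (a b : X₁ ⟶ X₀) (i : X ⟶ coequalizer a b)
      (p : coequalizer a b ⟶ X), IsCoherent X₀ ∧ IsCoherent X₁ ∧ i ≫ p = 𝟙 X := by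
  constructor
  · exact exists_retract_of_isFP hE
  · rintro ⟨X₀, X₁, a, b, i, p, h₀, h₁, hip⟩
    exact isFP_of_retract i p hip (isFP_coequalizer a b
      (isFP_of_isCoherent (hasQCGenerators_of_hasCoherentGenerators hE) h₀)
      ((homInj_iff_isQC X₁).2 h₁.1))

/-- A finite cover of a quasi-compact object by members of a generating set, indexed by `Fin n`. -/
lemma exists_fin_cover {S : Set (Sh J)} (hgen : IsGenerating S) {X : Sh J} (hX : IsQC X) :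
    ∃ (n : ℕ) (G : Fin n → Sh J) (π : ∀ k, G k ⟶ X), (∀ k, G k ∈ S) ∧ JEpi π := by
  obtain ⟨ι, G, π, hG, hπ⟩ := exists_cover_of_isGenerating hgen X
  obtain ⟨s, hs⟩ := exists_finite_cover_of_isQC hX π hπ
  let e : Fin s.card ≃ s := s.equivFin.symm
  exact ⟨s.card, fun k => G (e k), fun k => π (e k), fun k => hG _, hs.reindex e e.surjective⟩

/-- S5588, first part: a coherent object belongs to a generating set of quasi-compact objects
closed under finite colimits and fibre products. -/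
lemma mem_of_isCoherent {S : Set (Sh J)} (hqc : ∀ K ∈ S, IsQC K)
    (hiso : ∀ ⦃K L : Sh J⦄, K ∈ S → Nonempty (K ≅ L) → L ∈ S) (hgen : IsGenerating S)
    (hcolim : ∀ (K : Type) [SmallCategory K] [FinCategory K] (D : K ⥤ Sh J),
      (∀ k, D.obj k ∈ S) → colimit D ∈ S) {X : Sh J} (hX : IsCoherent X) : X ∈ S := by
  obtain ⟨n, G, π, hG, hπ⟩ := exists_fin_cover hgen hX.1
  have hX₀ : (∐ G) ∈ S := hcolim (Discrete (Fin n)) (Discrete.functor G) (fun k => hG k.as)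
  obtain ⟨q₀, hq₀⟩ : ∃ q₀ : (∐ G) ⟶ X, q₀ = Sigma.desc π := ⟨_, rfl⟩
  haveI : Epi q₀ := hq₀ ▸ (jepi_iff_epi π).1 hπ
  have hR : IsQC (pullback q₀ q₀) := hX.2 _ _ q₀ q₀ (hqc _ hX₀) (hqc _ hX₀)
  obtain ⟨m, H, ρ, hH, hρ⟩ := exists_fin_cover hgen hR
  have hX₁ : (∐ H) ∈ S := hcolim (Discrete (Fin m)) (Discrete.functor H) (fun k => hH k.as)
  obtain ⟨a, ha⟩ : ∃ a : (∐ H) ⟶ ∐ G, a = Sigma.desc (fun l => ρ l ≫ pullback.fst q₀ q₀) :=
    ⟨_, rfl⟩
  obtain ⟨b, hb⟩ : ∃ b : (∐ H) ⟶ ∐ G, b = Sigma.desc (fun l => ρ l ≫ pullback.snd q₀ q₀) :=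
    ⟨_, rfl⟩
  have hιa : ∀ l, Sigma.ι H l ≫ a = ρ l ≫ pullback.fst q₀ q₀ := fun l => by rw [ha, Sigma.ι_desc]
  have hιb : ∀ l, Sigma.ι H l ≫ b = ρ l ≫ pullback.snd q₀ q₀ := fun l => by rw [hb, Sigma.ι_desc]
  have hQ : coequalizer a b ∈ S := hcolim WalkingParallelPair (parallelPair a b) (fun k => by
    cases k
    · exact hX₁
    · exact hX₀)
  have hT : pullback.fst q₀ q₀ ≫ coequalizer.π a b = pullback.snd q₀ q₀ ≫ coequalizer.π a b := by
    apply hρ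
    intro l
    rw [← Category.assoc, ← Category.assoc, ← hιa, ← hιb, Category.assoc, Category.assoc,
      coequalizer.condition]
  obtain ⟨j, hj⟩ := exists_desc_of_epi q₀ (coequalizer.π a b) hT
  have hab : a ≫ q₀ = b ≫ q₀ := by
    apply Sigma.hom_ext
    intro l
    rw [← Category.assoc, ← Category.assoc, hιa, hιb, Category.assoc, Category.assoc,
      pullback.condition]
  refine hiso hQ ⟨⟨coequalizer.desc q₀ hab, j, ?_, ?_⟩⟩
  · rw [← cancel_epi (coequalizer.π a b), ← Category.assoc, coequalizer.π_desc, hj,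
      Category.comp_id]
  · rw [← cancel_epi q₀, ← Category.assoc, hj, coequalizer.π_desc, Category.comp_id]

/-- S5588 -/
theorem eq_coherent_of_generating_closed (S : Set (Sh J)) (hqc : ∀ K ∈ S, IsQC K)
    (hiso : ∀ ⦃K L : Sh J⦄, K ∈ S → Nonempty (K ≅ L) → L ∈ S) (hgen : IsGenerating S)
    (hpb : ClosedUnderPullbacks S)
    (hcolim : ∀ (K : Type) [SmallCategory K] [FinCategory K] (D : K ⥤ Sh J),
      (∀ k, D.obj k ∈ S) → colimit D ∈ S) :
    (∀ X : Sh J, X ∈ S ↔ IsCoherent X) ∧ (∀ X : Sh J, IsFP X → IsCoherent X) := by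
  have h1 : ∀ X : Sh J, X ∈ S ↔ IsCoherent X := fun X =>
    ⟨fun h => isCoherent_of_mem hqc hgen hpb h, fun h => mem_of_isCoherent hqc hiso hgen hcolim h⟩
  refine ⟨h1, fun X hX => ?_⟩
  have hE : HasCoherentGenerators J := by
    intro Y
    obtain ⟨ι, F, π, hF, hπ⟩ := exists_cover_of_isGenerating hgen Y
    exact ⟨ι, F, π, fun i => (h1 _).1 (hF i), (jepi_iff_epi π).1 hπ⟩
  obtain ⟨X₀, X₁, a, b, i, p, h₀, h₁, hip⟩ := exists_retract_of_isFP hE hX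
  have hQ : coequalizer a b ∈ S := hcolim WalkingParallelPair (parallelPair a b) (fun k => by
    cases k
    · exact (h1 _).2 h₁
    · exact (h1 _).2 h₀)
  exact isCoherent_of_retract i p hip ((h1 _).1 hQ)

end Groth.Agent.Lib.helper23.TF

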