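import Mathlib
import Groth.Prelude.Def_SGA4a
import Groth.Agent.Lib.helper23.TF12

/-!
# Disjoint universal coproducts in a sheaf topos (helper23)
-/

set_option autoImplicit false
open CategoryTheory CategoryTheory.Limits Opposite
universe w w' u
namespace Groth.Agent.Lib.helper23.TF
open ToposFin Groth.Agent.Lib.helper9.TF
variable {C : Type u} [SmallCategory C] {J : GrothendieckTopology C}

/-- A decomposition is a coproduct. -/
lemma IsDecomp.nonempty_isColimit {ι : Type u} {X : Sh J} {F : ι → Sh J} {u : ∀ i, F i ⟶ X}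
    (h : IsDecomp u) : Nonempty (IsColimit (Cofan.mk X u)) := by
  classical
  have key : ∀ s : Cofan F, ∃ d : X ⟶ s.pt, ∀ i, u i ≫ d = s.inj i := by
    intro s
    refine h.jepi.exists_desc s.inj ?_
    intro m m' P p p' hpp
    by_cases hm : m = m'
    · subst hm
      haveI := h.mono m
      rw [(cancel_mono (u m)).1 hpp]
    · obtain ⟨hI⟩ := h.disj m m' hm P p p' hpp
      exact hI.hom_ext _ _
  refine ⟨mkCofanColimit _ (fun s => (key s).choose) (fun s i => (key s).choose_spec i) ?_⟩
  intro s m hm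
  apply h.jepi
  intro i
  rw [(key s).choose_spec i]
  exact hm i

/-- Decompositions are stable under arbitrary base change squares. -/
lemma IsDecomp.of_isPullback {ι : Type w} {X A : Sh J} {F F' : ι → Sh J} {u : ∀ i, F i ⟶ X}
    (h : IsDecomp u) (g : A ⟶ X) (v : ∀ i, F' i ⟶ A) (a : ∀ i, F' i ⟶ F i)
    (sq : ∀ i, IsPullback (v i) (a i) g (u i)) : IsDecomp v := by
  refine ⟨h.jepi.of_isPullback g v a (fun i => (sq i).flip), fun i => ?_,
    fun i j hij P p q hpq => ?_⟩
  · haveI := h.mono i
    exact (sq i).mono_fst_of_mono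
  · refine h.disj i j hij P (p ≫ a i) (q ≫ a j) ?_
    rw [Category.assoc, Category.assoc, ← (sq i).w, ← (sq j).w, ← Category.assoc, ← Category.assoc,
      hpq]

/-- Small coproducts of sheaves of sets are disjoint and universal. -/
theorem hasDisjointUniversalCoproducts (J : GrothendieckTopology C) :
    SGA4.HasDisjointUniversalCoproducts.{u + 1, u} (Sheaf J (Type u)) := by
  intro ι X
  have hdec : ∀ (c : Cofan X), IsColimit c → IsDecomp c.inj := fun c hc => isDecomp_cofan c hc
  refine ⟨Cofan.mk (∐ X) (Sigma.ι X), coproductIsCoproduct X, ⟨?_, ?_⟩, ?_⟩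
  · intro c hc i j hij s hs
    exact (hdec c hc).disj i j hij s.pt s.fst s.snd s.condition
  · intro c hc i
    exact (hdec c hc).mono i
  · intro F' c' α f hα _ hsq
    have h0 := hdec _ (coproductIsCoproduct X)
    have h1 : IsDecomp (fun i : ι => c'.ι.app ⟨i⟩) :=
      h0.of_isPullback f (fun i => c'.ι.app ⟨i⟩) (fun i => α.app ⟨i⟩) (fun i => hsq ⟨i⟩)
    obtain ⟨hcol⟩ := h1.nonempty_isColimit
    refine ⟨IsColimit.ofIsoColimit ((IsColimit.precomposeHomEquiv
      (Discrete.natIsoFunctor (F := F')) _).symm hcol) ?_⟩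
    exact Cocone.ext (Iso.refl _) (fun ⟨i⟩ => by simp)

end Groth.Agent.Lib.helper23.TF
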