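import Mathlib
import Groth.Prelude.Def_SGA4a
import Groth.Agent.Lib.helper23.SC2
import Groth.Agent.Lib.helper23.TF13

/-!
# Giraud axioms for sheaf topoi (helper23)
-/

set_option autoImplicit false
open CategoryTheory CategoryTheory.Limits Opposite
universe w v u

namespace Groth.Agent.Lib.helper23.SC

/-- An equivalence relation in the sense of generalized points is an internal equivalence
relation. -/
noncomputable def equivalenceRelation_of_isEquivRel {E : Type v} [Category.{u} E] [HasPullbacks E]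
    {R A : E} {p₁ p₂ : R ⟶ A} (h : SGA4.IsEquivRel p₁ p₂) : EquivalenceRelation p₁ p₂ where
  right_cancellation := by
    intro Y f g h1 h2
    exact (h Y).1 (Prod.ext h1 h2)
  r := ((h A).2.refl (𝟙 A)).choose
  reflexivity₁ := ((h A).2.refl (𝟙 A)).choose_spec.1
  reflexivity₂ := ((h A).2.refl (𝟙 A)).choose_spec.2
  s := ((h R).2.symm ⟨𝟙 R, Category.id_comp _, Category.id_comp _⟩).choose
  symmetry₁ := ((h R).2.symm ⟨𝟙 R, Category.id_comp _, Category.id_comp _⟩).choose_spec.1
  symmetry₂ := ((h R).2.symm ⟨𝟙 R, Category.id_comp _, Category.id_comp _⟩).choose_spec.2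
  c := pullback.cone p₂ p₁
  isLimit := pullback.isLimit p₂ p₁
  t := ((h (pullback p₂ p₁)).2.trans ⟨pullback.fst p₂ p₁, rfl, rfl⟩
    ⟨pullback.snd p₂ p₁, pullback.condition.symm, rfl⟩).choose
  transitivity₁ := ((h (pullback p₂ p₁)).2.trans ⟨pullback.fst p₂ p₁, rfl, rfl⟩
    ⟨pullback.snd p₂ p₁, pullback.condition.symm, rfl⟩).choose_spec.1
  transitivity₂ := ((h (pullback p₂ p₁)).2.trans ⟨pullback.fst p₂ p₁, rfl, rfl⟩
    ⟨pullback.snd p₂ p₁, pullback.condition.symm, rfl⟩).choose_spec.2

/-- Equivalence relations of sheaves of sets are effective and universal. -/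
theorem isEffectiveUniversalEquivRel_sheaf {C : Type u} [SmallCategory C]
    (J : GrothendieckTopology C) (R A : Sheaf J (Type u)) (p₁ p₂ : R ⟶ A)
    (h : SGA4.IsEquivRel p₁ p₂) : SGA4.IsEffectiveUniversalEquivRel p₁ p₂ := by
  let E := sheafUniversallyEffective (equivalenceRelation_of_isEquivRel h)
  refine ⟨E.B, E.π, E.isKernelPair, E.isPushout, fun B' g => ?_⟩
  exact E.universally_effectiveEpi_π _ _ _ (IsPullback.of_hasPullback E.π g).flip

/-- The Giraud exactness axioms for a sheaf topos. -/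
theorem sheafTopos_giraud {C : Type u} [SmallCategory C] (J : GrothendieckTopology C) :
    SGA4.HasDisjointUniversalCoproducts.{u + 1, u} (Sheaf J (Type u)) ∧
    ∀ (R A : Sheaf J (Type u)) (p₁ p₂ : R ⟶ A), SGA4.IsEquivRel p₁ p₂ →
      SGA4.IsEffectiveUniversalEquivRel p₁ p₂ :=
  ⟨TF.hasDisjointUniversalCoproducts J, isEffectiveUniversalEquivRel_sheaf J⟩

end Groth.Agent.Lib.helper23.SC
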