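import Mathlib
import Groth.Prelude.Def_SGA4a
import Groth.Agent.Lib.helper23.SC7
import Groth.Agent.Lib.helper23.SC4

/-!
# The canonical topology of a small category and effective equivalence relations (helper23)
-/

set_option autoImplicit false
open CategoryTheory CategoryTheory.Limits Opposite
universe u

namespace Groth.Agent.Lib.helper23.Can

open Groth.Agent.Lib.helper23.SC

variable {C : Type u} [SmallCategory C]

/-- Notation: the canonical topology. -/
abbrev Jc (C : Type u) [SmallCategory C] : GrothendieckTopology C := Sheaf.canonicalTopology C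

/-- The canonical functor `ε` is isomorphic to the Yoneda functor to sheaves. -/
noncomputable def epsIso :
    yoneda ⋙ presheafToSheaf (Jc C) (Type u) ≅ (Jc C).yoneda :=
  (Functor.isoWhiskerLeft (Jc C).yoneda
    (asIso (sheafificationAdjunction (Jc C) (Type u)).counit)) ≪≫ Functor.rightUnitor _

instance : PreservesLimitsOfSize.{u, u} (Jc C).yoneda := by
  have : PreservesLimitsOfSize.{u, u} ((Jc C).yoneda ⋙ sheafToPresheaf (Jc C) (Type u)) :=
    inferInstanceAs (PreservesLimitsOfSize.{u, u} (yoneda : C ⥤ _))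
  exact preservesLimits_of_reflects_of_preserves (Jc C).yoneda (sheafToPresheaf (Jc C) (Type u))

lemma sec_yoneda_map {X Y : C} (f : X ⟶ Y) (V : Cᵒᵖ) (t : V.unop ⟶ X) :
    sec ((Jc C).yoneda.map f) V t = t ≫ f := rfl

lemma yoneda_obj_map {X : C} {V W : Cᵒᵖ} (g : V ⟶ W) (t : V.unop ⟶ X) :
    ((Jc C).yoneda.obj X).obj.map g t = g.unop ≫ t := rfl

section Singleton

variable [HasPullbacks C]

lemma pullback_generate_singleton {Y B B' : C} (f : Y ⟶ B) (g : B' ⟶ B) :
    (Sieve.generate (Presieve.singleton f)).pullback g =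
      Sieve.generate (Presieve.singleton (pullback.snd f g)) := by
  rw [← Sieve.pullbackArrows_comm, Presieve.pullback_singleton]

/-- A morphism generates a covering sieve for the canonical topology iff it is a universal
effective epimorphism. -/
lemma generate_singleton_mem_iff {Y B : C} (f : Y ⟶ B) :
    Sieve.generate (Presieve.singleton f) ∈ Jc C B ↔
      ∀ (B' : C) (g : B' ⟶ B), EffectiveEpi (pullback.snd f g) := by
  constructor
  · intro h B' g
    have h1 := (Jc C).pullback_stable g h
    rw [pullback_generate_singleton] at h1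
    rw [← Sieve.effectiveEpimorphic_singleton]
    show (Sieve.generate _).EffectiveEpimorphic
    rw [Sieve.EffectiveEpimorphic.iff_forall_isSheafFor_yoneda]
    intro W
    exact Sheaf.isSheaf_yoneda_obj W _ h1
  · intro h
    apply Sheaf.mem_finestTopology_of_forall_isSheafFor
    rintro P ⟨W, rfl⟩ B' g
    rw [pullback_generate_singleton, ← Presieve.isSheafFor_iff_generate]
    have := h B' g
    exact Presieve.IsSheafFor.singleton_of_isRepresentable_of_effectiveEpi _ _

end Singleton

/-- `y f` is an epimorphism of sheaves iff `f` generates a covering sieve. -/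
lemma epi_yoneda_map_iff {Y B : C} (f : Y ⟶ B) :
    Epi ((Jc C).yoneda.map f) ↔ Sieve.generate (Presieve.singleton f) ∈ Jc C B := by
  rw [Sieve.generateSingleton_eq]
  constructor
  · intro h
    rw [epi_iff_liftS] at h
    refine (Jc C).superset_covering ?_ (h B (𝟙 B))
    rintro V v ⟨t, ht⟩
    refine ⟨t, ?_⟩
    have h1 : t ≫ f = v ≫ 𝟙 B := ht
    rw [h1, Category.comp_id]
  · intro h
    apply epi_of_liftS
    intro U s
    refine (Jc C).superset_covering ?_ ((Jc C).pullback_stable s h)
    rintro V v ⟨t, ht⟩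
    exact ⟨t, ht⟩

lemma jointlyMono_yoneda {R X : C} {p₁ p₂ : R ⟶ X} (h : JointlyMono₂ p₁ p₂) :
    JointlyMono₂ ((Jc C).yoneda.map p₁) ((Jc C).yoneda.map p₂) where
  right_cancellation T a b h1 h2 := by
    apply hom_ext_sec
    intro V z
    refine h.right_cancellation _ _ ?_ ?_
    · have := sec_congr h1 V z
      exact this
    · have := sec_congr h2 V z
      exact this

/-- The Yoneda functor to sheaves preserves equivalence relations. -/
noncomputable def equivalenceRelation_yoneda {R X : C} {p₁ p₂ : R ⟶ X}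
    (e : EquivalenceRelation p₁ p₂) :
    EquivalenceRelation ((Jc C).yoneda.map p₁) ((Jc C).yoneda.map p₂) :=
  haveI := jointlyMono_yoneda e.toJointlyMono₂
  { __ := e.toReflexiveRelation.map (Jc C).yoneda
    __ := e.toSymmetricRelation.map (Jc C).yoneda
    __ := e.toTransitiveRelation.map (Jc C).yoneda }

theorem effectiveUniversal_iff [HasPullbacks C] {R X : C} (p₁ p₂ : R ⟶ X)
    (hR : SGA4.IsEquivRel p₁ p₂) (c : Cofork p₁ p₂) (hc : IsColimit c) :
    SGA4.IsEffectiveUniversalEquivRel p₁ p₂ ↔
      Nonempty (IsColimit ((yoneda ⋙ presheafToSheaf (Jc C) (Type u)).mapCocone c)) := by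
  have hiff : Nonempty (IsColimit ((yoneda ⋙ presheafToSheaf (Jc C) (Type u)).mapCocone c)) ↔
      Nonempty (IsColimit ((Jc C).yoneda.mapCocone c)) :=
    ⟨fun ⟨h⟩ => ⟨IsColimit.mapCoconeEquiv epsIso h⟩,
      fun ⟨h⟩ => ⟨IsColimit.mapCoconeEquiv epsIso.symm h⟩⟩
  rw [hiff]
  let e := equivalenceRelation_of_isEquivRel hR
  constructor
  · rintro ⟨B, π, hpb, hpo, heff⟩
    have hcov : Sieve.generate (Presieve.singleton π) ∈ Jc C B :=
      (generate_singleton_mem_iff π).2 heff
    haveI : Epi ((Jc C).yoneda.map π) := (epi_yoneda_map_iff π).2 hcov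
    have hk : IsKernelPair ((Jc C).yoneda.map π) ((Jc C).yoneda.map p₁) ((Jc C).yoneda.map p₂) :=
      hpb.map (Jc C).yoneda
    haveI : IsRegularEpi ((Jc C).yoneda.map π) := IsRegularEpiCategory.regularEpiOfEpi _
    have hc' : IsColimit (Cofork.ofπ ((Jc C).yoneda.map π) hk.w) := hk.toCoequalizer'
    have hc'' : IsColimit ((Jc C).yoneda.mapCocone (Cofork.ofπ π hpo.w)) :=
      (isColimitMapCoconeCoforkEquiv (Jc C).yoneda hpo.w).symm hc'
    have hc₀ : IsColimit (Cofork.ofπ π hpo.w) := isColimitOfReflects (Jc C).yoneda hc''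
    let i : c ≅ Cofork.ofπ π hpo.w := hc.uniqueUpToIso hc₀
    exact ⟨IsColimit.ofIsoColimit hc''
      ((Cocones.functoriality _ (Jc C).yoneda).mapIso i.symm)⟩
  · rintro ⟨h⟩
    let i : c ≅ Cofork.ofπ c.π c.condition := Cofork.isoCoforkOfπ c
    have hc₀ : IsColimit (Cofork.ofπ c.π c.condition) := IsColimit.ofIsoColimit hc i
    have h' : IsColimit ((Jc C).yoneda.mapCocone (Cofork.ofπ c.π c.condition)) :=
      IsColimit.ofIsoColimit h ((Cocones.functoriality _ (Jc C).yoneda).mapIso i)
    have hc' := isColimitMapCoconeCoforkEquiv (Jc C).yoneda c.condition h'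
    have hk : IsKernelPair ((Jc C).yoneda.map c.π) ((Jc C).yoneda.map p₁)
        ((Jc C).yoneda.map p₂) :=
      SC.isKernelPair_of_isColimit (equivalenceRelation_yoneda e) _ hc'
    have hpb : IsPullback p₁ p₂ c.π c.π := IsPullback.of_map (Jc C).yoneda c.condition hk
    have hpo : IsPushout p₁ p₂ c.π c.π :=
      isPushout_of_isColimit_cofork c.condition hc₀ e.r e.reflexivity₁ e.reflexivity₂
    have : Epi ((Jc C).yoneda.map c.π) := epi_of_isColimit_cofork hc'
    have hcov := (epi_yoneda_map_iff c.π).1 inferInstance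
    exact ⟨c.pt, c.π, hpb, hpo, (generate_singleton_mem_iff c.π).1 hcov⟩

end Groth.Agent.Lib.helper23.Can
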