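import Mathlib
import Groth.Prelude.Def_SGA4a
import Groth.Agent.Lib.helper23.SC13

/-!
# The canonical topology of a small category and disjoint universal coproducts (helper23)
-/

set_option autoImplicit false
open CategoryTheory CategoryTheory.Limits Opposite
universe u

namespace Groth.Agent.Lib.helper23.Can

open Groth.Agent.Lib.helper23.SC

section General

variable {C : Type u} [SmallCategory C] (J : GrothendieckTopology C) [J.Subcanonical]

set_option backward.isDefEq.respectTransparency false in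
/-- Variant of `GrothendieckTopology.isColimitCofanMkYoneda` where only the objects mapping to two
different summands are assumed to be covered by the empty sieve. -/
noncomputable def isColimitCofanMkYoneda' {ι : Type*} (X : ι → C) {c : Cofan X}
    (H : (Sieve.ofArrows _ c.inj) ∈ J c.pt) [∀ (i : ι), Mono (c.inj i)]
    (hdisj : ∀ {i j : ι} (_ : i ≠ j) {Y : C} (a : Y ⟶ X i)
      (b : Y ⟶ X j), a ≫ c.inj i = b ≫ c.inj j → ⊥ ∈ J Y) :
    IsColimit (Cofan.mk _ fun i ↦ J.yoneda.map (c.inj i)) := by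
  have heq (s : Cofan fun i ↦ J.yoneda.obj (X i))
      {Y : C} {i j : ι} (a : Y ⟶ X i) (b : Y ⟶ X j) (hab : a ≫ c.inj i = b ≫ c.inj j) :
      (s.inj i).hom.app (op Y) a = (s.inj j).hom.app (op Y) b := by
    by_cases h : i = j
    · subst h
      rw [(cancel_mono _).mp hab]
    · have := Types.isTerminalEquivUnique _ (Sheaf.isTerminalOfBotCover s.pt _ (hdisj h a b hab))
      exact Subsingleton.elim _ _
  refine Cofan.IsColimit.mk _ (fun s ↦ ⟨?_⟩) (fun s j ↦ ?_) fun s m hm ↦ ?_
  · refine (s.pt.2.isSheafFor _ H).extend ?_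
    refine ⟨fun Y ↦ ↾fun g ↦ ((s.inj (Sieve.ofArrows.i g.2)).hom.app Y)
      (Sieve.ofArrows.h g.2), ?_⟩
    intro ⟨Y⟩ ⟨Z⟩ ⟨(g : Z ⟶ Y)⟩
    ext u
    simp only [Sieve.functor_obj, Sieve.generate_apply, Sieve.functor_map, Quiver.Hom.unop_op',
      TypeCat.Fun.toFun_apply, comp_apply, ConcreteCategory.hom_ofHom, TypeCat.Fun.coe_mk,
      ← heq s (g ≫ Sieve.ofArrows.h u.2)
      (Sieve.ofArrows.h <| Sieve.downward_closed _ u.2 g) (by simp)]
    exact ConcreteCategory.congr_hom ((s.inj _).hom.naturality g.op) _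
  · ext : 1
    let u (j : ι) : CategoryTheory.yoneda.obj (X j) ⟶ (Sieve.ofArrows _ c.inj).functor :=
      (Sieve.ofArrows _ c.inj).toFunctor (c.inj j) (Sieve.ofArrows_mk _ _ j)
    have (j : ι) : u j ≫ (Sieve.ofArrows _ c.inj).functorInclusion =
      CategoryTheory.yoneda.map (c.inj j) := rfl
    dsimp
    simp only [← this, Category.assoc, Presieve.IsSheafFor.functorInclusion_comp_extend]
    ext Z (g : Z.unop ⟶ X j)
    have h : Sieve.ofArrows X c.inj (g ≫ c.inj j) :=
      Sieve.downward_closed _ (Sieve.ofArrows_mk _ _ j) _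
    exact heq s (Sieve.ofArrows.h h) g (by simp)
  · ext : 1
    dsimp
    apply Presieve.IsSheafFor.unique_extend
    ext Y ⟨g, hg⟩
    simp [← hm (Sieve.ofArrows.i hg)]

/-- Colimit cocones over discrete diagrams of sheaves of sets are universal. -/
lemma isUniversalColimit_of_discrete {ι : Type u} {K : Discrete ι ⥤ Sheaf J (Type u)}
    (c : Cocone K) (hc : IsColimit c) : IsUniversalColimit c := by
  obtain ⟨c₀, hc₀, -, huniv⟩ := TF.hasDisjointUniversalCoproducts J ι (fun i => K.obj ⟨i⟩)
  let e : K ≅ Discrete.functor (fun i => K.obj ⟨i⟩) := Discrete.natIsoFunctor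
  have h1 : IsUniversalColimit ((Cocone.precompose e.hom).obj c₀) := huniv.precompose_isIso e.hom
  have h2 : IsColimit ((Cocone.precompose e.hom).obj c₀) :=
    (IsColimit.precomposeHomEquiv e c₀).symm hc₀
  exact h1.of_iso (h2.uniqueUpToIso hc)

end General

variable {C : Type u} [SmallCategory C]

/-- Representable presheaves satisfy the sheaf condition for the injections of a coproduct. -/
lemma isSheafFor_of_isColimit_cofan {ι : Type u} {Z : ι → C} {B : C} {π : ∀ i, Z i ⟶ B}
    (h : IsColimit (Cofan.mk B π)) (W : C) :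
    Presieve.IsSheafFor (yoneda.obj W) (Presieve.ofArrows Z π) := by
  rw [Presieve.isSheafFor_arrows_iff]
  intro x _
  refine ⟨Cofan.IsColimit.desc h x, fun i => ?_, fun t ht => ?_⟩
  · exact Cofan.IsColimit.fac h x i
  · refine Cofan.IsColimit.hom_ext h _ _ (fun i => ?_)
    rw [Cofan.IsColimit.fac h x i]
    exact ht i

section Family

variable {X : C} {ι : Type u} {Y : ι → C} {s : ∀ i, Y i ⟶ X}
  [∀ (i : ι) (Z : C) (g : Z ⟶ X), HasPullback (s i) g]

lemma univ_pullback (huniv : IsUniversalColimit (Cofan.mk X s)) {V : C} (t : V ⟶ X) :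
    Nonempty (IsColimit (Cofan.mk V (fun k => pullback.snd (s k) t))) := by
  refine huniv (Cofan.mk V (fun k => pullback.snd (s k) t))
    (Discrete.natTrans (fun k => pullback.fst (s k.as) t)) t ?_
    (NatTrans.Equifibered.of_discrete _) ?_
  · ext ⟨k⟩
    simp [pullback.condition]
  · rintro ⟨k⟩
    exact (IsPullback.of_hasPullback (s k) t).flip

lemma ofArrows_mem (huniv : IsUniversalColimit (Cofan.mk X s)) :
    Sieve.ofArrows Y s ∈ Jc C X := by
  apply Sheaf.mem_finestTopology_of_forall_isSheafFor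
  rintro P ⟨W, rfl⟩ V t
  rw [← Sieve.ofArrows_eq_pullback_of_isPullback s
    (fun i => (IsPullback.of_hasPullback (s i) t).flip)]
  rw [Sieve.ofArrows, ← Presieve.isSheafFor_iff_generate]
  obtain ⟨hcol⟩ := univ_pullback huniv t
  exact isSheafFor_of_isColimit_cofan hcol W

/-- An object mapping to two different summands of a disjoint universal coproduct has exactly one
morphism to any object. -/
lemma existsUnique_hom_of_disjoint (hcol : IsColimit (Cofan.mk X s)) [hdisj : CoproductDisjoint Y]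
    (huniv : IsUniversalColimit (Cofan.mk X s)) {i j : ι} (hij : i ≠ j) {V : C}
    (a : V ⟶ Y i) (b : V ⟶ Y j) (hab : a ≫ s i = b ≫ s j) (W : C) : ∃! t : V ⟶ W, True := by
  classical
  have hI : IsInitial (pullback (s i) (s j)) :=
    IsInitial.ofCoproductDisjointOfIsColimitOfIsLimit hij hcol (pullback.isLimit (s i) (s j))
  refine ⟨pullback.lift a b hab ≫ hI.to W, trivial, ?_⟩
  have key : ∀ f g : V ⟶ W, f = g := by
    intro f g
    obtain ⟨hV⟩ := univ_pullback huniv (a ≫ s i)
    let σi : V ⟶ pullback (s i) (a ≫ s i) := pullback.lift a (𝟙 V) (by simp)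
    let σj : V ⟶ pullback (s j) (a ≫ s i) := pullback.lift b (𝟙 V) (by simp [hab])
    have hσi : σi ≫ pullback.snd (s i) (a ≫ s i) = 𝟙 V := pullback.lift_snd _ _ _
    have hσj : σj ≫ pullback.snd (s j) (a ≫ s i) = 𝟙 V := pullback.lift_snd _ _ _
    let x : ∀ k, pullback (s k) (a ≫ s i) ⟶ W := fun k =>
      if k = i then pullback.snd (s k) (a ≫ s i) ≫ f else pullback.snd (s k) (a ≫ s i) ≫ g
    let d : V ⟶ W := Cofan.IsColimit.desc hV x
    have hdi : pullback.snd (s i) (a ≫ s i) ≫ d = pullback.snd (s i) (a ≫ s i) ≫ f := by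
      have := Cofan.IsColimit.fac hV x i
      simpa [x] using this
    have hdj : pullback.snd (s j) (a ≫ s i) ≫ d = pullback.snd (s j) (a ≫ s i) ≫ g := by
      have := Cofan.IsColimit.fac hV x j
      simpa [x, Ne.symm hij] using this
    have e1 : d = f := by
      have := congrArg (fun k => σi ≫ k) hdi
      simpa only [← Category.assoc, hσi, Category.id_comp] using this
    have e2 : d = g := by
      have := congrArg (fun k => σj ≫ k) hdj
      simpa only [← Category.assoc, hσj, Category.id_comp] using this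
    rw [← e1, e2]
  intro t' _
  exact key _ _

lemma bot_mem_of_disjoint (hcol : IsColimit (Cofan.mk X s)) [hdisj : CoproductDisjoint Y]
    (huniv : IsUniversalColimit (Cofan.mk X s)) {i j : ι} (hij : i ≠ j) {V : C}
    (a : V ⟶ Y i) (b : V ⟶ Y j) (hab : a ≫ s i = b ≫ s j) : ⊥ ∈ Jc C V := by
  apply Sheaf.mem_finestTopology_of_forall_isSheafFor
  rintro P ⟨W, rfl⟩ V' g
  rw [Sieve.pullback_bot]
  intro x _
  obtain ⟨t, -, ht⟩ := existsUnique_hom_of_disjoint hcol huniv hij (g ≫ a) (g ≫ b)
    (by simp [hab]) W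
  refine ⟨t, ?_, fun t' _ => ht t' trivial⟩
  intro Z f hf
  exact hf.elim

theorem isColimit_cofan_yoneda_iff :
    Nonempty (IsColimit (Cofan.mk ((Jc C).yoneda.obj X) (fun i => (Jc C).yoneda.map (s i)))) ↔
      (Nonempty (IsColimit (Cofan.mk X s)) ∧ CoproductDisjoint Y ∧
        IsUniversalColimit (Cofan.mk X s)) := by
  constructor
  · rintro ⟨h⟩
    have hcol : IsColimit (Cofan.mk X s) := isColimitOfIsColimitCofanMkObj (Jc C).yoneda Y s h
    have hmap : IsColimit ((Jc C).yoneda.mapCocone (Cofan.mk X s)) :=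
      (isColimitMapCoconeCofanMkEquiv (Jc C).yoneda Y s).symm h
    obtain ⟨-, -, hdisj, -⟩ := TF.hasDisjointUniversalCoproducts (Jc C) ι
      (fun i => (Jc C).yoneda.obj (Y i))
    refine ⟨⟨hcol⟩, ?_, ?_⟩
    · haveI : ∀ i, Mono ((Cofan.mk X s).inj i) := by
        intro i
        have h1 : Mono ((Cofan.mk ((Jc C).yoneda.obj X)
            (fun i => (Jc C).yoneda.map (s i))).inj i) := hdisj.mono_inj h i
        have h2 : Mono ((Jc C).yoneda.map (s i)) := h1
        exact (Jc C).yoneda.mono_of_mono_map h2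
      refine CoproductDisjoint.of_cofan hcol (fun {i j} _ => pullback.cone (s i) (s j))
        (fun {i j} _ => pullback.isLimit (s i) (s j)) (fun {i j} hij => ?_)
      have sq : IsPullback ((Jc C).yoneda.map (pullback.fst (s i) (s j)))
          ((Jc C).yoneda.map (pullback.snd (s i) (s j)))
          ((Jc C).yoneda.map (s i)) ((Jc C).yoneda.map (s j)) :=
        (IsPullback.of_hasPullback (s i) (s j)).map (Jc C).yoneda
      exact IsInitial.isInitialOfObj (Jc C).yoneda _
        (hdisj.nonempty_isInitial_of_ne h hij sq.cone sq.isLimit).some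
    · exact IsUniversalColimit.of_mapCocone (Jc C).yoneda
        (isUniversalColimit_of_discrete (Jc C) _ hmap)
  · rintro ⟨⟨hcol⟩, hdisj, huniv⟩
    have : ∀ i, Mono ((Cofan.mk X s).inj i) := fun i => hdisj.mono_inj hcol i
    have h1 : Sieve.ofArrows Y s ∈ Jc C X := ofArrows_mem huniv
    have h2 : ∀ {i j : ι} (_ : i ≠ j) {V : C} (a : V ⟶ Y i) (b : V ⟶ Y j),
        a ≫ s i = b ≫ s j → ⊥ ∈ Jc C V :=
      fun hij V a b hab => bot_mem_of_disjoint hcol huniv hij a b hab
    exact ⟨isColimitCofanMkYoneda' (Jc C) Y (c := Cofan.mk X s) h1 h2⟩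

theorem isColimit_cofan_sheafify_iff :
    Nonempty (IsColimit (Cofan.mk
        ((presheafToSheaf (Jc C) (Type u)).obj (yoneda.obj X))
        (fun i => (presheafToSheaf (Jc C) (Type u)).map (yoneda.map (s i))))) ↔
      (Nonempty (IsColimit (Cofan.mk X s)) ∧ CoproductDisjoint Y ∧
        IsUniversalColimit (Cofan.mk X s)) := by
  rw [← isColimit_cofan_yoneda_iff]
  constructor
  · rintro ⟨h⟩
    have h1 : IsColimit ((yoneda ⋙ presheafToSheaf (Jc C) (Type u)).mapCocone (Cofan.mk X s)) :=
      (isColimitMapCoconeCofanMkEquiv (yoneda ⋙ presheafToSheaf (Jc C) (Type u)) Y s).symm h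
    exact ⟨isColimitMapCoconeCofanMkEquiv (Jc C).yoneda Y s (IsColimit.mapCoconeEquiv epsIso h1)⟩
  · rintro ⟨h⟩
    have h1 : IsColimit ((Jc C).yoneda.mapCocone (Cofan.mk X s)) :=
      (isColimitMapCoconeCofanMkEquiv (Jc C).yoneda Y s).symm h
    exact ⟨isColimitMapCoconeCofanMkEquiv (yoneda ⋙ presheafToSheaf (Jc C) (Type u)) Y s
      (IsColimit.mapCoconeEquiv epsIso.symm h1)⟩

end Family

end Groth.Agent.Lib.helper23.Can
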