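import Mathlib
import Groth.Prelude.Def_SGA4a
import Groth.Agent.Lib.helper23.SC2
import Groth.Agent.Lib.helper23.TF1

/-!
# Open subobjects of the final sheaf and their closed complements (helper23)
-/

set_option autoImplicit false
open CategoryTheory CategoryTheory.Limits Opposite
universe u

namespace Groth.Agent.Lib.helper23.OC

open Groth.Agent.Lib.helper23.SC

variable {C : Type u} [SmallCategory C] (J : GrothendieckTopology C)

/-- A class of objects stable under precomposition. -/
structure ObjSieve (C : Type u) [SmallCategory C] where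
  p : C → Prop
  down : ∀ {V W : C} (_ : W ⟶ V), p V → p W

variable (p : ObjSieve C)

/-- The sieve of the arrows whose source lies in the class. -/
def SU (V : C) : Sieve V where
  arrows W _ := p.p W
  downward_closed := fun hf g => p.down g hf

lemma SU_apply {V W : C} (f : W ⟶ V) : SU p V f ↔ p.p W := Iff.rfl

lemma pullback_sup_SU {V W : C} (S : Sieve V) (f : W ⟶ V) :
    (S ⊔ SU p V).pullback f = S.pullback f ⊔ SU p W := by
  ext T g
  simp only [Sieve.pullback_apply, Sieve.union_apply, SU_apply]

/-- The topology whose sheaves are the sheaves "supported away from the class". -/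
def closedTop : GrothendieckTopology C where
  sieves V := {S | S ⊔ SU p V ∈ J V}
  top_mem' V := by
    show (⊤ : Sieve V) ⊔ SU p V ∈ J V
    rw [top_sup_eq]
    exact J.top_mem V
  pullback_stable' V W S f hS := by
    show S.pullback f ⊔ SU p W ∈ J W
    rw [← pullback_sup_SU]
    exact J.pullback_stable f hS
  transitive' V S hS R hR := by
    show R ⊔ SU p V ∈ J V
    refine J.transitive hS _ ?_
    intro W f hf
    rw [pullback_sup_SU]
    rcases hf with hf | hf
    · exact hR hf
    · have : R.pullback f ⊔ SU p W = ⊤ := by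
        rw [← Sieve.id_mem_iff_eq_top]
        exact Or.inr hf
      rw [this]
      exact J.top_mem W

lemma mem_closedTop {V : C} (S : Sieve V) : S ∈ closedTop J p V ↔ S ⊔ SU p V ∈ J V := Iff.rfl

lemma le_closedTop : J ≤ closedTop J p := by
  intro V S hS
  exact J.superset_covering le_sup_left hS

lemma bot_mem_closedTop {V : C} (hV : p.p V) : ⊥ ∈ closedTop J p V := by
  show ⊥ ⊔ SU p V ∈ J V
  have : (⊥ : Sieve V) ⊔ SU p V = ⊤ := by
    rw [← Sieve.id_mem_iff_eq_top]
    exact Or.inr hV
  rw [this]
  exact J.top_mem V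

/-- A presheaf is "closed" if its sections over the objects of the class are singletons. -/
def IsClosedPsh (F : Cᵒᵖ ⥤ Type u) : Prop :=
  ∀ V : C, p.p V → ∃ x : F.obj (op V), ∀ y, y = x

lemma isClosedPsh_of_isSheaf_closedTop {F : Cᵒᵖ ⥤ Type u}
    (hF : Presieve.IsSheaf (closedTop J p) F) : IsClosedPsh p F := by
  intro V hV
  have h := hF ⊥ (bot_mem_closedTop J p hV)
  let x : Presieve.FamilyOfElements F (⊥ : Sieve V).arrows := fun W f hf => hf.elim
  have hx : x.Compatible := fun W₁ W₂ Z g₁ g₂ f₁ f₂ h₁ => h₁.elim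
  obtain ⟨t, -, ht⟩ := h x hx
  exact ⟨t, fun y => ht y (fun W f hf => hf.elim)⟩

lemma isSheaf_closedTop_of_isClosedPsh {F : Cᵒᵖ ⥤ Type u} (hF : Presieve.IsSheaf J F)
    (hc : IsClosedPsh p F) : Presieve.IsSheaf (closedTop J p) F := by
  classical
  intro V S hS
  have hS' : S ⊔ SU p V ∈ J V := hS
  have hsub : ∀ {W : C}, p.p W → ∀ a b : F.obj (op W), a = b := by
    intro W hW a b
    obtain ⟨x, hx⟩ := hc W hW
    rw [hx a, hx b]
  rw [← Presieve.isSeparatedFor_and_exists_isAmalgamation_iff_isSheafFor]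
  constructor
  · intro x t₁ t₂ h₁ h₂
    refine (hF.isSeparated _ hS').ext ?_
    rintro W f (hf | hf)
    · exact (h₁ f hf).trans (h₂ f hf).symm
    · exact hsub hf _ _
  · intro x hx
    rw [Presieve.compatible_iff_sieveCompatible] at hx
    let x' : Presieve.FamilyOfElements F (S ⊔ SU p V).arrows := fun W f _ =>
      if h : S f then x f h else (hc W (by
        rcases ‹(S ⊔ SU p V).arrows f› with h' | h'
        · exact (h h').elim
        · exact h')).choose
    have hx' : x'.Compatible := by
      rw [Presieve.compatible_iff_sieveCompatible]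
      intro W W' f g hf
      by_cases h : S f
      · have hgf : S (g ≫ f) := S.downward_closed h g
        show x' (g ≫ f) ((S ⊔ SU p V).downward_closed hf g) = F.map g.op (x' f hf)
        simp only [x', dif_pos h, dif_pos hgf]
        exact hx f g h
      · have hW : p.p W := by
          rcases hf with h' | h'
          · exact (h h').elim
          · exact h'
        exact hsub (p.down g hW) _ _
    obtain ⟨t, ht, -⟩ := hF _ hS' x' hx'
    refine ⟨t, ?_⟩
    intro W f hf
    rw [ht f (Or.inl hf)]
    simp only [x', dif_pos hf]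

/-- Sections of the final sheaf are unique. -/
lemma terminal_sec_subsingleton (V : Cᵒᵖ) (a b : (⊤_ (Sheaf J (Type u))).obj.obj V) : a = b := by
  have h : IsTerminal ((sheafToPresheaf J (Type u) ⋙ (evaluation Cᵒᵖ (Type u)).obj V).obj
      (⊤_ (Sheaf J (Type u)))) :=
    IsTerminal.isTerminalObj _ _ terminalIsTerminal
  have hu : Unique ((⊤_ (Sheaf J (Type u))).obj.obj V) := (Types.isTerminalEquivUnique _).1 h
  exact (hu.uniq a).trans (hu.uniq b).symm

lemma prod_sec_exists (A B : Sheaf J (Type u)) (V : Cᵒᵖ) (a : A.obj.obj V) (b : B.obj.obj V) :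
    ∃ z : (A ⨯ B).obj.obj V, sec (prod.fst : A ⨯ B ⟶ A) V z = a ∧
      sec (prod.snd : A ⨯ B ⟶ B) V z = b :=
  exists_section_of_isPullback (IsPullback.of_hasBinaryProduct' A B) V a b
    (terminal_sec_subsingleton J V _ _)

variable (U : Sheaf J (Type u))

/-- The objects over which the sheaf `U` has a section. -/
def objSieveOf : ObjSieve C where
  p V := Nonempty (U.obj.obj (op V))
  down f := fun ⟨x⟩ => ⟨U.obj.map f.op x⟩

variable {J U}

lemma U_sec_subsingleton (hU : Mono (terminal.from U)) (V : Cᵒᵖ) (a b : U.obj.obj V) : a = b :=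
  (mono_iff_injective_sec (terminal.from U)).1 hU V (terminal_sec_subsingleton J V _ _)

lemma closedCompl_iff (X : Sheaf J (Type u)) :
    SGA4.closedCompl U X ↔ IsClosedPsh (objSieveOf J U) X.obj := by
  constructor
  · intro (h : IsIso (prod.fst : U ⨯ X ⟶ U)) V ⟨u⟩
    have hb := bijective_sections_of_isIso (prod.fst : U ⨯ X ⟶ U) (op V)
    obtain ⟨z, hz⟩ := hb.2 u
    refine ⟨sec (prod.snd : U ⨯ X ⟶ X) (op V) z, fun y => ?_⟩
    obtain ⟨zy, hzy1, hzy2⟩ := prod_sec_exists J U X (op V) u y
    have : zy = z := hb.1 (hzy1.trans hz.symm)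
    rw [← hzy2, this]
  · intro h
    show IsIso (prod.fst : U ⨯ X ⟶ U)
    apply isIso_of_bijective_sections
    intro V
    constructor
    · intro z z' hzz
      apply prod_sec_ext
      · exact hzz
      · obtain ⟨x, hx⟩ := h V.unop ⟨sec (prod.fst : U ⨯ X ⟶ U) V z⟩
        exact (hx _).trans (hx _).symm
    · intro a
      obtain ⟨x, -⟩ := h V.unop ⟨a⟩
      obtain ⟨z, hz, -⟩ := prod_sec_exists J U X V a x
      exact ⟨z, hz⟩

variable (J U)

/-- The topology of the closed complement of `U`. -/
abbrev Jcl : GrothendieckTopology C := closedTop J (objSieveOf J U)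

lemma isSheaf_of_isSheaf_Jcl {F : Cᵒᵖ ⥤ Type u} (hF : Presheaf.IsSheaf (Jcl J U) F) :
    Presheaf.IsSheaf J F :=
  Presheaf.IsSheaf.of_le (le_closedTop J (objSieveOf J U)) hF

lemma closedCompl_of_isSheaf_Jcl (X : Sheaf J (Type u)) (hX : Presheaf.IsSheaf (Jcl J U) X.obj) :
    SGA4.closedCompl U X :=
  (closedCompl_iff X).2 (isClosedPsh_of_isSheaf_closedTop J _
    ((isSheaf_iff_isSheaf_of_type _ _).1 hX))

lemma isSheaf_Jcl_of_closedCompl (X : Sheaf J (Type u)) (hX : SGA4.closedCompl U X) :
    Presheaf.IsSheaf (Jcl J U) X.obj :=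
  (isSheaf_iff_isSheaf_of_type _ _).2 (isSheaf_closedTop_of_isClosedPsh J _
    ((isSheaf_iff_isSheaf_of_type _ _).1 X.property) ((closedCompl_iff X).1 hX))

/-- The underlying presheaf functor of the reflector. -/
noncomputable abbrev G₀ : Sheaf J (Type u) ⥤ (Cᵒᵖ ⥤ Type u) :=
  sheafToPresheaf J (Type u) ⋙ presheafToSheaf (Jcl J U) (Type u) ⋙
    sheafToPresheaf (Jcl J U) (Type u)

lemma G₀_isSheaf_Jcl (X : Sheaf J (Type u)) : Presheaf.IsSheaf (Jcl J U) ((G₀ J U).obj X) :=
  ((presheafToSheaf (Jcl J U) (Type u)).obj X.obj).property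

/-- The reflector, as a functor to sheaves. -/
noncomputable def G₁ : Sheaf J (Type u) ⥤ Sheaf J (Type u) :=
  ObjectProperty.lift _ (G₀ J U) (fun X => isSheaf_of_isSheaf_Jcl J U (G₀_isSheaf_Jcl J U X))

/-- The reflector onto the closed complement. -/
noncomputable def Lfun : Sheaf J (Type u) ⥤ (SGA4.closedCompl U).FullSubcategory :=
  ObjectProperty.lift _ (G₁ J U)
    (fun X => closedCompl_of_isSheaf_Jcl J U _ (G₀_isSheaf_Jcl J U X))

/-- The unit of the reflection. -/
noncomputable def ηL (X : Sheaf J (Type u)) : X ⟶ (G₁ J U).obj X :=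
  ObjectProperty.homMk (toSheafify (Jcl J U) X.obj)

/-- Descent of a morphism to a closed sheaf along the unit. -/
noncomputable def descL {X : Sheaf J (Type u)} (Z : (SGA4.closedCompl U).FullSubcategory)
    (g : X ⟶ Z.obj) : (G₁ J U).obj X ⟶ Z.obj :=
  ObjectProperty.homMk (sheafifyLift (Jcl J U) g.hom (isSheaf_Jcl_of_closedCompl J U Z.obj Z.property))

lemma ηL_descL {X : Sheaf J (Type u)} (Z : (SGA4.closedCompl U).FullSubcategory)
    (g : X ⟶ Z.obj) : ηL J U X ≫ descL J U Z g = g := by
  apply Sheaf.hom_ext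
  exact toSheafify_sheafifyLift (Jcl J U) g.hom _

lemma descL_unique {X : Sheaf J (Type u)} (Z : (SGA4.closedCompl U).FullSubcategory)
    (g : X ⟶ Z.obj) (k : (G₁ J U).obj X ⟶ Z.obj) (hk : ηL J U X ≫ k = g) :
    k = descL J U Z g := by
  apply Sheaf.hom_ext
  refine sheafifyLift_unique (Jcl J U) g.hom _ k.hom ?_
  exact congrArg (fun (t : X ⟶ Z.obj) => t.hom) hk

lemma ηL_naturality {X X' : Sheaf J (Type u)} (f : X ⟶ X') :
    ηL J U X ≫ (G₁ J U).map f = f ≫ ηL J U X' := by
  apply Sheaf.hom_ext
  exact (toSheafify_naturality (Jcl J U) f.hom).symm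

/-- The adjunction between the reflector and the inclusion of the closed complement. -/
noncomputable def adjL : Lfun J U ⊣ (SGA4.closedCompl U).ι :=
  Adjunction.mkOfHomEquiv
    { homEquiv := fun X Z =>
        { toFun := fun f => ηL J U X ≫ f.hom
          invFun := fun g => ObjectProperty.homMk (descL J U Z g)
          left_inv := fun f => by
            apply ObjectProperty.hom_ext
            exact (descL_unique J U Z _ f.hom rfl).symm
          right_inv := fun g => ηL_descL J U Z g }
      homEquiv_naturality_left_symm := by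
        intro X' X Z f g
        apply ObjectProperty.hom_ext
        symm
        refine descL_unique J U Z _ _ ?_
        show ηL J U X' ≫ (G₁ J U).map f ≫ descL J U Z g = f ≫ g
        rw [← Category.assoc, ηL_naturality, Category.assoc, ηL_descL]
      homEquiv_naturality_right := by
        intro X Z Z' f g
        show ηL J U X ≫ f.hom ≫ g.hom = (ηL J U X ≫ f.hom) ≫ g.hom
        rw [Category.assoc] }

instance preservesFiniteLimits_Lfun : PreservesFiniteLimits (Lfun J U) := by
  have h1 : PreservesFiniteLimits (Lfun J U ⋙ ((SGA4.closedCompl U).ι ⋙ sheafToPresheaf J (Type u))) :=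
    inferInstanceAs (PreservesFiniteLimits (G₀ J U))
  constructor
  intro K _ _
  exact preservesLimitsOfShape_of_reflects_of_preserves (Lfun J U)
    ((SGA4.closedCompl U).ι ⋙ sheafToPresheaf J (Type u))

variable {J U}

/-- Morphisms to a closed sheaf from an object over `U` are unique. -/
lemma hom_closed_ext {A Z : Sheaf J (Type u)} (hZ : SGA4.closedCompl U Z) (a : A ⟶ U)
    (f g : A ⟶ Z) : f = g := by
  have : IsIso (prod.fst : U ⨯ Z ⟶ U) := hZ
  have h : prod.lift a f = prod.lift a g := by
    rw [← cancel_mono (prod.fst : U ⨯ Z ⟶ U), prod.lift_fst, prod.lift_fst]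
  have := congrArg (fun k => k ≫ (prod.snd : U ⨯ Z ⟶ Z)) h
  simp only [prod.lift_snd] at this
  exact this

/-- The morphism from `U` to a closed sheaf. -/
noncomputable def fromU {Z : Sheaf J (Type u)} (hZ : SGA4.closedCompl U Z) : U ⟶ Z :=
  have : IsIso (prod.fst : U ⨯ Z ⟶ U) := hZ
  inv (prod.fst : U ⨯ Z ⟶ U) ≫ prod.snd

/-- A morphism `η : X ⟶ Q` exhibits `Q` as a "closed reflection" of `X` (sectionwise form). -/
structure IsClosedRefl {X Q : Sheaf J (Type u)} (η : X ⟶ Q) : Prop where
  closed : IsClosedPsh (objSieveOf J U) Q.obj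
  inj : ∀ (V : C) (z z' : X.obj.obj (op V)), sec η (op V) z = sec η (op V) z' →
    Presheaf.equalizerSieve (F := X.obj) z z' ∈ Jcl J U V
  surj : ∀ (V : C) (q : Q.obj.obj (op V)), liftS η q ∈ Jcl J U V

variable (J U) in
lemma isClosedRefl_ηL (X : Sheaf J (Type u)) : IsClosedRefl (U := U) (ηL J U X) where
  closed := isClosedPsh_of_isSheaf_closedTop J _
    ((isSheaf_iff_isSheaf_of_type _ _).1 (G₀_isSheaf_Jcl J U X))
  inj _ z z' h := Presheaf.equalizerSieve_mem (Jcl J U) (toSheafify (Jcl J U) X.obj) z z' h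
  surj _ q := Presheaf.imageSieve_mem (Jcl J U) (toSheafify (Jcl J U) X.obj) q

lemma closed_sub {Q : Sheaf J (Type u)} (hQ : IsClosedPsh (objSieveOf J U) Q.obj) {W : C}
    (hW : (objSieveOf J U).p W) (a b : Q.obj.obj (op W)) : a = b := by
  obtain ⟨x, hx⟩ := hQ W hW
  rw [hx a, hx b]

section Cart

variable {X X' Q Q' : Sheaf J (Type u)} {η : X ⟶ Q} {η' : X' ⟶ Q'} {m : X ⟶ X'} {k : Q ⟶ Q'}

lemma cart_inj (hη : IsClosedRefl (U := U) η)
    (hm : ∀ V : C, (objSieveOf J U).p V → Function.Injective (sec m (op V)))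
    (V : C) (z z' : X.obj.obj (op V)) (h1 : sec m (op V) z = sec m (op V) z')
    (h2 : sec η (op V) z = sec η (op V) z') : z = z' := by
  have hE := hη.inj V z z' h2
  refine ((presieve_isSheaf X).isSeparated _ hE).ext ?_
  rintro W f (hf | hf)
  · exact hf
  · apply hm W hf
    rw [sec_map, sec_map, h1]

lemma isPullback_of_bijective (hη : IsClosedRefl (U := U) η) (hη' : IsClosedRefl (U := U) η')
    (w : m ≫ η' = η ≫ k)
    (hm : ∀ V : C, (objSieveOf J U).p V → Function.Bijective (sec m (op V))) :
    IsPullback m η η' k := by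
  have hinj := cart_inj hη (fun V hV => (hm V hV).1)
  refine isPullback_of_sections w (fun V z z' h1 h2 => hinj V.unop z z' h1 h2) ?_
  intro V x' q hxq
  obtain ⟨V⟩ := V
  -- the sieve of good arrows
  let Good : Sieve V :=
    { arrows := fun W h => ∃ z : X.obj.obj (op W),
        sec m (op W) z = X'.obj.map h.op x' ∧ sec η (op W) z = Q.obj.map h.op q
      downward_closed := by
        rintro W W' h ⟨z, hz1, hz2⟩ g
        refine ⟨X.obj.map g.op z, ?_, ?_⟩
        · rw [sec_map, hz1, op_comp, Functor.map_comp_apply]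
        · rw [sec_map, hz2, op_comp, Functor.map_comp_apply] }
  have hSU : SU (objSieveOf J U) V ≤ Good := by
    intro W h hW
    obtain ⟨z, hz⟩ := (hm W hW).2 (X'.obj.map h.op x')
    exact ⟨z, hz, closed_sub hη.closed hW _ _⟩
  have hGood' : Good ∈ Jcl J U V := by
    refine (Jcl J U).transitive (hη.surj V q) Good ?_
    rintro W f ⟨zf, hzf'⟩
    have hzf : sec η (op W) zf = Q.obj.map f.op q := hzf'
    have h1 : sec η' (op W) (sec m (op W) zf) = sec η' (op W) (X'.obj.map f.op x') := by
      rw [← sec_comp, w, sec_comp, hzf, sec_map, sec_map, hxq]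
    refine (Jcl J U).superset_covering ?_ (hη'.inj W _ _ h1)
    intro W' g hg
    refine ⟨X.obj.map g.op zf, ?_, ?_⟩
    · rw [sec_map]
      have : X'.obj.map g.op (sec m (op W) zf) = X'.obj.map g.op (X'.obj.map f.op x') := hg
      rw [this, op_comp, Functor.map_comp_apply]
    · rw [sec_map, hzf, op_comp, Functor.map_comp_apply]
  have hGood : Good ∈ J V := by
    have h1 : Good ⊔ SU (objSieveOf J U) V ∈ J V := hGood'
    rwa [sup_eq_left.2 hSU] at h1
  -- the family of local solutions
  let zz : Presieve.FamilyOfElements X.obj Good.arrows := fun W h hh => hh.choose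
  have hzz : ∀ {W : C} (h : W ⟶ V) (hh : Good h), sec m (op W) (zz h hh) = X'.obj.map h.op x' ∧
      sec η (op W) (zz h hh) = Q.obj.map h.op q := fun h hh => hh.choose_spec
  have hcomp : zz.Compatible := by
    rw [Presieve.compatible_iff_sieveCompatible]
    intro W W' h g hh
    apply hinj
    · rw [(hzz _ _).1, sec_map, (hzz h hh).1, op_comp, Functor.map_comp_apply]
    · rw [(hzz _ _).2, sec_map, (hzz h hh).2, op_comp, Functor.map_comp_apply]
  obtain ⟨z, hz, -⟩ := presieve_isSheaf X _ hGood zz hcomp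
  refine ⟨z, ?_, ?_⟩
  · refine ((presieve_isSheaf X').isSeparated _ hGood).ext ?_
    intro W h hh
    rw [← sec_map, hz h hh, (hzz h hh).1]
  · refine ((presieve_isSheaf Q).isSeparated _ hGood).ext ?_
    intro W h hh
    rw [← sec_map, hz h hh, (hzz h hh).2]

lemma bijective_of_isPullback (hη : IsClosedRefl (U := U) η) (hη' : IsClosedRefl (U := U) η')
    (sq : IsPullback m η η' k) (V : C) (hV : (objSieveOf J U).p V) :
    Function.Bijective (sec m (op V)) := by
  constructor
  · intro z z' h
    exact section_ext_of_isPullback sq (op V) z z' h (closed_sub hη.closed hV _ _)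
  · intro x'
    obtain ⟨q, -⟩ := hη.closed V hV
    obtain ⟨z, hz, -⟩ := exists_section_of_isPullback sq (op V) x' q
      (closed_sub hη'.closed hV _ _)
    exact ⟨z, hz⟩

end Cart

end Groth.Agent.Lib.helper23.OC
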