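import Mathlib
import Groth.Prelude.Def_SGA4a
import Groth.Agent.Lib.helper23.SC15

/-!
# Open subobjects of the final sheaf and their closed complements, II (helper23)
-/

set_option autoImplicit false
open CategoryTheory CategoryTheory.Limits Opposite
universe u

namespace Groth.Agent.Lib.helper23.OC

open Groth.Agent.Lib.helper23.SC

variable {C : Type u} [SmallCategory C] {J : GrothendieckTopology C} {U : Sheaf J (Type u)}

lemma isIso_prod_map_iff (hU : Mono (terminal.from U)) {X X' : Sheaf J (Type u)} (m : X ⟶ X') :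
    IsIso (prod.map (𝟙 U) m) ↔
      ∀ V : C, (objSieveOf J U).p V → Function.Bijective (sec m (op V)) := by
  have hfst : ∀ (V : Cᵒᵖ) (w : (U ⨯ X).obj.obj V),
      sec (prod.fst : U ⨯ X' ⟶ U) V (sec (prod.map (𝟙 U) m) V w) =
        sec (prod.fst : U ⨯ X ⟶ U) V w := by
    intro V w
    rw [← sec_comp, prod.map_fst, Category.comp_id]
  have hsnd : ∀ (V : Cᵒᵖ) (w : (U ⨯ X).obj.obj V),
      sec (prod.snd : U ⨯ X' ⟶ X') V (sec (prod.map (𝟙 U) m) V w) =
        sec m V (sec (prod.snd : U ⨯ X ⟶ X) V w) := by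
    intro V w
    rw [← sec_comp, prod.map_snd, sec_comp]
  constructor
  · intro h V ⟨u⟩
    have hb := bijective_sections_of_isIso (prod.map (𝟙 U) m) (op V)
    constructor
    · intro z z' hzz
      obtain ⟨w, hw1, hw2⟩ := prod_sec_exists J U X (op V) u z
      obtain ⟨w', hw1', hw2'⟩ := prod_sec_exists J U X (op V) u z'
      have : w = w' := by
        apply hb.1
        apply prod_sec_ext
        · rw [hfst, hfst, hw1, hw1']
        · rw [hsnd, hsnd, hw2, hw2', hzz]
      rw [← hw2, ← hw2', this]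
    · intro x'
      obtain ⟨y, hy1, hy2⟩ := prod_sec_exists J U X' (op V) u x'
      obtain ⟨w, hw⟩ := hb.2 y
      refine ⟨sec (prod.snd : U ⨯ X ⟶ X) (op V) w, ?_⟩
      rw [← hsnd, hw, hy2]
  · intro h
    apply isIso_of_bijective_sections
    intro V
    constructor
    · intro w w' hww
      have hV : (objSieveOf J U).p V.unop := ⟨sec (prod.fst : U ⨯ X ⟶ U) V w⟩
      apply prod_sec_ext
      · exact U_sec_subsingleton hU V _ _
      · apply (h V.unop hV).1
        show sec m V _ = sec m V _
        rw [← hsnd, ← hsnd, hww]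
    · intro y
      have hV : (objSieveOf J U).p V.unop := ⟨sec (prod.fst : U ⨯ X' ⟶ U) V y⟩
      obtain ⟨z, hz⟩ := (h V.unop hV).2 (sec (prod.snd : U ⨯ X' ⟶ X') V y)
      obtain ⟨w, hw1, hw2⟩ := prod_sec_exists J U X V (sec (prod.fst : U ⨯ X' ⟶ U) V y) z
      refine ⟨w, ?_⟩
      apply prod_sec_ext
      · rw [hfst, hw1]
      · rw [hsnd, hw2]
        exact hz

/-- The cartesian-square criterion for closed reflections. -/
theorem isPullback_iff_isIso_prod_map (hU : Mono (terminal.from U))
    {X X' Q Q' : Sheaf J (Type u)} {η : X ⟶ Q} {η' : X' ⟶ Q'} {m : X ⟶ X'} {k : Q ⟶ Q'}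
    (hη : IsClosedRefl (U := U) η) (hη' : IsClosedRefl (U := U) η') (w : m ≫ η' = η ≫ k) :
    IsPullback m η η' k ↔ IsIso (prod.map (𝟙 U) m) := by
  rw [isIso_prod_map_iff hU]
  exact ⟨fun sq V hV => bijective_of_isPullback hη hη' sq V hV,
    fun h => isPullback_of_bijective hη hη' w h⟩

/-- The open and closed parts are jointly conservative. -/
theorem isIso_iff_open_closed (hU : Mono (terminal.from U))
    (L : Sheaf J (Type u) ⥤ (SGA4.closedCompl U).FullSubcategory)
    (adj : L ⊣ (SGA4.closedCompl U).ι) {X Y : Sheaf J (Type u)} (m : X ⟶ Y) :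
    IsIso m ↔ IsIso ((Over.star U).map m) ∧ IsIso (L.map m) := by
  constructor
  · intro h
    exact ⟨inferInstance, inferInstance⟩
  · rintro ⟨h1, h2⟩
    have h1' : IsIso (prod.map (𝟙 U) m) := by
      rw [← Over.star_map_left]
      exact inferInstanceAs (IsIso ((Over.forget U).map ((Over.star U).map m)))
    have h2' : IsIso ((Lfun J U).map m) :=
      (NatIso.isIso_map_iff (adj.leftAdjointUniq (adjL J U)) m).1 h2
    have h2'' : IsIso ((G₁ J U).map m) :=
      inferInstanceAs (IsIso ((SGA4.closedCompl U).ι.map ((Lfun J U).map m)))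
    have sq : IsPullback m (ηL J U X) (ηL J U Y) ((G₁ J U).map m) :=
      (isPullback_iff_isIso_prod_map hU (isClosedRefl_ηL J U X) (isClosedRefl_ηL J U Y)
        (ηL_naturality J U m).symm).2 h1'
    exact sq.isIso_fst_of_isIso

section Pushout

variable (U) (X : Sheaf J (Type u))

/-- The pushout `U ⨿_{U × X} X`. -/
noncomputable abbrev PX : Sheaf J (Type u) :=
  pushout (prod.fst : U ⨯ X ⟶ U) (prod.snd : U ⨯ X ⟶ X)

noncomputable abbrev inlX : U ⟶ PX U X := pushout.inl _ _

noncomputable abbrev inrX : X ⟶ PX U X := pushout.inr _ _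

/-- The two-member family covering the pushout. -/
abbrev famF : Bool → Sheaf J (Type u) := fun b => Bool.rec X U b

noncomputable abbrev famπ : ∀ b, famF U X b ⟶ PX U X := fun b =>
  match b with
  | false => inrX U X
  | true => inlX U X

lemma jepi_fam : TF.JEpi (famπ U X) := fun _ _ _ h => pushout.hom_ext (h true) (h false)

lemma inr_eq_inl (W : Cᵒᵖ) (u : U.obj.obj W) (x : X.obj.obj W) :
    sec (inrX U X) W x = sec (inlX U X) W u := by
  obtain ⟨w, hw1, hw2⟩ := prod_sec_exists J U X W u x
  rw [← hw1, ← hw2, ← sec_comp, ← sec_comp, pushout.condition]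

variable {U}

lemma closed_PX (hU : Mono (terminal.from U)) : IsClosedPsh (objSieveOf J U) (PX U X).obj := by
  rintro V ⟨u⟩
  refine ⟨sec (inlX U X) (op V) u, fun q => ?_⟩
  refine ((presieve_isSheaf (PX U X)).isSeparated _
    (TF.liftSieve_mem_of_jepi (famπ U X) (jepi_fam U X) V q)).ext ?_
  rintro W v ⟨b, t, ht⟩
  rw [← sec_map]
  cases b with
  | false =>
    have ht' : sec (inrX U X) (op W) t = (PX U X).obj.map v.op q := ht
    rw [← ht']
    exact inr_eq_inl U X (op W) _ t
  | true =>
    have ht' : sec (inlX U X) (op W) t = (PX U X).obj.map v.op q := ht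
    rw [← ht']
    exact congrArg _ (U_sec_subsingleton hU _ _ _)

lemma closedCompl_PX (hU : Mono (terminal.from U)) : SGA4.closedCompl U (PX U X) :=
  (closedCompl_iff (PX U X)).2 (closed_PX X hU)

lemma closedCompl_G₁ : SGA4.closedCompl U ((G₁ J U).obj X) := ((Lfun J U).obj X).property

/-- The comparison from the pushout to the reflection. -/
noncomputable def φP : PX U X ⟶ (G₁ J U).obj X :=
  pushout.desc (fromU (closedCompl_G₁ X)) (ηL J U X)
    (hom_closed_ext (closedCompl_G₁ X) prod.fst _ _)

lemma inr_φP : inrX U X ≫ φP X = ηL J U X := pushout.inr_desc _ _ _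

lemma isClosedRefl_inr (hU : Mono (terminal.from U)) : IsClosedRefl (U := U) (inrX U X) where
  closed := closed_PX X hU
  inj V z z' h := by
    refine (isClosedRefl_ηL J U X).inj V z z' ?_
    rw [← inr_φP, sec_comp, sec_comp, h]
  surj V q := by
    show liftS (inrX U X) q ⊔ SU (objSieveOf J U) V ∈ J V
    refine J.superset_covering ?_ (TF.liftSieve_mem_of_jepi (famπ U X) (jepi_fam U X) V q)
    rintro W v ⟨b, t, ht⟩
    cases b with
    | false => exact Or.inl ⟨t, ht⟩
    | true => exact Or.inr ⟨t⟩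

/-- The reflection onto the closed complement is the pushout `U ⨿_{U × X} X`. -/
noncomputable def isoPX (hU : Mono (terminal.from U)) : (G₁ J U).obj X ≅ PX U X where
  hom := descL J U ⟨PX U X, closedCompl_PX X hU⟩ (inrX U X)
  inv := φP X
  hom_inv_id := by
    have h1 := descL_unique J U ((Lfun J U).obj X) (ηL J U X)
      (descL J U ⟨PX U X, closedCompl_PX X hU⟩ (inrX U X) ≫ φP X) (by
        rw [← Category.assoc, ηL_descL]
        exact inr_φP X)
    have h2 := descL_unique J U ((Lfun J U).obj X) (ηL J U X) (𝟙 _) (Category.comp_id _)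
    exact h1.trans h2.symm
  inv_hom_id := by
    apply pushout.hom_ext
    · exact hom_closed_ext (closedCompl_PX X hU) (𝟙 U) _ _
    · rw [← Category.assoc, inr_φP, Category.comp_id]
      exact ηL_descL J U ⟨PX U X, closedCompl_PX X hU⟩ (inrX U X)

end Pushout

/-- The closed complement is a left exact reflective subcategory, with reflector the pushout. -/
theorem closedCompl_lex_reflective (hU : Mono (terminal.from U)) :
    ∃ (L : Sheaf J (Type u) ⥤ (SGA4.closedCompl U).FullSubcategory)
      (_ : L ⊣ (SGA4.closedCompl U).ι),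
      PreservesFiniteLimits L ∧
      ∀ X : Sheaf J (Type u), Nonempty (((SGA4.closedCompl U).ι).obj (L.obj X) ≅
        pushout (prod.fst : U ⨯ X ⟶ U) (prod.snd : U ⨯ X ⟶ X)) :=
  ⟨Lfun J U, adjL J U, inferInstance, fun X => ⟨isoPX X hU⟩⟩

/-- The cartesian-square criterion for the pushouts `U ⨿_{U × X} X`. -/
theorem isPullback_toClosedPart_iff (hU : Mono (terminal.from U)) {X X' : Sheaf J (Type u)}
    (m : X ⟶ X') (k : PX U X ⟶ PX U X') (hk₂ : inrX U X ≫ k = m ≫ inrX U X') :
    IsPullback m (inrX U X) (inrX U X') k ↔ IsIso (prod.map (𝟙 U) m) :=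
  isPullback_iff_isIso_prod_map hU (isClosedRefl_inr X hU) (isClosedRefl_inr X' hU) hk₂.symm

end Groth.Agent.Lib.helper23.OC
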