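import Mathlib
import Groth.Prelude.Def_SGA4a
import Groth.Agent.Lib.helper23.SC16

/-!
# Gluing a sheaf topos from an open subtopos and its closed complement (helper23)
-/

set_option autoImplicit false
open CategoryTheory CategoryTheory.Limits Opposite
universe u

namespace Groth.Agent.Lib.helper23.OC

open Groth.Agent.Lib.helper23.SC

variable {C : Type u} [SmallCategory C] {J : GrothendieckTopology C} {U : Sheaf J (Type u)}

lemma forget_full (hU : Mono (terminal.from U)) : (Over.forget U).Full :=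
  ⟨fun {A B} f => ⟨Over.homMk f (by
    rw [← cancel_mono (terminal.from U)]
    exact Subsingleton.elim _ _), rfl⟩⟩

section Glue

variable [(Over.star U).IsLeftAdjoint]

variable (U) in
/-- The direct image of the open subtopos. -/
noncomputable abbrev jP : Over U ⥤ Sheaf J (Type u) := (Over.star U).rightAdjoint

variable (U) in
noncomputable abbrev adjJ : Over.star U ⊣ jP U := Adjunction.ofIsLeftAdjoint (Over.star U)

lemma isIso_counit_adjJ (hU : Mono (terminal.from U)) : IsIso (adjJ U).counit := by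
  haveI := forget_full hU
  let t : Adjunction.Triple (Over.forget U) (Over.star U) (jP U) := ⟨Over.forgetAdjStar U, adjJ U⟩
  exact t.isIso_unit_iff_isIso_counit.1 (inferInstanceAs (IsIso (Over.forgetAdjStar U).unit))

lemma isIso_star_map_unit (hU : Mono (terminal.from U)) (X : Sheaf J (Type u)) :
    IsIso ((Over.star U).map ((adjJ U).unit.app X)) := by
  haveI := isIso_counit_adjJ hU
  have : IsIso ((Over.star U).map ((adjJ U).unit.app X) ≫
      (adjJ U).counit.app ((Over.star U).obj X)) := by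
    have e := (adjJ U).left_triangle_components X
    rw [e]
    exact IsIso.id _
  exact IsIso.of_isIso_comp_right _ ((adjJ U).counit.app ((Over.star U).obj X))

/-- The fracture square. -/
lemma fracture (hU : Mono (terminal.from U)) (X : Sheaf J (Type u)) :
    IsPullback ((adjJ U).unit.app X) (ηL J U X) (ηL J U ((jP U).obj ((Over.star U).obj X)))
      ((G₁ J U).map ((adjJ U).unit.app X)) := by
  refine (isPullback_iff_isIso_prod_map hU (isClosedRefl_ηL J U X) (isClosedRefl_ηL J U _)
    (ηL_naturality J U _).symm).2 ?_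
  haveI := isIso_star_map_unit hU X
  rw [← Over.star_map_left]
  exact inferInstanceAs (IsIso ((Over.forget U).map ((Over.star U).map ((adjJ U).unit.app X))))

variable (J U) in
/-- The comparison functor to the glued category. -/
noncomputable def Φ : Sheaf J (Type u) ⥤
    Comma (𝟭 (SGA4.closedCompl U).FullSubcategory) (jP U ⋙ Lfun J U) where
  obj X :=
    { left := (Lfun J U).obj X
      right := (Over.star U).obj X
      hom := (Lfun J U).map ((adjJ U).unit.app X) }
  map {X X₁} f :=
    { left := (Lfun J U).map f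
      right := (Over.star U).map f
      w := by
        show (Lfun J U).map f ≫ (Lfun J U).map ((adjJ U).unit.app X₁) =
          (Lfun J U).map ((adjJ U).unit.app X) ≫
            (Lfun J U).map ((jP U).map ((Over.star U).map f))
        rw [← Functor.map_comp, ← Functor.map_comp]
        congr 1
        exact (adjJ U).unit.naturality f }
  map_id X := by
    apply Comma.hom_ext
    · exact (Lfun J U).map_id X
    · exact (Over.star U).map_id X
  map_comp f g := by
    apply Comma.hom_ext
    · exact (Lfun J U).map_comp f g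
    · exact (Over.star U).map_comp f g

lemma Φ_faithful (hU : Mono (terminal.from U)) : (Φ J U).Faithful := by
  refine ⟨fun {X X₁} f g h => ?_⟩
  have h1 : (Lfun J U).map f = (Lfun J U).map g := congrArg CommaMorphism.left h
  have h2 : (Over.star U).map f = (Over.star U).map g := congrArg CommaMorphism.right h
  apply (fracture hU X₁).hom_ext
  · have e1 := (adjJ U).unit.naturality f
    have e2 := (adjJ U).unit.naturality g
    simp only [Functor.id_map, Functor.comp_map] at e1 e2
    rw [e1, e2, h2]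
  · have e1 := ηL_naturality J U f
    have e2 := ηL_naturality J U g
    have h1' : (G₁ J U).map f = (G₁ J U).map g :=
      congrArg (fun k => (SGA4.closedCompl U).ι.map k) h1
    rw [← e1, ← e2, h1']

lemma adjL_homEquiv (X : Sheaf J (Type u)) (Z : (SGA4.closedCompl U).FullSubcategory)
    (f : (Lfun J U).obj X ⟶ Z) : (adjL J U).homEquiv X Z f = ηL J U X ≫ f.hom := by
  simp [adjL]

lemma Lfun_map_injective_of {X : Sheaf J (Type u)} {Z : (SGA4.closedCompl U).FullSubcategory}
    (f g : (Lfun J U).obj X ⟶ Z) (h : ηL J U X ≫ f.hom = ηL J U X ≫ g.hom) : f = g := by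
  apply ((adjL J U).homEquiv X Z).injective
  rw [adjL_homEquiv, adjL_homEquiv, h]

lemma unit_naturality' {X X₁ : Sheaf J (Type u)} (f : X ⟶ X₁) :
    f ≫ (adjJ U).unit.app X₁ = (adjJ U).unit.app X ≫ (jP U).map ((Over.star U).map f) :=
  (adjJ U).unit.naturality f

/-- The underlying morphism of sheaves of a morphism between reflections. -/
def homG {X X₁ : Sheaf J (Type u)} (a : (Lfun J U).obj X ⟶ (Lfun J U).obj X₁) :
    (G₁ J U).obj X ⟶ (G₁ J U).obj X₁ := a.hom

lemma homG_map {X X₁ : Sheaf J (Type u)} (f : X ⟶ X₁) :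
    homG ((Lfun J U).map f) = (G₁ J U).map f := rfl

lemma homG_comp {X X₁ X₂ : Sheaf J (Type u)} (a : (Lfun J U).obj X ⟶ (Lfun J U).obj X₁)
    (b : (Lfun J U).obj X₁ ⟶ (Lfun J U).obj X₂) : homG (a ≫ b) = homG a ≫ homG b := rfl

lemma homG_injective {X X₁ : Sheaf J (Type u)} (a b : (Lfun J U).obj X ⟶ (Lfun J U).obj X₁)
    (h : ηL J U X ≫ homG a = ηL J U X ≫ homG b) : a = b :=
  Lfun_map_injective_of a b h

lemma exists_hom_of_compat (hU : Mono (terminal.from U)) (X X₁ : Sheaf J (Type u))
    (a : (Lfun J U).obj X ⟶ (Lfun J U).obj X₁) (b : (Over.star U).obj X ⟶ (Over.star U).obj X₁)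
    (w : a ≫ (Lfun J U).map ((adjJ U).unit.app X₁) =
      (Lfun J U).map ((adjJ U).unit.app X) ≫ (Lfun J U).map ((jP U).map b)) :
    ∃ f : X ⟶ X₁, (Lfun J U).map f = a ∧ (Over.star U).map f = b := by
  have w' : homG a ≫ (G₁ J U).map ((adjJ U).unit.app X₁) =
      (G₁ J U).map ((adjJ U).unit.app X) ≫ (G₁ J U).map ((jP U).map b) := by
    have := congrArg homG w
    rwa [homG_comp, homG_comp, homG_map, homG_map, homG_map] at this
  have hc : ((adjJ U).unit.app X ≫ (jP U).map b) ≫
      ηL J U ((jP U).obj ((Over.star U).obj X₁)) =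
      (ηL J U X ≫ homG a) ≫ (G₁ J U).map ((adjJ U).unit.app X₁) := by
    rw [Category.assoc, Category.assoc, w', ← ηL_naturality, ← Category.assoc,
      ← ηL_naturality, Category.assoc]
    rfl
  let f : X ⟶ X₁ := (fracture hU X₁).lift _ _ hc
  have hf1 : f ≫ (adjJ U).unit.app X₁ = (adjJ U).unit.app X ≫ (jP U).map b :=
    (fracture hU X₁).lift_fst _ _ hc
  have hf2 : f ≫ ηL J U X₁ = ηL J U X ≫ homG a := (fracture hU X₁).lift_snd _ _ hc
  refine ⟨f, ?_, ?_⟩
  · apply homG_injective
    rw [homG_map, ηL_naturality, hf2]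
  · apply ((adjJ U).homEquiv _ _).injective
    rw [Adjunction.homEquiv_unit, Adjunction.homEquiv_unit, ← unit_naturality', hf1]

lemma Φ_full (hU : Mono (terminal.from U)) : (Φ J U).Full := by
  refine ⟨fun {X X₁} g => ?_⟩
  obtain ⟨f, h1, h2⟩ := exists_hom_of_compat hU X X₁ g.left g.right g.w
  exact ⟨f, Comma.hom_ext _ _ h1 h2⟩

instance preservesFiniteLimits_G₁ : PreservesFiniteLimits (G₁ J U) := by
  have h1 : PreservesFiniteLimits (G₁ J U ⋙ sheafToPresheaf J (Type u)) :=
    inferInstanceAs (PreservesFiniteLimits (G₀ J U))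
  constructor
  intro K _ _
  exact preservesLimitsOfShape_of_reflects_of_preserves (G₁ J U) (sheafToPresheaf J (Type u))

/-- The unit of the reflection is invertible on closed sheaves. -/
lemma isIso_ηL_of_closed (Z : Sheaf J (Type u)) (hZ : SGA4.closedCompl U Z) :
    IsIso (ηL J U Z) := by
  have h : IsIso (toSheafify (Jcl J U) Z.obj) :=
    isIso_toSheafify (Jcl J U) (isSheaf_Jcl_of_closedCompl J U Z hZ)
  have : IsIso ((sheafToPresheaf J (Type u)).map (ηL J U Z)) := h
  exact isIso_of_reflects_iso (ηL J U Z) (sheafToPresheaf J (Type u))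

/-- Descent along the unit, with target a reflection. -/
noncomputable def descG {X : Sheaf J (Type u)} (Z : Sheaf J (Type u))
    (g : X ⟶ (G₁ J U).obj Z) : (G₁ J U).obj X ⟶ (G₁ J U).obj Z :=
  descL J U ((Lfun J U).obj Z) g

lemma ηL_descG {X : Sheaf J (Type u)} (Z : Sheaf J (Type u)) (g : X ⟶ (G₁ J U).obj Z) :
    ηL J U X ≫ descG Z g = g := ηL_descL J U ((Lfun J U).obj Z) g

lemma descG_unique {X : Sheaf J (Type u)} (Z : Sheaf J (Type u)) (g : X ⟶ (G₁ J U).obj Z)
    (k : (G₁ J U).obj X ⟶ (G₁ J U).obj Z) (hk : ηL J U X ≫ k = g) : k = descG Z g :=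
  descL_unique J U ((Lfun J U).obj Z) g k hk

lemma G₁_hom_ext {X Z : Sheaf J (Type u)} (k k' : (G₁ J U).obj X ⟶ (G₁ J U).obj Z)
    (h : ηL J U X ≫ k = ηL J U X ≫ k') : k = k' :=
  (descG_unique Z _ k h).trans (descG_unique Z _ k' rfl).symm

lemma isIso_G₁_map_ηL (Z : Sheaf J (Type u)) : IsIso ((G₁ J U).map (ηL J U Z)) := by
  have h1 := isIso_ηL_of_closed ((G₁ J U).obj Z) (closedCompl_G₁ Z)
  let r : (G₁ J U).obj ((G₁ J U).obj Z) ⟶ (G₁ J U).obj Z := descG Z (𝟙 _)
  have hr : ηL J U ((G₁ J U).obj Z) ≫ r = 𝟙 _ := ηL_descG Z (𝟙 _)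
  have hr' : r = inv (ηL J U ((G₁ J U).obj Z)) := by
    rw [← cancel_epi (ηL J U ((G₁ J U).obj Z)), hr, IsIso.hom_inv_id]
  have h2 : (G₁ J U).map (ηL J U Z) ≫ r = 𝟙 _ := by
    apply G₁_hom_ext
    rw [← Category.assoc, ηL_naturality, Category.assoc, hr, Category.comp_id]
  have h3 : (G₁ J U).map (ηL J U Z) = ηL J U ((G₁ J U).obj Z) := by
    have : IsIso r := by rw [hr']; infer_instance
    rw [← cancel_mono r, h2, hr]
  rw [h3]
  exact h1

lemma isIso_star_map_of_closed {Z₁ Z₂ : Sheaf J (Type u)} (h₁ : SGA4.closedCompl U Z₁)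
    (h₂ : SGA4.closedCompl U Z₂) (f : Z₁ ⟶ Z₂) : IsIso ((Over.star U).map f) := by
  have i1 : IsIso (prod.fst : U ⨯ Z₁ ⟶ U) := h₁
  have i2 : IsIso (prod.fst : U ⨯ Z₂ ⟶ U) := h₂
  have h : IsIso (prod.map (𝟙 U) f) := by
    have : IsIso (prod.map (𝟙 U) f ≫ (prod.fst : U ⨯ Z₂ ⟶ U)) := by
      rw [prod.map_fst, Category.comp_id]
      exact i1
    exact IsIso.of_isIso_comp_right _ (prod.fst : U ⨯ Z₂ ⟶ U)
  have : IsIso ((Over.forget U).map ((Over.star U).map f)) := by
    have e := Over.star_map_left U f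
    rw [← e] at h
    exact h
  exact isIso_of_reflects_iso _ (Over.forget U)

lemma exists_iso_of_gluingDatum (hU : Mono (terminal.from U))
    (Y : (SGA4.closedCompl U).FullSubcategory) (X' : Over U)
    (φ : Y ⟶ (Lfun J U).obj ((jP U).obj X')) :
    ∃ (X : Sheaf J (Type u)) (α : (Lfun J U).obj X ≅ Y) (β : (Over.star U).obj X ≅ X'),
      α.hom ≫ φ = (Lfun J U).map ((adjJ U).unit.app X) ≫ (Lfun J U).map ((jP U).map β.hom) := by
  let φ' : Y.obj ⟶ (G₁ J U).obj ((jP U).obj X') := φ.hom
  let η := ηL J U ((jP U).obj X')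
  let X : Sheaf J (Type u) := pullback φ' η
  let p₁ : X ⟶ Y.obj := pullback.fst φ' η
  let p₂ : X ⟶ (jP U).obj X' := pullback.snd φ' η
  have sq : IsPullback p₁ p₂ φ' η := IsPullback.of_hasPullback φ' η
  -- the closed part
  let αh : (G₁ J U).obj X ⟶ Y.obj := descL J U Y p₁
  have hα : ηL J U X ≫ αh = p₁ := ηL_descL J U Y p₁
  have hαiso : IsIso αh := by
    have sqL : IsPullback ((G₁ J U).map p₁) ((G₁ J U).map p₂) ((G₁ J U).map φ')
        ((G₁ J U).map η) := sq.map (G₁ J U)
    have : IsIso ((G₁ J U).map η) := isIso_G₁_map_ηL _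
    have h1 : IsIso ((G₁ J U).map p₁) := sqL.isIso_fst_of_isIso
    have h2 : IsIso (ηL J U Y.obj) := isIso_ηL_of_closed Y.obj Y.property
    let εY : (G₁ J U).obj Y.obj ⟶ Y.obj := descL J U Y (𝟙 _)
    have hε : ηL J U Y.obj ≫ εY = 𝟙 _ := ηL_descL J U Y (𝟙 _)
    have hε' : IsIso εY := by
      have : εY = inv (ηL J U Y.obj) := by
        rw [← cancel_epi (ηL J U Y.obj), hε, IsIso.hom_inv_id]
      rw [this]
      infer_instance
    have e : αh = (G₁ J U).map p₁ ≫ εY := by
      refine (descL_unique J U Y p₁ _ ?_).symm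
      rw [← Category.assoc, ηL_naturality, Category.assoc, hε, Category.comp_id]
    rw [e]
    infer_instance
  let α : (Lfun J U).obj X ≅ Y :=
    { hom := ObjectProperty.homMk αh
      inv := ObjectProperty.homMk (@inv _ _ _ _ αh hαiso)
      hom_inv_id := by
        apply ObjectProperty.hom_ext
        exact IsIso.hom_inv_id αh
      inv_hom_id := by
        apply ObjectProperty.hom_ext
        exact IsIso.inv_hom_id αh }
  -- the open part
  let βh : (Over.star U).obj X ⟶ X' := ((adjJ U).homEquiv X X').symm p₂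
  have hβ : (adjJ U).unit.app X ≫ (jP U).map βh = p₂ :=
    ((adjJ U).homEquiv_unit X X' βh).symm.trans (Equiv.apply_symm_apply _ _)
  have hβiso : IsIso βh := by
    have sqS : IsPullback ((Over.star U).map p₁) ((Over.star U).map p₂) ((Over.star U).map φ')
        ((Over.star U).map η) := sq.map (Over.star U)
    have : IsIso ((Over.star U).map φ') :=
      isIso_star_map_of_closed Y.property (closedCompl_G₁ _) φ'
    have h1 : IsIso ((Over.star U).map p₂) := sqS.isIso_snd_of_isIso
    have h2 := isIso_counit_adjJ hU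
    have e : βh = (Over.star U).map p₂ ≫ (adjJ U).counit.app X' :=
      Adjunction.homEquiv_counit _ _ _ _
    rw [e]
    infer_instance
  refine ⟨X, α, asIso βh, ?_⟩
  apply ((adjL J U).homEquiv _ _).injective
  rw [adjL_homEquiv, adjL_homEquiv]
  show ηL J U X ≫ αh ≫ φ' = ηL J U X ≫ (G₁ J U).map ((adjJ U).unit.app X) ≫
    (G₁ J U).map ((jP U).map βh)
  rw [← Category.assoc, hα, ← Functor.map_comp, hβ, ηL_naturality]
  exact sq.w

lemma Φ_essSurj (hU : Mono (terminal.from U)) : (Φ J U).EssSurj := by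
  refine ⟨fun T => ?_⟩
  obtain ⟨X, α, β, w⟩ := exists_iso_of_gluingDatum hU T.left T.right T.hom
  exact ⟨X, ⟨Comma.isoMk α β w⟩⟩

lemma Φ_isEquivalence (hU : Mono (terminal.from U)) : (Φ J U).IsEquivalence := by
  have := Φ_faithful (J := J) hU
  have := Φ_full (J := J) hU
  have := Φ_essSurj (J := J) hU
  exact { }

/-- Gluing: the topos is equivalent to the category of triples `(Y, X, Y ⟶ i^* j_* X)`. -/
theorem nonempty_equiv_glued (hU : Mono (terminal.from U))
    (L : Sheaf J (Type u) ⥤ (SGA4.closedCompl U).FullSubcategory)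
    (adj : L ⊣ (SGA4.closedCompl U).ι) :
    Nonempty (Sheaf J (Type u) ≌
      Comma (𝟭 (SGA4.closedCompl U).FullSubcategory) ((Over.star U).rightAdjoint ⋙ L)) := by
  have := Φ_isEquivalence (J := J) hU
  let e₁ : Sheaf J (Type u) ≌
      Comma (𝟭 (SGA4.closedCompl U).FullSubcategory) (jP U ⋙ Lfun J U) :=
    (Φ J U).asEquivalence
  let i : Lfun J U ≅ L := (adjL J U).leftAdjointUniq adj
  let e₂ := Comma.mapRightIso (𝟭 (SGA4.closedCompl U).FullSubcategory)
    (Functor.isoWhiskerLeft (jP U) i)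
  exact ⟨e₁.trans e₂⟩

end Glue

end Groth.Agent.Lib.helper23.OC
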