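import Mathlib

universe u
open CategoryTheory Limits Opposite

namespace Groth.Agent.Lib.helper23.LR

variable {C : Type u} [SmallCategory C]

/-- the canonical map `(S.pullback f).functor ⟶ S.functor`. -/
def pbMap {X Y : C} (S : Sieve X) (f : Y ⟶ X) : (S.pullback f).functor ⟶ S.functor where
  app Z := ↾fun g => ⟨g.1 ≫ f, g.2⟩
  naturality Z W h := by
    ext g
    apply Subtype.ext
    simp [Sieve.functor]

lemma isPullback_pbMap {X Y : C} (S : Sieve X) (f : Y ⟶ X) :
    IsPullback (pbMap S f) (S.pullback f).functorInclusion S.functorInclusion (yoneda.map f) := by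
  apply IsPullback.of_forall_isPullback_app
  intro V
  rw [Types.isPullback_iff]
  refine ⟨?_, ?_, ?_⟩
  · ext g
    rfl
  · rintro g g' ⟨h1, h2⟩
    exact Subtype.ext h2
  · intro x y hxy
    refine ⟨⟨y, ?_⟩, ?_, rfl⟩
    · have : y ≫ f = x.1 := hxy.symm
      show S (y ≫ f)
      rw [this]; exact x.2
    · apply Subtype.ext
      exact hxy.symm

variable (P : ObjectProperty (Cᵒᵖ ⥤ Type u)) [Reflective P.ι]

/-- `a m` is invertible iff every object of `P` is `m`-local. -/
lemma isIso_map_iff {A B : Cᵒᵖ ⥤ Type u} (m : A ⟶ B) :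
    IsIso ((reflector P.ι).map m) ↔
      ∀ F, P F → Function.Bijective (fun g : B ⟶ F => m ≫ g) := by
  have key : ∀ T : P.FullSubcategory,
      (fun x : (reflector P.ι).obj B ⟶ T => (reflector P.ι).map m ≫ x) =
        ((reflectorAdjunction P.ι).homEquiv A T).symm ∘ (fun g : B ⟶ T.obj => m ≫ g) ∘
          ((reflectorAdjunction P.ι).homEquiv B T) := by
    intro T
    funext x
    simp only [Function.comp_apply]
    rw [Adjunction.homEquiv_naturality_left_symm]
    simp
  constructor
  · intro h F hF
    have h2 := (isIso_iff_coyoneda_map_bijective ((reflector P.ι).map m)).1 h ⟨F, hF⟩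
    rw [key] at h2
    have h3 := (Equiv.comp_bijective _ _).1 h2
    exact (Equiv.bijective_comp _ _).1 h3
  · intro h
    rw [isIso_iff_coyoneda_map_bijective]
    intro T
    rw [key]
    exact (Equiv.comp_bijective _ _).2 ((Equiv.bijective_comp _ _).2 (h T.obj T.property))

lemma isSheafFor_iff_bijective (F : Cᵒᵖ ⥤ Type u) {X : C} (S : Sieve X) :
    Presieve.IsSheafFor F S.arrows ↔
      Function.Bijective (fun g : yoneda.obj X ⟶ F => S.functorInclusion ≫ g) := by
  rw [Presieve.isSheafFor_iff_yonedaSheafCondition, Function.bijective_iff_existsUnique]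
  rfl

/-- The topology attached to `P`. -/
def J : GrothendieckTopology C := Sheaf.finestTopology {F | P F}

lemma isSheaf_of_mem {F : Cᵒᵖ ⥤ Type u} (hF : P F) : Presieve.IsSheaf (J P) F :=
  Sheaf.sheaf_for_finestTopology _ hF

variable [PreservesFiniteLimits (reflector P.ι)]

lemma mem_J_iff {X : C} (S : Sieve X) :
    S ∈ J P X ↔ IsIso ((reflector P.ι).map S.functorInclusion) := by
  constructor
  · intro hS
    rw [isIso_map_iff]
    intro F hF
    rw [← isSheafFor_iff_bijective]
    exact isSheaf_of_mem P hF S hS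
  · intro h
    apply Sheaf.mem_finestTopology_of_forall_isSheafFor
    intro F hF Y f
    rw [isSheafFor_iff_bijective]
    have sq := (isPullback_pbMap S f).map (reflector P.ι)
    have : IsIso ((reflector P.ι).map (S.pullback f).functorInclusion) :=
      sq.isIso_snd_of_isIso
    exact (isIso_map_iff P _).1 this F hF

lemma isIso_map_unit (F : Cᵒᵖ ⥤ Type u) :
    IsIso ((reflector P.ι).map ((reflectorAdjunction P.ι).unit.app F)) := by
  have h := (reflectorAdjunction P.ι).left_triangle_components F
  have : IsIso ((reflector P.ι).map ((reflectorAdjunction P.ι).unit.app F) ≫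
      (reflectorAdjunction P.ι).counit.app ((reflector P.ι).obj F)) := by
    rw [h]; exact IsIso.id _
  exact IsIso.of_isIso_comp_right _ ((reflectorAdjunction P.ι).counit.app ((reflector P.ι).obj F))

/-- the top map of the pullback square for `sieveOfSection`. -/
def secMap {G : Cᵒᵖ ⥤ Type u} (I : Subfunctor G) {U : Cᵒᵖ} (s : G.obj U) :
    (I.sieveOfSection s).functor ⟶ I.toFunctor where
  app V := ↾fun f => ⟨G.map f.1.op s, f.2⟩
  naturality V W h := by
    ext f
    apply Subtype.ext
    simp [Sieve.functor]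
    rfl

lemma isPullback_secMap {G : Cᵒᵖ ⥤ Type u} (I : Subfunctor G) {U : Cᵒᵖ} (s : G.obj U) :
    IsPullback (secMap I s) (I.sieveOfSection s).functorInclusion I.ι
      (yonedaEquiv.symm s) := by
  apply IsPullback.of_forall_isPullback_app
  intro V
  rw [Types.isPullback_iff]
  refine ⟨?_, ?_, ?_⟩
  · ext f
    rfl
  · rintro g g' ⟨h1, h2⟩
    exact Subtype.ext h2
  · intro x f hxf
    have hf : G.map f.op s = x.1 := hxf.symm
    refine ⟨⟨f, ?_⟩, ?_, rfl⟩
    · show G.map f.op s ∈ I.obj _
      rw [hf]; exact x.2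
    · apply Subtype.ext
      exact hf

lemma sieveOfSection_mem {G : Cᵒᵖ ⥤ Type u} (I : Subfunctor G)
    (hI : IsIso ((reflector P.ι).map I.ι)) {U : Cᵒᵖ} (s : G.obj U) :
    I.sieveOfSection s ∈ J P U.unop := by
  rw [mem_J_iff]
  exact ((isPullback_secMap I s).map (reflector P.ι)).isIso_snd_of_isIso

lemma isIso_map_range_ι {F G : Cᵒᵖ ⥤ Type u} (f : F ⟶ G)
    (hf : IsIso ((reflector P.ι).map f)) :
    IsIso ((reflector P.ι).map (Subfunctor.range f).ι) := by
  have h1 : (reflector P.ι).map (Subfunctor.toRange f) ≫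
      (reflector P.ι).map (Subfunctor.range f).ι = (reflector P.ι).map f := by
    rw [← Functor.map_comp, Subfunctor.toRange_ι]
  have : Mono ((reflector P.ι).map (Subfunctor.range f).ι) := inferInstance
  have : IsSplitEpi ((reflector P.ι).map (Subfunctor.range f).ι) :=
    ⟨⟨inv ((reflector P.ι).map f) ≫ (reflector P.ι).map (Subfunctor.toRange f), by
      rw [Category.assoc, h1, IsIso.inv_hom_id]⟩⟩
  exact isIso_of_mono_of_isSplitEpi _

lemma isLocallySurjective_of_isIso_map {F G : Cᵒᵖ ⥤ Type u} (f : F ⟶ G)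
    (hf : IsIso ((reflector P.ι).map f)) : Presheaf.IsLocallySurjective (J P) f := by
  constructor
  intro U s
  refine (J P).superset_covering ?_
    (sieveOfSection_mem P (Subfunctor.range f) (isIso_map_range_ι P f hf) (U := op U) s)
  intro V g hg
  obtain ⟨t, ht⟩ := hg
  exact ⟨t, ht⟩

section Eq

variable {F : Cᵒᵖ ⥤ Type u} {U : Cᵒᵖ} (x y : F.obj U)

lemma eqSieve_w :
    (Presheaf.equalizerSieve (F := F) (X := U) x y).functorInclusion ≫
        (yonedaEquiv.symm x : yoneda.obj U.unop ⟶ F) =
      (Presheaf.equalizerSieve (F := F) (X := U) x y).functorInclusion ≫ yonedaEquiv.symm y := by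
  ext V f
  exact f.2

/-- The equalizer sieve is the equalizer of the two Yoneda maps. -/
noncomputable def eqSieveIsLimit : IsLimit (Fork.ofι _ (eqSieve_w x y)) :=
  Fork.IsLimit.mk _
    (fun s =>
      { app := fun V => ↾fun z => ⟨s.ι.app V z, by
          have := congrArg (fun (t : s.pt ⟶ F) => t.app V z) s.condition
          exact this⟩
        naturality := by
          intro V W h
          ext z
          apply Subtype.ext
          have := congrArg (fun t => t z) (s.ι.naturality h)
          exact this })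
    (fun s => by
      ext V z
      rfl)
    (fun s m hm => by
      ext V z
      apply Subtype.ext
      have := congrArg (fun (t : s.pt ⟶ yoneda.obj U.unop) => t.app V z) hm
      exact this)

end Eq

lemma isLocallyInjective_of_isIso_map {F G : Cᵒᵖ ⥤ Type u} (f : F ⟶ G)
    (hf : IsIso ((reflector P.ι).map f)) : Presheaf.IsLocallyInjective (J P) f := by
  constructor
  intro U x y hxy
  rw [mem_J_iff]
  have hlim := isLimitForkMapOfIsLimit (reflector P.ι) (eqSieve_w x y) (eqSieveIsLimit x y)
  have heq : (reflector P.ι).map (yonedaEquiv.symm x : yoneda.obj U.unop ⟶ F) =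
      (reflector P.ι).map (yonedaEquiv.symm y) := by
    have h1 : (yonedaEquiv.symm x : yoneda.obj U.unop ⟶ F) ≫ f = yonedaEquiv.symm y ≫ f := by
      apply yonedaEquiv.injective
      rw [yonedaEquiv_comp, yonedaEquiv_comp, Equiv.apply_symm_apply, Equiv.apply_symm_apply]
      exact hxy
    have h2 := congrArg (fun t => (reflector P.ι).map t) h1
    simp only [Functor.map_comp] at h2
    exact (cancel_mono _).1 h2
  have := isIso_limit_cone_parallelPair_of_eq heq hlim
  simpa using this

/-- Hard direction: a sheaf for `J P` lies in `P`. -/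
lemma mem_of_isSheaf [P.IsClosedUnderIsomorphisms] {F : Cᵒᵖ ⥤ Type u}
    (hF : Presieve.IsSheaf (J P) F) : P F := by
  let G : Cᵒᵖ ⥤ Type u := P.ι.obj ((reflector P.ι).obj F)
  have hG : P G := ((reflector P.ι).obj F).property
  let η : F ⟶ G := (reflectorAdjunction P.ι).unit.app F
  have hη : IsIso ((reflector P.ι).map η) := isIso_map_unit P F
  let Fs : Sheaf (J P) (Type u) := ⟨F, (isSheaf_iff_isSheaf_of_type _ _).2 hF⟩
  let Gs : Sheaf (J P) (Type u) := ⟨G, (isSheaf_iff_isSheaf_of_type _ _).2 (isSheaf_of_mem P hG)⟩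
  let φ : Fs ⟶ Gs := ObjectProperty.homMk η
  have h1 : Sheaf.IsLocallyInjective φ := isLocallyInjective_of_isIso_map P η hη
  have h2 : Sheaf.IsLocallySurjective φ := isLocallySurjective_of_isIso_map P η hη
  have h3 : IsIso φ := (Sheaf.isLocallyBijective_iff_isIso φ).1 ⟨h1, h2⟩
  have h4 : IsIso η := (sheafToPresheaf _ _).map_isIso φ
  exact P.prop_of_iso (asIso η).symm hG

theorem exists_topology [P.IsClosedUnderIsomorphisms] :
    ∃ J : GrothendieckTopology C,
      (∀ (X : C) (S : Sieve X), S ∈ J X ↔ IsIso ((reflector P.ι).map S.functorInclusion)) ∧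
      ∀ F : Cᵒᵖ ⥤ Type u, P F ↔ Presieve.IsSheaf J F :=
  ⟨J P, fun _ S => mem_J_iff P S, fun _ => ⟨isSheaf_of_mem P, mem_of_isSheaf P⟩⟩

end Groth.Agent.Lib.helper23.LR
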