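import Mathlib
import Groth.Agent.Lib.helper23.SC18

universe v u
open CategoryTheory Limits Opposite

namespace Groth.Agent.Lib.helper23.FT

variable {C : Type u} [SmallCategory C] (J : GrothendieckTopology C) (D : Type u) [SmallCategory D]

/-- presheaves on `(D × Cᵒᵖ)ᵒᵖ` are functors `D ⥤ PSh(C)`. -/
noncomputable def e (C : Type u) [SmallCategory C] (D : Type u) [SmallCategory D] :
    (((D × Cᵒᵖ)ᵒᵖ)ᵒᵖ ⥤ Type u) ≌ (D ⥤ Cᵒᵖ ⥤ Type u) :=
  ((opOpEquivalence (D × Cᵒᵖ)).congrLeft).trans (Functor.currying (C := D) (D := Cᵒᵖ) (E := Type u)).symm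

noncomputable def Ψ : (D ⥤ Sheaf J (Type u)) ⥤ (((D × Cᵒᵖ)ᵒᵖ)ᵒᵖ ⥤ Type u) :=
  (Functor.whiskeringRight D _ _).obj (sheafToPresheaf J (Type u)) ⋙ (e C D).inverse

noncomputable def Λ : (((D × Cᵒᵖ)ᵒᵖ)ᵒᵖ ⥤ Type u) ⥤ (D ⥤ Sheaf J (Type u)) :=
  (e C D).functor ⋙ (Functor.whiskeringRight D _ _).obj (presheafToSheaf J (Type u))

noncomputable def adjΛΨ : Λ J D ⊣ Ψ J D :=
  (e C D).toAdjunction.comp ((sheafificationAdjunction J (Type u)).whiskerRight D)

instance : (Ψ J D).Full := by unfold Ψ; infer_instance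
instance : (Ψ J D).Faithful := by unfold Ψ; infer_instance

instance : PreservesFiniteLimits (Λ J D) := by
  unfold Λ
  have : PreservesFiniteLimits
      ((Functor.whiskeringRight D _ _).obj (presheafToSheaf J (Type u))) :=
    ⟨fun K _ _ => inferInstance⟩
  infer_instance

/-- the essential image of `Ψ`. -/
abbrev P : ObjectProperty (((D × Cᵒᵖ)ᵒᵖ)ᵒᵖ ⥤ Type u) := (Ψ J D).essImage

noncomputable def L : (((D × Cᵒᵖ)ᵒᵖ)ᵒᵖ ⥤ Type u) ⥤ (P J D).FullSubcategory :=
  Λ J D ⋙ (Ψ J D).toEssImage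

instance : (Ψ J D).toEssImage.IsEquivalence := { }

noncomputable def isoι : (Ψ J D).toEssImage.asEquivalence.inverse ⋙ Ψ J D ≅ (P J D).ι :=
  Functor.isoWhiskerLeft _ (Ψ J D).toEssImageCompι.symm ≪≫ (Functor.associator _ _ _).symm ≪≫
    Functor.isoWhiskerRight (Ψ J D).toEssImage.asEquivalence.counitIso _ ≪≫ Functor.leftUnitor _

noncomputable def adjL : L J D ⊣ (P J D).ι :=
  ((adjΛΨ J D).comp (Ψ J D).toEssImage.asEquivalence.toAdjunction).ofNatIsoRight (isoι J D)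

noncomputable instance : Reflective (P J D).ι where
  L := L J D
  adj := adjL J D

instance : PreservesFiniteLimits (reflector (P J D).ι) := by
  show PreservesFiniteLimits (L J D)
  unfold L
  infer_instance

/-- The functor category `D ⥤ Sh(C, J)` is a category of sheaves on a small site. -/
theorem exists_site : ∃ (J' : GrothendieckTopology (D × Cᵒᵖ)ᵒᵖ),
    Nonempty ((D ⥤ Sheaf J (Type u)) ≌ Sheaf J' (Type u)) := by
  obtain ⟨J', -, hJ'⟩ := LR.exists_topology (P J D)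
  refine ⟨J', ⟨(Ψ J D).toEssImage.asEquivalence.trans ?_⟩⟩
  have h1 : P J D ≤ Presheaf.IsSheaf J' := by
    intro F hF
    exact (isSheaf_iff_isSheaf_of_type _ _).2 ((hJ' F).1 hF)
  have h2 : Presheaf.IsSheaf J' ≤ P J D := by
    intro F hF
    exact (hJ' F).2 ((isSheaf_iff_isSheaf_of_type _ _).1 hF)
  exact
    { functor := ObjectProperty.ιOfLE h1
      inverse := ObjectProperty.ιOfLE h2
      unitIso := Iso.refl _
      counitIso := Iso.refl _ }

end Groth.Agent.Lib.helper23.FT
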