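import Mathlib
import Groth.Agent.Lib.helper23.TF1

set_option autoImplicit false
universe w u
open CategoryTheory Limits Opposite

namespace Groth.Agent.Lib.helper23.CanSh

variable {C : Type u} [SmallCategory C] (J : GrothendieckTopology C)

/-- the sheafified representable. -/
noncomputable abbrev yo (c : C) : Sheaf J (Type u) :=
  (presheafToSheaf J (Type u)).obj (uliftYoneda.{u}.obj c)

/-- the counit of sheafification, with an explicit type. -/
noncomputable def eps (X : Sheaf J (Type u)) : (presheafToSheaf J (Type u)).obj X.obj ⟶ X :=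
  (sheafificationAdjunction J (Type u)).counit.app X

instance (X : Sheaf J (Type u)) : IsIso (eps J X) := by
  unfold eps; infer_instance

lemma eps_naturality {X X' : Sheaf J (Type u)} (g : X ⟶ X') :
    (presheafToSheaf J (Type u)).map g.hom ≫ eps J X' = eps J X ≫ g :=
  (sheafificationAdjunction J (Type u)).counit.naturality g

/-- the morphism from a generator attached to a section. -/
noncomputable def hat {X : Sheaf J (Type u)} {c : C} (x : X.obj.obj (op c)) : yo J c ⟶ X :=
  (presheafToSheaf J (Type u)).map (uliftYonedaEquiv.{u}.symm x) ≫ eps J X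

lemma hat_eq {X : Sheaf J (Type u)} {c : C} (x : X.obj.obj (op c)) :
    hat J x = ((sheafificationAdjunction J (Type u)).homEquiv (uliftYoneda.{u}.obj c) X).symm
      (uliftYonedaEquiv.{u}.symm x) := by
  rw [Adjunction.homEquiv_counit]
  rfl

lemma hat_comp {X X' : Sheaf J (Type u)} (g : X ⟶ X') {c : C} (x : X.obj.obj (op c)) :
    hat J x ≫ g = hat J (g.hom.app (op c) x) := by
  unfold hat
  rw [Category.assoc, ← eps_naturality, ← Category.assoc, ← Functor.map_comp]
  congr 2
  exact uliftYonedaEquiv_symm_comp _ _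

lemma map_hat {X : Sheaf J (Type u)} {c c' : C} (h : c' ⟶ c) (x : X.obj.obj (op c)) :
    (presheafToSheaf J (Type u)).map (uliftYoneda.{u}.map h) ≫ hat J x =
      hat J (X.obj.map h.op x) := by
  unfold hat
  rw [← Category.assoc, ← Functor.map_comp]
  congr 2
  exact (uliftYonedaEquiv_symm_map h.op x).symm

lemma hat_injective {X : Sheaf J (Type u)} {c : C} {x x' : X.obj.obj (op c)}
    (h : hat J x = hat J x') : x = x' := by
  rw [hat_eq, hat_eq] at h
  exact uliftYonedaEquiv.symm.injective (Equiv.injective _ h)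

lemma hat_surjective {X : Sheaf J (Type u)} {c : C} (f : yo J c ⟶ X) :
    ∃ x : X.obj.obj (op c), hat J x = f := by
  refine ⟨uliftYonedaEquiv.{u}
    ((sheafificationAdjunction J (Type u)).homEquiv (uliftYoneda.{u}.obj c) X f), ?_⟩
  rw [hat_eq]
  simp

/-- morphisms of sheaves are determined on generators. -/
lemma hom_ext_hat {X Z : Sheaf J (Type u)} {a b : X ⟶ Z}
    (h : ∀ (c : C) (x : X.obj.obj (op c)), hat J x ≫ a = hat J x ≫ b) : a = b := by
  apply Sheaf.hom_ext
  ext ⟨c⟩ x
  have := h c x
  rw [hat_comp, hat_comp] at this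
  exact hat_injective J this

section Dense

variable {J}
variable {X : Sheaf J (Type u)} (P : Cᵒᵖ ⥤ Type u) (φ : P ⟶ X.obj)

/-- the adjunct of `φ`. -/
noncomputable def theta : (presheafToSheaf J (Type u)).obj P ⟶ X :=
  (presheafToSheaf J (Type u)).map φ ≫ eps J X

/-- the cocone exhibiting `X` as a colimit of generators indexed by the elements of `P`. -/
noncomputable def denseCocone :
    Cocone (Presheaf.functorToRepresentables.{u} P ⋙ presheafToSheaf J (Type u)) :=
  ((presheafToSheaf J (Type u)).mapCocone (Presheaf.coconeOfRepresentable.{u} P)).extend (theta P φ)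

noncomputable def denseIsColimit [h : IsIso (theta P φ)] : IsColimit (denseCocone P φ) :=
  @IsColimit.extendIso _ _ _ _ _
    ((presheafToSheaf J (Type u)).mapCocone (Presheaf.coconeOfRepresentable.{u} P)) X (theta P φ) h
    (isColimitOfPreserves (presheafToSheaf J (Type u)) (Presheaf.colimitOfRepresentable.{u} P))

lemma denseCocone_ι (e : P.Elementsᵒᵖ) :
    (denseCocone P φ).ι.app e = hat J (X := X) (c := e.unop.1.unop) (φ.app _ e.unop.2) := by
  show (presheafToSheaf J (Type u)).map (uliftYonedaEquiv.{u}.symm e.unop.2) ≫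
    ((presheafToSheaf J (Type u)).map φ ≫ eps J X) = _
  unfold hat
  rw [← Category.assoc, ← Functor.map_comp]
  congr 2
  exact uliftYonedaEquiv_symm_comp _ _

end Dense

section LS

variable {J}
variable {X : Sheaf J (Type u)}

/-- sections whose generator map belongs to `S`. -/
def secSub (S : Sieve X) : Subfunctor X.obj where
  obj U := {x | S (hat J (c := U.unop) x)}
  map := by
    intro U V g x hx
    show S (hat J (c := V.unop) (X.obj.map g x))
    have := map_hat J g.unop x
    rw [Quiver.Hom.op_unop] at this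
    rw [← this]
    exact S.downward_closed hx _

lemma mem_secSub_iff (S : Sieve X) {c : C} (x : X.obj.obj (op c)) :
    x ∈ (secSub S).obj (op c) ↔ S (hat J x) := Iff.rfl

/-- `S` contains, locally on every section, the corresponding generator maps. -/
def LS (S : Sieve X) : Prop :=
  ∀ (c : C) (x : X.obj.obj (op c)), (secSub S).sieveOfSection x ∈ J c

lemma isIso_theta_of_LS {S : Sieve X} (h : LS S) :
    IsIso (theta (secSub S).toFunctor (secSub S).ι) := by
  have h1 : Presheaf.IsLocallyInjective J (secSub S).ι :=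
    Presheaf.isLocallyInjective_of_injective J _ (fun U a b hab => Subtype.ext hab)
  have h2 : Presheaf.IsLocallySurjective J (secSub S).ι := by
    constructor
    intro c x
    refine J.superset_covering ?_ (h c x)
    intro c' g hg
    exact ⟨⟨_, hg⟩, rfl⟩
  have hW : J.W (secSub S).ι := J.W_of_isLocallyBijective _
  have : IsIso ((presheafToSheaf J (Type u)).map (secSub S).ι) := (J.W_iff _).1 hW
  unfold theta
  infer_instance

lemma family_congr {Z : Sheaf J (Type u)} {S : Sieve X}
    (φ : Presieve.FamilyOfElements (yoneda.obj Z) S.arrows) {W : Sheaf J (Type u)}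
    {f f' : W ⟶ X} (hf : S f) (hf' : S f') (h : f = f') : φ f hf = φ f' hf' := by
  subst h; rfl

lemma isSheafFor_yoneda_of_LS {S : Sieve X} (h : LS S) (Z : Sheaf J (Type u)) :
    Presieve.IsSheafFor (yoneda.obj Z) S.arrows := by
  have := isIso_theta_of_LS h
  have hcol := denseIsColimit (secSub S).toFunctor (secSub S).ι
  intro φ hφ
  have hcomp : ∀ {W W' : Sheaf J (Type u)} (k : W' ⟶ W) (g : W ⟶ X) (hg : S g),
      k ≫ φ g hg = φ (k ≫ g) (S.downward_closed hg k) := by
    intro W W' k g hg
    have := hφ k (𝟙 W') hg (S.downward_closed hg k) (by simp)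
    simpa using this
  let cc : Cocone (Presheaf.functorToRepresentables.{u} (secSub S).toFunctor ⋙
      presheafToSheaf J (Type u)) :=
    { pt := Z
      ι :=
        { app := fun e => φ (hat J (c := e.unop.1.unop) e.unop.2.1) e.unop.2.2
          naturality := by
            intro e e' f
            have hf : (secSub S).toFunctor.map f.unop.1 e'.unop.2 = e.unop.2 := f.unop.2
            have hf1 : X.obj.map f.unop.1 e'.unop.2.1 = e.unop.2.1 := congrArg Subtype.val hf
            show (presheafToSheaf J (Type u)).map (uliftYoneda.{u}.map f.unop.1.unop) ≫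
              φ (hat J (c := e'.unop.1.unop) e'.unop.2.1) e'.unop.2.2 =
              φ (hat J (c := e.unop.1.unop) e.unop.2.1) e.unop.2.2 ≫ 𝟙 Z
            rw [Category.comp_id, hcomp]
            apply family_congr
            rw [map_hat]
            exact congrArg (hat J (c := e.unop.1.unop)) hf1 } }
  have hfac : ∀ (c : C) (x : X.obj.obj (op c)) (hx : S (hat J x)),
      hat J x ≫ hcol.desc cc = φ (hat J x) hx := by
    intro c x hx
    have := hcol.fac cc (op ⟨op c, ⟨x, hx⟩⟩)
    rw [denseCocone_ι] at this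
    exact this
  refine ⟨hcol.desc cc, ?_, ?_⟩
  · intro W g hg
    show g ≫ hcol.desc cc = φ g hg
    apply hom_ext_hat J
    intro c w
    have hw : S (hat J (g.hom.app (op c) w)) := by
      rw [← hat_comp]; exact S.downward_closed hg _
    rw [← Category.assoc, hat_comp, hfac c _ hw, hcomp]
    apply family_congr
    rw [hat_comp]
  · intro ψ hψ
    apply hcol.hom_ext
    intro e
    rw [hcol.fac, denseCocone_ι]
    exact hψ _ e.unop.2.2

lemma LS_pullback {S : Sieve X} (h : LS S) {Y : Sheaf J (Type u)} (f : Y ⟶ X) :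
    LS (S.pullback f) := by
  intro c y₀
  refine J.superset_covering ?_ (h c (f.hom.app (op c) y₀))
  intro c' g hg
  show S (hat J (Y.obj.map g.op y₀) ≫ f)
  rw [hat_comp]
  have : f.hom.app (op c') (Y.obj.map g.op y₀) = X.obj.map g.op (f.hom.app (op c) y₀) :=
    NatTrans.naturality_apply f.hom g.op y₀
  rw [this]
  exact hg

theorem mem_canonical_of_LS {S : Sieve X} (h : LS S) :
    S ∈ Sheaf.canonicalTopology (Sheaf J (Type u)) X := by
  apply Sheaf.mem_finestTopology_of_forall_isSheafFor
  rintro P ⟨Z, rfl⟩ Y f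
  exact isSheafFor_yoneda_of_LS (LS_pullback h f) Z

/-- the subsheaf of sections locally in `secSub S`. -/
noncomputable def subSh (S : Sieve X) : Sheaf J (Type u) :=
  ⟨((secSub S).sheafify J).toFunctor,
    (isSheaf_iff_isSheaf_of_type J _).2
      (Subfunctor.sheafify_isSheaf _ ((isSheaf_iff_isSheaf_of_type J _).1 X.property))⟩

noncomputable def subShι (S : Sieve X) : subSh S ⟶ X :=
  ObjectProperty.homMk ((secSub S).sheafify J).ι

/-- every member of `S` factors through the subsheaf. -/
noncomputable def toSubSh (S : Sieve X) {W : Sheaf J (Type u)} (g : W ⟶ X) (hg : S g) :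
    W ⟶ subSh S :=
  ObjectProperty.homMk (Subfunctor.lift g.hom (by
    rintro U s ⟨w, rfl⟩
    apply Subfunctor.le_sheafify J
    show S (hat J (c := U.unop) (g.hom.app U w))
    have := hat_comp J g (c := U.unop) w
    rw [← this]
    exact S.downward_closed hg _))

lemma toSubSh_ι (S : Sieve X) {W : Sheaf J (Type u)} (g : W ⟶ X) (hg : S g) :
    toSubSh S g hg ≫ subShι S = g := rfl

lemma subShι_injective (S : Sieve X) {W : Sheaf J (Type u)} {a b : W ⟶ subSh S}
    (h : a ≫ subShι S = b ≫ subShι S) : a = b := by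
  apply Sheaf.hom_ext
  ext U w
  apply Subtype.ext
  exact congrArg (fun (k : W ⟶ X) => k.hom.app U w) h

theorem LS_of_mem_canonical {S : Sieve X}
    (hS : S ∈ Sheaf.canonicalTopology (Sheaf J (Type u)) X) : LS S := by
  have h1 : Presieve.IsSheafFor (yoneda.obj (subSh S)) S.arrows :=
    Sheaf.isSheaf_yoneda_obj (subSh S) S hS
  have h2 : Presieve.IsSeparatedFor (yoneda.obj X) S.arrows :=
    (Sheaf.isSheaf_yoneda_obj X S hS).isSeparatedFor
  let φ : Presieve.FamilyOfElements (yoneda.obj (subSh S)) S.arrows :=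
    fun W g hg => toSubSh S g hg
  have hφ : φ.Compatible := by
    intro Y₁ Y₂ Z g₁ g₂ f₁ f₂ hf₁ hf₂ hcomm
    apply subShι_injective
    show (g₁ ≫ toSubSh S f₁ hf₁) ≫ subShι S = (g₂ ≫ toSubSh S f₂ hf₂) ≫ subShι S
    rw [Category.assoc, Category.assoc, toSubSh_ι, toSubSh_ι, hcomm]
  obtain ⟨r, hr, -⟩ := h1 φ hφ
  have hr' : r ≫ subShι S = 𝟙 X := by
    apply h2.ext
    intro W g hg
    show g ≫ (r ≫ subShι S) = g ≫ 𝟙 X
    have : g ≫ r = toSubSh S g hg := hr g hg
    rw [← Category.assoc, this, toSubSh_ι, Category.comp_id]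
  intro c x
  have hx : x = (r.hom.app (op c) x).1 := by
    have := congrArg (fun (k : X ⟶ X) => k.hom.app (op c) x) hr'
    exact this.symm
  rw [hx]
  exact (r.hom.app (op c) x).2

end LS

section Turns

variable {J}

/-- `G` turns small colimits of sheaves into limits (elementwise form). -/
def Turns (G : (Sheaf J (Type u))ᵒᵖ ⥤ Type w) : Prop :=
  ∀ (K : Type u) [SmallCategory K] (F : K ⥤ Sheaf J (Type u)) (cc : Cocone F), IsColimit cc →
    ∀ (s : ∀ k, G.obj (op (F.obj k))), (∀ (k k' : K) (m : k ⟶ k'), G.map (F.map m).op (s k') = s k) →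
      ∃! t : G.obj (op cc.pt), ∀ k, G.map (cc.ι.app k).op t = s k

variable {G : (Sheaf J (Type u))ᵒᵖ ⥤ Type w}

lemma map_comp_apply' {A B D : Sheaf J (Type u)} (f : A ⟶ B) (g : B ⟶ D) (t : G.obj (op D)) :
    G.map f.op (G.map g.op t) = G.map (f ≫ g).op t := by
  rw [op_comp, Functor.map_comp]; rfl

lemma turns_ext (hG : Turns G) {K : Type u} [SmallCategory K] {F : K ⥤ Sheaf J (Type u)}
    {cc : Cocone F} (hcc : IsColimit cc) (a b : G.obj (op cc.pt))
    (h : ∀ k, G.map (cc.ι.app k).op a = G.map (cc.ι.app k).op b) : a = b := by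
  obtain ⟨t, -, ht⟩ := hG K F cc hcc (fun k => G.map (cc.ι.app k).op b) (by
    intro k k' m
    rw [map_comp_apply', cc.w])
  rw [ht a h, ht b (fun _ => rfl)]

instance (W : Sheaf J (Type u)) : IsIso (theta (X := W) W.obj (𝟙 W.obj)) := by
  unfold theta
  rw [CategoryTheory.Functor.map_id, Category.id_comp]
  infer_instance

lemma ext_hat (hG : Turns G) {W : Sheaf J (Type u)} (a b : G.obj (op W))
    (h : ∀ (c : C) (w : W.obj.obj (op c)), G.map (hat J w).op a = G.map (hat J w).op b) :
    a = b := by
  refine turns_ext hG (denseIsColimit (X := W) W.obj (𝟙 W.obj)) a b ?_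
  intro e
  rw [denseCocone_ι]
  exact h _ _

theorem isSheaf_of_turns (hG : Turns G) :
    Presieve.IsSheaf (Sheaf.canonicalTopology (Sheaf J (Type u))) G := by
  intro X S hS
  have hLS := LS_of_mem_canonical hS
  have := isIso_theta_of_LS hLS
  have hcol := denseIsColimit (secSub S).toFunctor (secSub S).ι
  intro φ hφ
  have hcomp : ∀ {W W' : Sheaf J (Type u)} (k : W' ⟶ W) (g : W ⟶ X) (hg : S g),
      G.map k.op (φ g hg) = φ (k ≫ g) (S.downward_closed hg k) := by
    intro W W' k g hg
    have := hφ k (𝟙 W') hg (S.downward_closed hg k) (by simp)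
    simpa using this
  have hcongr : ∀ {W : Sheaf J (Type u)} {f f' : W ⟶ X} (hf : S f) (hf' : S f') (_ : f = f'),
      φ f hf = φ f' hf' := by
    intro W f f' hf hf' h; subst h; rfl
  obtain ⟨t, ht, htu⟩ := hG _ _ _ hcol
    (fun e => φ (hat J (c := e.unop.1.unop) e.unop.2.1) e.unop.2.2) (by
      intro e e' f
      have hf : (secSub S).toFunctor.map f.unop.1 e'.unop.2 = e.unop.2 := f.unop.2
      have hf1 : X.obj.map f.unop.1 e'.unop.2.1 = e.unop.2.1 := congrArg Subtype.val hf
      show G.map ((presheafToSheaf J (Type u)).map (uliftYoneda.{u}.map f.unop.1.unop)).op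
          (φ (hat J (c := e'.unop.1.unop) e'.unop.2.1) e'.unop.2.2) =
        φ (hat J (c := e.unop.1.unop) e.unop.2.1) e.unop.2.2
      rw [hcomp]
      apply hcongr
      rw [map_hat]
      exact congrArg (hat J (c := e.unop.1.unop)) hf1)
  have ht' : ∀ (c : C) (x : X.obj.obj (op c)) (hx : S (hat J x)),
      G.map (hat J x).op t = φ (hat J x) hx := by
    intro c x hx
    have := ht (op ⟨op c, ⟨x, hx⟩⟩)
    rw [denseCocone_ι] at this
    exact this
  refine ⟨t, ?_, ?_⟩
  · intro W g hg
    show G.map g.op t = φ g hg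
    apply ext_hat hG
    intro c w
    have hw : S (hat J (g.hom.app (op c) w)) := by
      rw [← hat_comp]; exact S.downward_closed hg _
    rw [map_comp_apply', hcomp]
    have h1 : hat J w ≫ g = hat J (g.hom.app (op c) w) := hat_comp J g w
    rw [hcongr (S.downward_closed hg _) hw h1, ← ht' c _ hw]
    congr 2
    rw [h1]
  · intro t' ht''
    apply htu
    intro e
    rw [denseCocone_ι]
    exact ht'' _ e.unop.2.2

end Turns

section Converse

lemma eqvGen_of_isColimit {K : Type u} [Category.{u} K] {F : K ⥤ Type u} {c : Cocone F}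
    (hc : IsColimit c) {j j' : K} (x : F.obj j) (x' : F.obj j')
    (h : c.ι.app j x = c.ι.app j' x') :
    Relation.EqvGen F.ColimitTypeRel ⟨j, x⟩ ⟨j', x'⟩ := by
  have hc' := (Types.isColimit_iff_coconeTypesIsColimit c).1 ⟨hc⟩
  rw [← Functor.ιColimitType_eq_iff]
  have h1 := hc'.equiv_symm_ι_apply j x
  have h2 := hc'.equiv_symm_ι_apply j' x'
  rw [← h1, ← h2]
  exact congrArg _ h

variable {J}
variable {K : Type u} [SmallCategory K] (F : K ⥤ Sheaf J (Type u)) (cc : Cocone F)

/-- the presheaf colimit. -/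
noncomputable abbrev X₀ : Cᵒᵖ ⥤ Type u := colimit (F ⋙ sheafToPresheaf J (Type u))

/-- the comparison from the presheaf colimit to the sheaf colimit. -/
noncomputable def σ : X₀ F ⟶ cc.pt.obj :=
  colimit.desc (F ⋙ sheafToPresheaf J (Type u)) ((sheafToPresheaf J (Type u)).mapCocone cc)

lemma ι_σ (k : K) :
    colimit.ι (F ⋙ sheafToPresheaf J (Type u)) k ≫ σ F cc = (cc.ι.app k).hom :=
  colimit.ι_desc _ _

variable {F cc}

lemma W_σ (hcc : IsColimit cc) : J.W (σ F cc) := by
  intro Z hZ
  constructor
  · intro g₁ g₂ h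
    have h' : σ F cc ≫ g₁ = σ F cc ≫ g₂ := h
    have : (ObjectProperty.homMk g₁ : cc.pt ⟶ ⟨Z, hZ⟩) = ObjectProperty.homMk g₂ := by
      apply hcc.hom_ext
      intro k
      apply Sheaf.hom_ext
      show (cc.ι.app k).hom ≫ g₁ = (cc.ι.app k).hom ≫ g₂
      rw [← ι_σ, Category.assoc, Category.assoc, h']
    exact congrArg (fun t => t.hom) this
  · intro g₀
    let c' : Cocone F :=
      { pt := ⟨Z, hZ⟩
        ι :=
          { app := fun k =>
              ObjectProperty.homMk (colimit.ι (F ⋙ sheafToPresheaf J (Type u)) k ≫ g₀)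
            naturality := by
              intro k k' m
              apply Sheaf.hom_ext
              show (F.map m).hom ≫ colimit.ι (F ⋙ sheafToPresheaf J (Type u)) k' ≫ g₀ =
                (colimit.ι (F ⋙ sheafToPresheaf J (Type u)) k ≫ g₀) ≫ 𝟙 Z
              rw [Category.comp_id, ← Category.assoc]
              congr 1
              exact colimit.w (F ⋙ sheafToPresheaf J (Type u)) m } }
    refine ⟨(hcc.desc c').hom, ?_⟩
    apply colimit.hom_ext
    intro k
    show colimit.ι (F ⋙ sheafToPresheaf J (Type u)) k ≫ σ F cc ≫ (hcc.desc c').hom = _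
    rw [← Category.assoc, ι_σ]
    exact congrArg (fun t => t.hom) (hcc.fac c' k)

variable {G : (Sheaf J (Type u))ᵒᵖ ⥤ Type w}

lemma eqvGen_imp (s : ∀ k, G.obj (op (F.obj k)))
    (hs : ∀ (k k' : K) (m : k ⟶ k'), G.map (F.map m).op (s k') = s k) (c' : C)
    {p p' : Σ k, (F.obj k).obj.obj (op c')}
    (h : Relation.EqvGen
      ((F ⋙ sheafToPresheaf J (Type u)) ⋙ (evaluation Cᵒᵖ (Type u)).obj (op c')).ColimitTypeRel
        p p') :
    G.map (hat J p.2).op (s p.1) = G.map (hat J p'.2).op (s p'.1) := by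
  induction h with
  | rel p p' h =>
    obtain ⟨m, hm⟩ := h
    have hm' : p'.2 = (F.map m).hom.app (op c') p.2 := hm
    rw [hm', ← hat_comp, ← map_comp_apply', hs]
  | refl p => rfl
  | symm p p' _ ih => exact ih.symm
  | trans p p' p'' _ _ ih1 ih2 => exact ih1.trans ih2

lemma locally_eq (hcc : IsColimit cc) (s : ∀ k, G.obj (op (F.obj k)))
    (hs : ∀ (k k' : K) (m : k ⟶ k'), G.map (F.map m).op (s k') = s k) {c : C} {k₁ k₂ : K}
    (d₁ : (F.obj k₁).obj.obj (op c)) (d₂ : (F.obj k₂).obj.obj (op c))
    (h : (cc.ι.app k₁).hom.app (op c) d₁ = (cc.ι.app k₂).hom.app (op c) d₂) :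
    ∃ R ∈ J c, ∀ ⦃c' : C⦄ (g : c' ⟶ c), R g →
      G.map (hat J ((F.obj k₁).obj.map g.op d₁)).op (s k₁) =
        G.map (hat J ((F.obj k₂).obj.map g.op d₂)).op (s k₂) := by
  have hLI : Presheaf.IsLocallyInjective J (σ F cc) := (W_σ hcc).isLocallyInjective
  let x : (X₀ F).obj (op c) := (colimit.ι (F ⋙ sheafToPresheaf J (Type u)) k₁).app (op c) d₁
  let y : (X₀ F).obj (op c) := (colimit.ι (F ⋙ sheafToPresheaf J (Type u)) k₂).app (op c) d₂
  have hxy : (σ F cc).app (op c) x = (σ F cc).app (op c) y := by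
    have e1 := congrArg (fun (t : (F ⋙ sheafToPresheaf J (Type u)).obj k₁ ⟶ cc.pt.obj) =>
      t.app (op c) d₁) (ι_σ F cc k₁)
    have e2 := congrArg (fun (t : (F ⋙ sheafToPresheaf J (Type u)).obj k₂ ⟶ cc.pt.obj) =>
      t.app (op c) d₂) (ι_σ F cc k₂)
    exact e1.trans (h.trans e2.symm)
  refine ⟨Presheaf.equalizerSieve (F := X₀ F) (X := op c) x y,
    Presheaf.equalizerSieve_mem J (σ F cc) x y hxy, ?_⟩
  intro c' g hg
  have hg' : (X₀ F).map g.op x = (X₀ F).map g.op y := hg
  have n1 := NatTrans.naturality_apply (colimit.ι (F ⋙ sheafToPresheaf J (Type u)) k₁) g.op d₁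
  have n2 := NatTrans.naturality_apply (colimit.ι (F ⋙ sheafToPresheaf J (Type u)) k₂) g.op d₂
  have heq : (colimit.ι (F ⋙ sheafToPresheaf J (Type u)) k₁).app (op c')
      ((F.obj k₁).obj.map g.op d₁) =
      (colimit.ι (F ⋙ sheafToPresheaf J (Type u)) k₂).app (op c')
      ((F.obj k₂).obj.map g.op d₂) := n1.trans (hg'.trans n2.symm)
  have hcol := isColimitOfPreserves ((evaluation Cᵒᵖ (Type u)).obj (op c'))
    (colimit.isColimit (F ⋙ sheafToPresheaf J (Type u)))
  have := eqvGen_of_isColimit hcol (j := k₁) (j' := k₂) ((F.obj k₁).obj.map g.op d₁)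
    ((F.obj k₂).obj.map g.op d₂) heq
  exact eqvGen_imp s hs c' this

theorem turns_of_isSheaf
    (hG : Presieve.IsSheaf (Sheaf.canonicalTopology (Sheaf J (Type u))) G) : Turns G := by
  intro K _ F cc hcc s hs
  let π : ∀ k, F.obj k ⟶ cc.pt := fun k => cc.ι.app k
  have hjepi : TF.JEpi π := by
    intro Z a b hab
    exact hcc.hom_ext hab
  have hLS : LS (Sieve.ofArrows _ π) := by
    intro c x
    refine J.superset_covering ?_ (TF.liftSieve_mem_of_jepi π hjepi c x)
    rintro c' v ⟨k, t, ht⟩
    show (Sieve.ofArrows _ π) (hat J (cc.pt.obj.map v.op x))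
    rw [← ht, ← hat_comp]
    exact (Sieve.ofArrows _ π).downward_closed (Sieve.ofArrows_mk _ _ k) _
  have hS := mem_canonical_of_LS hLS
  have h1 : Presieve.IsSheafFor G (Presieve.ofArrows _ π) := by
    rw [Presieve.isSheafFor_iff_generate]
    exact hG _ hS
  refine (Presieve.isSheafFor_arrows_iff G π).1 h1 s ?_
  intro k₁ k₂ Z b₁ b₂ hb
  -- the sieve where the two restrictions agree
  let T : Sieve Z :=
    { arrows := fun Z' a => G.map a.op (G.map b₁.op (s k₁)) = G.map a.op (G.map b₂.op (s k₂))
      downward_closed := by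
        intro Y Y' a ha a'
        show G.map (a' ≫ a).op _ = G.map (a' ≫ a).op _
        rw [← map_comp_apply', ← map_comp_apply', ha] }
  have hT : LS T := by
    intro c z
    have hd : (cc.ι.app k₁).hom.app (op c) (b₁.hom.app (op c) z) =
        (cc.ι.app k₂).hom.app (op c) (b₂.hom.app (op c) z) :=
      congrArg (fun (t : Z ⟶ cc.pt) => t.hom.app (op c) z) hb
    obtain ⟨R, hR, hR'⟩ := locally_eq hcc s hs _ _ hd
    refine J.superset_covering ?_ hR
    intro c' g hg
    show G.map (hat J (Z.obj.map g.op z)).op (G.map b₁.op (s k₁)) =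
      G.map (hat J (Z.obj.map g.op z)).op (G.map b₂.op (s k₂))
    rw [map_comp_apply', map_comp_apply', hat_comp, hat_comp]
    have n1 : b₁.hom.app (op c') (Z.obj.map g.op z) =
        (F.obj k₁).obj.map g.op (b₁.hom.app (op c) z) := NatTrans.naturality_apply b₁.hom g.op z
    have n2 : b₂.hom.app (op c') (Z.obj.map g.op z) =
        (F.obj k₂).obj.map g.op (b₂.hom.app (op c) z) := NatTrans.naturality_apply b₂.hom g.op z
    rw [n1, n2]
    exact hR' g hg
  have hsep := (hG T (mem_canonical_of_LS hT)).isSeparatedFor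
  exact hsep.ext (fun Z' a ha => ha)

end Converse

section Final

variable {J}
variable {G : (Sheaf J (Type u))ᵒᵖ ⥤ Type w}

lemma turns_of_preserves [PreservesLimitsOfSize.{u, u} G] : Turns G := by
  intro K _ F cc hcc s hs
  have hlim : IsLimit (G.mapCone cc.op) := isLimitOfPreserves G hcc.op
  have := (Types.isLimit_iff (G.mapCone cc.op)).1 ⟨hlim⟩ (fun j => s j.unop) (by
    intro j j' f
    exact hs _ _ f.unop)
  obtain ⟨t, ht, htu⟩ := this
  exact ⟨t, fun k => ht (op k), fun t' ht' => htu t' (fun j => ht' j.unop)⟩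

lemma preserves_of_turns (hG : Turns G) : PreservesLimitsOfSize.{u, u} G := by
  constructor
  intro K _
  constructor
  intro D
  constructor
  intro c hc
  rw [Types.isLimit_iff]
  intro s hs
  obtain ⟨t, ht, htu⟩ := hG Kᵒᵖ D.leftOp (coconeLeftOpOfCone c) (isColimitCoconeLeftOpOfCone D hc)
    (fun k => s k.unop) (by
      intro k k' m
      exact hs m.unop)
  exact ⟨t, fun j => ht (op j), fun t' ht' => htu t' (fun k => ht' k.unop)⟩

universe v

theorem isSheaf_canonical_iff {E' : Type v} [Category.{w} E']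
    (F : (Sheaf J (Type u))ᵒᵖ ⥤ E') :
    Presheaf.IsSheaf (Sheaf.canonicalTopology (Sheaf J (Type u))) F ↔
      PreservesLimitsOfSize.{u, u} F := by
  constructor
  · intro h
    have hT : ∀ T : E', PreservesLimitsOfSize.{u, u} (F ⋙ coyoneda.obj (op T)) :=
      fun T => preserves_of_turns (turns_of_isSheaf (h T))
    constructor
    intro K _
    constructor
    intro D
    constructor
    intro c hc
    refine ⟨coyonedaJointlyReflectsLimits _ _ (fun T => ?_)⟩
    have := hT T.unop
    exact isLimitOfPreserves (F ⋙ coyoneda.obj (op T.unop)) hc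
  · intro h T
    have : PreservesLimitsOfSize.{u, u} (F ⋙ coyoneda.obj (op T)) := inferInstance
    exact isSheaf_of_turns turns_of_preserves

end Final

end Groth.Agent.Lib.helper23.CanSh
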