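import Mathlib
import Groth.Prelude.Def_SGA4a
import Groth.Agent.Lib.helper23.SC20

set_option autoImplicit false
universe w u
open CategoryTheory Limits Opposite

namespace Groth.Agent.Lib.helper23.CanSh

variable {C : Type u} [SmallCategory C] {J : GrothendieckTopology C}

/-- A small jointly epimorphic family generates a covering sieve for the canonical topology. -/
theorem ofArrows_mem_canonical_of_jepi {ι : Type w} {X : Sheaf J (Type u)}
    {F : ι → Sheaf J (Type u)} (π : ∀ i, F i ⟶ X) (h : TF.JEpi π) :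
    Sieve.ofArrows _ π ∈ Sheaf.canonicalTopology (Sheaf J (Type u)) X := by
  apply mem_canonical_of_LS
  intro c x
  refine J.superset_covering ?_ (TF.liftSieve_mem_of_jepi π h c x)
  rintro c' v ⟨k, t, ht⟩
  show (Sieve.ofArrows _ π) (hat J (X.obj.map v.op x))
  rw [← ht, ← hat_comp]
  exact (Sieve.ofArrows _ π).downward_closed (Sieve.ofArrows_mk _ _ k) _

/-- A covering sieve for the canonical topology contains a small jointly epimorphic family of
maps from generators. -/
theorem jepi_generators {X : Sheaf J (Type u)} {S : Sieve X}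
    (hS : S ∈ Sheaf.canonicalTopology (Sheaf J (Type u)) X) :
    TF.JEpi (fun i : (Σ c : C, {x : X.obj.obj (op c) // S (hat J x)}) => hat J i.2.1) := by
  have hLS := LS_of_mem_canonical hS
  intro Z a b hab
  apply Sheaf.hom_ext
  ext ⟨c⟩ x
  refine ((TF.presieve_isSheaf Z).isSeparated _ (hLS c x)).ext ?_
  intro c' g hg
  have h1 := hab ⟨c', ⟨_, hg⟩⟩
  rw [hat_comp, hat_comp] at h1
  have h2 := hat_injective J h1
  have ha := NatTrans.naturality_apply a.hom g.op x
  have hb := NatTrans.naturality_apply b.hom g.op x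
  exact ha.symm.trans (h2.trans hb)

variable {D : Type u} [SmallCategory D] {K : GrothendieckTopology D}

theorem coverPreserving_of_preservesEpiFamilies (f : Sheaf J (Type u) ⥤ Sheaf K (Type u))
    (hf : SGA4.PreservesEpiFamilies.{u + 1, u + 1, u} f) :
    CoverPreserving (Sheaf.canonicalTopology (Sheaf J (Type u)))
      (Sheaf.canonicalTopology (Sheaf K (Type u))) f := by
  constructor
  intro X S hS
  have h1 := jepi_generators hS
  have h2 : TF.JEpi (fun i : (Σ c : C, {x : X.obj.obj (op c) // S (hat J x)}) =>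
      f.map (hat J i.2.1)) := by
    intro Z a b hab
    exact hf _ X _ _ (fun Z a b hab => h1 a b hab) Z a b hab
  refine GrothendieckTopology.superset_covering _ ?_ (ofArrows_mem_canonical_of_jepi _ h2)
  rintro Y _ ⟨W, a, _, ⟨i⟩, rfl⟩
  exact (S.functorPushforward f).downward_closed
    (Sieve.image_mem_functorPushforward f S i.2.2) a

section LeftAdjoint

variable (f : Sheaf J (Type u) ⥤ Sheaf K (Type u)) [PreservesColimitsOfSize.{u, u} f]

/-- the composite of sheafification and `f`. -/
noncomputable abbrev Lf : (Cᵒᵖ ⥤ Type u) ⥤ Sheaf K (Type u) := presheafToSheaf J (Type u) ⋙ f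

noncomputable abbrev Af : C ⥤ Sheaf K (Type u) := uliftYoneda.{u} ⋙ Lf f

instance : (Lf f).IsLeftKanExtension (𝟙 (Af f)) :=
  Presheaf.isLeftKanExtension_of_preservesColimits.{u, u, u, u, u + 1} (A := Af f) (Lf f) (Iso.refl _)

noncomputable def Rf : Sheaf K (Type u) ⥤ Cᵒᵖ ⥤ Type u := Presheaf.restrictedULiftYoneda.{u, u, u, u, u + 1} (Af f)

noncomputable def adj₀ : Lf f ⊣ Rf f := Presheaf.uliftYonedaAdjunction.{u, u, u, u, u + 1} (Lf f) (𝟙 (Af f))

lemma isSheaf_Rf (Z : Sheaf K (Type u)) : Presheaf.IsSheaf J ((Rf f).obj Z) := by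
  rw [isSheaf_iff_isSheaf_of_type]
  intro c S hS
  rw [Presieve.isSheafFor_iff_bijective_shrinkFunctor_ι_comp, ← (adj₀ f).map_comp_bijective_iff]
  have hW : J.W (Sieve.shrinkFunctor.{u} S).ι := Sieve.W_shrinkFunctor_ι_of_mem J S hS
  have h1 : IsIso ((presheafToSheaf J (Type u)).map (Sieve.shrinkFunctor.{u} S).ι) :=
    (J.W_iff _).1 hW
  have h2 : IsIso ((Lf f).map (Sieve.shrinkFunctor.{u} S).ι) := by
    show IsIso (f.map ((presheafToSheaf J (Type u)).map _))
    infer_instance
  exact (asIso ((Lf f).map (Sieve.shrinkFunctor.{u} S).ι)).symm.homFromEquiv.bijective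

/-- the right adjoint. -/
noncomputable def gf : Sheaf K (Type u) ⥤ Sheaf J (Type u) :=
  ObjectProperty.lift _ (Rf f) (isSheaf_Rf f)

noncomputable def adjf : f ⊣ gf f :=
  (adj₀ f).restrictFullyFaithful (fullyFaithfulSheafToPresheaf J (Type u))
    (Functor.FullyFaithful.id _)
    ((Functor.associator _ _ _).symm ≪≫
      Functor.isoWhiskerRight (asIso (sheafificationAdjunction J (Type u)).counit) f ≪≫
      Functor.leftUnitor _ ≪≫ (Functor.rightUnitor _).symm)
    (Functor.leftUnitor _)

theorem isLeftAdjoint_of_preservesColimits : f.IsLeftAdjoint := ⟨_, ⟨adjf f⟩⟩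

end LeftAdjoint

end Groth.Agent.Lib.helper23.CanSh
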