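import Mathlib

set_option autoImplicit false
universe w' w v u
open CategoryTheory Limits Opposite

namespace Groth.Agent.Lib.helper23.SubT

variable {C : Type u} [Category.{v} C] (J : GrothendieckTopology C) (U : C)

lemma full_forget (hU : ∀ V : C, Subsingleton (V ⟶ U)) : (Over.forget U).Full where
  map_surjective {A B} f := ⟨Over.homMk f (Subsingleton.elim _ _), rfl⟩

variable (A : Type w) [Category.{w'} A] [HasWeakSheafify J A]
  [∀ (P : (Over U)ᵒᵖ ⥤ A), (Over.forget U).op.HasLeftKanExtension P]
  [∀ (F : (Over U)ᵒᵖ ⥤ A), (Over.forget U).op.HasPointwiseRightKanExtension F]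

theorem isIso_unit (hU : ∀ V : C, Subsingleton (V ⟶ U)) (F : Sheaf (J.over U) A) :
    IsIso (((Over.forget U).sheafAdjunctionContinuous A (J.over U) J).unit.app F) := by
  haveI := full_forget U hU
  let t : Adjunction.Triple ((Over.forget U).sheafPullback A (J.over U) J)
      ((Over.forget U).sheafPushforwardContinuous A (J.over U) J)
      ((Over.forget U).sheafPushforwardCocontinuous A (J.over U) J) :=
    { adj₁ := (Over.forget U).sheafAdjunctionContinuous A (J.over U) J
      adj₂ := (Over.forget U).sheafAdjunctionCocontinuous A (J.over U) J }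
  have h2 : IsIso t.adj₂.counit := by
    apply (config := { allowSynthFailures := true }) NatIso.isIso_of_isIso_app
    intro G
    have : IsIso ((sheafToPresheaf _ _).map (t.adj₂.counit.app G)) := by
      show IsIso (((Over.forget U).sheafAdjunctionCocontinuous A (J.over U) J).counit.app G).hom
      rw [Functor.sheafAdjunctionCocontinuous_counit_app_hom]
      haveI : (Over.forget U).op.Full := inferInstance
      haveI : (Over.forget U).op.Faithful := inferInstance
      have h3 : IsIso ((Over.forget U).op.ranAdjunction A).counit := Functor.reflective' _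
      exact NatIso.isIso_app_of_isIso _ _
    exact isIso_of_reflects_iso _ (sheafToPresheaf _ _)
  have h1 : IsIso t.adj₁.unit := t.isIso_unit_iff_isIso_counit.2 h2
  exact inferInstanceAs (IsIso (t.adj₁.unit.app F))

end Groth.Agent.Lib.helper23.SubT
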