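import Mathlib

set_option autoImplicit false
universe w' w v u
open CategoryTheory Limits

namespace Groth.Agent.Lib.helper23.IsoAlg

variable {C : Type u} [Category.{v} C] (T : C ⥤ C)

/-- algebras with invertible structure map -/
abbrev P : ObjectProperty (Endofunctor.Algebra T) := fun A => IsIso A.str

abbrev π : (P T).FullSubcategory ⥤ C := (P T).ι ⋙ Endofunctor.Algebra.forget T

variable {T}
variable {J : Type w} [Category.{w'} J] [PreservesColimitsOfShape J T]
variable (K : J ⥤ (P T).FullSubcategory) (c : Cocone (K ⋙ π T)) (t : IsColimit c)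

/-- the structure maps as a natural isomorphism. -/
noncomputable def strIso : (K ⋙ π T) ⋙ T ≅ K ⋙ π T :=
  NatIso.ofComponents (fun j => @asIso _ _ _ _ (K.obj j).obj.str (K.obj j).property) (by
    intro j j' f
    exact (K.map f).hom.h)

noncomputable def uIso : T.obj c.pt ≅ c.pt :=
  (isColimitOfPreserves T t).coconePointsIsoOfNatIso t (strIso K)

/-- the legs, with an explicit type. -/
def leg (j : J) : (K.obj j).obj.a ⟶ c.pt := c.ι.app j

lemma ι_uIso (j : J) : T.map (leg K c j) ≫ (uIso K c t).hom = (K.obj j).obj.str ≫ leg K c j :=
  (isColimitOfPreserves T t).comp_coconePointsIsoOfNatIso_hom t (strIso K) j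

lemma leg_desc (s : Cocone K) (j : J) :
    leg K c j ≫ t.desc ((π T).mapCocone s) = (s.ι.app j).hom.f := t.fac _ j

noncomputable def liftedPt : (P T).FullSubcategory :=
  ⟨⟨c.pt, (uIso K c t).hom⟩, inferInstanceAs (IsIso (uIso K c t).hom)⟩

noncomputable def lifted : Cocone K where
  pt := liftedPt K c t
  ι :=
    { app := fun j => ObjectProperty.homMk ⟨leg K c j, ι_uIso K c t j⟩
      naturality := by
        intro j j' f
        apply ObjectProperty.hom_ext
        apply Endofunctor.Algebra.Hom.ext
        show (K.map f).hom.f ≫ c.ι.app j' = c.ι.app j ≫ 𝟙 _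
        rw [Category.comp_id]
        exact c.w f }

noncomputable def liftedIsColimit : IsColimit (lifted K c t) where
  desc s := ObjectProperty.homMk
    { f := t.desc ((π T).mapCocone s)
      h := by
        apply (isColimitOfPreserves T t).hom_ext
        intro j
        show T.map (leg K c j) ≫ T.map (t.desc ((π T).mapCocone s)) ≫ s.pt.obj.str =
          T.map (leg K c j) ≫ (uIso K c t).hom ≫ t.desc ((π T).mapCocone s)
        rw [← Category.assoc, ← T.map_comp, leg_desc, ← Category.assoc, ι_uIso, Category.assoc,
          leg_desc]
        exact (s.ι.app j).hom.h }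
  fac s j := by
    apply ObjectProperty.hom_ext
    apply Endofunctor.Algebra.Hom.ext
    exact t.fac ((π T).mapCocone s) j
  uniq s m hm := by
    apply ObjectProperty.hom_ext
    apply Endofunctor.Algebra.Hom.ext
    apply t.hom_ext
    intro j
    have := congrArg (fun (k : K.obj j ⟶ s.pt) => k.hom.f) (hm j)
    exact this.trans (t.fac ((π T).mapCocone s) j).symm

noncomputable def liftsToColimit : LiftsToColimit K (π T) c t where
  liftedCocone := lifted K c t
  validLift := Cocone.ext (Iso.refl _) (by
    intro j
    exact Category.comp_id _)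
  makesColimit := liftedIsColimit K c t

instance : (π T).ReflectsIsomorphisms := by
  unfold π
  infer_instance

@[instance_reducible]
noncomputable def creates : CreatesColimitsOfShape J (π T) where
  CreatesColimit := createsColimitOfReflectsIso (fun c t => liftsToColimit _ c t)

end Groth.Agent.Lib.helper23.IsoAlg
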