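import Mathlib
import Groth.Agent.Lib.helper23.SC4

/-!
# Quotient of a group object by a normal subgroup object (helper23)
-/

set_option autoImplicit false
open CategoryTheory CategoryTheory.Limits Opposite MonoidalCategory
open MonObj CartesianMonoidalCategory SemiCartesianMonoidalCategory
universe w v₁ u₁

namespace Groth.Agent.Lib.helper23.SC

section Tensor

variable {D : Type u₁} [Category.{v₁} D] [CartesianMonoidalCategory D] (hD : IsNice D)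
include hD

lemma epi_tensorHom {A B A' B' : D} (f : A ⟶ B) (g : A' ⟶ B') [Epi f] [Epi g] : Epi (f ⊗ₘ g) := by
  rw [MonoidalCategory.tensorHom_def]
  haveI := epi_whiskerRight hD A' f
  haveI := epi_whiskerLeft hD B g
  exact epi_comp _ _

end Tensor

section Normal

variable {D : Type u₁} [Category.{v₁} D] [CartesianMonoidalCategory D] [HasPullbacks D]
variable (hD : IsNice D)
variable {H G : D} [GrpObj H] [GrpObj G] (u : H ⟶ G) [IsMonHom u] [Mono u]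
variable [HasCoequalizer (fst G H) ((G ◁ u) ≫ μ[G])]
variable (hn : ∀ (Y : D) (g : Y ⟶ G) (h : Y ⟶ H), ∃ h' : Y ⟶ H, g * (h ≫ u) * g⁻¹ = h' ≫ u)

local notation "Q" => coequalizer (fst G H) ((G ◁ u) ≫ μ[G])
local notation "q" => coequalizer.π (fst G H) ((G ◁ u) ≫ μ[G])

include hn

omit [HasPullbacks D] [GrpObj H] [IsMonHom u] [Mono u]
  [HasCoequalizer (fst G H) ((G ◁ u) ≫ μ[G])] in
/-- Conjugation the other way round. -/
lemma normal' {Y : D} (g : Y ⟶ G) (h : Y ⟶ H) : ∃ h' : Y ⟶ H, g⁻¹ * (h ≫ u) * g = h' ≫ u := by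
  obtain ⟨h', hh'⟩ := hn Y g⁻¹ h
  exact ⟨h', by rw [← hh', inv_inv]⟩

include hD

lemma exists_qmul : ∃ m : Q ⊗ Q ⟶ Q, (q ⊗ₘ q) ≫ m = μ[G] ≫ q := by
  have : Epi (q ⊗ₘ q) := epi_tensorHom hD q q
  refine hD.desc_of_epi (q ⊗ₘ q) inferInstance (μ[G] ≫ q) ?_
  intro Y x y hxy
  have h1 : (x ≫ fst G G) ≫ q = (y ≫ fst G G) ≫ q := by
    have := congrArg (fun k => k ≫ fst _ _) hxy
    simpa only [Category.assoc, tensorHom_fst] using this
  have h2 : (x ≫ snd G G) ≫ q = (y ≫ snd G G) ≫ q := by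
    have := congrArg (fun k => k ≫ snd _ _) hxy
    simpa only [Category.assoc, tensorHom_snd] using this
  rw [gq_eq_iff hD u] at h1 h2
  obtain ⟨k1, hk1⟩ := h1
  obtain ⟨k2, hk2⟩ := h2
  obtain ⟨k3, hk3⟩ := normal' u hn (x ≫ snd G G) k1
  rw [← Category.assoc, ← Category.assoc, comp_mul_eq x, comp_mul_eq y, hk1, hk2]
  have : x ≫ fst G G * k1 ≫ u * (x ≫ snd G G * k2 ≫ u) =
      (x ≫ fst G G * x ≫ snd G G) * ((k3 * k2) ≫ u) := by
    rw [MonObj.mul_comp, ← hk3]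
    group
  rw [this, gq_mul_right]

lemma exists_qinv : ∃ i : Q ⟶ Q, q ≫ i = ι[G] ≫ q := by
  refine hD.desc_of_epi q inferInstance (ι[G] ≫ q) ?_
  intro Y x y hxy
  rw [gq_eq_iff hD u] at hxy
  obtain ⟨k, hk⟩ := hxy
  obtain ⟨k', hk'⟩ := hn Y x k⁻¹
  rw [← Category.assoc, ← Category.assoc, ← Hom.inv_def, ← Hom.inv_def, hk]
  have : (x * k ≫ u)⁻¹ = x⁻¹ * (k' ≫ u) := by
    rw [← hk', GrpObj.inv_comp]
    group
  rw [this, gq_mul_right]

omit hD hn [HasPullbacks D] [GrpObj H] [IsMonHom u] [Mono u] in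
lemma qmul_elem {m : Q ⊗ Q ⟶ Q} (hm : (q ⊗ₘ q) ≫ m = μ[G] ≫ q) {Y : D} (a b : Y ⟶ G) :
    lift (a ≫ q) (b ≫ q) ≫ m = (a * b) ≫ q := by
  rw [← lift_map, Category.assoc, hm, ← Category.assoc, ← Hom.mul_def]

omit hn [HasPullbacks D] [GrpObj H] [IsMonHom u] [Mono u] in
lemma quot_one_mul {m : Q ⊗ Q ⟶ Q} (hm : (q ⊗ₘ q) ≫ m = μ[G] ≫ q) :
    (η[G] ≫ q) ▷ Q ≫ m = (λ_ Q).hom := by
  have : Epi (𝟙_ D ◁ q) := epi_whiskerLeft hD _ q
  rw [← cancel_epi (𝟙_ D ◁ q)]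
  have e1 : 𝟙_ D ◁ q = lift (fst (𝟙_ D) G) (snd (𝟙_ D) G ≫ q) :=
    CartesianMonoidalCategory.hom_ext _ _ (by rw [whiskerLeft_fst, lift_fst])
      (by rw [whiskerLeft_snd, lift_snd])
  have e2 : fst (𝟙_ D) G ≫ η[G] = 1 := by
    rw [Hom.one_def]
    congr 1
    exact toUnit_unique _ _
  rw [e1, ← Category.assoc, lift_whiskerRight, leftUnitor_hom, lift_snd, ← Category.assoc (fst _ _),
    qmul_elem u hm, e2, _root_.one_mul]

omit hn [HasPullbacks D] [GrpObj H] [IsMonHom u] [Mono u] in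
lemma quot_mul_one {m : Q ⊗ Q ⟶ Q} (hm : (q ⊗ₘ q) ≫ m = μ[G] ≫ q) :
    Q ◁ (η[G] ≫ q) ≫ m = (ρ_ Q).hom := by
  have : Epi (q ▷ 𝟙_ D) := epi_whiskerRight hD _ q
  rw [← cancel_epi (q ▷ 𝟙_ D)]
  have e1 : q ▷ 𝟙_ D = lift (fst G (𝟙_ D) ≫ q) (snd G (𝟙_ D)) :=
    CartesianMonoidalCategory.hom_ext _ _ (by rw [whiskerRight_fst, lift_fst])
      (by rw [whiskerRight_snd, lift_snd])
  have e2 : snd G (𝟙_ D) ≫ η[G] = 1 := by
    rw [Hom.one_def]
    congr 1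
    exact toUnit_unique _ _
  rw [e1, ← Category.assoc, lift_whiskerLeft, rightUnitor_hom, lift_fst, ← Category.assoc (snd _ _),
    qmul_elem u hm, e2, _root_.mul_one]

omit hn [HasPullbacks D] [GrpObj H] [IsMonHom u] [Mono u] in
lemma quot_mul_assoc {m : Q ⊗ Q ⟶ Q} (hm : (q ⊗ₘ q) ≫ m = μ[G] ≫ q) :
    (m ▷ Q) ≫ m = (α_ Q Q Q).hom ≫ (Q ◁ m) ≫ m := by
  have : Epi (q ⊗ₘ q) := epi_tensorHom hD q q
  have : Epi ((q ⊗ₘ q) ⊗ₘ q) := epi_tensorHom hD (q ⊗ₘ q) q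
  rw [← cancel_epi ((q ⊗ₘ q) ⊗ₘ q)]
  have e1 : (q ⊗ₘ q) ⊗ₘ q = lift (lift ((fst (G ⊗ G) G ≫ fst G G) ≫ q)
      ((fst (G ⊗ G) G ≫ snd G G) ≫ q)) (snd (G ⊗ G) G ≫ q) := by
    refine CartesianMonoidalCategory.hom_ext _ _ (CartesianMonoidalCategory.hom_ext _ _ ?_ ?_) ?_
    · simp
    · simp
    · simp
  rw [e1, ← Category.assoc, lift_whiskerRight, qmul_elem u hm, qmul_elem u hm,
    ← Category.assoc, lift_lift_associator_hom, ← Category.assoc, lift_whiskerLeft,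
    qmul_elem u hm, qmul_elem u hm, _root_.mul_assoc]

omit hD hn [HasPullbacks D] [GrpObj H] [IsMonHom u] [Mono u] in
lemma quot_left_inv {m : Q ⊗ Q ⟶ Q} (hm : (q ⊗ₘ q) ≫ m = μ[G] ≫ q) {i : Q ⟶ Q}
    (hi : q ≫ i = ι[G] ≫ q) : lift i (𝟙 Q) ≫ m = toUnit Q ≫ η[G] ≫ q := by
  rw [← cancel_epi q, ← Category.assoc, comp_lift, hi, Category.comp_id]
  have e : lift (ι[G] ≫ q) q = lift (ι[G] ≫ q) (𝟙 G ≫ q) := by rw [Category.id_comp]
  rw [e, qmul_elem u hm, GrpObj.inv_eq_inv, inv_mul_cancel, ← Category.assoc, comp_toUnit,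
    ← Category.assoc, ← Hom.one_def]

omit hD hn [HasPullbacks D] [GrpObj H] [IsMonHom u] [Mono u] in
lemma quot_right_inv {m : Q ⊗ Q ⟶ Q} (hm : (q ⊗ₘ q) ≫ m = μ[G] ≫ q) {i : Q ⟶ Q}
    (hi : q ≫ i = ι[G] ≫ q) : lift (𝟙 Q) i ≫ m = toUnit Q ≫ η[G] ≫ q := by
  rw [← cancel_epi q, ← Category.assoc, comp_lift, hi, Category.comp_id]
  have e : lift q (ι[G] ≫ q) = lift (𝟙 G ≫ q) (ι[G] ≫ q) := by rw [Category.id_comp]
  rw [e, qmul_elem u hm, GrpObj.inv_eq_inv, mul_inv_cancel, ← Category.assoc, comp_toUnit,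
    ← Category.assoc, ← Hom.one_def]

/-- The quotient of a group object by a normal subgroup object carries a unique group structure
making the quotient map a homomorphism. -/
theorem existsUnique_grpObj_quot :
    ∃! str : GrpObj Q, @IsMonHom D _ _ G Q _ str.toMonObj q := by
  obtain ⟨m, hm⟩ := exists_qmul hD u hn
  obtain ⟨i, hi⟩ := exists_qinv hD u hn
  let str : GrpObj Q :=
    { one := η[G] ≫ q
      mul := m
      one_mul := quot_one_mul hD u hm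
      mul_one := quot_mul_one hD u hm
      mul_assoc := quot_mul_assoc hD u hm
      inv := i
      left_inv := quot_left_inv u hm hi
      right_inv := quot_right_inv u hm hi }
  refine ⟨str, ⟨rfl, hm.symm⟩, ?_⟩
  intro str' h'
  apply GrpObj.ext
  apply MonObj.ext
  have : Epi (q ⊗ₘ q) := epi_tensorHom hD q q
  rw [← cancel_epi (q ⊗ₘ q)]
  exact (h'.mul_hom).symm.trans hm.symm

end Normal

end Groth.Agent.Lib.helper23.SC
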