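import Mathlib
import Groth.Agent.Lib.helper23.SC5

/-!
# Third isomorphism theorem for quotients of group objects (helper23)
-/

set_option autoImplicit false
open CategoryTheory CategoryTheory.Limits Opposite MonoidalCategory
open MonObj CartesianMonoidalCategory SemiCartesianMonoidalCategory
universe w v₁ u₁

namespace Groth.Agent.Lib.helper23.SC

section Cover

variable {D : Type u₁} [Category.{v₁} D] [HasPullbacks D] (hD : IsNice D)
include hD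

lemma IsNice.exists_cover_lift {A B T : D} (e : A ⟶ B) [Epi e] (b : T ⟶ B) :
    ∃ (T' : D) (ε : T' ⟶ T) (a : T' ⟶ A), Epi ε ∧ ε ≫ b = a ≫ e :=
  ⟨pullback b e, pullback.fst b e, pullback.snd b e,
    hD.epi_of_isPullback (IsPullback.of_hasPullback b e) inferInstance, pullback.condition⟩

end Cover

section Third

variable {D : Type u₁} [Category.{v₁} D] [CartesianMonoidalCategory D] [HasPullbacks D]
variable (hD : IsNice D)
variable {H K G : D} [GrpObj H] [GrpObj K] [GrpObj G] (h : H ⟶ K) (k : K ⟶ G)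
variable [IsMonHom h] [IsMonHom k] [Mono h] [Mono k]

include hD

omit [GrpObj H] [IsMonHom h] [Mono h] in
/-- Freeness of the action of `K/H` on `G/H` (abstract form). -/
lemma third_mono_aux {QGH QKH : D} (qGH : G ⟶ QGH) (qKH : K ⟶ QKH) [Epi qGH] [Epi qKH]
    (hb : ∀ (Y : D) (g₁ g₂ : Y ⟶ G), g₁ ≫ qGH = g₂ ≫ qGH →
      ∃ y : Y ⟶ H, g₂ = g₁ * (y ≫ h ≫ k))
    (hc : ∀ (Y : D) (x : Y ⟶ K) (y : Y ⟶ H), (x * (y ≫ h)) ≫ qKH = x ≫ qKH)
    (act : QGH ⊗ QKH ⟶ QGH) (hact : (qGH ⊗ₘ qKH) ≫ act = (G ◁ k) ≫ μ[G] ≫ qGH) :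
    Mono (lift act (fst QGH QKH)) := by
  refine ⟨fun {Y} s t hst => ?_⟩
  have h1 : s ≫ fst _ _ = t ≫ fst _ _ := by
    have := congrArg (fun z => z ≫ snd _ _) hst
    simpa only [Category.assoc, lift_snd] using this
  have h2 : s ≫ act = t ≫ act := by
    have := congrArg (fun z => z ≫ fst _ _) hst
    simpa only [Category.assoc, lift_fst] using this
  refine CartesianMonoidalCategory.hom_ext _ _ h1 ?_
  obtain ⟨Y₁, ε₁, g, hε₁, hg⟩ := hD.exists_cover_lift qGH (s ≫ fst _ _)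
  obtain ⟨Y₂, ε₂, x, hε₂, hx⟩ := hD.exists_cover_lift qKH (ε₁ ≫ s ≫ snd _ _)
  obtain ⟨Y₃, ε₃, x', hε₃, hx'⟩ := hD.exists_cover_lift qKH (ε₂ ≫ ε₁ ≫ t ≫ snd _ _)
  haveI : Epi (ε₂ ≫ ε₁) := epi_comp _ _
  haveI : Epi (ε₃ ≫ ε₂ ≫ ε₁) := epi_comp _ _
  rw [← cancel_epi (ε₃ ≫ ε₂ ≫ ε₁)]
  have es : (ε₃ ≫ ε₂ ≫ ε₁) ≫ s = lift (ε₃ ≫ ε₂ ≫ g) (ε₃ ≫ x) ≫ (qGH ⊗ₘ qKH) := by
    rw [lift_map]
    refine CartesianMonoidalCategory.hom_ext _ _ ?_ ?_
    · rw [lift_fst]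
      simp only [Category.assoc]
      rw [hg]
    · rw [lift_snd]
      simp only [Category.assoc]
      rw [hx]
  have et : (ε₃ ≫ ε₂ ≫ ε₁) ≫ t = lift (ε₃ ≫ ε₂ ≫ g) x' ≫ (qGH ⊗ₘ qKH) := by
    rw [lift_map]
    refine CartesianMonoidalCategory.hom_ext _ _ ?_ ?_
    · rw [lift_fst]
      simp only [Category.assoc]
      rw [← h1, hg]
    · rw [lift_snd]
      simp only [Category.assoc] at hx' ⊢
      rw [hx']
  have h3 : ((ε₃ ≫ ε₂ ≫ ε₁) ≫ s) ≫ act = ((ε₃ ≫ ε₂ ≫ ε₁) ≫ t) ≫ act := by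
    rw [Category.assoc _ s, Category.assoc _ t, h2]
  have e4 : ∀ (a : Y₃ ⟶ G) (b : Y₃ ⟶ K),
      (lift a b ≫ (qGH ⊗ₘ qKH)) ≫ act = (a * (b ≫ k)) ≫ qGH := by
    intro a b
    rw [Category.assoc, hact, ← Category.assoc, ← Category.assoc, Category.assoc (lift a b),
      lift_act]
  rw [es, et, e4, e4] at h3
  obtain ⟨y, hy⟩ := hb _ _ _ h3
  have h5 : x' = (ε₃ ≫ x) * (y ≫ h) := by
    rw [← cancel_mono k, MonObj.mul_comp, Category.assoc y h k]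
    rw [_root_.mul_assoc] at hy
    exact mul_left_cancel hy
  have h6 : ((ε₃ ≫ ε₂ ≫ ε₁) ≫ s) ≫ snd _ _ = ((ε₃ ≫ ε₂ ≫ ε₁) ≫ t) ≫ snd _ _ := by
    rw [es, et, Category.assoc, Category.assoc, tensorHom_snd, ← Category.assoc (lift _ _),
      ← Category.assoc (lift _ _), lift_snd, lift_snd, h5, hc]
  simpa only [Category.assoc] using h6

omit [HasPullbacks D] [GrpObj H] [IsMonHom h] [Mono h] [IsMonHom k] [Mono k] [GrpObj K] in
/-- `G/K` is the quotient of `G/H` by the action of `K/H` (abstract form). -/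
lemma third_colimit_aux {QGH QKH : D} (qGH : G ⟶ QGH) (qKH : K ⟶ QKH) [Epi qGH] [Epi qKH]
    (act : QGH ⊗ QKH ⟶ QGH) (hact : (qGH ⊗ₘ qKH) ≫ act = (G ◁ k) ≫ μ[G] ≫ qGH)
    [HasCoequalizer (fst G K) ((G ◁ k) ≫ μ[G])]
    (qbar : QGH ⟶ coequalizer (fst G K) ((G ◁ k) ≫ μ[G]))
    (hq : qGH ≫ qbar = coequalizer.π (fst G K) ((G ◁ k) ≫ μ[G])) :
    ∃ wq : fst QGH QKH ≫ qbar = act ≫ qbar, Nonempty (IsColimit (Cofork.ofπ qbar wq)) := by
  have : Epi (qGH ⊗ₘ qKH) := epi_tensorHom hD qGH qKH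
  have wq : fst QGH QKH ≫ qbar = act ≫ qbar := by
    rw [← cancel_epi (qGH ⊗ₘ qKH), ← Category.assoc, tensorHom_fst, Category.assoc, hq,
      ← Category.assoc, hact]
    simp only [Category.assoc]
    rw [hq]
    exact (coequalizer.condition (fst G K) ((G ◁ k) ≫ μ[G])).trans (Category.assoc _ _ _)
  have hepi : Epi qbar := by
    have : Epi (qGH ≫ qbar) := by rw [hq]; infer_instance
    exact epi_of_epi qGH qbar
  refine ⟨wq, ⟨Cofork.IsColimit.mk _ (fun s => coequalizer.desc (qGH ≫ s.π) ?_) ?_ ?_⟩⟩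
  · have h1 := s.condition
    have h2 : (qGH ⊗ₘ qKH) ≫ fst QGH QKH ≫ s.π = (qGH ⊗ₘ qKH) ≫ act ≫ s.π := by rw [h1]
    rw [← Category.assoc, tensorHom_fst, ← Category.assoc _ act, hact] at h2
    simpa only [Category.assoc] using h2
  · intro s
    show qbar ≫ _ = _
    rw [← cancel_epi qGH, ← Category.assoc, hq, coequalizer.π_desc]
  · intro s m hm
    have hm' : qbar ≫ m = s.π := hm
    rw [← cancel_epi qbar, ← cancel_epi qGH, hm']
    rw [← Category.assoc, hq, coequalizer.π_desc]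

/-- Third isomorphism theorem for quotients of group objects. -/
theorem third_iso
    [HasCoequalizer (fst G H) ((G ◁ (h ≫ k)) ≫ μ[G])]
    [HasCoequalizer (fst K H) ((K ◁ h) ≫ μ[K])]
    [HasCoequalizer (fst G K) ((G ◁ k) ≫ μ[G])]
    (act : coequalizer (fst G H) ((G ◁ (h ≫ k)) ≫ μ[G]) ⊗ coequalizer (fst K H) ((K ◁ h) ≫ μ[K]) ⟶
      coequalizer (fst G H) ((G ◁ (h ≫ k)) ≫ μ[G]))
    (hact : (coequalizer.π (fst G H) ((G ◁ (h ≫ k)) ≫ μ[G]) ⊗ₘ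
        coequalizer.π (fst K H) ((K ◁ h) ≫ μ[K])) ≫ act =
      (G ◁ k) ≫ μ[G] ≫ coequalizer.π (fst G H) ((G ◁ (h ≫ k)) ≫ μ[G]))
    (qbar : coequalizer (fst G H) ((G ◁ (h ≫ k)) ≫ μ[G]) ⟶ coequalizer (fst G K) ((G ◁ k) ≫ μ[G]))
    (hq : coequalizer.π (fst G H) ((G ◁ (h ≫ k)) ≫ μ[G]) ≫ qbar =
      coequalizer.π (fst G K) ((G ◁ k) ≫ μ[G])) :
    Mono (lift act (fst _ _)) ∧
    ∃ wq : fst _ _ ≫ qbar = act ≫ qbar, Nonempty (IsColimit (Cofork.ofπ qbar wq)) := by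
  constructor
  · exact third_mono_aux hD h k _ _ (fun Y g₁ g₂ hg => (gq_eq_iff hD (h ≫ k) g₁ g₂).1 hg)
      (fun Y x y => gq_mul_right h x y) act hact
  · exact third_colimit_aux hD k _ _ act hact qbar hq

end Third

end Groth.Agent.Lib.helper23.SC
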