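import Mathlib
import Groth.Agent.Lib.helper23.SC6

/-!
# Subgroup objects and the correspondence theorem for quotients (helper23)
-/

set_option autoImplicit false
open CategoryTheory CategoryTheory.Limits Opposite MonoidalCategory
open MonObj CartesianMonoidalCategory SemiCartesianMonoidalCategory
universe w v₁ u₁

namespace Groth.Agent.Lib.helper23.SC

section SubGrp

variable {D : Type u₁} [Category.{v₁} D] [CartesianMonoidalCategory D]

/-- The points of `S` form a subgroup of the points of `G`. -/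
structure IsSubgroupMono {S G : D} [GrpObj G] (m : S ⟶ G) : Prop where
  one : ∃ e : 𝟙_ D ⟶ S, e ≫ m = η[G]
  mul : ∀ (T : D) (x y : T ⟶ S), ∃ z : T ⟶ S, z ≫ m = (x ≫ m) * (y ≫ m)
  inv : ∀ (T : D) (x : T ⟶ S), ∃ z : T ⟶ S, z ≫ m = (x ≫ m)⁻¹

lemma isSubgroupMono_of_isMonHom {S G : D} [GrpObj S] [GrpObj G] (m : S ⟶ G) [IsMonHom m] :
    IsSubgroupMono m where
  one := ⟨η[S], IsMonHom.one_hom m⟩
  mul T x y := ⟨x * y, MonObj.mul_comp x y m⟩
  inv T x := ⟨x⁻¹, GrpObj.inv_comp x m⟩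

/-- A monomorphism whose points form a subgroup carries a group structure making it a
homomorphism. -/
theorem IsSubgroupMono.exists_grpObj {S G : D} [hG : GrpObj G] (m : S ⟶ G) [Mono m]
    (h : IsSubgroupMono m) : ∃ str : GrpObj S, @IsMonHom D _ _ S G str.toMonObj hG.toMonObj m := by
  obtain ⟨e, he⟩ := h.one
  obtain ⟨μS, hμS⟩ := h.mul (S ⊗ S) (fst S S) (snd S S)
  obtain ⟨ιS, hιS⟩ := h.inv S (𝟙 S)
  have hμ' : ∀ {T : D} (t : T ⟶ S ⊗ S),
      t ≫ μS ≫ m = (t ≫ fst S S ≫ m) * (t ≫ snd S S ≫ m) := by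
    intro T t
    rw [hμS, MonObj.comp_mul]
  have hmul_hom : μS ≫ m = (m ⊗ₘ m) ≫ μ[G] := by
    rw [hμS, Hom.mul_def, lift_fst_comp_snd_comp]
  have e1 : ∀ {T : D} (t : T ⟶ 𝟙_ D), t ≫ e ≫ m = (1 : T ⟶ G) := by
    intro T t
    rw [he, Hom.one_def]
    congr 1
    exact toUnit_unique _ _
  have hι' : ιS ≫ m = m⁻¹ := by
    rw [hιS, Category.id_comp]
  let str : GrpObj S :=
    { one := e
      mul := μS
      one_mul := by
        rw [← cancel_mono m]
        simp only [Category.assoc, hμ', whiskerRight_fst_assoc, whiskerRight_snd_assoc, e1,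
          _root_.one_mul, leftUnitor_hom]
      mul_one := by
        rw [← cancel_mono m]
        simp only [Category.assoc, hμ', whiskerLeft_fst_assoc, whiskerLeft_snd_assoc, e1,
          _root_.mul_one, rightUnitor_hom]
      mul_assoc := by
        rw [← cancel_mono m]
        simp only [Category.assoc, hμ', whiskerRight_fst_assoc, whiskerRight_snd_assoc,
          whiskerLeft_fst_assoc, whiskerLeft_snd_assoc, MonObj.comp_mul, associator_hom_fst_assoc,
          associator_hom_snd_fst_assoc, associator_hom_snd_snd_assoc, _root_.mul_assoc]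
      inv := ιS
      left_inv := by
        rw [← cancel_mono m]
        simp only [Category.assoc, hμ', lift_fst_assoc, lift_snd_assoc, hι', Category.id_comp,
          inv_mul_cancel, e1]
      right_inv := by
        rw [← cancel_mono m]
        simp only [Category.assoc, hμ', lift_fst_assoc, lift_snd_assoc, hι', Category.id_comp,
          mul_inv_cancel, e1] }
  exact ⟨str, ⟨he, hmul_hom⟩⟩

end SubGrp

section Corr

variable {D : Type u₁} [Category.{v₁} D] [CartesianMonoidalCategory D] [HasPullbacks D]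
variable (hD : IsNice D)

omit [HasPullbacks D] in
/-- The preimage of a subgroup under a homomorphism is a subgroup. -/
lemma isSubgroupMono_of_isPullback {P S' G Q : D} [GrpObj G] [GrpObj Q] {t : P ⟶ S'} {a : P ⟶ G}
    {m' : S' ⟶ Q} {q : G ⟶ Q} [IsMonHom q] (sq : IsPullback t a m' q) (h : IsSubgroupMono m') :
    IsSubgroupMono a := by
  refine ⟨?_, ?_, ?_⟩
  · obtain ⟨e', he'⟩ := h.one
    exact ⟨sq.lift e' η[G] (by rw [he', IsMonHom.one_hom]), sq.lift_snd _ _ _⟩
  · intro T x y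
    obtain ⟨z', hz'⟩ := h.mul T (x ≫ t) (y ≫ t)
    refine ⟨sq.lift z' ((x ≫ a) * (y ≫ a)) ?_, sq.lift_snd _ _ _⟩
    rw [hz', MonObj.mul_comp, Category.assoc, Category.assoc, Category.assoc, Category.assoc, sq.w]
  · intro T x
    obtain ⟨z', hz'⟩ := h.inv T (x ≫ t)
    refine ⟨sq.lift z' (x ≫ a)⁻¹ ?_, sq.lift_snd _ _ _⟩
    rw [hz', GrpObj.inv_comp, Category.assoc, Category.assoc, sq.w]

include hD

/-- The image of a subgroup under a homomorphism is a subgroup. -/
lemma isSubgroupMono_image {K S G Q : D} [GrpObj G] [GrpObj Q] {eS : K ⟶ S} {mS : S ⟶ Q}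
    {kK : K ⟶ G} {q : G ⟶ Q} [IsMonHom q] [Epi eS] [Mono mS] (hK : IsSubgroupMono kK)
    (w : eS ≫ mS = kK ≫ q) : IsSubgroupMono mS := by
  refine ⟨?_, ?_, ?_⟩
  · obtain ⟨e, he⟩ := hK.one
    exact ⟨e ≫ eS, by rw [Category.assoc, w, ← Category.assoc, he, IsMonHom.one_hom]⟩
  · intro T x y
    obtain ⟨T₁, ε₁, x', hε₁, hx'⟩ := hD.exists_cover_lift eS x
    obtain ⟨T₂, ε₂, y', hε₂, hy'⟩ := hD.exists_cover_lift eS (ε₁ ≫ y)
    obtain ⟨z, hz⟩ := hK.mul T₂ (ε₂ ≫ x') y'
    have hepi : Epi (ε₂ ≫ ε₁) := epi_comp _ _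
    have hsq : (z ≫ eS) ≫ mS = (ε₂ ≫ ε₁) ≫ ((x ≫ mS) * (y ≫ mS)) := by
      rw [Category.assoc, w, ← Category.assoc, hz, MonObj.mul_comp, MonObj.comp_mul]
      congr 1
      · rw [Category.assoc, Category.assoc, ← w, ← Category.assoc x', ← hx']
        simp only [Category.assoc]
      · rw [Category.assoc, ← w, ← Category.assoc y', ← hy']
        simp only [Category.assoc]
    obtain ⟨l, -, hl⟩ := hD.lift_of_epi_mono (ε₂ ≫ ε₁) hepi mS inferInstance _ _ hsq
    exact ⟨l, hl⟩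
  · intro T x
    obtain ⟨T₁, ε₁, x', hε₁, hx'⟩ := hD.exists_cover_lift eS x
    obtain ⟨z, hz⟩ := hK.inv T₁ x'
    have hsq : (z ≫ eS) ≫ mS = ε₁ ≫ (x ≫ mS)⁻¹ := by
      rw [Category.assoc, w, ← Category.assoc, hz, GrpObj.inv_comp, GrpObj.comp_inv]
      congr 1
      rw [Category.assoc, ← w, ← Category.assoc x', ← hx', Category.assoc]
    obtain ⟨l, -, hl⟩ := hD.lift_of_epi_mono ε₁ hε₁ mS inferInstance _ _ hsq
    exact ⟨l, hl⟩

/-- Inverse image of subobjects along an epimorphism reflects the order. -/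
lemma le_of_pullback_le {G Q : D} (q : G ⟶ Q) [Epi q] (Z Z' : Subobject Q)
    (h : (Subobject.pullback q).obj Z ≤ (Subobject.pullback q).obj Z') : Z ≤ Z' := by
  have hepi : Epi (Subobject.pullbackπ q Z) :=
    hD.epi_of_isPullback (Subobject.isPullback q Z) inferInstance
  have hsq : (Subobject.ofLE _ _ h ≫ Subobject.pullbackπ q Z') ≫ Z'.arrow =
      Subobject.pullbackπ q Z ≫ Z.arrow := by
    rw [Category.assoc, (Subobject.isPullback q Z').w, ← Category.assoc, Subobject.ofLE_arrow,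
      (Subobject.isPullback q Z).w]
  obtain ⟨l, -, hl⟩ := hD.lift_of_epi_mono (Subobject.pullbackπ q Z) hepi Z'.arrow inferInstance
    _ _ hsq
  exact Subobject.le_of_comm l hl

variable {H G : D} [hH : GrpObj H] [hG : GrpObj G] (u : H ⟶ G) [IsMonHom u] [Mono u]
variable [HasCoequalizer (fst G H) ((G ◁ u) ≫ μ[G])]
variable [hQ : GrpObj (coequalizer (fst G H) ((G ◁ u) ≫ μ[G]))]
variable [hπ : IsMonHom (coequalizer.π (fst G H) ((G ◁ u) ≫ μ[G]))]

local notation "Q" => coequalizer (fst G H) ((G ◁ u) ≫ μ[G])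
local notation "q" => coequalizer.π (fst G H) ((G ◁ u) ≫ μ[G])

omit hD [HasPullbacks D] [Mono u] in
lemma u_comp_q : u ≫ q = (1 : H ⟶ Q) := by
  have h1 := gq_mul_right u (1 : H ⟶ G) (𝟙 H)
  rw [_root_.one_mul, Category.id_comp, MonObj.one_comp] at h1
  exact h1

omit hD in
/-- `H` is contained in the inverse image of any subgroup of `G/H`. -/
lemma mk_le_pullback (K' : Subobject Q) (h : IsSubgroupMono K'.arrow) :
    Subobject.mk u ≤ (Subobject.pullback q).obj K' := by
  obtain ⟨e', he'⟩ := h.one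
  refine Subobject.mk_le_of_comm ((Subobject.isPullback q K').lift (toUnit H ≫ e') u ?_)
    ((Subobject.isPullback q K').lift_snd _ _ _)
  rw [Category.assoc, he', u_comp_q, Hom.one_def]

omit hQ hπ in
/-- The inverse image of the image of a subgroup containing `H` is that subgroup. -/
lemma pullback_image_le (K : Subobject G) (hK : IsSubgroupMono K.arrow) (hHK : Subobject.mk u ≤ K)
    (K' : Subobject Q) (eS : (K : D) ⟶ (K' : D)) [Epi eS] (w : eS ≫ K'.arrow = K.arrow ≫ q) :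
    (Subobject.pullback q).obj K' ≤ K := by
  have hepi : Epi (pullback.fst (Subobject.pullbackπ q K') eS) :=
    hD.epi_of_isPullback (IsPullback.of_hasPullback _ _) inferInstance
  have hx : (pullback.snd (Subobject.pullbackπ q K') eS ≫ K.arrow) ≫ q =
      (pullback.fst (Subobject.pullbackπ q K') eS ≫ ((Subobject.pullback q).obj K').arrow) ≫ q := by
    rw [Category.assoc, Category.assoc, ← w, ← (Subobject.isPullback q K').w,
      ← Category.assoc, ← Category.assoc, pullback.condition]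
  obtain ⟨h, hh⟩ := (gq_eq_iff hD u _ _).1 hx
  obtain ⟨z, hz⟩ := hK.mul _ (pullback.snd (Subobject.pullbackπ q K') eS)
    (h ≫ Subobject.ofMkLE u K hHK)
  have hsq : z ≫ K.arrow = pullback.fst (Subobject.pullbackπ q K') eS ≫
      ((Subobject.pullback q).obj K').arrow := by
    rw [hz, hh, Category.assoc, Subobject.ofMkLE_arrow]
  obtain ⟨l, -, hl⟩ := hD.lift_of_epi_mono _ hepi K.arrow inferInstance _ _ hsq
  exact Subobject.le_of_comm l hl

omit hD [Mono u] [IsMonHom u] in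
lemma normal_pullback_of_normal (K' : Subobject Q)
    (hN : ∀ (Y : D) (g : Y ⟶ Q) (k : Y ⟶ (K' : D)),
      ∃ k' : Y ⟶ (K' : D), g * (k ≫ K'.arrow) * g⁻¹ = k' ≫ K'.arrow)
    (Y : D) (g : Y ⟶ G) (k : Y ⟶ ((Subobject.pullback q).obj K' : D)) :
    ∃ k' : Y ⟶ ((Subobject.pullback q).obj K' : D),
      g * (k ≫ ((Subobject.pullback q).obj K').arrow) * g⁻¹ =
        k' ≫ ((Subobject.pullback q).obj K').arrow := by
  obtain ⟨k'', hk''⟩ := hN Y (g ≫ q) (k ≫ Subobject.pullbackπ q K')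
  refine ⟨(Subobject.isPullback q K').lift k''
    (g * (k ≫ ((Subobject.pullback q).obj K').arrow) * g⁻¹) ?_,
    ((Subobject.isPullback q K').lift_snd _ _ _).symm⟩
  rw [← hk'', MonObj.mul_comp, MonObj.mul_comp, GrpObj.inv_comp, Category.assoc, Category.assoc,
    (Subobject.isPullback q K').w]

omit [Mono u] [IsMonHom u] in
lemma normal_of_normal_pullback (K' : Subobject Q)
    (hN : ∀ (Y : D) (g : Y ⟶ G) (k : Y ⟶ ((Subobject.pullback q).obj K' : D)),
      ∃ k' : Y ⟶ ((Subobject.pullback q).obj K' : D),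
        g * (k ≫ ((Subobject.pullback q).obj K').arrow) * g⁻¹ =
          k' ≫ ((Subobject.pullback q).obj K').arrow)
    (Y : D) (g : Y ⟶ Q) (k : Y ⟶ (K' : D)) :
    ∃ k' : Y ⟶ (K' : D), g * (k ≫ K'.arrow) * g⁻¹ = k' ≫ K'.arrow := by
  have hepi : Epi (Subobject.pullbackπ q K') :=
    hD.epi_of_isPullback (Subobject.isPullback q K') inferInstance
  obtain ⟨Y₁, ε₁, g', hε₁, hg'⟩ := hD.exists_cover_lift q g
  obtain ⟨Y₂, ε₂, k₂, hε₂, hk₂⟩ := hD.exists_cover_lift (Subobject.pullbackπ q K') (ε₁ ≫ k)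
  obtain ⟨k₃, hk₃⟩ := hN Y₂ (ε₂ ≫ g') k₂
  have hepi' : Epi (ε₂ ≫ ε₁) := epi_comp _ _
  have hsq : (k₃ ≫ Subobject.pullbackπ q K') ≫ K'.arrow =
      (ε₂ ≫ ε₁) ≫ (g * (k ≫ K'.arrow) * g⁻¹) := by
    rw [Category.assoc, (Subobject.isPullback q K').w, ← Category.assoc, ← hk₃, MonObj.mul_comp,
      MonObj.mul_comp, GrpObj.inv_comp, MonObj.comp_mul, MonObj.comp_mul, GrpObj.comp_inv]
    have e1 : (ε₂ ≫ g') ≫ q = (ε₂ ≫ ε₁) ≫ g := by
      rw [Category.assoc, ← hg', Category.assoc]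
    have e2 : (k₂ ≫ ((Subobject.pullback q).obj K').arrow) ≫ q = (ε₂ ≫ ε₁) ≫ k ≫ K'.arrow := by
      rw [Category.assoc, ← (Subobject.isPullback q K').w, ← Category.assoc, ← hk₂]
      simp only [Category.assoc]
    rw [e1, e2]
  obtain ⟨l, -, hl⟩ := hD.lift_of_epi_mono (ε₂ ≫ ε₁) hepi' K'.arrow inferInstance _ _ hsq
  exact ⟨l, hl.symm⟩

omit hD [HasPullbacks D] in
lemma exists_grpObj_iff {S G' : D} [hG' : GrpObj G'] (m : S ⟶ G') [Mono m] :
    (∃ str : GrpObj S, @IsMonHom D _ _ S G' str.toMonObj hG'.toMonObj m) ↔ IsSubgroupMono m := by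
  constructor
  · rintro ⟨str, hstr⟩
    exact isSubgroupMono_of_isMonHom m
  · exact fun h => h.exists_grpObj m

/-- The correspondence between subgroup objects of `G/H` and subgroup objects of `G` containing
`H`, compatible with normality. -/
theorem subgroup_correspondence
    (hImg : ∀ {X Y : D} (f : X ⟶ Y), ∃ (I : D) (e : X ⟶ I) (m : I ⟶ Y), Epi e ∧ Mono m ∧ e ≫ m = f) :
    Set.BijOn (Subobject.pullback q).obj
      {K' : Subobject Q | ∃ str : GrpObj (K' : D),
        @IsMonHom D _ _ _ _ str.toMonObj hQ.toMonObj K'.arrow}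
      {K : Subobject G | Subobject.mk u ≤ K ∧ ∃ str : GrpObj (K : D),
        @IsMonHom D _ _ _ _ str.toMonObj hG.toMonObj K.arrow} ∧
    ∀ (K' : Subobject Q) (str' : GrpObj (K' : D))
      (str : GrpObj ((Subobject.pullback q).obj K' : D)),
      @IsMonHom D _ _ _ _ str'.toMonObj hQ.toMonObj K'.arrow →
      @IsMonHom D _ _ _ _ str.toMonObj hG.toMonObj ((Subobject.pullback q).obj K').arrow →
      ((∀ (Y : D) (g : Y ⟶ Q) (k : Y ⟶ (K' : D)),
          ∃ k' : Y ⟶ (K' : D), g * (k ≫ K'.arrow) * g⁻¹ = k' ≫ K'.arrow) ↔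
        (∀ (Y : D) (g : Y ⟶ G) (k : Y ⟶ ((Subobject.pullback q).obj K' : D)),
          ∃ k' : Y ⟶ ((Subobject.pullback q).obj K' : D),
            g * (k ≫ ((Subobject.pullback q).obj K').arrow) * g⁻¹ =
              k' ≫ ((Subobject.pullback q).obj K').arrow)) := by
  have hqepi : Epi q := inferInstance
  refine ⟨⟨?_, ?_, ?_⟩, ?_⟩
  · intro K' hK'
    have hK'' : IsSubgroupMono K'.arrow := (exists_grpObj_iff K'.arrow).1 hK'
    refine ⟨mk_le_pullback u K' hK'', (exists_grpObj_iff _).2 ?_⟩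
    exact isSubgroupMono_of_isPullback (Subobject.isPullback q K') hK''
  · intro K₁ _ K₂ _ h
    exact le_antisymm (le_of_pullback_le hD q K₁ K₂ (le_of_eq h))
      (le_of_pullback_le hD q K₂ K₁ (le_of_eq h.symm))
  · rintro K ⟨hHK, hK⟩
    have hK' : IsSubgroupMono K.arrow := (exists_grpObj_iff K.arrow).1 hK
    obtain ⟨I, e, m, he, hm, hem⟩ := hImg (K.arrow ≫ q)
    obtain ⟨eS, heS⟩ : ∃ eS : (K : D) ⟶ (Subobject.mk m : D),
        eS = e ≫ (Subobject.underlyingIso m).inv := ⟨_, rfl⟩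
    have hepi : Epi eS := by rw [heS]; infer_instance
    have w : eS ≫ (Subobject.mk m).arrow = K.arrow ≫ q := by
      rw [heS, Category.assoc, Subobject.underlyingIso_arrow, hem]
    have hsub : IsSubgroupMono (Subobject.mk m).arrow := isSubgroupMono_image hD hK' w
    refine ⟨Subobject.mk m, (exists_grpObj_iff _).2 hsub, le_antisymm ?_ ?_⟩
    · exact pullback_image_le hD u K hK' hHK (Subobject.mk m) eS w
    · exact Subobject.le_of_comm ((Subobject.isPullback q (Subobject.mk m)).lift eS K.arrow w)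
        ((Subobject.isPullback q (Subobject.mk m)).lift_snd _ _ _)
  · intro K' _ _ _ _
    exact ⟨fun hN Y g k => normal_pullback_of_normal u K' hN Y g k,
      fun hN Y g k => normal_of_normal_pullback hD u K' hN Y g k⟩

end Corr

end Groth.Agent.Lib.helper23.SC
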