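import Mathlib
import Groth.Agent.Lib.helper23.SC6

/-!
# Points of a quotient sheaf as stable subsheaves (helper23)
-/

set_option autoImplicit false
open CategoryTheory CategoryTheory.Limits Opposite MonoidalCategory
open CartesianMonoidalCategory SemiCartesianMonoidalCategory
universe w v₁ u₁

namespace Groth.Agent.Lib.helper23.SC

section Points

variable {D : Type u₁} [Category.{v₁} D] [CartesianMonoidalCategory D] [HasPullbacks D]
variable (hD : IsNice D)
include hD

theorem quotient_points {R X B : D} {p₁ p₂ : R ⟶ X} {π : X ⟶ B} (hk : IsKernelPair π p₁ p₂)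
    [Epi π] (Y : D) :
    (∀ (Z : D) (ι : Z ⟶ X ⊗ Y), Mono ι →
      (∀ (W : D) (r : W ⟶ R) (y : W ⟶ Y),
        (∃ z : W ⟶ Z, z ≫ ι = lift (r ≫ p₁) y) ↔ (∃ z : W ⟶ Z, z ≫ ι = lift (r ≫ p₂) y)) →
      Epi (ι ≫ snd X Y) →
      (∀ (W : D) (z₁ z₂ : W ⟶ Z), z₁ ≫ ι ≫ snd X Y = z₂ ≫ ι ≫ snd X Y →
        ∃ r : W ⟶ R, r ≫ p₁ = z₁ ≫ ι ≫ fst X Y ∧ r ≫ p₂ = z₂ ≫ ι ≫ fst X Y) →
      ∃! f : Y ⟶ B, IsPullback (ι ≫ fst X Y) (ι ≫ snd X Y) π f) ∧
    (∀ f : Y ⟶ B, ∃ (Z : D) (ι : Z ⟶ X ⊗ Y), Mono ι ∧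
      (∀ (W : D) (r : W ⟶ R) (y : W ⟶ Y),
        (∃ z : W ⟶ Z, z ≫ ι = lift (r ≫ p₁) y) ↔ (∃ z : W ⟶ Z, z ≫ ι = lift (r ≫ p₂) y)) ∧
      Epi (ι ≫ snd X Y) ∧
      (∀ (W : D) (z₁ z₂ : W ⟶ Z), z₁ ≫ ι ≫ snd X Y = z₂ ≫ ι ≫ snd X Y →
        ∃ r : W ⟶ R, r ≫ p₁ = z₁ ≫ ι ≫ fst X Y ∧ r ≫ p₂ = z₂ ≫ ι ≫ fst X Y) ∧
      IsPullback (ι ≫ fst X Y) (ι ≫ snd X Y) π f) := by
  constructor
  · intro Z ι hι hstab hepi hrel
    obtain ⟨f, hf⟩ := hD.desc_of_epi (ι ≫ snd X Y) hepi (ι ≫ fst X Y ≫ π) (by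
      intro W z₁ z₂ h12
      obtain ⟨r, hr1, hr2⟩ := hrel W z₁ z₂ (by simpa only [Category.assoc] using h12)
      have := congrArg (fun k => r ≫ k) hk.w
      simp only [← Category.assoc] at this
      rw [hr1, hr2] at this
      simpa only [Category.assoc] using this)
    have hpb : IsPullback (ι ≫ fst X Y) (ι ≫ snd X Y) π f := by
      apply isPullback_of_elements
      · rw [hf, Category.assoc]
      · intro T x y hxy
        obtain ⟨T', ε, z', hε, hz'⟩ := hD.exists_cover_lift (ι ≫ snd X Y) y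
        have h1 : (z' ≫ ι ≫ fst X Y) ≫ π = (ε ≫ x) ≫ π := by
          calc (z' ≫ ι ≫ fst X Y) ≫ π = z' ≫ (ι ≫ fst X Y ≫ π) := by simp only [Category.assoc]
            _ = z' ≫ (ι ≫ snd X Y) ≫ f := by rw [hf]
            _ = (ε ≫ y) ≫ f := by rw [← Category.assoc, ← hz']
            _ = (ε ≫ x) ≫ π := by rw [Category.assoc, ← hxy, Category.assoc]
        obtain ⟨r, hr1, hr2⟩ : ∃ r : T' ⟶ R, r ≫ p₁ = z' ≫ ι ≫ fst X Y ∧ r ≫ p₂ = ε ≫ x :=
          ⟨hk.lift _ _ h1, hk.lift_fst _ _ h1, hk.lift_snd _ _ h1⟩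
        have h2 : z' ≫ ι = lift (r ≫ p₁) (ε ≫ y) := by
          refine CartesianMonoidalCategory.hom_ext _ _ ?_ ?_
          · rw [lift_fst, hr1, Category.assoc]
          · rw [lift_snd, hz', Category.assoc]
        obtain ⟨z'', hz''⟩ := (hstab T' r (ε ≫ y)).1 ⟨z', h2⟩
        have h3 : z'' ≫ ι = ε ≫ lift x y := by
          rw [hz'', hr2, comp_lift]
        obtain ⟨t, -, ht⟩ := hD.lift_of_epi_mono ε hε ι hι _ _ h3
        refine ⟨t, ?_, ?_⟩
        · rw [← Category.assoc, ht, lift_fst]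
        · rw [← Category.assoc, ht, lift_snd]
      · intro T t t' h1 h2
        rw [← cancel_mono ι]
        exact CartesianMonoidalCategory.hom_ext _ _ (by simpa only [Category.assoc] using h1)
          (by simpa only [Category.assoc] using h2)
    refine ⟨f, hpb, ?_⟩
    intro f' hf'
    rw [← cancel_epi (ι ≫ snd X Y), hf, ← hf'.w, Category.assoc]
  · intro f
    have hmono : Mono (lift (pullback.fst π f) (pullback.snd π f)) := by
      refine ⟨fun {T} a b hab => pullback.hom_ext ?_ ?_⟩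
      · have := congrArg (fun k => k ≫ fst X Y) hab
        simpa only [Category.assoc, lift_fst] using this
      · have := congrArg (fun k => k ≫ snd X Y) hab
        simpa only [Category.assoc, lift_snd] using this
    have hstab : ∀ (W : D) (x x' : W ⟶ X) (y : W ⟶ Y), x ≫ π = x' ≫ π →
        (∃ z : W ⟶ pullback π f, z ≫ lift (pullback.fst π f) (pullback.snd π f) = lift x y) →
        (∃ z : W ⟶ pullback π f, z ≫ lift (pullback.fst π f) (pullback.snd π f) = lift x' y) := by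
      rintro W x x' y hxx ⟨z, hz⟩
      have h1 : z ≫ pullback.fst π f = x := by
        have := congrArg (fun k => k ≫ fst X Y) hz
        simpa only [Category.assoc, lift_fst] using this
      have h2 : z ≫ pullback.snd π f = y := by
        have := congrArg (fun k => k ≫ snd X Y) hz
        simpa only [Category.assoc, lift_snd] using this
      have h3 : x' ≫ π = y ≫ f := by
        rw [← hxx, ← h1, ← h2, Category.assoc, Category.assoc, pullback.condition]
      refine ⟨pullback.lift x' y h3, ?_⟩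
      rw [comp_lift, pullback.lift_fst, pullback.lift_snd]
    have hw : ∀ (W : D) (r : W ⟶ R), (r ≫ p₁) ≫ π = (r ≫ p₂) ≫ π := by
      intro W r
      rw [Category.assoc, Category.assoc, hk.w]
    refine ⟨pullback π f, lift (pullback.fst π f) (pullback.snd π f), hmono, ?_, ?_, ?_, ?_⟩
    · intro W r y
      exact ⟨hstab W _ _ y (hw W r), hstab W _ _ y (hw W r).symm⟩
    · rw [lift_snd]
      exact hD.epi_of_isPullback (IsPullback.of_hasPullback π f).flip inferInstance
    · intro W z₁ z₂ h12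
      simp only [lift_snd, lift_fst] at h12 ⊢
      have h1 : (z₁ ≫ pullback.fst π f) ≫ π = (z₂ ≫ pullback.fst π f) ≫ π := by
        rw [Category.assoc, Category.assoc, pullback.condition, ← Category.assoc, h12,
          Category.assoc]
      exact ⟨hk.lift _ _ h1, hk.lift_fst _ _ h1, hk.lift_snd _ _ h1⟩
    · rw [lift_fst, lift_snd]
      exact IsPullback.of_hasPullback π f

end Points

end Groth.Agent.Lib.helper23.SC
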