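import Mathlib
import Groth.Prelude.Def_Hyper

set_option autoImplicit false
open CategoryTheory CategoryTheory.Limits Opposite
universe u

namespace Groth.Agent.Lib.helper23.SRCov

variable {C : Type u} [SmallCategory C] (J : GrothendieckTopology C)

/-- The sieve on `L.obj j` generated by the components of `f` over `j`. -/
def sv {K L : FormalCoproduct.{u} C} (f : K ⟶ L) (j : L.I) : Sieve (L.obj j) :=
  Sieve.ofArrows (fun i : {i : K.I // f.f i = j} => K.obj i.1)
    (fun i => f.φ i.1 ≫ eqToHom (congrArg L.obj i.2))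

lemma isSRCovering_iff {K L : FormalCoproduct.{u} C} (f : K ⟶ L) :
    Hyper.IsSRCovering J f ↔ ∀ j, sv f j ∈ J (L.obj j) := Iff.rfl

lemma mem_sv {K L : FormalCoproduct.{u} C} (f : K ⟶ L) (i : K.I) {W : C} (a : W ⟶ K.obj i) :
    sv f (f.f i) (a ≫ f.φ i) := by
  refine ⟨K.obj i, a, f.φ i ≫ eqToHom rfl, ⟨(⟨i, rfl⟩ : {i' : K.I // f.f i' = f.f i})⟩, ?_⟩
  simp

lemma sv_le {K L : FormalCoproduct.{u} C} (f : K ⟶ L) (j : L.I) (T : Sieve (L.obj j))
    (h : ∀ (i : K.I) (hi : f.f i = j), T (f.φ i ≫ eqToHom (congrArg L.obj hi))) : sv f j ≤ T := by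
  rw [sv, Sieve.ofArrows, Sieve.generate_le_iff]
  rintro W m ⟨i⟩
  exact h i.1 i.2

lemma comp {K L M : FormalCoproduct.{u} C} (f : K ⟶ L) (g : L ⟶ M)
    (hf : Hyper.IsSRCovering J f) (hg : Hyper.IsSRCovering J g) :
    Hyper.IsSRCovering J (f ≫ g) := by
  rw [isSRCovering_iff] at hf hg ⊢
  intro m
  refine J.transitive (hg m) _ ?_
  intro W h hh
  obtain ⟨W', a, b, ⟨l⟩, rfl⟩ := hh
  obtain ⟨l, hl⟩ := l
  subst hl
  simp only [eqToHom_refl, Category.comp_id]
  rw [Sieve.pullback_comp]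
  refine J.pullback_stable a ?_
  refine J.superset_covering (sv_le f l _ (fun i hi => ?_)) (hf l)
  subst hi
  simp only [eqToHom_refl, Category.comp_id]
  change sv (f ≫ g) ((f ≫ g).f i) (f.φ i ≫ g.φ (f.f i))
  have := mem_sv (f ≫ g) i (𝟙 _)
  rw [Category.id_comp] at this
  exact this


lemma of_iso {A B : FormalCoproduct.{u} C} (e : A ≅ B) : Hyper.IsSRCovering J e.hom := by
  rw [isSRCovering_iff]
  intro j
  obtain ⟨h₁, h₂⟩ := (FormalCoproduct.hom_ext_iff _ _).1 e.inv_hom_id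
  have hi : e.hom.f (e.inv.f j) = j := congrFun h₁ j
  have h3 := h₂ j
  suffices h : sv e.hom j (𝟙 _) by
    rw [Sieve.id_mem_iff_eq_top] at h
    rw [h]
    exact J.top_mem _
  refine ⟨A.obj (e.inv.f j), e.inv.φ j, e.hom.φ (e.inv.f j) ≫ eqToHom (congrArg B.obj hi),
    ⟨(⟨e.inv.f j, hi⟩ : {i' : A.I // e.hom.f i' = j})⟩, ?_⟩
  simpa using h3

section BC
variable [HasPullbacks C] {K L L' : FormalCoproduct.{u} C} (f : K ⟶ L) (g : L' ⟶ L)

/-- The explicit pullback cone. -/
noncomputable def pc : PullbackCone g f :=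
  FormalCoproduct.pullbackCone g f (fun _ => pullback.cone _ _)

noncomputable def pcIsLimit : IsLimit (pc f g) :=
  FormalCoproduct.isLimitPullbackCone g f (fun _ => pullback.cone _ _)
    (fun _ => pullback.isLimit _ _)

lemma pc_fst_cov (hf : Hyper.IsSRCovering J f) : Hyper.IsSRCovering J (pc f g).fst := by
  rw [isSRCovering_iff] at hf ⊢
  intro j'
  refine J.superset_covering ?_ (J.pullback_stable (g.φ j') (hf (g.f j')))
  intro W h hh
  obtain ⟨W', a, b, ⟨i⟩, hab⟩ := hh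
  obtain ⟨i, hi⟩ := i
  let p : Function.Pullback g.f f.f := ⟨(j', i), hi.symm⟩
  have hcond : h ≫ (g.φ j' ≫ eqToHom (congrArg L.obj hi.symm)) = a ≫ f.φ i := by
    rw [← Category.assoc, ← hab]
    simp
  let c : W ⟶ (pc f g).pt.obj p := pullback.lift h a hcond
  have hc : c ≫ (pc f g).fst.φ p = h := pullback.lift_fst _ _ _
  rw [← hc]
  exact mem_sv (pc f g).fst p c

include J in
lemma fst_cov (hf : Hyper.IsSRCovering J f) [HasPullback g f] :
    Hyper.IsSRCovering J (pullback.fst g f) := by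
  let e : pullback g f ≅ (pc f g).pt :=
    IsLimit.conePointUniqueUpToIso (pullback.isLimit g f) (pcIsLimit f g)
  have he : e.hom ≫ (pc f g).fst = pullback.fst g f :=
    IsLimit.conePointUniqueUpToIso_hom_comp (pullback.isLimit g f) (pcIsLimit f g)
      WalkingCospan.left
  rw [← he]
  exact comp J _ _ (of_iso J e) (pc_fst_cov J f g hf)

end BC

end Groth.Agent.Lib.helper23.SRCov
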