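import Mathlib
import Groth.Prelude.Def_SchFin
import Groth.Prelude.Def_SchFin2

open CategoryTheory

namespace Groth.Agent.H23.SchFinConn
universe u

lemma idem_of_connected {R : Type*} [CommRing R] [ConnectedSpace (PrimeSpectrum R)] (e : R)
    (he : IsIdempotentElem e) : e = 0 ∨ e = 1 := by
  have hcl : IsClopen (PrimeSpectrum.basicOpen e : Set (PrimeSpectrum R)) :=
    PrimeSpectrum.isClopen_iff.2 ⟨e, he, rfl⟩
  rcases isClopen_iff.1 hcl with h | h
  · left
    apply PrimeSpectrum.basicOpen_injOn_isIdempotentElem he IsIdempotentElem.zero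
    apply TopologicalSpace.Opens.ext
    rw [h]; simp
  · right
    apply PrimeSpectrum.basicOpen_injOn_isIdempotentElem he IsIdempotentElem.one
    apply TopologicalSpace.Opens.ext
    rw [h]; simp

lemma nontrivial_of_connected {R : Type*} [CommRing R] [ConnectedSpace (PrimeSpectrum R)] :
    Nontrivial R := by
  obtain ⟨p⟩ := (inferInstance : Nonempty (PrimeSpectrum R))
  exact PrimeSpectrum.nonempty_iff_nontrivial.1 ⟨p⟩

/-- an algebra map between finite product rings over a connected ring is a reindexing -/
lemma exists_reindex {R : Type*} [CommRing R] [ConnectedSpace (PrimeSpectrum R)]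
    {F E : Type} [Finite F] (f : (F → R) →ₐ[R] (E → R)) (e : E) :
    ∃ i : F, ∀ g : F → R, f g e = g i := by
  classical
  cases nonempty_fintype F
  haveI := nontrivial_of_connected (R := R)
  let u : F → R := fun i => f (Pi.single i 1) e
  have hidem : ∀ i, IsIdempotentElem (u i) := by
    intro i
    have : (Pi.single i (1 : R) : F → R) * Pi.single i 1 = Pi.single i 1 := by
      rw [← Pi.single_mul]; simp
    show u i * u i = u i
    simp only [u]
    rw [← Pi.mul_apply, ← map_mul, this]
  have horth : ∀ i j, i ≠ j → u i * u j = 0 := by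
    intro i j hij
    have : (Pi.single i (1 : R) : F → R) * Pi.single j 1 = 0 := by
      ext k
      simp only [Pi.mul_apply, Pi.zero_apply]
      by_cases hk : k = i
      · subst hk; simp [Pi.single_eq_of_ne hij]
      · simp [Pi.single_eq_of_ne hk]
    simp only [u]
    rw [← Pi.mul_apply, ← map_mul, this, map_zero]; rfl
  have hsum : ∑ i, u i = 1 := by
    have : (∑ i, Pi.single i (1 : R) : F → R) = 1 := by
      ext k; simp [Finset.sum_apply, Pi.single_apply]
    simp only [u]
    rw [← Finset.sum_apply, ← map_sum, this, map_one]; rfl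
  have hex : ∃ i, u i = 1 := by
    by_contra hne
    push Not at hne
    have : ∀ i, u i = 0 := fun i => (idem_of_connected _ (hidem i)).resolve_right (hne i)
    rw [Finset.sum_eq_zero (fun i _ => this i)] at hsum
    exact zero_ne_one hsum
  obtain ⟨i₀, hi₀⟩ := hex
  have hz : ∀ j, j ≠ i₀ → u j = 0 := by
    intro j hj
    have := horth j i₀ hj
    rwa [hi₀, mul_one] at this
  refine ⟨i₀, fun g => ?_⟩
  have hg : g = ∑ i, g i • (Pi.single i (1 : R) : F → R) := by
    ext k; simp [Finset.sum_apply, Pi.single_apply]
  conv_lhs => rw [hg]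
  rw [map_sum, Finset.sum_apply]
  simp only [map_smul, Pi.smul_apply, smul_eq_mul]
  rw [Finset.sum_eq_single i₀]
  · show g i₀ * u i₀ = g i₀
    rw [hi₀, mul_one]
  · intro j _ hj
    show g j * u j = 0
    rw [hz j hj, mul_zero]
  · intro h; exact absurd (Finset.mem_univ _) h

open SchFin in
theorem main19550 (X : RSpace.{u}) (hW : X.IsWellConnected) (F E : Type) [Finite F] [Finite E]
    (f : ∀ p : X.pt, (F → X.ring p) →ₐ[X.ring p] (E → X.ring p))
    (hf : ∀ (p q : X.pt) (h : p ≤ q) (g : F → X.ring p) (e : E),
      X.res h (f p g e) = f q (fun i => X.res h (g i)) e) :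
    ∃ φ : E → F, ∀ (p : X.pt) (g : F → X.ring p) (e : E), f p g e = g (φ e) := by
  classical
  haveI : ∀ p : X.pt, ConnectedSpace (PrimeSpectrum (X.ring p)) := hW.2
  haveI : ∀ p : X.pt, Nontrivial (X.ring p) := fun p => nontrivial_of_connected
  haveI : ConnectedSpace (PrimeSpectrum (X.sectRing Set.univ)) := hW.1
  haveI : Nontrivial (X.sectRing Set.univ) := nontrivial_of_connected
  choose φ hφ using fun (p : X.pt) (e : E) => exists_reindex (f p) e
  -- step B
  have hB : ∀ (p q : X.pt), p ≤ q → φ p = φ q := by
    intro p q h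
    funext e
    have h1 := hf p q h (Pi.single (φ p e) 1) e
    rw [hφ p e, hφ q e] at h1
    simp only [Pi.single_eq_same, map_one] at h1
    by_contra hne
    rw [Pi.single_eq_of_ne (Ne.symm hne), map_zero] at h1
    exact one_ne_zero h1
  -- a point
  have hne : Nonempty X.pt := by
    by_contra hemp
    rw [not_nonempty_iff] at hemp
    have : (0 : X.sectRing Set.univ) = 1 := by
      apply Subtype.ext
      funext q
      exact (hemp.false q.1).elim
    exact zero_ne_one this
  obtain ⟨p₀⟩ := hne
  -- step C
  let s : X.sectRing Set.univ := ⟨fun q => if φ q.1 = φ p₀ then 1 else 0, by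
    intro q q' h
    have := hB q.1 q'.1 h
    by_cases hq : φ q.1 = φ p₀
    · have hq' : φ q'.1 = φ p₀ := this ▸ hq
      simp only [hq, hq', if_true, map_one]
    · have hq' : ¬ φ q'.1 = φ p₀ := fun h' => hq (this.trans h')
      simp only [hq, hq', if_false, map_zero]⟩
  have hs : IsIdempotentElem s := by
    apply Subtype.ext
    funext q
    show (if φ q.1 = φ p₀ then (1 : X.ring q.1) else 0) * (if φ q.1 = φ p₀ then 1 else 0) =
      (if φ q.1 = φ p₀ then (1 : X.ring q.1) else 0)
    by_cases hq : φ q.1 = φ p₀ <;> simp [hq]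
  have hs1 : s = 1 := by
    rcases idem_of_connected s hs with h0 | h1
    · exfalso
      have := congrArg (fun t : X.sectRing Set.univ => t.1 ⟨p₀, trivial⟩) h0
      simp only [s] at this
      have h2 : (1 : X.ring p₀) = 0 := by simpa using this
      exact one_ne_zero h2
    · exact h1
  have hall : ∀ p, φ p = φ p₀ := by
    intro p
    by_contra hp
    have := congrArg (fun t : X.sectRing Set.univ => t.1 ⟨p, trivial⟩) hs1
    simp only [s] at this
    have h2 : (0 : X.ring p) = 1 := by simpa [hp] using this
    exact zero_ne_one h2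
  refine ⟨φ p₀, fun p g e => ?_⟩
  rw [hφ p e g, hall p]

end Groth.Agent.H23.SchFinConn
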