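import Mathlib
open CategoryTheory CategoryTheory.Limits Opposite Simplicial

namespace Groth.Agent.H23.SkSet

universe u

variable (U : SSet.{u}) (n : ℕ)

/-- the skeleton object -/
noncomputable abbrev X : SSet.{u} := (SSet.Truncated.sk n).obj ((SSet.truncation n).obj U)

noncomputable abbrev c : X U n ⟶ U := (SSet.skAdj n).counit.app U

noncomputable abbrev un (a : (SimplexCategory.Truncated n)ᵒᵖ) :=
  ((SimplexCategory.Truncated.inclusion n).op.lanUnit.app
      ((SimplexCategory.Truncated.inclusion n).op ⋙ U)).app a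

lemma un_c (a : (SimplexCategory.Truncated n)ᵒᵖ) (y : U.obj ((SimplexCategory.Truncated.inclusion n).op.obj a)) :
    (c U n).app _ (un U n a y) = y := by
  have := Functor.lanUnit_app_app_lanAdjunction_counit_app_app
    (SimplexCategory.Truncated.inclusion n).op U a
  exact ConcreteCategory.congr_hom this y

/-- element of the skeleton -/
noncomputable def elt {m : SimplexCategoryᵒᵖ} (p : SimplexCategory) (hp : p.len ≤ n)
    (g : m.unop ⟶ p) (y : U.obj (op p)) : (X U n).obj m :=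
  (X U n).map g.op (un U n (op ⟨p, hp⟩) y)

lemma c_elt {m : SimplexCategoryᵒᵖ} (p : SimplexCategory) (hp : p.len ≤ n)
    (g : m.unop ⟶ p) (y : U.obj (op p)) : (c U n).app m (elt U n p hp g y) = U.map g.op y := by
  unfold elt
  rw [NatTrans.naturality_apply (c U n) g.op]
  congr 1
  exact un_c U n (op ⟨p, hp⟩) y

lemma elt_rel {m : SimplexCategoryᵒᵖ} (p p' : SimplexCategory) (hp : p.len ≤ n) (hp' : p'.len ≤ n)
    (g' : m.unop ⟶ p') (t : p' ⟶ p) (y : U.obj (op p)) :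
    elt U n p hp (g' ≫ t) y = elt U n p' hp' g' (U.map t.op y) := by
  unfold elt
  rw [op_comp, Functor.map_comp_apply]
  congr 1
  let t' : (op ⟨p, hp⟩ : (SimplexCategory.Truncated n)ᵒᵖ) ⟶ op ⟨p', hp'⟩ :=
    (ObjectProperty.homMk t : (⟨p', hp'⟩ : SimplexCategory.Truncated n) ⟶ ⟨p, hp⟩).op
  have := NatTrans.naturality_apply ((SimplexCategory.Truncated.inclusion n).op.lanUnit.app
      ((SimplexCategory.Truncated.inclusion n).op ⋙ U)) t' y
  exact this.symm

lemma exists_elt {m : SimplexCategoryᵒᵖ} (ξ : (X U n).obj m) :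
    ∃ (p : SimplexCategory) (hp : p.len ≤ n) (g : m.unop ⟶ p) (y : U.obj (op p)),
      ξ = elt U n p hp g y := by
  have hp := Functor.isPointwiseLeftKanExtensionLeftKanExtensionUnit
    (SimplexCategory.Truncated.inclusion n).op ((SimplexCategory.Truncated.inclusion n).op ⋙ U)
  obtain ⟨g, y, hy⟩ := Limits.Types.jointly_surjective_of_isColimit (hp m) ξ
  exact ⟨g.left.unop.obj, g.left.unop.property, g.hom.unop, y, hy.symm⟩

lemma normal_form {m : ℕ} (p : SimplexCategory) (hp : p.len ≤ n) (g : ⦋m⦌ ⟶ p)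
    (y : U.obj (op p)) {d : ℕ} (ε : ⦋m⦌ ⟶ ⦋d⦌) [Epi ε] (z : U.nonDegenerate d)
    (hx : U.map g.op y = U.map ε.op z.1) :
    ∃ hd : d ≤ n, elt U n (m := op ⦋m⦌) p hp g y = elt U n (m := op ⦋m⦌) ⦋d⦌ hd ε z.1 := by
  obtain ⟨d', π, hπ, z', hz'⟩ := U.exists_nonDegenerate (n := p.len) y
  have hd' : d' ≤ p.len := SimplexCategory.len_le_of_epi π
  have hd'n : (⦋d'⦌ : SimplexCategory).len ≤ n := le_trans hd' hp
  have step1 : elt U n (m := op ⦋m⦌) p hp g y = elt U n (m := op ⦋m⦌) ⦋d'⦌ hd'n (g ≫ π) z'.1 := by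
    rw [hz']
    exact (elt_rel U n (m := op ⦋m⦌) ⦋d'⦌ p hd'n hp g π z'.1).symm
  let e := image (g ≫ π)
  let μ : e ⟶ ⦋d'⦌ := image.ι (g ≫ π)
  let ε' : ⦋m⦌ ⟶ e := factorThruImage (g ≫ π)
  have fac : ε' ≫ μ = g ≫ π := image.fac _
  have he : e.len ≤ d' := SimplexCategory.len_le_of_mono μ
  have hen : e.len ≤ n := le_trans he hd'n
  have step2 : elt U n (m := op ⦋m⦌) ⦋d'⦌ hd'n (g ≫ π) z'.1 =
      elt U n (m := op ⦋m⦌) e hen ε' (U.map μ.op z'.1) := by
    rw [← fac]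
    exact elt_rel U n (m := op ⦋m⦌) ⦋d'⦌ e hd'n hen ε' μ z'.1
  obtain ⟨d'', π'', hπ'', z'', hz''⟩ := U.exists_nonDegenerate (n := e.len) (U.map μ.op z'.1)
  have hd'' : d'' ≤ e.len := SimplexCategory.len_le_of_epi π''
  have hd''n : (⦋d''⦌ : SimplexCategory).len ≤ n := le_trans hd'' hen
  have step3 : elt U n (m := op ⦋m⦌) e hen ε' (U.map μ.op z'.1) =
      elt U n (m := op ⦋m⦌) ⦋d''⦌ hd''n (ε' ≫ π'') z''.1 := by
    rw [hz'']
    exact (elt_rel U n (m := op ⦋m⦌) ⦋d''⦌ e hd''n hen ε' π'' z''.1).symm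
  have hall := step1.trans (step2.trans step3)
  have hx2 : U.map g.op y = U.map (ε' ≫ π'').op z''.1 := by
    have := congrArg ((c U n).app (op ⦋m⦌)) hall
    rwa [c_elt, c_elt] at this
  have hdim : d'' = d :=
    U.unique_nonDegenerate_dim (U.map g.op y) (ε' ≫ π'') z'' hx2 ε z hx
  subst hdim
  have hz : z'' = z := U.unique_nonDegenerate_simplex (U.map g.op y) (ε' ≫ π'') z'' hx2 ε z hx
  have hε : ε' ≫ π'' = ε := U.unique_nonDegenerate_map (U.map g.op y) (ε' ≫ π'') z'' hx2 ε z hx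
  refine ⟨hd''n, ?_⟩
  rw [hall, hz, hε]

theorem main6812 : Mono (c U n) ∧ SSet.Subcomplex.range (c U n) = U.skeleton (n + 1) := by
  constructor
  · rw [NatTrans.mono_iff_mono_app]
    intro m
    induction m using Opposite.rec with
    | op M =>
      rw [mono_iff_injective]
      intro ξ ξ' hξ
      obtain ⟨p, hp, g, y, rfl⟩ := exists_elt U n ξ
      obtain ⟨p', hp', g', y', rfl⟩ := exists_elt U n ξ'
      rw [c_elt, c_elt] at hξ
      obtain ⟨d, ε, hε, z, hz⟩ := U.exists_nonDegenerate (n := M.len) (U.map g.op y)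
      obtain ⟨hd, h1⟩ := normal_form U n (m := M.len) p hp g y ε z hz
      obtain ⟨hd', h2⟩ := normal_form U n (m := M.len) p' hp' g' y' ε z (hξ.symm.trans hz)
      exact h1.trans h2.symm
  · apply le_antisymm
    · rintro m _ ⟨ξ, rfl⟩
      obtain ⟨p, hp, g, y, rfl⟩ := exists_elt U n ξ
      rw [c_elt]
      have hy : y ∈ (U.skeleton (n + 1)).obj (op ⦋p.len⦌) :=
        U.mem_skeleton (i := p.len) y (by omega)
      exact (U.skeleton (n + 1)).map g.op hy
    · dsimp only [SSet.skeleton, OrderHom.coe_mk]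
      refine iSup_le (fun i => iSup_le (fun x => ?_))
      rw [SSet.Subcomplex.ofSimplex_le_iff]
      have hi : (⦋(i : ℕ)⦌ : SimplexCategory).len ≤ n := Nat.le_of_lt_succ i.isLt
      exact ⟨un U n (op ⟨⦋(i : ℕ)⦌, hi⟩) x.1, un_c U n (op ⟨⦋(i : ℕ)⦌, hi⟩) x.1⟩

end Groth.Agent.H23.SkSet
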