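import Mathlib
import Groth.Prelude.Def_SpSeq

/-!
# The spectral sequence of a filtered complex with finite filtrations
-/

universe v u

open CategoryTheory CategoryTheory.Limits

namespace SpSeq

section Sub

variable {A : Type u} [Category.{v} A] [Abelian A] {X : A}

lemma isZero_subquot_of_le (Z B : Subobject X) (h : B ≤ Z) (h' : Z ≤ B) :
    IsZero (subquot Z B h) := by
  obtain rfl : B = Z := le_antisymm h h'
  unfold subquot
  have : IsIso (B.ofLE B h) := by
    rw [Subobject.ofLE_refl]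
    infer_instance
  exact isZero_cokernel_of_epi _

lemma isZero_subquot_of_bot (Z B : Subobject X) (h : B ≤ Z) (hZ : Z = ⊥) :
    IsZero (subquot Z B h) :=
  isZero_subquot_of_le Z B h (by rw [hZ]; exact bot_le)

lemma pullback_bot {Y : A} (f : X ⟶ Y) :
    (Subobject.pullback f).obj ⊥ = kernelSubobject f := by
  apply le_antisymm
  · apply le_kernelSubobject
    rw [Subobject.pullback_obj]
    have h0 : (⊥ : Subobject Y).arrow = 0 := Subobject.bot_arrow
    have h1 : pullback.snd (⊥ : Subobject Y).arrow f ≫ f = 0 :=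
      pullback.condition.symm.trans
        ((congrArg (fun t => pullback.fst (⊥ : Subobject Y).arrow f ≫ t) h0).trans comp_zero)
    rw [← cancel_epi (Subobject.underlyingIso (pullback.snd (⊥ : Subobject Y).arrow f)).inv,
      ← Category.assoc, Subobject.underlyingIso_arrow, h1, comp_zero]
  · exact FilCx.kernelSubobject_le_pullback f ⊥

lemma imageSubobject_top_arrow_comp {Y : A} (f : X ⟶ Y) (S : Subobject X) (hS : S = ⊤) :
    imageSubobject (S.arrow ≫ f) = imageSubobject f := by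
  subst hS
  exact imageSubobject_iso_comp _ f

lemma imageSubobject_eq_bot_of_isZero_src {X' Y : A} (f : X' ⟶ Y) (hX : IsZero X') :
    imageSubobject f = ⊥ := by
  obtain rfl : f = 0 := hX.eq_of_src _ _
  exact imageSubobject_zero

lemma imageSubobject_eq_top_of_epi {X' Y : A} (f : X' ⟶ Y) [Epi f] :
    imageSubobject f = ⊤ := by
  have : Epi (imageSubobject f).arrow := epi_of_epi_fac (imageSubobject_arrow_comp f)
  have : IsIso (imageSubobject f).arrow := isIso_of_mono_of_epi _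
  exact Subobject.eq_top_of_isIso_arrow _

end Sub

namespace FilObj

variable {A : Type u} [Category.{v} A] [Abelian A] (K : FilObj A)

lemma fil_eq_bot_of_le {b p : ℤ} (hb : K.fil b = ⊥) (h : b ≤ p) : K.fil p = ⊥ :=
  le_antisymm (hb ▸ K.anti h) bot_le

lemma fil_eq_top_of_le {a p : ℤ} (ha : K.fil a = ⊤) (h : p ≤ a) : K.fil p = ⊤ :=
  le_antisymm le_top (ha ▸ K.anti h)

lemma isSeparated_of_isFinite (h : K.IsFinite) : K.IsSeparated := by
  obtain ⟨-, b, hb⟩ := h
  exact ⟨fun S _ => bot_le, fun S hS => hS ⟨b, hb⟩⟩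

lemma isExhaustive_of_isFinite (h : K.IsFinite) : K.IsExhaustive := by
  obtain ⟨⟨a, ha⟩, -⟩ := h
  exact ⟨fun S _ => le_top, fun S hS => hS ⟨a, ha⟩⟩

lemma isIso_π_of_bot {p : ℤ} (hp : K.fil p = ⊥) : IsIso (cokernel.π (K.fil p).arrow) := by
  have h0 : (K.fil p).arrow = 0 := by rw [hp]; exact Subobject.bot_arrow
  have : IsIso (cokernel.π (0 : ((K.fil p : A)) ⟶ K.obj)) := inferInstance
  convert this

lemma π_quotMap {p q : ℤ} (h : p ≤ q) :
    cokernel.π (K.fil q).arrow ≫ K.quotMap h = cokernel.π (K.fil p).arrow := by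
  unfold quotMap
  exact cokernel.π_desc _ _ _

lemma isComplete_of_isFinite (h : K.IsFinite) : K.IsComplete := by
  obtain ⟨-, b, hb⟩ := h
  intro T f hf
  have hiso : ∀ p, b ≤ p → IsIso (cokernel.π (K.fil p).arrow) := fun p hp =>
    K.isIso_π_of_bot (K.fil_eq_bot_of_le hb hp)
  have hb' := hiso b le_rfl
  refine ⟨f b ≫ inv (cokernel.π (K.fil b).arrow), ?_⟩
  intro p
  rcases le_total p b with hp | hp
  · rw [Category.assoc, ← K.π_quotMap hp, IsIso.inv_hom_id_assoc]
    exact hf p b hp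
  · have hp' := hiso p hp
    have hq : IsIso (K.quotMap hp) := by
      have h1 := K.π_quotMap hp
      have : K.quotMap hp = inv (cokernel.π (K.fil p).arrow) ≫ cokernel.π (K.fil b).arrow := by
        rw [← h1, IsIso.inv_hom_id_assoc]
      rw [this]
      infer_instance
    rw [← cancel_mono (K.quotMap hp), Category.assoc, Category.assoc, K.π_quotMap hp,
      IsIso.inv_hom_id, Category.comp_id]
    exact (hf b p hp).symm

end FilObj

namespace FilCx

variable {A : Type u} [Category.{v} A] [Abelian A] (K : FilCx A)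

lemma filX_eq_bot_of_le {n b p : ℤ} (hb : K.filX b n = ⊥) (h : b ≤ p) : K.filX p n = ⊥ :=
  le_antisymm (hb ▸ K.filX_anti n h) bot_le

lemma filX_eq_top_of_le {n a p : ℤ} (ha : K.filX a n = ⊤) (h : p ≤ a) : K.filX p n = ⊤ :=
  le_antisymm le_top (ha ▸ K.filX_anti n h)

lemma isZero_E_of_bot (r : ℕ) {p n : ℤ} (hp : K.filX p n = ⊥) : IsZero (K.E r p n) := by
  apply isZero_subquot_of_bot
  unfold ZSub
  rw [hp, K.filX_eq_bot_of_le hp (by omega : p ≤ p + 1), bot_inf_eq, bot_sup_eq]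

lemma isZero_E_of_top (r : ℕ) {p n : ℤ} (hp : K.filX (p + 1) n = ⊤) : IsZero (K.E r p n) := by
  apply isZero_subquot_of_le
  unfold ZSub BSub
  rw [hp, sup_top_eq, sup_top_eq]

lemma isBounded_of_finite (hK : ∀ n : ℤ, (K.XFil n).IsFinite) (r : ℕ) : K.IsBounded r := by
  intro n
  obtain ⟨⟨a, ha⟩, b, hb⟩ := hK n
  have ha' : K.filX a n = ⊤ := ha
  have hb' : K.filX b n = ⊥ := hb
  apply Set.Finite.subset (Set.finite_Ico a b)
  intro p hp
  by_contra hcon
  apply hp
  rw [Set.mem_Ico, not_and_or, not_le, not_lt] at hcon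
  rcases hcon with h | h
  · exact K.isZero_E_of_top r (K.filX_eq_top_of_le ha' (by omega))
  · exact K.isZero_E_of_bot r (K.filX_eq_bot_of_le hb' h)

lemma filH_eq_bot {p n : ℤ} (hp : K.filX p n = ⊥) : K.filH p n = ⊥ := by
  have h0 : (K.fil p).arrow.f n = 0 := Subobject.mk_eq_bot_iff_zero.1 hp
  have hz : IsZero ((K.fil p : CochainComplex A ℤ).X n) := by
    rw [IsZero.iff_id_eq_zero, ← cancel_mono ((K.fil p).arrow.f n), h0, comp_zero, comp_zero]
  have hz' : IsZero ((K.fil p : CochainComplex A ℤ).homology n) :=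
    ShortComplex.isZero_homology_of_isZero_X₂ _ hz
  exact imageSubobject_eq_bot_of_isZero_src _ hz'

lemma filH_eq_top {p n : ℤ} (hp : K.filX p n = ⊤)
    (hp' : K.filX p ((ComplexShape.up ℤ).prev n) = ⊤) : K.filH p n = ⊤ := by
  have h1 : IsIso ((K.fil p).arrow.f n) := (Subobject.isIso_iff_mk_eq_top _).2 hp
  have h2 : IsIso ((K.fil p).arrow.f ((ComplexShape.up ℤ).prev n)) :=
    (Subobject.isIso_iff_mk_eq_top _).2 hp'
  let φ := (HomologicalComplex.shortComplexFunctor A (ComplexShape.up ℤ) n).map (K.fil p).arrow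
  have e1 : Epi φ.τ₁ := by
    show Epi ((K.fil p).arrow.f ((ComplexShape.up ℤ).prev n))
    infer_instance
  have e2 : IsIso φ.τ₂ := h1
  have e3 : Mono φ.τ₃ := by
    show Mono ((K.fil p).arrow.f ((ComplexShape.up ℤ).next n))
    infer_instance
  have hq : ShortComplex.QuasiIso φ := ShortComplex.quasiIso_of_epi_of_isIso_of_mono φ
  have hiso : IsIso (HomologicalComplex.homologyMap (K.fil p).arrow n) := hq.isIso
  exact imageSubobject_eq_top_of_epi _

lemma HFil_isFinite (hK : ∀ n : ℤ, (K.XFil n).IsFinite) (n : ℤ) : (K.HFil n).IsFinite := by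
  obtain ⟨⟨a, ha⟩, b, hb⟩ := hK n
  obtain ⟨⟨a', ha'⟩, -⟩ := hK ((ComplexShape.up ℤ).prev n)
  have ha1 : K.filX a n = ⊤ := ha
  have ha2 : K.filX a' ((ComplexShape.up ℤ).prev n) = ⊤ := ha'
  have hb1 : K.filX b n = ⊥ := hb
  refine ⟨⟨min a a', ?_⟩, b, K.filH_eq_bot hb1⟩
  exact K.filH_eq_top (K.filX_eq_top_of_le ha1 (min_le_left _ _))
    (K.filX_eq_top_of_le ha2 (min_le_right _ _))

lemma ZSub_eq_ZTop {r : ℕ} {p n : ℤ} (h : K.filX (p + r) (n + 1) = ⊥) :
    K.ZSub r p n = K.ZTop p n := by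
  unfold ZSub ZTop
  rw [h, pullback_bot]

lemma ZTop_le_ZSub (r : ℕ) (p n : ℤ) : K.ZTop p n ≤ K.ZSub r p n :=
  sup_le_sup_right (inf_le_inf_left _ (kernelSubobject_le_pullback _ _)) _

lemma BSub_eq_BBot {r : ℕ} {p n : ℤ} (h : K.filX (p - r + 1) (n - 1) = ⊤) :
    K.BSub r p n = K.BBot p n := by
  unfold BSub BBot
  rw [imageSubobject_top_arrow_comp _ _ h]

lemma BSub_le_BBot (r : ℕ) (p n : ℤ) : K.BSub r p n ≤ K.BBot p n :=
  sup_le_sup_right (inf_le_inf_left _ (imageSubobject_comp_le _ _)) _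

lemma converges_of_finite (hK : ∀ n : ℤ, (K.XFil n).IsFinite) : K.Converges := by
  have hbot : ∀ p n : ℤ, ∃ r₀ : ℕ, ∀ r : ℕ, r₀ ≤ r → K.filX (p + r) (n + 1) = ⊥ := by
    intro p n
    obtain ⟨-, b, hb⟩ := hK (n + 1)
    have hb1 : K.filX b (n + 1) = ⊥ := hb
    refine ⟨(b - p).toNat, fun r hr => K.filX_eq_bot_of_le hb1 ?_⟩
    have := Int.self_le_toNat (b - p)
    omega
  have htop : ∀ p n : ℤ, ∃ r₀ : ℕ, ∀ r : ℕ, r₀ ≤ r → K.filX (p - r + 1) (n - 1) = ⊤ := by
    intro p n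
    obtain ⟨⟨a, ha⟩, -⟩ := hK (n - 1)
    have ha1 : K.filX a (n - 1) = ⊤ := ha
    refine ⟨(p + 1 - a).toNat, fun r hr => K.filX_eq_top_of_le ha1 ?_⟩
    have := Int.self_le_toNat (p + 1 - a)
    omega
  refine ⟨?_, ⟨?_, ?_⟩, ?_⟩
  · intro p n
    obtain ⟨r₀, hr₀⟩ := hbot p n
    exact ⟨r₀, fun r hr => by rw [K.ZSub_eq_ZTop (hr₀ r hr), K.ZSub_eq_ZTop (hr₀ r₀ le_rfl)]⟩
  · intro p n
    constructor
    · obtain ⟨r₀, hr₀⟩ := hbot p n
      refine ⟨?_, ?_⟩
      · rintro S ⟨r, rfl⟩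
        exact K.ZTop_le_ZSub r p n
      · intro S hS
        have := hS ⟨r₀, rfl⟩
        dsimp only at this
        rwa [K.ZSub_eq_ZTop (hr₀ r₀ le_rfl)] at this
    · obtain ⟨r₀, hr₀⟩ := htop p n
      refine ⟨?_, ?_⟩
      · rintro S ⟨r, rfl⟩
        exact K.BSub_le_BBot r p n
      · intro S hS
        have := hS ⟨r₀, rfl⟩
        dsimp only at this
        rwa [K.BSub_eq_BBot (hr₀ r₀ le_rfl)] at this
  · intro n
    exact ⟨(K.HFil n).isSeparated_of_isFinite (K.HFil_isFinite hK n),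
      (K.HFil n).isExhaustive_of_isFinite (K.HFil_isFinite hK n)⟩
  · intro n
    exact (K.HFil n).isComplete_of_isFinite (K.HFil_isFinite hK n)

end FilCx

end SpSeq
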