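import Mathlib
import Groth.Agent.Lib.helper23.Horseshoe

/-!
# Injective resolutions degreewise split over a given one
-/

universe v u

open CategoryTheory CategoryTheory.Limits

namespace SplitRes

variable {C : Type u} [Category.{v} C] [Abelian C] [EnoughInjectives C]
variable {F : C} (I : InjectiveResolution F)

/-- the state of the construction at stage `n` -/
structure State (n : ℕ) where
  Z : C
  γ : Z ⟶ I.cocomplex.X n
  hγ : γ ≫ I.cocomplex.d n (n + 1) = 0

namespace State

variable {I} {n : ℕ} (s : State I n)

/-- the injective term -/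
noncomputable abbrev J : C := I.cocomplex.X n ⊞ Injective.under s.Z

/-- the embedding -/
noncomputable def i : s.Z ⟶ s.J := biprod.lift s.γ (Injective.ι s.Z)

instance : Mono s.i := by
  have : Mono (s.i ≫ biprod.snd) := by
    unfold i
    rw [biprod.lift_snd]
    infer_instance
  exact mono_of_mono s.i biprod.snd

lemma i_fst_d : s.i ≫ biprod.fst ≫ I.cocomplex.d n (n + 1) = 0 := by
  unfold i
  rw [biprod.lift_fst_assoc, s.hγ]

lemma desc_d : cokernel.desc s.i (biprod.fst ≫ I.cocomplex.d n (n + 1)) s.i_fst_d ≫
    I.cocomplex.d (n + 1) (n + 1 + 1) = 0 := by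
  have : Epi (cokernel.π s.i) := inferInstance
  rw [← cancel_epi (cokernel.π s.i), cokernel.π_desc_assoc, Category.assoc,
    I.cocomplex.d_comp_d, comp_zero, comp_zero]

/-- the next stage -/
noncomputable def next : State I (n + 1) where
  Z := cokernel s.i
  γ := cokernel.desc s.i (biprod.fst ≫ I.cocomplex.d n (n + 1)) s.i_fst_d
  hγ := s.desc_d

/-- the projection -/
noncomputable def p : s.J ⟶ s.next.Z := cokernel.π s.i

lemma w : s.i ≫ s.p = 0 := cokernel.condition _

lemma se : (ShortComplex.mk s.i s.p s.w).ShortExact :=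
  ShortComplex.ShortExact.mk' (ShortComplex.exact_cokernel _) (by dsimp; infer_instance)
    (show Epi (cokernel.π s.i) from inferInstance)

lemma p_γ : s.p ≫ s.next.γ = biprod.fst ≫ I.cocomplex.d n (n + 1) :=
  cokernel.π_desc _ _ _

lemma i_fst : s.i ≫ biprod.fst = s.γ := by
  unfold i
  rw [biprod.lift_fst]

lemma comm_aux : (s.p ≫ s.next.i) ≫ biprod.fst = biprod.fst ≫ I.cocomplex.d n (n + 1) := by
  rw [Category.assoc, s.next.i_fst, s.p_γ]

end State

variable {G : C} (α : G ⟶ F)

/-- the augmentation in degree zero -/
noncomputable def ι0 : F ⟶ I.cocomplex.X 0 := I.ι.f 0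

lemma ι0_d : ι0 I ≫ I.cocomplex.d 0 1 = 0 := by
  have h := I.ι.comm 0 1
  rw [HomologicalComplex.single_obj_d, zero_comp] at h
  exact h

/-- the initial stage -/
noncomputable def init : State I 0 where
  Z := G
  γ := α ≫ ι0 I
  hγ := by
    rw [Category.assoc]
    have h := ι0_d I
    rw [h, comp_zero]

/-- the stages -/
noncomputable def seq : ∀ n : ℕ, State I n
  | 0 => init I α
  | n + 1 => (seq n).next

/-- the splice -/
noncomputable def splice : RDer.Horseshoe.Splice C where
  Z n := (seq I α n).Z
  J n := (seq I α n).J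
  i n := (seq I α n).i
  p n := (seq I α n).p
  w n := (seq I α n).w
  se n := (seq I α n).se
  inj n := inferInstance

/-- the resolution -/
noncomputable def res : InjectiveResolution G := (splice I α).res

/-- the map of resolutions -/
noncomputable def β : (res I α).cocomplex ⟶ I.cocomplex where
  f n := (biprod.fst : (seq I α n).J ⟶ I.cocomplex.X n)
  comm' := by
    intro i j hij
    obtain rfl : i + 1 = j := hij
    have h1 : (res I α).cocomplex.d i (i + 1) = (seq I α i).p ≫ (seq I α (i + 1)).i :=
      (splice I α).d_eq i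
    rw [h1]
    exact ((seq I α i).comm_aux).symm

lemma ι_β : (res I α).ι ≫ β I α = (CochainComplex.single₀ C).map α ≫ I.ι := by
  apply HomologicalComplex.from_single_hom_ext
  rw [HomologicalComplex.comp_f, HomologicalComplex.comp_f]
  have h1 : (res I α).ι.f 0 = (seq I α 0).i := (splice I α).ι_f_zero
  rw [h1]
  simp only [CochainComplex.single₀_map_f_zero]
  exact (init I α).i_fst

end SplitRes
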