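import Mathlib
import Groth.Prelude.Def_DDual2
import Groth.Agent.Lib.helper23.StrPerf

open AlgebraicGeometry CategoryTheory CategoryTheory.Limits Opposite TopologicalSpace

namespace Groth.Agent.H23.StrPerf
universe u

open Scheme.Modules

variable {X Y : Scheme.{u}}

theorem final_opens_map (f : X ⟶ Y) : (Opens.map f.base).Final := by
  constructor
  intro U
  let T : StructuredArrow U (Opens.map f.base) :=
    StructuredArrow.mk (Y := (⊤ : Opens Y)) (homOfLE (by intro x _; trivial))
  have hT : IsTerminal T := by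
    refine IsTerminal.ofUniqueHom (fun A => StructuredArrow.homMk (homOfLE le_top) (Subsingleton.elim _ _))
      (fun A m => ?_)
    apply StructuredArrow.hom_ext
    exact Subsingleton.elim _ _
  haveI : HasTerminal (StructuredArrow U (Opens.map f.base)) := hT.hasTerminal
  exact isConnected_of_hasTerminal _

set_option backward.isDefEq.respectTransparency false in
/-- pullback of the structure module is the structure module -/
noncomputable def pullbackUnitIso (f : X ⟶ Y) :
    (Scheme.Modules.pullback f).obj (Coh.structureModule Y) ≅ Coh.structureModule X := by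
  have := final_opens_map f
  have : (SheafOfModules.pushforward.{u} f.toRingCatSheafHom).IsRightAdjoint :=
    inferInstanceAs (Scheme.Modules.pushforward f).IsRightAdjoint
  have : IsIso (SheafOfModules.pullbackObjUnitToUnit.{u} f.toRingCatSheafHom) := inferInstance
  exact asIso (SheafOfModules.pullbackObjUnitToUnit f.toRingCatSheafHom)

set_option backward.isDefEq.respectTransparency false in
noncomputable def pullbackFreeIso (f : X ⟶ Y) (n : ℕ) :
    (Scheme.Modules.pullback f).obj (FlatMod.freeMod Y n) ≅ FlatMod.freeMod X n :=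
  have : PreservesColimitsOfSize.{0, 0} (Scheme.Modules.pullback f) :=
    (pullbackPushforwardAdjunction f).leftAdjoint_preservesColimits
  PreservesCoproduct.iso (Scheme.Modules.pullback f) (fun _ : Fin n => Coh.structureModule Y) ≪≫
    Sigma.mapIso (fun _ => pullbackUnitIso f)

set_option backward.isDefEq.respectTransparency false in
theorem isFinLocFree_pullback (f : X ⟶ Y) {M : Y.Modules} (hM : FlatMod.IsFinLocFree M) :
    FlatMod.IsFinLocFree ((Scheme.Modules.pullback f).obj M) := by
  intro x
  obtain ⟨U, n, hxU, ⟨i⟩⟩ := hM (f x)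
  refine ⟨f ⁻¹ᵁ U, n, hxU, ⟨?_⟩⟩
  have e : (f ⁻¹ᵁ U).ι ≫ f = (f ∣_ U) ≫ U.ι := (morphismRestrict_ι f U).symm
  exact (restrictFunctorIsoPullback (f ⁻¹ᵁ U).ι).app _ ≪≫
    (pullbackComp (f ⁻¹ᵁ U).ι f).app M ≪≫
    (pullbackCongr e).app M ≪≫
    ((pullbackComp (f ∣_ U) U.ι).app M).symm ≪≫
    (Scheme.Modules.pullback (f ∣_ U)).mapIso ((restrictFunctorIsoPullback U.ι).app M).symm ≪≫
    (Scheme.Modules.pullback (f ∣_ U)).mapIso i ≪≫
    pullbackFreeIso (f ∣_ U) n

theorem main6517 (f : X ⟶ Y) (F : CochainComplex Y.Modules ℤ)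
    (hF : DCoh.IsStrictlyPerfect F) :
    DCoh.IsStrictlyPerfect
      (((Scheme.Modules.pullback f).mapHomologicalComplex (ComplexShape.up ℤ)).obj F) := by
  obtain ⟨⟨a, b, hab⟩, hF'⟩ := hF
  refine ⟨⟨a, b, ?_⟩, ?_⟩
  · intro i hi
    exact (Scheme.Modules.pullback f).map_isZero (hab i hi)
  · intro i
    exact isFinLocFree_pullback f (hF' i)

end Groth.Agent.H23.StrPerf
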