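import Mathlib
import Groth.Agent.Lib.helper23.TF8
set_option autoImplicit false
open CategoryTheory CategoryTheory.Limits Opposite
universe w w' u
namespace Groth.Agent.Lib.helper23.TF
open ToposFin Groth.Agent.Lib.helper9.TF

section
variable {C D : Type u} [SmallCategory C] [SmallCategory D]
  (J : GrothendieckTopology C) (K : GrothendieckTopology D)
  (G : C ⥤ D) [Functor.IsContinuous G J K]

/-- The inverse image of `eps U` is `eps (G U)`. -/
noncomputable def sheafPullbackEpsIso (U : C) :
    (G.sheafPullback (Type u) J K).obj (eps J U) ≅ eps K (G.obj U) := by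
  let F := G.sheafPullback (Type u) J K
  let R := G.sheafPushforwardContinuous (Type u) J K
  let adj : F ⊣ R := G.sheafAdjunctionContinuous (Type u) J K
  let s₀ : (F.obj (eps J U)).obj.obj (op (G.obj U)) :=
    sec (adj.unit.app (eps J U)) (op U) (can J (𝟙 U))
  let t₀ : (R.obj (eps K (G.obj U))).obj.obj (op U) := can K (𝟙 (G.obj U))
  let φ : eps K (G.obj U) ⟶ F.obj (eps J U) := ofSection K s₀
  let ψ : F.obj (eps J U) ⟶ eps K (G.obj U) := (adj.homEquiv _ _).symm (ofSection J t₀)
  have hψ : adj.unit.app (eps J U) ≫ R.map ψ = ofSection J t₀ := by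
    have := (adj.homEquiv _ _).apply_symm_apply (ofSection J t₀)
    rwa [Adjunction.homEquiv_unit] at this
  refine ⟨ψ, φ, ?_, ?_⟩
  · apply (adj.homEquiv _ _).injective
    rw [Adjunction.homEquiv_unit, Adjunction.homEquiv_unit, Functor.map_comp, ← Category.assoc, hψ,
      CategoryTheory.Functor.map_id]
    erw [Category.comp_id]
    apply eps_hom_ext
    rw [sec_comp, ofSection_can]
    have h1 : (R.obj (eps K (G.obj U))).obj.map (𝟙 U).op t₀ = t₀ := by simp
    rw [h1]
    have h2 : sec (R.map φ) (op U) t₀ = sec φ (op (G.obj U)) (can K (𝟙 (G.obj U))) := rfl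
    rw [h2, ofSection_can]
    simp [s₀]
  · apply eps_hom_ext
    rw [sec_comp, ofSection_can]
    have h1 : (F.obj (eps J U)).obj.map (𝟙 (G.obj U)).op s₀ = s₀ := by simp
    rw [h1, sec_id]
    have h2 : sec ψ (op (G.obj U)) s₀ = sec (adj.unit.app (eps J U) ≫ R.map ψ) (op U) (can J (𝟙 U)) :=
      rfl
    rw [h2, hψ, ofSection_can]
    simp [t₀]

lemma isGenerating_range_eps : IsGenerating (Set.range (eps J)) := by
  intro X
  obtain ⟨ι, a, π, hπ⟩ := eps_generating J X
  exact ⟨ι, fun i => eps J (a i), π, fun i => ⟨a i, rfl⟩,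
    fun Z f g h => (jepi_iff_epi π).2 hπ f g h⟩

theorem sheafPullback_coherent [HasPullbacks C] [HasPullbacks D]
    (hC : ∀ X : C, IsQCSite J X) (hD : ∀ Y : D, IsQCSite K Y)
    [PreservesFiniteLimits (G.sheafPullback (Type u) J K)] :
    (∀ X : Sh J, IsQC X → IsQC ((G.sheafPullback (Type u) J K).obj X)) ∧
      (∀ X : Sh J, IsQS X → IsQS ((G.sheafPullback (Type u) J K).obj X)) := by
  have hgen := isGenerating_range_eps J
  have hS : ∀ X ∈ Set.range (eps J), IsCoherent X := by
    rintro _ ⟨U, rfl⟩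
    exact isCoherent_eps J hC U
  have h : ∀ X ∈ Set.range (eps J), IsCoherent ((G.sheafPullback (Type u) J K).obj X) := by
    rintro _ ⟨U, rfl⟩
    have hc := isCoherent_eps K hD (G.obj U)
    exact ⟨isQC_of_iso (sheafPullbackEpsIso J K G U).symm hc.1,
      isQS_of_iso (sheafPullbackEpsIso J K G U).symm hc.2⟩
  exact ⟨preserves_isQC_of_generators _ _ (G.sheafAdjunctionContinuous (Type u) J K) hgen
      (fun X hX => (h X hX).1),
    preserves_isQS_of_generators _ _ (G.sheafAdjunctionContinuous (Type u) J K)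
      (hasQCGenerators_of_isQCSite K hD) hS hgen h⟩

end
end Groth.Agent.Lib.helper23.TF
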