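import Mathlib

/-!
# Limits of towers of abelian sheaves: sections
-/

universe u

open CategoryTheory CategoryTheory.Limits TopologicalSpace Opposite

namespace TowerLim

/-- the inductive lifting lemma for towers of sets -/
theorem exists_compatible_lift {A B : ℕ → Type*} (a : ∀ n, A (n + 1) → A n)
    (b : ∀ n, B (n + 1) → B n) (f : ∀ n, A n → B n) (h0 : Function.Surjective (f 0))
    (hstep : ∀ n (x : A n) (y : B (n + 1)), f n x = b n y →
      ∃ z : A (n + 1), a n z = x ∧ f (n + 1) z = y)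
    (y : ∀ n, B n) (hy : ∀ n, b n (y (n + 1)) = y n) :
    ∃ x : ∀ n, A n, (∀ n, a n (x (n + 1)) = x n) ∧ ∀ n, f n (x n) = y n := by
  classical
  have hstep' : ∀ n (x : {x : A n // f n x = y n}),
      ∃ z : A (n + 1), a n z = x.1 ∧ f (n + 1) z = y (n + 1) := fun n x =>
    hstep n x.1 (y (n + 1)) (by rw [x.2, hy])
  let x : ∀ n, {x : A n // f n x = y n} := fun n =>
    Nat.rec (motive := fun n => {x : A n // f n x = y n})
      ⟨(h0 (y 0)).choose, (h0 (y 0)).choose_spec⟩
      (fun n x => ⟨(hstep' n x).choose, (hstep' n x).choose_spec.2⟩) n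
  refine ⟨fun n => (x n).1, fun n => ?_, fun n => (x n).2⟩
  exact (hstep' n (x n)).choose_spec.1

variable {X : TopCat.{u}}

/-- abelian sheaves -/
abbrev Sh (X : TopCat.{u}) := Sheaf (Opens.grothendieckTopology X) AddCommGrpCat.{u}

/-- sections functor -/
noncomputable abbrev ΓA (U : Opens X) : Sh X ⥤ AddCommGrpCat.{u} :=
  sheafToPresheaf _ _ ⋙ (evaluation _ _).obj (op U)

variable (M : ℕᵒᵖ ⥤ Sh X)

/-- transition on sections -/
noncomputable abbrev tr (n : ℕ) (U : Opens X) :
    (ΓA U).obj (M.obj (op (n + 1))) ⟶ (ΓA U).obj (M.obj (op n)) :=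
  (ΓA U).map (M.map (homOfLE (Nat.le_succ n)).op)

/-- projection on sections -/
noncomputable abbrev pr (n : ℕ) (U : Opens X) :
    (ΓA U).obj (limit M) ⟶ (ΓA U).obj (M.obj (op n)) :=
  (ΓA U).map (limit.π M (op n))

lemma map_eq_of_succ (U : Opens X) (x : ∀ n, (ΓA U).obj (M.obj (op n)))
    (hx : ∀ n, tr M n U (x (n + 1)) = x n) {n m : ℕ} (h : n ≤ m) :
    (ΓA U).map (M.map (homOfLE h).op) (x m) = x n := by
  induction m, h using Nat.le_induction with
  | base =>
    have : (homOfLE (le_refl n)).op = 𝟙 (op n) := rfl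
    rw [this, M.map_id, (ΓA U).map_id]
    rfl
  | succ m h ih =>
    have : (homOfLE (h.trans (Nat.le_succ m))).op =
        (homOfLE (Nat.le_succ m)).op ≫ (homOfLE h).op := rfl
    rw [this, M.map_comp, (ΓA U).map_comp]
    rw [ConcreteCategory.comp_apply]
    have h1 := hx m
    unfold tr at h1
    rw [h1]
    exact ih

lemma sect_ext (U : Opens X) (s t : (ΓA U).obj (limit M))
    (h : ∀ n, pr M n U s = pr M n U t) : s = t := by
  have hc := isLimitOfPreserves (ΓA U) (limit.isLimit M)
  apply Concrete.isLimit_ext _ hc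
  intro j
  obtain ⟨n⟩ := j
  exact h n

lemma sect_mk (U : Opens X) (x : ∀ n, (ΓA U).obj (M.obj (op n)))
    (hx : ∀ n, tr M n U (x (n + 1)) = x n) :
    ∃ s : (ΓA U).obj (limit M), ∀ n, pr M n U s = x n := by
  have hc := isLimitOfPreserves (ΓA U ⋙ forget AddCommGrpCat) (limit.isLimit M)
  let sec : (M ⋙ ΓA U ⋙ forget AddCommGrpCat).sections :=
    ⟨fun j => x j.unop, by
      intro j j' f
      obtain ⟨m⟩ := j
      obtain ⟨n⟩ := j'
      have hnm : n ≤ m := leOfHom f.unop
      have : f = (homOfLE hnm).op := Subsingleton.elim _ _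
      rw [this]
      exact map_eq_of_succ M U x hx hnm⟩
  refine ⟨(Types.isLimitEquivSections hc).symm sec, fun n => ?_⟩
  exact Types.isLimitEquivSections_symm_apply hc sec (op n)

end TowerLim
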