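import Mathlib
import Groth.Agent.Lib.helper23.TowerLim

/-!
# Limits of flasque towers
-/

universe u

open CategoryTheory CategoryTheory.Limits TopologicalSpace Opposite

namespace TowerLim

variable {X : TopCat.{u}}

lemma sections_exact {S : ShortComplex (Sh X)} (hS : S.ShortExact) (U : Opens X)
    (w : S.X₂.obj.obj (op U)) (hw : S.g.hom.app (op U) w = 0) :
    ∃ k : S.X₁.obj.obj (op U), S.f.hom.app (op U) k = w := by
  have := hS.mono_f
  have hex : (S.map (ΓA U)).Exact :=
    hS.exact.map_of_mono_of_preservesKernel (ΓA U) inferInstance inferInstance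
  rw [ShortComplex.ab_exact_iff] at hex
  exact hex w hw

lemma step_lift {S : ShortComplex (Sh X)} (hS : S.ShortExact) [TopCat.Sheaf.IsFlasque S.X₁]
    {U V : Opens X} (h : U ≤ V) (x : S.X₃.obj.obj (op V)) (y : S.X₂.obj.obj (op U))
    (hxy : S.X₃.obj.map (homOfLE h).op x = S.g.hom.app (op U) y) :
    ∃ z : S.X₂.obj.obj (op V), S.g.hom.app (op V) z = x ∧ S.X₂.obj.map (homOfLE h).op z = y := by
  have hepi : Epi (S.g.hom.app (op V)) := TopCat.Sheaf.IsFlasque.epi_of_shortExact hS
  rw [AddCommGrpCat.epi_iff_surjective] at hepi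
  obtain ⟨z', hz'⟩ := hepi x
  have hnat2 : ∀ t : S.X₂.obj.obj (op V), S.g.hom.app (op U) (S.X₂.obj.map (homOfLE h).op t) =
      S.X₃.obj.map (homOfLE h).op (S.g.hom.app (op V) t) := fun t =>
    ConcreteCategory.congr_hom (S.g.hom.naturality (homOfLE h).op) t
  have hnat1 : ∀ t : S.X₁.obj.obj (op V), S.f.hom.app (op U) (S.X₁.obj.map (homOfLE h).op t) =
      S.X₂.obj.map (homOfLE h).op (S.f.hom.app (op V) t) := fun t =>
    ConcreteCategory.congr_hom (S.f.hom.naturality (homOfLE h).op) t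
  have hw : S.g.hom.app (op U) (S.X₂.obj.map (homOfLE h).op z' - y) = 0 := by
    rw [map_sub, ← hxy, ← hz', hnat2, sub_self]
  obtain ⟨k, hk⟩ := sections_exact hS U _ hw
  have hfl : Epi (S.X₁.obj.map (homOfLE h).op) := TopCat.Presheaf.IsFlasque.epi _
  rw [AddCommGrpCat.epi_iff_surjective] at hfl
  obtain ⟨k', hk'⟩ := hfl k
  have hgf : ∀ t : S.X₁.obj.obj (op V), S.g.hom.app (op V) (S.f.hom.app (op V) t) = 0 := fun t => by
    have h1 : (ΓA V).map S.f ≫ (ΓA V).map S.g = 0 := by
      rw [← Functor.map_comp, S.zero, Functor.map_zero]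
    exact ConcreteCategory.congr_hom h1 t
  refine ⟨z' - S.f.hom.app (op V) k', ?_, ?_⟩
  · rw [map_sub, hgf, sub_zero, hz']
  · rw [map_sub, ← hnat1, hk', hk, sub_sub_cancel]

/-- the short exact sequence of a transition map -/
lemma shortExact_kernel {F G : Sh X} (f : F ⟶ G) [Epi f] :
    (ShortComplex.mk (kernel.ι f) f (kernel.condition f)).ShortExact where
  exact := ShortComplex.exact_of_f_is_kernel _ (kernelIsKernel f)

theorem isFlasque_limit (M : ℕᵒᵖ ⥤ Sh X)
    (h1 : ∀ n : ℕ, TopCat.Sheaf.IsFlasque (M.obj (op n)))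
    (h2 : ∀ n : ℕ, Epi (M.map (homOfLE (Nat.le_succ n)).op))
    (h3 : ∀ n : ℕ, TopCat.Sheaf.IsFlasque (kernel (M.map (homOfLE (Nat.le_succ n)).op) : Sh X)) :
    TopCat.Sheaf.IsFlasque (limit M : Sh X) := by
  constructor
  intro V' U' i
  obtain ⟨V⟩ := V'
  obtain ⟨U⟩ := U'
  have hUV : U ≤ V := leOfHom i.unop
  have hi : i = (homOfLE hUV).op := Subsingleton.elim _ _
  rw [hi, AddCommGrpCat.epi_iff_surjective]
  intro y
  have hnatπ : ∀ (n : ℕ) (t : (limit M).obj.obj (op V)),
      pr M n U ((limit M).obj.map (homOfLE hUV).op t) =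
        (M.obj (op n)).obj.map (homOfLE hUV).op (pr M n V t) := fun n t =>
    ConcreteCategory.congr_hom ((limit.π M (op n)).hom.naturality (homOfLE hUV).op) t
  have hnattr : ∀ (n : ℕ) (t : (M.obj (op (n + 1))).obj.obj (op V)),
      tr M n U ((M.obj (op (n + 1))).obj.map (homOfLE hUV).op t) =
        (M.obj (op n)).obj.map (homOfLE hUV).op (tr M n V t) := fun n t =>
    ConcreteCategory.congr_hom
      ((M.map (homOfLE (Nat.le_succ n)).op).hom.naturality (homOfLE hUV).op) t
  have hy : ∀ n, tr M n U (pr M (n + 1) U y) = pr M n U y := fun n => by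
    have hw := limit.w M (homOfLE (Nat.le_succ n)).op
    have := congrArg (fun φ => (ΓA U).map φ) hw
    simp only [Functor.map_comp] at this
    exact ConcreteCategory.congr_hom this y
  obtain ⟨x, hx1, hx2⟩ := exists_compatible_lift
    (A := fun n => (M.obj (op n)).obj.obj (op V)) (B := fun n => (M.obj (op n)).obj.obj (op U))
    (fun n => tr M n V) (fun n => tr M n U)
    (fun n => (M.obj (op n)).obj.map (homOfLE hUV).op)
    (by
      have := h1 0
      have hfl : Epi ((M.obj (op 0)).obj.map (homOfLE hUV).op) := TopCat.Presheaf.IsFlasque.epi _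
      rwa [AddCommGrpCat.epi_iff_surjective] at hfl)
    (by
      intro n x y hxy
      have := h2 n
      have := h3 n
      obtain ⟨z, hz1, hz2⟩ := step_lift
        (shortExact_kernel (M.map (homOfLE (Nat.le_succ n)).op)) hUV x y hxy
      exact ⟨z, hz1, hz2⟩)
    (fun n => pr M n U y) hy
  obtain ⟨s, hs⟩ := sect_mk M V x hx1
  refine ⟨s, ?_⟩
  apply sect_ext M U
  intro n
  rw [hnatπ, hs, hx2]

end TowerLim
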