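import Mathlib
import Groth.Agent.Lib.helper23.TowerLim2

/-!
# Limits of flasque towers: exactness
-/

universe u

open CategoryTheory CategoryTheory.Limits TopologicalSpace Opposite

namespace TowerLim

variable {X : TopCat.{u}}

lemma epi_of_sections_surjective {F G : Sh X} (φ : F ⟶ G)
    (h : ∀ U : Opens X, Function.Surjective (φ.hom.app (op U))) : Epi φ := by
  have : Sheaf.IsLocallySurjective φ := by
    apply Presheaf.isLocallySurjective_of_surjective
    intro U
    exact h U.unop
  infer_instance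

theorem epi_limMap (S : ShortComplex (ℕᵒᵖ ⥤ Sh X)) (hS : S.ShortExact)
    (h1 : ∀ n : ℕ, TopCat.Sheaf.IsFlasque (S.X₁.obj (op n)))
    (h2 : ∀ n : ℕ, Epi (S.X₁.map (homOfLE (Nat.le_succ n)).op))
    (h3 : ∀ n : ℕ,
      TopCat.Sheaf.IsFlasque (kernel (S.X₁.map (homOfLE (Nat.le_succ n)).op) : Sh X)) :
    Epi (limMap S.g) := by
  apply epi_of_sections_surjective
  intro U y
  -- levelwise short exact sequences
  have hSn : ∀ n : ℕ, (S.map ((evaluation _ _).obj (op n))).ShortExact := fun n =>
    hS.map_of_exact _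
  have hy : ∀ n, tr S.X₃ n U (pr S.X₃ (n + 1) U y) = pr S.X₃ n U y := fun n => by
    have hw := limit.w S.X₃ (homOfLE (Nat.le_succ n)).op
    have := congrArg (fun φ => (ΓA U).map φ) hw
    simp only [Functor.map_comp] at this
    exact ConcreteCategory.congr_hom this y
  have hgsurj : ∀ n, Function.Surjective ((S.g.app (op n)).hom.app (op U)) := fun n => by
    have := h1 n
    have hepi : Epi ((S.map ((evaluation _ _).obj (op n))).g.hom.app (op U)) :=
      @TopCat.Sheaf.IsFlasque.epi_of_shortExact _ _ _ (hSn n) (h1 n)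
    rwa [AddCommGrpCat.epi_iff_surjective] at hepi
  have hasurj : ∀ n, Function.Surjective (tr S.X₁ n U) := fun n => by
    have := h2 n
    have hepi : Epi ((ShortComplex.mk (kernel.ι (S.X₁.map (homOfLE (Nat.le_succ n)).op))
        (S.X₁.map (homOfLE (Nat.le_succ n)).op) (kernel.condition _)).g.hom.app (op U)) :=
      @TopCat.Sheaf.IsFlasque.epi_of_shortExact _ _ _ (shortExact_kernel _) (h3 n)
    rwa [AddCommGrpCat.epi_iff_surjective] at hepi
  -- naturality of f and g with respect to transition maps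
  have hnatg : ∀ (n : ℕ) (t : (S.X₂.obj (op (n + 1))).obj.obj (op U)),
      (S.g.app (op n)).hom.app (op U) (tr S.X₂ n U t) =
        tr S.X₃ n U ((S.g.app (op (n + 1))).hom.app (op U) t) := fun n t => by
    have := congrArg (fun φ => (ΓA U).map φ) (S.g.naturality (homOfLE (Nat.le_succ n)).op)
    simp only [Functor.map_comp] at this
    exact ConcreteCategory.congr_hom this t
  have hnatf : ∀ (n : ℕ) (t : (S.X₁.obj (op (n + 1))).obj.obj (op U)),
      (S.f.app (op n)).hom.app (op U) (tr S.X₁ n U t) =
        tr S.X₂ n U ((S.f.app (op (n + 1))).hom.app (op U) t) := fun n t => by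
    have := congrArg (fun φ => (ΓA U).map φ) (S.f.naturality (homOfLE (Nat.le_succ n)).op)
    simp only [Functor.map_comp] at this
    exact ConcreteCategory.congr_hom this t
  have hgf : ∀ (n : ℕ) (t : (S.X₁.obj (op n)).obj.obj (op U)),
      (S.g.app (op n)).hom.app (op U) ((S.f.app (op n)).hom.app (op U) t) = 0 := fun n t => by
    have h0 : S.f.app (op n) ≫ S.g.app (op n) = 0 := by
      rw [← NatTrans.comp_app, S.zero]
      rfl
    have h1 : (ΓA U).map (S.f.app (op n)) ≫ (ΓA U).map (S.g.app (op n)) = 0 := by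
      rw [← Functor.map_comp, h0, Functor.map_zero]
    exact ConcreteCategory.congr_hom h1 t
  obtain ⟨x, hx1, hx2⟩ := exists_compatible_lift
    (A := fun n => (S.X₂.obj (op n)).obj.obj (op U)) (B := fun n => (S.X₃.obj (op n)).obj.obj (op U))
    (fun n => tr S.X₂ n U) (fun n => tr S.X₃ n U)
    (fun n => (S.g.app (op n)).hom.app (op U))
    (hgsurj 0)
    (by
      intro n x y hxy
      obtain ⟨z', hz'⟩ := hgsurj (n + 1) y
      have hd : (S.g.app (op n)).hom.app (op U)
          (x - (show (S.X₂.obj (op n)).obj.obj (op U) from tr S.X₂ n U z')) = 0 := by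
        rw [map_sub, hnatg, hz', hxy, sub_self]
      obtain ⟨c, hc⟩ := sections_exact (hSn n) U _ hd
      obtain ⟨c', hc'⟩ := hasurj n c
      refine ⟨z' + (S.f.app (op (n + 1))).hom.app (op U) c', ?_, ?_⟩
      · rw [map_add, ← hnatf, hc']
        have hc2 : (S.f.app (op n)).hom.app (op U) c =
            x - (show (S.X₂.obj (op n)).obj.obj (op U) from tr S.X₂ n U z') := hc
        rw [hc2]
        abel
      · rw [map_add, hgf, add_zero, hz'])
    (fun n => pr S.X₃ n U y) hy
  obtain ⟨s, hs⟩ := sect_mk S.X₂ U x hx1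
  refine ⟨s, ?_⟩
  apply sect_ext S.X₃ U
  intro n
  have hπ : pr S.X₃ n U ((limMap S.g).hom.app (op U) s) =
      (S.g.app (op n)).hom.app (op U) (pr S.X₂ n U s) := by
    have := congrArg (fun φ => (ΓA U).map φ) (limMap_π S.g (op n))
    simp only [Functor.map_comp] at this
    exact ConcreteCategory.congr_hom this s
  rw [hπ, hs, hx2]

end TowerLim
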